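import Cfsg.Agent.Lib.Orders.Engel
import Cfsg.Agent.Lib.HallGen.Basic

/-!
Baer–Suzuki for involutions: outside `O₂(G)` an involution inverts a nontrivial element of odd order.
-/

set_option autoImplicit false

open Cfsg
open scoped commutatorElement

namespace CfsgLib.LocalEvenB

variable {G : Type*} [Group G] [Finite G]

theorem exists_odd_inverted {v : G} (hv : v * v = 1) (hO : v ∉ pCore 2 G) :
    ∃ h : G, h ≠ 1 ∧ Odd (orderOf h) ∧ v * h * v⁻¹ = h⁻¹ := by
  by_contra hcon
  push Not at hcon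
  haveI : Fact (Nat.Prime 2) := ⟨Nat.prime_two⟩
  apply hO
  have hvi : v⁻¹ = v := inv_eq_of_mul_eq_one_right hv
  have hv1 : v ≠ 1 := fun h => hO (h ▸ one_mem _)
  refine CfsgLib.HallGen.mem_pCore_of_mem_nilpotent_normal (k := 1) CfsgLib.Components.fitting_normal
    CfsgLib.Components.fitting_isNilpotent (CfsgLib.Orders.mem_fitting_of_engel fun x => ?_) ?_
  · set d := ⁅x, v⁆ with hd
    have hinv : ∀ j : ℕ, v * d ^ j * v⁻¹ = (d ^ j)⁻¹ := fun j => by
      rw [← conj_pow, ← inv_pow]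
      congr 1
      rw [hd, commutatorElement_def]
      simp only [mul_inv_rev, inv_inv, hvi, mul_assoc, hv, mul_one]
    obtain ⟨k, hk⟩ : ∃ k, d ^ (2 ^ k) = 1 := by
      obtain ⟨k, m, hm, hkm⟩ := Nat.exists_eq_two_pow_mul_odd (orderOf_pos d).ne'
      refine ⟨k, ?_⟩
      by_contra hne
      refine hcon (d ^ (2 ^ k)) hne ?_ (hinv _)
      rw [orderOf_pow' d (Nat.two_pow_pos k).ne', hkm, Nat.gcd_mul_right_left,
        Nat.mul_div_cancel_left _ (Nat.two_pow_pos k)]
      exact hm
    have hstep : ∀ j : ℕ, CfsgLib.Orders.engelIter v (j + 1) x = d ^ (2 ^ j) := by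
      intro j
      induction j with
      | zero => rw [pow_zero, pow_one]; rfl
      | succ j ih =>
        rw [CfsgLib.Orders.engelIter, Function.iterate_succ_apply', ← CfsgLib.Orders.engelIter, ih,
          commutatorElement_def, hvi]
        have h1 : v * (d ^ 2 ^ j)⁻¹ * v = d ^ 2 ^ j := by
          have := congrArg (fun z => z⁻¹) (hinv (2 ^ j))
          simpa [hvi, mul_assoc] using this
        calc d ^ 2 ^ j * v * (d ^ 2 ^ j)⁻¹ * v = d ^ 2 ^ j * (v * (d ^ 2 ^ j)⁻¹ * v) := by group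
          _ = d ^ 2 ^ (j + 1) := by rw [h1, ← pow_add, pow_succ, mul_two]
    exact ⟨k + 1, (hstep k).trans hk⟩
  · rw [pow_one]
    exact orderOf_eq_prime (by rw [pow_two, hv]) hv1

end CfsgLib.LocalEvenB
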