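import Cfsg.Prelude.Def_CaseTheorems
import Cfsg.Agent.Lib.PGroups.Basic
import Cfsg.Agent.Lib.PGroups.ClassTwo
import Cfsg.Agent.Lib.PGroups.Omega

/-!
`p`-groups of rank one for odd `p`.
-/

set_option autoImplicit false

open Cfsg
open scoped commutatorElement

namespace CfsgLib.LocalEvenB

universe u

variable {p : ℕ} [Fact p.Prime]

theorem card_pow_prime_pow_le {A : Type*} [CommGroup A] [Finite A]
    (h : Nat.card (powMonoidHom p : A →* A).ker ≤ p) (k : ℕ) :
    Nat.card (powMonoidHom (p ^ k) : A →* A).ker ≤ p ^ k := by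
  induction k with
  | zero =>
    have : (powMonoidHom (p ^ 0) : A →* A).ker = ⊥ := by
      ext x; simp
    rw [this]; simp
  | succ k ih =>
    set K := (powMonoidHom (p ^ (k + 1)) : A →* A).ker with hK
    set f : K →* A := (powMonoidHom p : A →* A).comp K.subtype with hf
    have h1 : Nat.card f.range ≤ p ^ k := by
      refine le_trans (Nat.card_mono (Set.toFinite _) ?_) ih
      rintro _ ⟨⟨x, hx⟩, rfl⟩
      have hx' : x ^ (p ^ (k + 1)) = 1 := by simpa [hK] using hx
      simp [hf, ← pow_mul, ← pow_succ', hx']
    have h2 : Nat.card f.ker ≤ p := by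
      refine le_trans ?_ h
      refine Nat.card_le_card_of_injective (fun x => (⟨((x : K) : A), x.2⟩ : (powMonoidHom p : A →* A).ker)) ?_
      intro x y hxy
      exact Subtype.ext (Subtype.ext (congrArg Subtype.val hxy :))
    have h3 := f.ker.card_mul_index
    rw [Subgroup.index_ker] at h3
    calc Nat.card K = Nat.card f.ker * Nat.card f.range := h3.symm
      _ ≤ p * p ^ k := Nat.mul_le_mul h2 h1
      _ = p ^ (k + 1) := (pow_succ' p k).symm

theorem isCyclic_of_commGroup_rank_one {A : Type*} [CommGroup A] [Finite A] (hA : IsPGroup p A)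
    (h : PRankLE p 1 A) : IsCyclic A := by
  classical
  haveI := Fintype.ofFinite A
  obtain ⟨m, hm⟩ := IsPGroup.iff_card.mp hA
  have h1 : Nat.card (powMonoidHom p : A →* A).ker ≤ p := by
    have := h (powMonoidHom p : A →* A).ker ⟨⟨fun a b => mul_comm _ _⟩⟩ (fun a ha => by simpa using ha)
    simpa using this
  refine isCyclic_of_card_pow_eq_one_le fun n hn => ?_
  obtain ⟨j, hj, hj'⟩ := (Nat.dvd_prime_pow (Fact.out : p.Prime)).1 (Nat.gcd_dvd_right n (p ^ m))
  have hsub : ∀ a : A, a ^ n = 1 → a ^ (p ^ j) = 1 := by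
    intro a ha
    rw [← hj']
    have h2 : a ^ (p ^ m) = 1 := by rw [← hm]; exact pow_card_eq_one'
    exact pow_gcd_eq_one.2 ⟨ha, h2⟩
  refine le_trans ?_ (le_trans (card_pow_prime_pow_le h1 j) ?_)
  · rw [Nat.card_eq_fintype_card, Fintype.card_of_subtype (Finset.univ.filter fun a : A => a ^ (p ^ j) = 1)
      (fun x => by simp)]
    exact Finset.card_le_card fun a ha => by
      simp only [Finset.mem_filter, Finset.mem_univ, true_and] at ha ⊢
      exact hsub a ha
  · exact Nat.le_of_dvd hn (hj' ▸ Nat.gcd_dvd_left n (p ^ m))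

/-- For odd `p`, a finite `p`-group of rank at most one is cyclic. -/
theorem isCyclic_of_prankLE_one (hp : p ≠ 2) :
    ∀ (n : ℕ) {P : Type u} [Group P] [Finite P], Nat.card P ≤ n → IsPGroup p P → PRankLE p 1 P →
      IsCyclic P := by
  have hpr : p.Prime := Fact.out
  intro n
  induction n using Nat.strong_induction_on with
  | _ n ih =>
    intro P _ _ hn hP hrk
    by_cases hab : ∀ a b : P, a * b = b * a
    · letI : CommGroup P := { (inferInstance : Group P) with mul_comm := hab }
      exact isCyclic_of_commGroup_rank_one hP hrk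
    · exfalso
      push Not at hab
      obtain ⟨a, b, hab⟩ := hab
      have hcyc : ∀ M : Subgroup P, M ≠ ⊤ → IsCyclic M := by
        intro M hM
        have hlt : Nat.card M < Nat.card P := by
          refine lt_of_le_of_ne M.card_le_card_group fun h => hM (Subgroup.eq_top_of_card_eq M h)
        exact ih _ (lt_of_lt_of_le hlt hn) le_rfl (hP.to_subgroup M)
          (CfsgLib.PGroups.prankLE_of_injective hrk M.subtype_injective)
      have hnc : ∀ x : P, Subgroup.zpowers x ≠ ⊤ := by
        intro x hx
        have hc : IsCyclic P := ⟨x, fun y => (hx ▸ Subgroup.mem_top y : y ∈ Subgroup.zpowers x)⟩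
        exact hab (IsCyclic.commGroup.mul_comm a b)
      obtain ⟨M, hM, haM⟩ := (eq_top_or_exists_le_coatom (Subgroup.zpowers a)).resolve_left (hnc a)
      obtain ⟨N, hN, hbN⟩ := (eq_top_or_exists_le_coatom (Subgroup.zpowers b)).resolve_left (hnc b)
      haveI := hcyc M hM.1
      haveI := hcyc N hN.1
      have haM' : a ∈ M := haM (Subgroup.mem_zpowers a)
      have hbN' : b ∈ N := hbN (Subgroup.mem_zpowers b)
      have hMN : M ≠ N := by
        intro h
        subst h
        have := IsCyclic.commGroup.mul_comm (⟨a, haM'⟩ : M) ⟨b, hbN'⟩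
        exact hab (congrArg Subtype.val this)
      have htop : M ⊔ N = ⊤ := hM.2 _ (lt_of_le_of_ne le_sup_left fun h => by
        have hle : N ≤ M := le_sup_right.trans h.ge
        rcases eq_or_lt_of_le hle with h' | h'
        · exact hMN h'.symm
        · exact hM.1 (hN.2 _ h'))
      have hZ : M ⊓ N ≤ Subgroup.center P := by
        intro z hz
        rw [Subgroup.mem_center_iff]
        intro g
        have h1 : M ⊔ N ≤ Subgroup.centralizer ({z} : Set P) := by
          refine sup_le (fun m hm => Subgroup.mem_centralizer_singleton_iff.2 ?_)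
            (fun m hm => Subgroup.mem_centralizer_singleton_iff.2 ?_)
          · exact congrArg Subtype.val (IsCyclic.commGroup.mul_comm (⟨m, hm⟩ : M) ⟨z, hz.1⟩)
          · exact congrArg Subtype.val (IsCyclic.commGroup.mul_comm (⟨m, hm⟩ : N) ⟨z, hz.2⟩)
        exact Subgroup.mem_centralizer_singleton_iff.1 (h1 (htop ▸ Subgroup.mem_top g))
      haveI := CfsgLib.PGroups.normal_of_isCoatom' hP hM
      haveI := CfsgLib.PGroups.normal_of_isCoatom' hP hN
      have hiM := CfsgLib.PGroups.index_of_isCoatom hP hM
      have hiN := CfsgLib.PGroups.index_of_isCoatom hP hN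
      have hpow : ∀ x : P, x ^ p ∈ M ⊓ N := fun x =>
        ⟨by have := Subgroup.pow_index_mem M x; rwa [hiM] at this,
         by have := Subgroup.pow_index_mem N x; rwa [hiN] at this⟩
      haveI := hP.isNilpotent
      have hcomm : ∀ x y : P, ⁅x, y⁆ ∈ M ⊓ N := fun x y => by
        have hle : ∀ L : Subgroup P, IsCoatom L → ⁅x, y⁆ ∈ L := fun L hL => by
          have h1 := CfsgLib.PGroups.commutator_le_frattini (G := P)
            (Subgroup.commutator_mem_commutator (Subgroup.mem_top x) (Subgroup.mem_top y))
          exact frattini_le_coatom hL h1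
        exact ⟨hle M hM, hle N hN⟩
      have hmul : ∀ x y : P, (x * y) ^ p = x ^ p * y ^ p := fun x y => by
        refine CfsgLib.PGroups.mul_pow_of_central_odd (hZ (hcomm y x)) (hpr.odd_of_ne_two hp) ?_
        rw [← CfsgLib.PGroups.comm_pow_left_of_central (hZ (hcomm y x))]
        exact commutatorElement_eq_one_iff_mul_comm.2 ((Subgroup.mem_center_iff.1 (hZ (hpow y))) x).symm
      let f : P →* P := { toFun := fun x => x ^ p, map_one' := one_pow p, map_mul' := hmul }
      have hrange : f.range ≤ M ⊓ N := by rintro _ ⟨x, rfl⟩; exact hpow x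
      have hK : p ^ 2 ≤ Nat.card f.ker := by
        have h1 := f.ker.card_mul_index
        rw [Subgroup.index_ker] at h1
        have h2 := M.card_mul_index
        have h3 := (M ⊓ N).card_mul_index
        have h4 : p ^ 2 * Nat.card ↥(M ⊓ N) ≤ Nat.card P := by
          have hlt : M ⊓ N < M := lt_of_le_of_ne inf_le_left fun h => by
            have : M ≤ N := inf_eq_left.1 h
            rcases eq_or_lt_of_le this with h' | h'
            · exact hMN h'
            · exact hN.1 (hM.2 _ h')
          obtain ⟨i, hi⟩ := IsPGroup.iff_card.mp (hP.to_subgroup (M ⊓ N))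
          obtain ⟨j, hj⟩ := IsPGroup.iff_card.mp (hP.to_subgroup M)
          have hij : i < j := by
            refine (Nat.pow_lt_pow_iff_right hpr.one_lt).1 ?_
            rw [← hi, ← hj]
            refine lt_of_le_of_ne (Subgroup.card_le_of_le hlt.le) fun h => hlt.ne ?_
            exact Subgroup.eq_of_le_of_card_ge hlt.le h.ge
          rw [← h2, hiM, hi, hj, ← pow_add, ← pow_succ]
          exact Nat.pow_le_pow_right hpr.pos (by omega)
        have h5 : Nat.card f.range ≤ Nat.card ↥(M ⊓ N) := Subgroup.card_le_of_le hrange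
        refine Nat.le_of_mul_le_mul_right (le_trans ?_ h1.ge) (Nat.card_pos (α := f.range))
        exact le_trans (Nat.mul_le_mul_left _ h5) h4
      obtain ⟨K, hK'⟩ : ∃ K : Subgroup f.ker, Nat.card K = p ^ 2 := by
        obtain ⟨i, hi⟩ := IsPGroup.iff_card.mp (hP.to_subgroup f.ker)
        refine Sylow.exists_subgroup_card_pow_prime p ?_
        rw [hi]
        refine pow_dvd_pow p ?_
        rw [hi] at hK
        exact (Nat.pow_le_pow_iff_right hpr.one_lt).1 hK
      have hcard : Nat.card (K.map f.ker.subtype) = p ^ 2 := by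
        rw [← hK']
        exact (Nat.card_congr (K.equivMapOfInjective _ f.ker.subtype_injective).toEquiv).symm
      have h6 := hrk (K.map f.ker.subtype) (IsPGroup.isMulCommutative_of_card_eq_prime_sq hcard) (by
        rintro _ ⟨x, -, rfl⟩; exact x.2)
      rw [hcard, pow_one] at h6
      nlinarith [hpr.two_le]

end CfsgLib.LocalEvenB
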