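import Cfsg.Agent.Lib.LocalEvenB.SylowControl
import Cfsg.Agent.Lib.Transfer.Conj
import Cfsg.Agent.Lib.LocalEven.Generation
import Cfsg.Agent.Lib.HallGen.Counting

/-!
The intersection group of a Sylow subgroup is strongly `p`-embedded.
-/

set_option autoImplicit false

open Cfsg Subgroup
open scoped Pointwise

namespace CfsgLib.LocalEvenB

variable {G : Type*} [Group G] [Finite G] {p : ℕ} [Fact p.Prime]

theorem le_intersectionGroup (S : Sylow p G) : (S : Subgroup G) ≤ intersectionGroup S := by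
  rcases eq_or_ne (S : Subgroup G) ⊥ with h | h
  · rw [h]; exact bot_le
  · exact le_normalizer.trans (normalizer_le_intersectionGroup S h)

theorem mem_intersectionGroup_of_conj_mem (S : Sylow p G) {x g : G} (hx : x ∈ intersectionGroup S)
    (hxp : IsPGroup p ↥(zpowers x)) (hx1 : x ≠ 1) (hgx : g * x * g⁻¹ ∈ intersectionGroup S) :
    g ∈ intersectionGroup S := by
  set H := intersectionGroup S with hH
  have hnd : ¬ p ∣ (S : Subgroup G).relIndex H := fun hd =>
    S.not_dvd_index (hd.trans (relIndex_dvd_index_of_le (le_intersectionGroup S)))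
  obtain ⟨a, ha, hax⟩ := CfsgLib.Transfer.exists_conj_le S.2 hnd (zpowers_le.2 hx) hxp
  have hax' : a⁻¹ * x * a ∈ (S : Subgroup G) := hax x (mem_zpowers x)
  have hgp : IsPGroup p ↥(zpowers (g * x * g⁻¹)) := by
    have := hxp.map (MulAut.conj g).toMonoidHom
    rwa [MonoidHom.map_zpowers] at this
  obtain ⟨c, hc, hcx⟩ := CfsgLib.Transfer.exists_conj_le S.2 hnd (zpowers_le.2 hgx) hgp
  have hcx' : c⁻¹ * (g * x * g⁻¹) * c ∈ (S : Subgroup G) := hcx _ (mem_zpowers _)
  have hS : (S : Subgroup G) ≠ ⊥ := by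
    intro h
    rw [h, Subgroup.mem_bot] at hax'
    exact hx1 (by simpa [mul_assoc] using congrArg (fun z => a * z * a⁻¹) hax')
  have hga : g * a ∈ H := by
    refine mem_intersectionGroup_of_meet S hS hc ?_
    intro hbot
    have hmem : g * x * g⁻¹ ∈ ((c • S : Sylow p G) : Subgroup G) ⊓ (((g * a) • S : Sylow p G) : Subgroup G) :=
      ⟨(CfsgLib.Transfer.mem_sylow_smul (P := S) (g := c) (x := g * x * g⁻¹)).2 hcx',
        (CfsgLib.Transfer.mem_sylow_smul (P := S) (g := g * a) (x := g * x * g⁻¹)).2 (by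
          have e : (g * a)⁻¹ * (g * x * g⁻¹) * (g * a) = a⁻¹ * x * a := by group
          rw [e]; exact hax')⟩
    rw [hbot, Subgroup.mem_bot, conj_eq_one_iff] at hmem
    exact hx1 hmem
  simpa using H.mul_mem hga (H.inv_mem ha)

/-- The intersection group contains the normalizers of its nontrivial `p`-subgroups. -/
theorem normalizer_le_intersectionGroup_of_pGroup (S : Sylow p G) {R : Subgroup G} (hRH : R ≤ intersectionGroup S)
    (hR : IsPGroup p R) (hR1 : R ≠ ⊥) : normalizer (R : Set G) ≤ intersectionGroup S := by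
  obtain ⟨x, hx, hx1⟩ := (Subgroup.bot_or_exists_ne_one _).resolve_left hR1
  intro g hg
  exact mem_intersectionGroup_of_conj_mem S (hRH hx) (hR.to_le (zpowers_le.2 hx)) hx1
    (hRH ((mem_normalizer_iff.1 hg x).1 hx))

theorem centralizer_le_intersectionGroup (S : Sylow p G) {x : G} (hx : x ∈ intersectionGroup S)
    (hxp : IsPGroup p ↥(zpowers x)) (hx1 : x ≠ 1) : centralizer ({x} : Set G) ≤ intersectionGroup S := by
  intro g hg
  refine mem_intersectionGroup_of_conj_mem S hx hxp hx1 ?_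
  rw [mem_centralizer_singleton_iff.1 hg, mul_inv_cancel_right]
  exact hx

theorem intersectionGroup_ne_top (S : Sylow p G) (hG : ¬ IsSylowChainConnected p G) :
    intersectionGroup S ≠ ⊤ ∧ (S : Subgroup G) ≠ ⊥ :=
  ⟨fun h => hG ((chainConnected_iff S).2 (Or.inr h)), fun h => hG ((chainConnected_iff S).2 (Or.inl h))⟩

/-- A `p'`-subgroup normalized by a noncyclic elementary abelian subgroup of the intersection group lies in it. -/
theorem le_intersectionGroup_of_rank_two (S : Sylow p G) {A D : Subgroup G} [IsMulCommutative A]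
    (hexp : ∀ a ∈ A, a ^ p = 1) (hnc : p ^ 2 ≤ Nat.card A) (hAH : A ≤ intersectionGroup S)
    (hAD : A ≤ normalizer (D : Set G)) (hD : ¬ p ∣ Nat.card D) : D ≤ intersectionGroup S := by
  refine CfsgLib.LocalEven.le_of_centralizers_le hexp hnc hAD hD fun a ha ha1 => ?_
  refine inf_le_right.trans (centralizer_le_intersectionGroup S (hAH ha) ?_ ha1)
  have : orderOf a ∣ p ^ 1 := by rw [pow_one]; exact orderOf_dvd_of_pow_eq_one (hexp a ha)
  obtain ⟨k, -, hk⟩ := (Nat.dvd_prime_pow (Fact.out : p.Prime)).1 this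
  exact IsPGroup.of_card (n := k) (by rw [Nat.card_zpowers, hk])

/-- In a group whose Sylow graph is disconnected, two normal subgroups of order divisible by `p`
meet in a subgroup of order divisible by `p`. -/
theorem dvd_card_inf_of_not_chainConnected (hG : ¬ IsSylowChainConnected p G) (N M : Subgroup G)
    [hNn : N.Normal] [hMn : M.Normal] (hN : p ∣ Nat.card N) (hM : p ∣ Nat.card M) :
    p ∣ Nat.card ↥(N ⊓ M) := by
  by_contra hD
  set S : Sylow p G := Classical.arbitrary _ with hSdef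
  obtain ⟨hH, hS⟩ := intersectionGroup_ne_top S hG
  set H := intersectionGroup S with hHdef
  set S₀ := (S : Subgroup G) with hS₀
  have hmeet : ∀ (K : Subgroup G) [K.Normal], p ∣ Nat.card K → ∃ x ∈ S₀, x ∈ K ∧ orderOf x = p := by
    intro K hKn hK
    obtain ⟨⟨x, hxK⟩, hx⟩ := exists_prime_orderOf_dvd_card' p hK
    rw [Subgroup.orderOf_mk] at hx
    have hxp : IsPGroup p ↥(zpowers x) := IsPGroup.of_card (n := 1) (by rw [Nat.card_zpowers, hx, pow_one])
    obtain ⟨T, hT⟩ := hxp.exists_le_sylow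
    obtain ⟨g, hg⟩ := MulAction.exists_smul_eq G T S
    refine ⟨g * x * g⁻¹, ?_, hKn.conj_mem x hxK g, ?_⟩
    · rw [hS₀, ← hg]
      refine (CfsgLib.Transfer.mem_sylow_smul (P := T) (g := g) (x := g * x * g⁻¹)).2 ?_
      have e : g⁻¹ * (g * x * g⁻¹) * g = x := by group
      rw [e]
      exact hT (mem_zpowers x)
    · rw [← hx]
      exact orderOf_injective (MulAut.conj g).toMonoidHom (MulAut.conj g).injective x
  obtain ⟨y, hyS, hyN, hy⟩ := hmeet N hN
  obtain ⟨x, hxS, hxM, hx⟩ := hmeet M hM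
  have hxy1 : ∀ z ∈ S₀, z ∈ N → z ∈ M → z = 1 := by
    intro z hzS hzN hzM
    by_contra hz
    exact hD (prime_dvd_card_of_mem S.2 hzS ⟨hzN, hzM⟩ hz)
  have hcomm : x * y = y * x := by
    refine commutatorElement_eq_one_iff_mul_comm.1 (hxy1 _ ?_ ?_ ?_)
    · rw [commutatorElement_def]
      exact S₀.mul_mem (S₀.mul_mem (S₀.mul_mem hxS hyS) (S₀.inv_mem hxS)) (S₀.inv_mem hyS)
    · rw [commutatorElement_def]
      exact N.mul_mem (hNn.conj_mem y hyN x) (N.inv_mem hyN)
    · rw [commutatorElement_def, mul_assoc, mul_assoc, ← mul_assoc y]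
      exact M.mul_mem hxM (hMn.conj_mem _ (M.inv_mem hxM) y)
  set A := zpowers x ⊔ zpowers y with hA
  haveI : IsMulCommutative A := by
    refine le_centralizer_iff_isMulCommutative.1 ?_
    rw [hA, centralizer_sup]
    refine le_inf (sup_le (le_centralizer_iff_isMulCommutative.2 inferInstance) ?_)
      (sup_le ?_ (le_centralizer_iff_isMulCommutative.2 inferInstance))
    · rw [zpowers_le]
      exact mem_centralizer_iff.2 fun z hz => by
        obtain ⟨k, rfl⟩ := mem_zpowers_iff.1 hz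
        exact ((Commute.zpow_left hcomm k) : _)
    · rw [zpowers_le]
      exact mem_centralizer_iff.2 fun z hz => by
        obtain ⟨k, rfl⟩ := mem_zpowers_iff.1 hz
        exact ((Commute.zpow_left hcomm.symm k) : _)
  have hexp : ∀ a ∈ A, a ^ p = 1 := by
    intro a ha
    rw [hA, ← SetLike.mem_coe, coe_mul_of_left_le_normalizer_right] at ha
    · obtain ⟨u, hu, v, hv, rfl⟩ := ha
      obtain ⟨i, rfl⟩ := mem_zpowers_iff.1 hu
      obtain ⟨j, rfl⟩ := mem_zpowers_iff.1 hv
      show (x ^ i * y ^ j) ^ p = 1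
      rw [(Commute.zpow_zpow hcomm i j).mul_pow, ← zpow_natCast (x ^ i), ← zpow_natCast (y ^ j),
        ← zpow_mul, ← zpow_mul, mul_comm i, mul_comm j, zpow_mul, zpow_mul, zpow_natCast, zpow_natCast,
        ← hx, pow_orderOf_eq_one, hx, ← hy, pow_orderOf_eq_one, one_zpow, one_zpow, one_mul]
    · refine le_normalizer_iff.2 fun u hu v hv => ?_
      obtain ⟨i, rfl⟩ := mem_zpowers_iff.1 hu
      obtain ⟨j, rfl⟩ := mem_zpowers_iff.1 hv
      rw [(Commute.zpow_zpow hcomm i j).eq, mul_inv_cancel_right]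
      exact hv
  have hnc : p ^ 2 ≤ Nat.card A := by
    have hlt : zpowers x < A := by
      refine lt_of_le_of_ne le_sup_left fun h => ?_
      have hyx : y ∈ zpowers x := h ▸ mem_sup_right (mem_zpowers y)
      have hy1 : y ≠ 1 := fun h1 => by
        rw [h1, orderOf_one] at hy; exact (Fact.out : p.Prime).one_lt.ne hy
      exact hy1 (hxy1 y hyS hyN (zpowers_le.2 hxM hyx))
    obtain ⟨k, hk⟩ := IsPGroup.iff_card.1 (S.2.to_le (sup_le (zpowers_le.2 hxS) (zpowers_le.2 hyS)) :
      IsPGroup p A)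
    have h1 : p < Nat.card A := by
      rw [← hx, ← Nat.card_zpowers]
      exact Set.Finite.card_lt_card (Set.toFinite _) (SetLike.coe_ssubset_coe.2 hlt)
    rw [hk] at h1 ⊢
    refine Nat.pow_le_pow_right (Fact.out : p.Prime).pos ?_
    by_contra hk2
    have : p ^ k ≤ p ^ 1 := Nat.pow_le_pow_right (Fact.out : p.Prime).pos (by omega)
    rw [pow_one] at this
    omega
  have hSH := le_intersectionGroup S
  have hDH : N ⊓ M ≤ H :=
    le_intersectionGroup_of_rank_two S hexp hnc
      (sup_le (zpowers_le.2 (hSH hxS)) (zpowers_le.2 (hSH hyS)))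
      le_normalizer_of_normal hD
  have hx1 : x ≠ 1 := fun h1 => by
    rw [h1, orderOf_one] at hx; exact (Fact.out : p.Prime).one_lt.ne hx
  have hNH : N ≤ H := by
    intro n hn
    refine mem_intersectionGroup_of_conj_mem S (hSH hxS) (S.2.to_le (zpowers_le.2 hxS)) hx1 ?_
    have hd : n * x * n⁻¹ * x⁻¹ ∈ N ⊓ M := by
      refine ⟨?_, M.mul_mem (hMn.conj_mem x hxM n) (M.inv_mem hxM)⟩
      rw [mul_assoc, mul_assoc, ← mul_assoc x]
      exact N.mul_mem hn (hNn.conj_mem _ (N.inv_mem hn) x)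
    simpa using H.mul_mem (hDH hd) (hSH hxS)
  -- Frattini
  have hnd : ¬ p ∣ S₀.relIndex N := fun hd =>
    S.not_dvd_index (hd.trans (CfsgLib.HallGen.relIndex_dvd_index_right S₀ N))
  let T : Sylow p N := (S.2.comap_subtype).toSylow hnd
  have hT : (T : Subgroup N).map N.subtype = S₀ ⊓ N := subgroupOf_map_subtype _ _
  have hfr : normalizer ((S₀ ⊓ N : Subgroup G) : Set G) ⊔ N = ⊤ := hT ▸ Sylow.normalizer_sup_eq_top T
  refine hH (eq_top_iff.2 (hfr ▸ sup_le ?_ hNH))
  refine normalizer_le_intersectionGroup_of_pGroup S (inf_le_left.trans hSH) (S.2.to_le inf_le_left) ?_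
  intro hbot
  have : y ∈ S₀ ⊓ N := ⟨hyS, hyN⟩
  rw [hbot, Subgroup.mem_bot] at this
  rw [this, orderOf_one] at hy
  exact (Fact.out : p.Prime).one_lt.ne hy

end CfsgLib.LocalEvenB
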