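import Cfsg.Agent.Lib.Techniques.Goldschmidt
import Cfsg.Agent.Lib.LocalEvenB.IntersectionGroup
import Cfsg.Prelude.Def_SylowChains

/-!
# The strong form of the Alperin–Goldschmidt fusion theorem
-/

set_option autoImplicit false
set_option linter.all false

namespace CfsgLib.LocalEvenB

open Subgroup Cfsg
open scoped Pointwise

variable {G : Type*} [Group G] {p : ℕ}

theorem map_equiv_pPrimePCore {H : Type*} [Group H] (e : G ≃* H) :
    (pPrimePCore p G).map e.toMonoidHom = pPrimePCore p H := by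
  haveI := CfsgLib.Core.normal_pPrimeCore p G
  haveI := CfsgLib.Core.normal_pPrimeCore p H
  let q := QuotientGroup.congr (pPrimeCore p G) (pPrimeCore p H) e (CfsgLib.Core.map_equiv_pPrimeCore e)
  have hq : (pCore p (G ⧸ pPrimeCore p G)).map q.toMonoidHom = pCore p (H ⧸ pPrimeCore p H) :=
    CfsgLib.Core.map_equiv_pCore q
  ext h
  constructor
  · rintro ⟨g, hg, rfl⟩
    show QuotientGroup.mk' _ (e g) ∈ pCore p _
    rw [← hq]
    exact ⟨_, hg, rfl⟩
  · intro hh
    refine ⟨e.symm h, ?_, e.apply_symm_apply h⟩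
    have h1 : QuotientGroup.mk' (pPrimeCore p H) (e (e.symm h)) ∈ pCore p (H ⧸ pPrimeCore p H) := by
      rw [e.apply_symm_apply]; exact hh
    rw [← hq] at h1
    obtain ⟨z, hz, hzq⟩ := h1
    have h2 : z = QuotientGroup.mk' (pPrimeCore p G) (e.symm h) := q.injective hzq
    show QuotientGroup.mk' (pPrimeCore p G) (e.symm h) ∈ pCore p (G ⧸ pPrimeCore p G)
    rw [← h2]
    exact hz

theorem isSylowChainConnected_congr [Finite G] [Fact p.Prime] {H : Type*} [Group H] [Finite H] (e : G ≃* H)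
    (h : IsSylowChainConnected p G) : IsSylowChainConnected p H := by
  let τ : Sylow p G → Sylow p H := fun S => S.mapSurjective (f := (e : G →* H)) e.surjective
  let σ : Sylow p H → Sylow p G := fun S => S.mapSurjective (f := (e.symm : H →* G)) e.symm.surjective
  have hτ : ∀ S : Sylow p G, (τ S : Subgroup H) = (S : Subgroup G).map (e : G →* H) := fun S => rfl
  have hτσ : ∀ S, τ (σ S) = S := by
    intro S
    apply Sylow.ext
    show ((S : Subgroup H).map (e.symm : H →* G)).map (e : G →* H) = S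
    rw [map_map, show (e : G →* H).comp (e.symm : H →* G) = MonoidHom.id H by ext; simp, map_id]
  have hmap : ∀ S T : Sylow p G, (τ S : Subgroup H) ⊓ (τ T : Subgroup H) =
      ((S : Subgroup G) ⊓ (T : Subgroup G)).map (e : G →* H) := fun S T => by
    rw [hτ, hτ]
    exact (map_inf _ _ _ e.injective).symm
  intro S T
  obtain ⟨n, c, h0, hn, hle, hadj⟩ := h (σ S) (σ T)
  refine ⟨n, fun i => τ (c i), by simp only [h0, hτσ], by simp only [hn, hτσ], fun i => ?_, fun i => ⟨?_, ?_⟩⟩
  · rw [← hτσ S, ← hτσ T, hmap]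
    rw [hτ]
    exact map_mono (hle i)
  · intro heq
    apply (hadj i).1
    apply Sylow.ext
    have h1 := congrArg (fun W : Sylow p H => (W : Subgroup H)) heq
    simp only [hτ] at h1
    exact map_injective e.injective h1
  · rw [hmap]
    exact fun h0 => (hadj i).2 ((map_eq_bot_iff_of_injective _ e.injective).1 h0)

/-- The conditions on one step `x` through the subgroup `H`. -/
def AlperinStep (p : ℕ) (P : Subgroup G) (H : Subgroup G) (x : G) : Prop :=
  H ≤ P ∧
  ¬ p ∣ (P ⊓ normalizer (H : Set G)).relIndex (normalizer (H : Set G)) ∧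
  P ⊓ centralizer (H : Set G) ≤ H ∧
  (pPrimePCore p ↥(normalizer (H : Set G))).map (normalizer (H : Set G)).subtype = H ⊔ centralizer (H : Set G) ∧
  ¬ IsSylowChainConnected p (↥(normalizer (H : Set G)) ⧸ H.subgroupOf (normalizer (H : Set G))) ∧
  ∃ X : Subgroup G, (H ≤ X ∧ X ≤ normalizer (H : Set G) ∧ (X.subgroupOf (normalizer (H : Set G))).Normal ∧
      p ∣ H.relIndex X ∧
      ∀ Y : Subgroup G, H ≤ Y → Y ≤ normalizer (H : Set G) → (Y.subgroupOf (normalizer (H : Set G))).Normal →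
        p ∣ H.relIndex Y → X ≤ Y) ∧
    x ∈ (pResidual p ↥X).map X.subtype

theorem AlperinStep.map_equiv [Finite G] [Fact p.Prime] {P H : Subgroup G} {x : G} (h : AlperinStep p P H x)
    (φ : G ≃* G) (hP : P.map φ.toMonoidHom = P) : AlperinStep p P (H.map φ.toMonoidHom) (φ x) := by
  obtain ⟨h1, h2, h3, h4, h5, X, ⟨hX1, hX2, hX3, hX4, hX5⟩, hx⟩ := h
  have hN : (normalizer (H : Set G)).map φ.toMonoidHom = normalizer ((H.map φ.toMonoidHom : Subgroup G) : Set G) :=
    map_equiv_normalizer_eq H φ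
  have hC : (centralizer (H : Set G)).map φ.toMonoidHom = centralizer ((H.map φ.toMonoidHom : Subgroup G) : Set G) := by
    ext z
    constructor
    · rintro ⟨c, hc, rfl⟩
      rw [mem_centralizer_iff]
      rintro _ ⟨u, hu, rfl⟩
      rw [← map_mul, ← map_mul, mem_centralizer_iff.1 hc u hu]
    · intro hz
      refine ⟨φ.symm z, mem_centralizer_iff.2 fun u hu => φ.injective ?_, φ.apply_symm_apply z⟩
      rw [map_mul, map_mul, φ.apply_symm_apply]
      exact mem_centralizer_iff.1 hz _ ⟨u, hu, rfl⟩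
  obtain ⟨N', hN'⟩ : ∃ N', N' = normalizer ((H.map φ.toMonoidHom : Subgroup G) : Set G) := ⟨_, rfl⟩
  rw [← hN'] at hN
  let e : ↥(normalizer (H : Set G)) ≃* ↥N' :=
    (φ.subgroupMap (normalizer (H : Set G))).trans (MulEquiv.subgroupCongr hN)
  have he : ∀ z, (e z : G) = φ (z : G) := fun z => rfl
  have hcomp : ∀ W : Subgroup ↥(normalizer (H : Set G)),
      (W.map e.toMonoidHom).map N'.subtype = (W.map (normalizer (H : Set G)).subtype).map φ.toMonoidHom := by
    intro W
    rw [map_map, map_map]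
    rfl
  have hsub : ∀ W : Subgroup G, W ≤ normalizer (H : Set G) →
      (W.subgroupOf (normalizer (H : Set G))).map e.toMonoidHom = (W.map φ.toMonoidHom).subgroupOf N' := by
    intro W hW
    refine map_injective N'.subtype_injective ?_
    rw [hcomp, subgroupOf_map_subtype, subgroupOf_map_subtype, inf_eq_left.2 hW,
      inf_eq_left.2 (hN ▸ map_mono hW)]
  subst hN'
  refine ⟨hP ▸ map_mono h1, ?_, ?_, ?_, ?_, X.map φ.toMonoidHom, ⟨map_mono hX1, hN ▸ map_mono hX2, ?_, ?_, ?_⟩, ?_⟩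
  · conv in (P ⊓ _) => rw [← hP]
    rw [← hN, ← map_inf _ _ _ φ.injective, relIndex_map_map_of_injective _ _ φ.injective]
    exact h2
  · conv_lhs => rw [← hP]
    rw [← hC, ← map_inf _ _ _ φ.injective]
    exact map_mono h3
  · rw [← map_equiv_pPrimePCore e, hcomp, h4, Subgroup.map_sup, hC]
  · intro hcon
    apply h5
    exact isSylowChainConnected_congr
      (QuotientGroup.congr _ _ e (hsub H le_normalizer)).symm hcon
  · rw [← hsub X hX2]
    exact hX3.map e.toMonoidHom e.surjective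
  · rwa [relIndex_map_map_of_injective _ _ φ.injective]
  · intro Y hY1 hY2 hY3 hY4
    have hYm : (Y.comap φ.toMonoidHom).map φ.toMonoidHom = Y := map_comap_eq_self_of_surjective φ.surjective Y
    rw [← hYm]
    have hYN : Y.comap φ.toMonoidHom ≤ normalizer (H : Set G) := by
      intro z hz
      have h6 : φ z ∈ (normalizer (H : Set G)).map φ.toMonoidHom := hN ▸ hY2 hz
      obtain ⟨w, hw, hwz⟩ := h6
      exact φ.injective hwz ▸ hw
    refine map_mono (hX5 _ (map_le_iff_le_comap.1 hY1) hYN ?_ ?_)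
    · refine ⟨fun z hz g => ?_⟩
      have h6 := hY3.conj_mem (e z) hz (e g)
      show φ ((g * z * g⁻¹ : ↥(normalizer (H : Set G))) : G) ∈ Y
      rw [← he, map_mul, map_mul, map_inv]
      exact h6
    · rw [← hYm, relIndex_map_map_of_injective _ _ φ.injective] at hY4
      exact hY4
  · obtain ⟨r, hr, rfl⟩ := hx
    refine ⟨φ.subgroupMap X r, ?_, rfl⟩
    exact CfsgLib.Transfer.map_pResidual_le (φ.subgroupMap X).toMonoidHom ⟨r, hr, rfl⟩

variable [Finite G] [Fact p.Prime]

theorem relPath_map_conj {P : Subgroup G} {y : G} (hy : P.map (MulAut.conj y).toMonoidHom = P) {A : Set G} {g : G}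
    (h : CfsgLib.Techniques.RelPath (AlperinStep p P) A g) :
    CfsgLib.Techniques.RelPath (AlperinStep p P) ((fun a => y * a * y⁻¹) '' A) (y * g * y⁻¹) := by
  induction h with
  | one A => rw [mul_one, mul_inv_cancel]; exact .one _
  | step A T x g hR hA _ ih =>
    rw [show y * (x * g) * y⁻¹ = (y * x * y⁻¹) * (y * g * y⁻¹) by group]
    refine .step _ (T.map (MulAut.conj y).toMonoidHom) _ _ (hR.map_equiv (MulAut.conj y) hy) ?_ ?_
    · rintro _ ⟨a, ha, rfl⟩
      exact ⟨a, hA ha, rfl⟩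
    · rw [Set.image_image] at ih ⊢
      refine ih.mono _ ?_
      rintro _ ⟨a, ha, rfl⟩
      exact ⟨a, ha, by group⟩

/-- Steps in `N(P)` can be collected at the end of a path. -/
theorem relPath_collect {P : Subgroup G} {A : Set G} {g : G}
    (h : CfsgLib.Techniques.RelPath (fun T x => AlperinStep p P T x ∨ (T = P ∧ x ∈ normalizer (P : Set G))) A g) :
    ∃ (g' y : G), CfsgLib.Techniques.RelPath (AlperinStep p P) A g' ∧ y ∈ normalizer (P : Set G) ∧ g = g' * y := by
  induction h with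
  | one A => exact ⟨1, 1, .one _, one_mem _, (one_mul 1).symm⟩
  | step A T x g hR hA _ ih =>
    obtain ⟨g', y, hg', hy, rfl⟩ := ih
    rcases hR with hR | ⟨-, hx⟩
    · exact ⟨x * g', y, .step _ T x g' hR hA hg', hy, (mul_assoc _ _ _).symm⟩
    · refine ⟨x * g' * x⁻¹, x * y, ?_, mul_mem hx hy, by group⟩
      refine (relPath_map_conj (mem_normalizer_iff_map_conj_eq.1 hx) hg').mono _ ?_
      intro a ha
      exact ⟨x⁻¹ * a * x, ⟨a, ha, rfl⟩, by group⟩

/-- The Alperin–Goldschmidt theorem with strongly embedded automizers. -/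
theorem exists_strong_alperin_path (P : Sylow p G) {A : Set G} {g : G} (hA : A ⊆ (P : Set G))
    (hAg : (fun a => g⁻¹ * a * g) '' A ⊆ (P : Set G)) :
    ∃ (c g' y : G), c ∈ centralizer A ∧ y ∈ normalizer ((P : Subgroup G) : Set G) ∧
      CfsgLib.Techniques.RelPath (AlperinStep p (P : Subgroup G)) A g' ∧ g = c * g' * y := by
  obtain ⟨R', hR'⟩ : ∃ R' : Subgroup G → G → Prop, R' = fun T x => AlperinStep p (P : Subgroup G) T x ∨
      (T = (P : Subgroup G) ∧ x ∈ normalizer ((P : Subgroup G) : Set G)) := ⟨_, rfl⟩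
  obtain ⟨Φ, hΦ⟩ : ∃ Φ : Set G → G → Prop,
      Φ = fun A g => ∃ c ∈ centralizer A, CfsgLib.Techniques.RelPath R' A (c⁻¹ * g) := ⟨_, rfl⟩
  have hmono : ∀ A g, Φ A g → ∀ B ⊆ A, Φ B g := by
    subst hΦ
    exact fun A g ⟨c, hc, hp⟩ B hB =>
      ⟨c, mem_centralizer_iff.2 fun b hb => mem_centralizer_iff.1 hc b (hB hb), hp.mono B hB⟩
  have htrans : ∀ A g k, Φ A g → Φ ((fun a => g⁻¹ * a * g) '' A) k → Φ A (g * k) := by
    subst hΦ
    rintro A g k ⟨c, hc, hp⟩ ⟨d, hd, hq⟩
    obtain ⟨h, hh⟩ : ∃ h, h = c⁻¹ * g := ⟨_, rfl⟩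
    rw [← hh] at hp
    have hgh : g = c * h := by rw [hh]; group
    have he : ∀ a ∈ A, g⁻¹ * a * g = h⁻¹ * a * h := by
      intro a ha
      calc g⁻¹ * a * g = h⁻¹ * c⁻¹ * (a * c) * h := by rw [hgh]; group
        _ = h⁻¹ * c⁻¹ * (c * a) * h := by rw [mem_centralizer_iff.1 hc a ha]
        _ = h⁻¹ * a * h := by group
    rw [Set.image_congr he] at hq
    refine ⟨c * (h * d * h⁻¹), mul_mem hc (mem_centralizer_iff.2 fun a ha => ?_), ?_⟩
    · have := mem_centralizer_iff.1 hd (g⁻¹ * a * g) ⟨a, ha, rfl⟩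
      rw [he a ha] at this
      calc a * (h * d * h⁻¹) = h * (h⁻¹ * a * h * d) * h⁻¹ := by group
        _ = h * (d * (h⁻¹ * a * h)) * h⁻¹ := by rw [this]
        _ = h * d * h⁻¹ * a := by group
    · have e : (c * (h * d * h⁻¹))⁻¹ * (g * k) = h * (d⁻¹ * k) := by rw [hgh]; group
      rw [e]
      exact hp.trans hq
  have hsingle : ∀ (T : Subgroup G) (x : G), R' T x → Φ (T : Set G) x := by
    subst hΦ
    exact fun T x hx => ⟨1, one_mem _, by simpa using CfsgLib.Techniques.RelPath.single (R := R') hx le_rfl⟩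
  have main := CfsgLib.Techniques.fusion_induction P Φ hmono htrans (by
    intro U hU hfull IH x hx
    obtain ⟨N, hN⟩ : ∃ N, N = normalizer (U : Set G) := ⟨_, rfl⟩
    have hUN : U ≤ N := hN ▸ le_normalizer
    -- larger subgroups
    have hIH : ∀ (R : Subgroup G) (z : G), U < R → R ≤ (P : Subgroup G) →
        R.map (MulAut.conj z⁻¹).toMonoidHom ≤ (P : Subgroup G) → Φ (U : Set G) z := fun R z hlt hR hz =>
      hmono _ _ (IH R z (CfsgLib.Transfer.card_lt_of_lt hlt) hR hz) _ (SetLike.coe_subset_coe.2 hlt.le)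
    by_cases hUP : U = (P : Subgroup G)
    · exact hUP ▸ hsingle _ _ (by subst hR'; exact Or.inr ⟨rfl, hUP ▸ hx⟩)
    rcases CfsgLib.Techniques.goldschmidt_dichotomy P hU hfull with ⟨-, -, hCL, hdir⟩ | ⟨T, hUT, hTP, hfac⟩
    swap
    · obtain ⟨c, hc, hcx⟩ := hfac x hx
      have h1 : Φ (U : Set G) (c⁻¹ * x) := hIH T _ hUT hTP (by
        rw [CfsgLib.Techniques.map_conj_of_mem_normalizer (inv_mem hcx)]; exact hTP)
      subst hΦ
      obtain ⟨d, hd, hp⟩ := h1
      refine ⟨c * d, mul_mem hc hd, ?_⟩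
      rwa [show (c * d)⁻¹ * x = d⁻¹ * (c⁻¹ * x) by group]
    -- the elements of the normalizer with a path
    have himg : ∀ z ∈ N, (fun a => z⁻¹ * a * z) '' (U : Set G) ⊆ (U : Set G) := by
      rintro z hz _ ⟨a, ha, rfl⟩
      have h1 := (mem_normalizer_iff.1 (inv_mem (hN ▸ hz : z ∈ normalizer (U : Set G))) a).1 ha
      rwa [inv_inv] at h1
    have hone : Φ (U : Set G) 1 := by
      subst hΦ
      exact ⟨1, one_mem _, by rw [inv_one, one_mul]; exact .one _⟩
    have hmul : ∀ a b, a ∈ N → Φ (U : Set G) a → Φ (U : Set G) b → Φ (U : Set G) (a * b) := fun a b ha h1 h2 =>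
      htrans _ _ _ h1 (hmono _ _ h2 _ (himg a ha))
    let W : Subgroup G :=
      { carrier := {z | z ∈ N ∧ Φ (U : Set G) z}
        one_mem' := ⟨one_mem _, hone⟩
        mul_mem' := fun {a b} ha hb => ⟨mul_mem ha.1 hb.1, hmul a b ha.1 ha.2 hb.2⟩
        inv_mem' := fun {a} ha => by
          have hpow : ∀ k : ℕ, a ^ k ∈ N ∧ Φ (U : Set G) (a ^ k) := by
            intro k
            induction k with
            | zero => rw [pow_zero]; exact ⟨one_mem _, hone⟩
            | succ k ih => rw [pow_succ]; exact ⟨mul_mem ih.1 ha.1, hmul _ _ ih.1 ih.2 ha.2⟩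
          have e : a⁻¹ = a ^ (orderOf a - 1) := by
            rw [inv_eq_iff_mul_eq_one, ← pow_succ', Nat.sub_add_cancel (orderOf_pos a), pow_orderOf_eq_one]
          show a⁻¹ ∈ N ∧ Φ (U : Set G) a⁻¹
          rw [e]
          exact hpow _ }
    suffices hNW : N ≤ W from (hNW (hN ▸ hx)).2
    obtain ⟨T, hT⟩ : ∃ T, T = (P : Subgroup G) ⊓ N := ⟨_, rfl⟩
    have hUT : U < T := by
      rw [hT, hN]
      exact CfsgLib.Transfer.lt_inf_normalizer P.2 (lt_of_le_of_ne hU hUP)
    have hTs : CfsgLib.Techniques.IsSylowSub p T N := by rw [hT, hN]; exact hfull.isSylowSub P.2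
    have hWT : T ≤ W := fun z hz => ⟨(hT.le hz).2, hIH T z hUT (hT ▸ inf_le_left) (by
      rw [CfsgLib.Techniques.map_conj_of_mem_normalizer (inv_mem (le_normalizer hz))]; exact hT ▸ inf_le_left)⟩
    obtain ⟨U₀, hU₀⟩ : ∃ U₀, U₀ = U.subgroupOf N := ⟨_, rfl⟩
    haveI : U₀.Normal := hU₀ ▸ normal_subgroupOf_of_le_normalizer hN.le
    obtain ⟨π, hπ⟩ : ∃ π, π = QuotientGroup.mk' U₀ := ⟨_, rfl⟩
    have hπs : Function.Surjective π := hπ ▸ QuotientGroup.mk'_surjective U₀
    have hker : π.ker = U₀ := hπ ▸ QuotientGroup.ker_mk' U₀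
    let TN : Sylow p ↥N := (hTs.2.1.comap_subtype (K := N)).toSylow hTs.2.2
    obtain ⟨Sb, hSb⟩ : ∃ Sb : Sylow p (↥N ⧸ U₀), (Sb : Subgroup (↥N ⧸ U₀)) = (T.subgroupOf N).map π :=
      ⟨TN.mapSurjective hπs, Sylow.coe_mapSurjective _ _⟩
    have hSbne : (Sb : Subgroup (↥N ⧸ U₀)) ≠ ⊥ := by
      rw [hSb, Ne, Subgroup.map_eq_bot_iff, hker, hU₀]
      intro hle
      exact hUT.not_ge fun z hz => hle (show (⟨z, (hT.le hz).2⟩ : ↥N) ∈ T.subgroupOf N from hz)
    by_cases hcon : IsSylowChainConnected p (↥N ⧸ U₀)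
    · have htop := ((chainConnected_iff Sb).1 hcon).resolve_left hSbne
      have hgen : ∀ q : ↥N ⧸ U₀, q ∈ (W.subgroupOf N).map π := by
        intro q
        have hq : q ∈ intersectionGroup Sb := htop ▸ mem_top q
        refine (Subgroup.closure_le _).2 ?_ hq
        intro k hk
        obtain ⟨z, rfl⟩ := hπs k
        refine ⟨z, ⟨z.2, ?_⟩, rfl⟩
        obtain ⟨w, hw, hw1⟩ := (Subgroup.bot_or_exists_ne_one _).resolve_left hk
        rw [coe_smul_sylow, hSb] at hw
        obtain ⟨⟨s, hs, hsw⟩, hw2⟩ := hw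
        replace hw2 := mem_conjRight_subgroup.1 hw2
        obtain ⟨t, ht, htw⟩ := hw2
        obtain ⟨R, hR⟩ : ∃ R, R = T ⊓ T.map (MulAut.conj (z : G)).toMonoidHom := ⟨_, rfl⟩
        have hUR : U ≤ R := by
          intro u hu
          refine hR ▸ ⟨hUT.le hu, ⟨(z : G)⁻¹ * u * (z : G), hUT.le (himg _ z.2 ⟨u, hu, rfl⟩), ?_⟩⟩
          show (z : G) * ((z : G)⁻¹ * u * (z : G)) * (z : G)⁻¹ = u
          group
        have hsR : (s : G) ∈ R := by
          refine hR ▸ ⟨hs, ⟨(z : G)⁻¹ * (s : G) * (z : G), ?_, ?_⟩⟩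
          · have h1 : t⁻¹ * (z⁻¹ * s * z) ∈ U₀ := by
              rw [← hker, MonoidHom.mem_ker, map_mul, map_inv, htw, map_mul, map_mul, map_inv, hsw]
              group
            have h2 : ((t⁻¹ * (z⁻¹ * s * z) : ↥N) : G) ∈ T := by rw [hU₀] at h1; exact hUT.le h1
            have h3 := T.mul_mem (show (t : G) ∈ T from ht) h2
            rw [Subgroup.coe_mul, Subgroup.coe_inv, mul_inv_cancel_left] at h3
            exact h3
          · show (z : G) * ((z : G)⁻¹ * (s : G) * (z : G)) * (z : G)⁻¹ = (s : G)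
            group
        have hlt : U < R := lt_of_le_of_ne hUR fun e => hw1 (by
          rw [← hsw, ← MonoidHom.mem_ker, hker, hU₀]
          exact e.ge hsR)
        refine hIH R _ hlt (hR ▸ inf_le_left.trans (hT ▸ inf_le_left)) ?_
        rw [hR]
        rintro _ ⟨v, ⟨-, ⟨t', ht', rfl⟩⟩, rfl⟩
        show (z : G)⁻¹ * ((z : G) * t' * (z : G)⁻¹) * (z : G)⁻¹⁻¹ ∈ (P : Subgroup G)
        rw [show (z : G)⁻¹ * ((z : G) * t' * (z : G)⁻¹) * (z : G)⁻¹⁻¹ = t' by group]
        exact (hT.le ht').1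
      intro z hz
      obtain ⟨v, hv, hvz⟩ := hgen (π ⟨z, hz⟩)
      have h1 : v⁻¹ * ⟨z, hz⟩ ∈ U₀ := by rw [← hker, MonoidHom.mem_ker, map_mul, map_inv, hvz, inv_mul_cancel]
      rw [hU₀] at h1
      have h2 := W.mul_mem hv (hWT (hUT.le h1))
      simpa using h2
    -- a strongly embedded subgroup: one new step
    have hpN : p ∣ Nat.card (↥N ⧸ U₀) := by
      obtain ⟨w, hw, hw1⟩ := (Subgroup.bot_or_exists_ne_one _).resolve_left hSbne
      have h1 := prime_dvd_card_of_mem Sb.2 hw (Subgroup.mem_top w) hw1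
      rwa [Subgroup.card_top] at h1
    obtain ⟨Xb, ⟨hXbn, hXbp⟩, hXbmin⟩ := Set.exists_min_image
      {K : Subgroup (↥N ⧸ U₀) | K.Normal ∧ p ∣ Nat.card K} (fun K => Nat.card K) (Set.toFinite _)
      ⟨⊤, inferInstance, by rwa [Subgroup.card_top]⟩
    haveI := hXbn
    have hsmall : ∀ K : Subgroup (↥N ⧸ U₀), K.Normal → p ∣ Nat.card K → Xb ≤ K := by
      intro K hK hKp
      haveI := hK
      have h1 := dvd_card_inf_of_not_chainConnected hcon Xb K hXbp hKp
      exact inf_eq_left.1 (eq_of_le_of_card_ge inf_le_left (hXbmin _ ⟨inferInstance, h1⟩))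
    obtain ⟨X, hX⟩ : ∃ X, X = (Xb.comap π).map N.subtype := ⟨_, rfl⟩
    have hXN : X ≤ N := hX ▸ map_subtype_le _
    have hXs : X.subgroupOf N = Xb.comap π := by
      rw [hX, subgroupOf, comap_map_eq_self_of_injective N.subtype_injective]
    have hUX : U ≤ X := by
      intro u hu
      rw [hX]
      refine ⟨⟨u, hUN hu⟩, ?_, rfl⟩
      show π ⟨u, hUN hu⟩ ∈ Xb
      rw [show π ⟨u, hUN hu⟩ = 1 by rw [← MonoidHom.mem_ker, hker, hU₀]; exact hu]
      exact one_mem _
    have hcardY : ∀ Y : Subgroup G, Y ≤ N → Nat.card ((Y.subgroupOf N).map π) = U.relIndex Y := by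
      intro Y hY
      rw [← relIndex_ker, hker, hU₀, relIndex_subgroupOf hY]
    have hXp : p ∣ U.relIndex X := by
      rw [← hcardY X hXN, hXs, map_comap_eq_self_of_surjective hπs]
      exact hXbp
    have hXn : N ≤ normalizer (X : Set G) := by
      rw [hX]
      exact CfsgLib.Techniques.map_subtype_pPrimeCore_normalizer_le N _
    have hstep : ∀ r, r ∈ (pResidual p ↥X).map X.subtype → r ∈ W := by
      intro r hr
      refine ⟨hXN (map_subtype_le _ hr), hsingle U r ?_⟩
      subst hR'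
      refine Or.inl ⟨hU, hfull, ?_, ?_, ?_, X, ⟨hUX, hN ▸ hXN, ?_, hXp, ?_⟩, hr⟩
      · -- centric
        intro z hz
        have hzN : z ∈ N := hN ▸ centralizer_le_normalizer _ hz.2
        obtain ⟨hOL, hUL, hcomm, hdisj, hsup⟩ := hdir
        have h1 : z ∈ (pPrimeCore p ↥(normalizer (U : Set G))).map (normalizer (U : Set G)).subtype ⊔ U :=
          hsup.symm ▸ hCL hz.2
        have hUO : U ≤ normalizer ((((pPrimeCore p ↥(normalizer (U : Set G))).map
            (normalizer (U : Set G)).subtype : Subgroup G)) : Set G) :=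
          le_normalizer.trans (CfsgLib.Techniques.map_subtype_pPrimeCore_normalizer_le _ _)
        rw [← SetLike.mem_coe, coe_mul_of_right_le_normalizer_left _ _ hUO] at h1
        obtain ⟨o, ho, u, hu, rfl⟩ := Set.mem_mul.1 h1
        have ho' : o ∈ (P : Subgroup G) := by
          have := (P : Subgroup G).mul_mem hz.1 ((P : Subgroup G).inv_mem (hU hu))
          rwa [mul_inv_cancel_right] at this
        have ho1 : o = 1 := by
          obtain ⟨j, hj⟩ := IsPGroup.iff_card.1 P.2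
          refine Subgroup.disjoint_def.1 (disjoint_of_coprime_natCard ?_) ho' ho
          rw [hj, Subgroup.card_map_of_injective (normalizer (U : Set G)).subtype_injective]
          exact ((CfsgLib.Core.coprime_card_pPrimeCore p _).symm).pow_left j
        rw [ho1, one_mul]
        exact hu
      · obtain ⟨hOL, hUL, hcomm, hdisj, hsup⟩ := hdir
        refine le_antisymm ?_ (sup_le hUL hCL)
        rw [← hsup]
        exact sup_le (le_sup_of_le_right fun o ho => mem_centralizer_iff.2 fun u hu => (hcomm o ho u hu).symm)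
          le_sup_left
      · intro hc
        apply hcon
        subst hN hU₀
        exact hc
      · subst hN
        rw [hXs]
        exact Normal.comap inferInstance π
      · intro Y hY1 hY2 hY3 hY4
        subst hN
        have h1 := hsmall ((Y.subgroupOf (normalizer (U : Set G))).map π) (hY3.map π hπs) (by rw [hcardY Y hY2]; exact hY4)
        intro z hz
        have h2 : (⟨z, hXN hz⟩ : ↥(normalizer (U : Set G))) ∈ Xb.comap π :=
          hXs ▸ (show (⟨z, hXN hz⟩ : ↥(normalizer (U : Set G))) ∈ X.subgroupOf _ from hz)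
        obtain ⟨w, hw, hwz⟩ := h1 h2
        have h3 : w⁻¹ * ⟨z, hXN hz⟩ ∈ U₀ := by rw [← hker, MonoidHom.mem_ker, map_mul, map_inv, hwz, inv_mul_cancel]
        rw [hU₀] at h3
        have h4 : (w : G)⁻¹ * z ∈ Y := hY1 h3
        have h5 := Y.mul_mem (show (w : G) ∈ Y from hw) h4
        rwa [mul_inv_cancel_left] at h5
    have hTX := hTs.inf_normal hXN hXn
    have hUTX : U < T ⊓ X := by
      refine lt_of_le_of_ne (le_inf hUT.le hUX) fun e => hTX.2.2 ?_
      rw [← e]
      exact hXp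
    intro z hz
    obtain ⟨k, hk, n, hnN, hnR, rfl⟩ := CfsgLib.Techniques.exists_mul_normalizer hTX hz hXn hXN
    refine W.mul_mem ?_ ⟨hnN, hIH _ n hUTX (inf_le_left.trans (hT ▸ inf_le_left)) ?_⟩
    · let Q : Sylow p ↥X := (hTX.2.1.comap_subtype (K := X)).toSylow hTX.2.2
      obtain ⟨q, hq, r, hr, he⟩ := CfsgLib.Transfer.exists_mul_mem_pResidual Q ⟨k, hk⟩
      have h1 := W.mul_mem (hWT (show (q : G) ∈ T from hq.1)) (hstep (r : G) ⟨r, hr, rfl⟩)
      rwa [show (q : G) * (r : G) = k from (congrArg Subtype.val he).symm] at h1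
    · rw [CfsgLib.Techniques.map_conj_of_mem_normalizer (inv_mem hnR)]
      exact inf_le_left.trans (hT ▸ inf_le_left))
  have hcl := main (Subgroup.closure A) ((Subgroup.closure_le _).2 hA) g (by
    rw [Subgroup.map_le_iff_le_comap, Subgroup.closure_le]
    intro a ha
    simpa [MulAut.conj_apply] using hAg ⟨a, ha, rfl⟩)
  subst hΦ hR'
  obtain ⟨c, hc, hp⟩ := hcl
  obtain ⟨g', y, hg', hy, he⟩ := relPath_collect (hp.mono A Subgroup.subset_closure)
  refine ⟨c, g', y, mem_centralizer_iff.2 fun a ha => mem_centralizer_iff.1 hc a (Subgroup.subset_closure ha),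
    hy, hg', ?_⟩
  rw [mul_assoc, ← he, mul_inv_cancel_left]

end CfsgLib.LocalEvenB
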