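import Mathlib.GroupTheory.Index
import Mathlib.GroupTheory.Sylow
import Mathlib.GroupTheory.Subgroup.Centralizer

/-!
Elementary lemmas shared by the LocalEvenB proofs.
-/

set_option autoImplicit false

namespace CfsgLib.LocalEvenB

variable {G : Type*} [Group G]

/-- `|H| |K| ≤ |⟨H, K⟩| |H ∩ K|`. -/
theorem card_mul_card_le_sup_inf [Finite G] (H K : Subgroup G) :
    Nat.card H * Nat.card K ≤ Nat.card ↥(H ⊔ K) * Nat.card ↥(H ⊓ K) := by
  have h1 : Nat.card ↥(H ⊓ K) * K.relIndex H = Nat.card H := by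
    rw [← Subgroup.inf_relIndex_left, ← Subgroup.relIndex_bot_left (H ⊓ K),
      Subgroup.relIndex_mul_relIndex ⊥ (H ⊓ K) H bot_le inf_le_left, Subgroup.relIndex_bot_left]
  have h2 : Nat.card K * K.relIndex (H ⊔ K) = Nat.card ↥(H ⊔ K) := by
    rw [← Subgroup.relIndex_bot_left K,
      Subgroup.relIndex_mul_relIndex ⊥ K (H ⊔ K) bot_le le_sup_right, Subgroup.relIndex_bot_left]
  have h3 : K.relIndex H ≤ K.relIndex (H ⊔ K) :=
    Subgroup.relIndex_le_of_le_right le_sup_left Subgroup.index_ne_zero_of_finite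
  calc Nat.card H * Nat.card K = Nat.card ↥(H ⊓ K) * K.relIndex H * Nat.card K := by rw [h1]
    _ ≤ Nat.card ↥(H ⊓ K) * K.relIndex (H ⊔ K) * Nat.card K :=
        Nat.mul_le_mul_right _ (Nat.mul_le_mul_left _ h3)
    _ = Nat.card ↥(H ⊓ K) * (Nat.card K * K.relIndex (H ⊔ K)) := by ring
    _ = Nat.card ↥(H ⊔ K) * Nat.card ↥(H ⊓ K) := by rw [h2, mul_comm]

theorem centralizer_sup (H K : Subgroup G) :
    Subgroup.centralizer ((H ⊔ K : Subgroup G) : Set G) =
      Subgroup.centralizer (H : Set G) ⊓ Subgroup.centralizer (K : Set G) := by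
  refine le_antisymm (le_inf (Subgroup.centralizer_le (SetLike.coe_subset_coe.2 le_sup_left))
    (Subgroup.centralizer_le (SetLike.coe_subset_coe.2 le_sup_right))) ?_
  intro x hx
  have hle : H ⊔ K ≤ Subgroup.centralizer ({x} : Set G) :=
    sup_le (fun h hh => Subgroup.mem_centralizer_singleton_iff.2 ((Subgroup.mem_centralizer_iff.1 hx.1 h hh)))
      (fun h hh => Subgroup.mem_centralizer_singleton_iff.2 ((Subgroup.mem_centralizer_iff.1 hx.2 h hh)))
  exact Subgroup.mem_centralizer_iff.2 fun h hh => Subgroup.mem_centralizer_singleton_iff.1 (hle hh)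

theorem map_centralizer_equiv {H : Type*} [Group H] (e : G ≃* H) (S : Subgroup G) :
    (Subgroup.centralizer (S : Set G)).map e.toMonoidHom =
      Subgroup.centralizer ((S.map e.toMonoidHom : Subgroup H) : Set H) := by
  ext x
  constructor
  · rintro ⟨y, hy, rfl⟩
    refine Subgroup.mem_centralizer_iff.2 ?_
    rintro _ ⟨s, hs, rfl⟩
    rw [← map_mul, ← map_mul, Subgroup.mem_centralizer_iff.1 hy s hs]
  · intro hx
    refine ⟨e.symm x, Subgroup.mem_centralizer_iff.2 fun s hs => ?_, by simp⟩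
    apply e.injective
    simpa using Subgroup.mem_centralizer_iff.1 hx (e s) ⟨s, hs, rfl⟩

theorem mem_map_conj {X : Subgroup G} {g x : G} :
    x ∈ X.map (MulAut.conj g).toMonoidHom ↔ g⁻¹ * x * g ∈ X := by
  constructor
  · rintro ⟨y, hy, rfl⟩
    simpa [mul_assoc] using hy
  · intro h
    exact ⟨g⁻¹ * x * g, h, by simp [mul_assoc]⟩

theorem map_conj_map_conj (X : Subgroup G) (g h : G) :
    (X.map (MulAut.conj h).toMonoidHom).map (MulAut.conj g).toMonoidHom =
      X.map (MulAut.conj (g * h)).toMonoidHom := by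
  ext x
  simp [mem_map_conj, mul_assoc]

theorem map_conj_eq_self_iff_mem_normalizer {X : Subgroup G} [Finite G] {g : G} :
    X.map (MulAut.conj g).toMonoidHom = X ↔ g ∈ Subgroup.normalizer (X : Set G) := by
  rw [Subgroup.mem_normalizer_iff]
  constructor
  · intro h x
    conv_rhs => rw [← h]
    simp [mem_map_conj, mul_assoc]
  · intro h
    ext x
    rw [mem_map_conj, h]
    simp [mul_assoc]

/-- For a finite group, mapping a subgroup into itself suffices for normalizing it. -/
theorem mem_normalizer_of_forall [Finite G] {X : Subgroup G} {g : G}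
    (h : ∀ x ∈ X, g * x * g⁻¹ ∈ X) : g ∈ Subgroup.normalizer (X : Set G) := by
  rw [← map_conj_eq_self_iff_mem_normalizer]
  refine Subgroup.eq_of_le_of_card_ge ?_ ?_
  · rintro _ ⟨y, hy, rfl⟩
    exact h y hy
  · exact (Nat.card_congr (X.equivMapOfInjective _ (MulAut.conj g).injective).toEquiv).le

end CfsgLib.LocalEvenB
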