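import Cfsg.Prelude.Def_Transfer
import Cfsg.Agent.Lib.PLocal.Thompson
import Cfsg.Agent.Lib.LocalEvenB.Basic

/-!
Small facts about `thompsonSubgroupOf`.
-/

set_option autoImplicit false

open Cfsg

namespace CfsgLib.LocalEvenB

variable {G : Type*} [Group G] {p : ℕ}

theorem thompsonSubgroupOf_le (T : Subgroup G) : thompsonSubgroupOf p T ≤ T := Subgroup.map_subtype_le _

theorem normalizer_le_normalizer_thompsonSubgroupOf [Finite G] (T : Subgroup G) :
    Subgroup.normalizer (T : Set G) ≤ Subgroup.normalizer (thompsonSubgroupOf p T : Set G) := by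
  intro g hg
  refine mem_normalizer_of_forall ?_
  rintro _ ⟨y, hy, rfl⟩
  let e : T ≃* T :=
    { toFun := fun m => ⟨g * m * g⁻¹, (Subgroup.mem_normalizer_iff.1 hg m).1 m.2⟩
      invFun := fun m => ⟨g⁻¹ * m * g, by
        simpa using (Subgroup.mem_normalizer_iff.1 (Subgroup.inv_mem _ hg) m).1 m.2⟩
      left_inv := fun m => Subtype.ext (by simp [mul_assoc])
      right_inv := fun m => Subtype.ext (by simp [mul_assoc])
      map_mul' := fun a b => Subtype.ext (by simp [mul_assoc]) }
  refine ⟨e y, ?_, rfl⟩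
  rw [← CfsgLib.PLocal.map_equiv_thompson (p := p) e]
  exact ⟨y, hy, rfl⟩

end CfsgLib.LocalEvenB
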