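import Cfsg.Prelude.Def_Amalgam
import Cfsg.Prelude.Def_Local
import Cfsg.Agent.Lib.Core.Cores
import Cfsg.Agent.Lib.Transfer.PResidual
import Cfsg.Agent.Lib.Components.FStar
import Cfsg.Agent.Lib.LocalEvenB.Basic

/-!
Groups of characteristic `p` (`C(O_p) ≤ O_p`) inside an ambient group, and Thompson's A × B lemma.
-/

set_option autoImplicit false

open Cfsg
open scoped commutatorElement

namespace CfsgLib.LocalEvenB

variable {G : Type*} [Group G] {p : ℕ}

/-- Thompson's A × B lemma for an element of order prime to `p`. -/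
theorem mem_centralizer_of_axb [Finite G] [hp : Fact p.Prime] {R B : Subgroup G} {x : G}
    (hxo : (orderOf x).Coprime p) (hR : IsPGroup p R) (hB : IsPGroup p B)
    (hBR : B ≤ Subgroup.normalizer (R : Set G)) (hxR : x ∈ Subgroup.normalizer (R : Set G))
    (hxB : x ∈ Subgroup.centralizer (B : Set G))
    (hfix : x ∈ Subgroup.centralizer ((R ⊓ Subgroup.centralizer (B : Set G) : Subgroup G) : Set G)) :
    x ∈ Subgroup.centralizer (R : Set G) := by
  set P := R ⊔ B with hP
  have hPp : IsPGroup p P := IsPGroup.to_sup_of_normal_left' hR hB hBR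
  haveI := hPp.isNilpotent
  obtain ⟨n, hn⟩ := Subgroup.nilpotent_iff_lowerCentralSeries.1 (inferInstance : Group.IsNilpotent P)
  let γ : ℕ → Subgroup G := fun i => ((⊤ : Subgroup P).lowerCentralSeries i).map P.subtype
  have hγn : ∀ i, ∀ r ∈ P, ∀ t ∈ γ i, r * t * r⁻¹ ∈ γ i := by
    rintro i r hr _ ⟨t, ht, rfl⟩
    exact ⟨⟨r, hr⟩ * t * ⟨r, hr⟩⁻¹, Subgroup.Normal.conj_mem inferInstance _ ht _, by simp⟩
  have hγc : ∀ i, ∀ s ∈ γ i, ∀ b ∈ P, ⁅b, s⁆ ∈ γ (i + 1) := by
    rintro i _ ⟨s, hs, rfl⟩ b hb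
    refine ⟨⁅(⟨b, hb⟩ : P), s⁆, ?_, by simp [commutatorElement_def]⟩
    rw [← commutatorElement_inv]
    exact Subgroup.inv_mem _ (Subgroup.commutator_mem_commutator hs (Subgroup.mem_top _))
  have key : ∀ i ≤ n, ∀ s ∈ R ⊓ γ (n - i), x * s * x⁻¹ = s := by
    intro i
    induction i with
    | zero =>
      intro _ s hs
      have : s ∈ γ n := hs.2
      simp only [γ, hn, Subgroup.map_bot, Subgroup.mem_bot] at this
      simp [this]
    | succ i ih =>
      intro hi s hs
      obtain ⟨hsR, hsγ⟩ := Subgroup.mem_inf.1 hs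
      set j := n - (i + 1) with hj
      have hj1 : j + 1 = n - i := by omega
      have ihT : ∀ t ∈ R, t ∈ γ (j + 1) → x * t * x⁻¹ = t := fun t h1 h2 =>
        ih (by omega) t (Subgroup.mem_inf.2 ⟨h1, hj1 ▸ h2⟩)
      set z := x * s * x⁻¹ * s⁻¹ with hz
      have hzR : z ∈ R := R.mul_mem ((Subgroup.mem_normalizer_iff.1 hxR s).1 hsR) (R.inv_mem hsR)
      have hzT : ∀ t ∈ R, t ∈ γ (j + 1) → z * t * z⁻¹ = t := by
        intro t h1 h2
        have h3 := ihT (s⁻¹ * t * s⁻¹⁻¹) (R.mul_mem (R.mul_mem (R.inv_mem hsR) h1) (R.inv_mem (R.inv_mem hsR)))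
          (hγn _ _ (Subgroup.mem_sup_left (R.inv_mem hsR)) _ h2)
        have h4 := ihT t h1 h2
        calc z * t * z⁻¹ = x * s * (x⁻¹ * (s⁻¹ * t * s⁻¹⁻¹) * x) * s⁻¹ * x⁻¹ := by rw [hz]; group
          _ = x * s * (x⁻¹ * (x * (s⁻¹ * t * s⁻¹⁻¹) * x⁻¹) * x) * s⁻¹ * x⁻¹ := by rw [h3]
          _ = x * t * x⁻¹ := by group
          _ = t := h4
      have hzB : z ∈ Subgroup.centralizer (B : Set G) := by
        refine Subgroup.mem_centralizer_iff.2 fun b hb => ?_
        have hbs : b * s * b⁻¹ ∈ R := (Subgroup.mem_normalizer_iff.1 (hBR hb) s).1 hsR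
        have hcR : b * s * b⁻¹ * s⁻¹ ∈ R := R.mul_mem hbs (R.inv_mem hsR)
        have hcγ : b * s * b⁻¹ * s⁻¹ ∈ γ (j + 1) := hγc j s hsγ b (Subgroup.mem_sup_right hb)
        have hxb : x * b = b * x := (Subgroup.mem_centralizer_iff.1 hxB b hb).symm
        have hxb' : x⁻¹ * b = b * x⁻¹ := by
          calc x⁻¹ * b = x⁻¹ * (b * x) * x⁻¹ := by group
            _ = x⁻¹ * (x * b) * x⁻¹ := by rw [hxb]
            _ = b * x⁻¹ := by group
        have h3 := ihT _ hcR hcγ
        have h4 := hzT _ hcR hcγ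
        have key : b * z * b⁻¹ = z := by
          calc b * z * b⁻¹ = (b * x) * s * (x⁻¹ * b⁻¹) * (b * s⁻¹ * b⁻¹) := by rw [hz]; group
            _ = (x * b) * s * (x⁻¹ * b⁻¹) * (b * s⁻¹ * b⁻¹) := by rw [hxb]
            _ = x * ((b * s * b⁻¹ * s⁻¹) * s) * (b * x⁻¹) * b⁻¹ * (b * s⁻¹ * b⁻¹) := by group
            _ = x * ((b * s * b⁻¹ * s⁻¹) * s) * (x⁻¹ * b) * b⁻¹ * (b * s⁻¹ * b⁻¹) := by rw [hxb']
            _ = (x * (b * s * b⁻¹ * s⁻¹) * x⁻¹) * z * (b * s * b⁻¹ * s⁻¹)⁻¹ := by rw [hz]; group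
            _ = (z * (b * s * b⁻¹ * s⁻¹) * z⁻¹) * z * (b * s * b⁻¹ * s⁻¹)⁻¹ := by rw [h3, h4]
            _ = z := by group
        exact mul_inv_eq_iff_eq_mul.1 key
      have hxz : x * z * x⁻¹ = z := by
        rw [← Subgroup.mem_centralizer_iff.1 hfix z (Subgroup.mem_inf.2 ⟨hzR, hzB⟩)]
        group
      have hpow : ∀ k : ℕ, x ^ k * s * (x ^ k)⁻¹ = z ^ k * s := by
        intro k
        induction k with
        | zero => simp
        | succ k ihk =>
          calc x ^ (k + 1) * s * (x ^ (k + 1))⁻¹ = x * (x ^ k * s * (x ^ k)⁻¹) * x⁻¹ := by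
                rw [pow_succ']; group
            _ = (x * z ^ k * x⁻¹) * (z * s) := by rw [ihk, hz]; group
            _ = z ^ (k + 1) * s := by
                rw [← conj_pow, hxz, ← mul_assoc, pow_succ]
      have h5 := hpow (orderOf x)
      rw [pow_orderOf_eq_one, one_mul, inv_one, mul_one, eq_comm, mul_eq_right] at h5
      obtain ⟨m, hm⟩ := hR ⟨z, hzR⟩
      have hz1 : z = 1 := orderOf_eq_one_iff.1 (Nat.eq_one_of_dvd_coprimes (hxo.pow_right m)
        (orderOf_dvd_of_pow_eq_one h5) (orderOf_dvd_of_pow_eq_one (congrArg Subtype.val hm)))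
      calc x * s * x⁻¹ = z * s := by rw [hz]; group
        _ = s := by rw [hz1, one_mul]
  refine Subgroup.mem_centralizer_iff.2 fun s hs => ?_
  have h := key n le_rfl s (Subgroup.mem_inf.2 ⟨hs, ⟨⟨s, Subgroup.mem_sup_left hs⟩, by simp, rfl⟩⟩)
  exact (mul_inv_eq_iff_eq_mul.1 h).symm

theorem pCoreOf_le (L : Subgroup G) : pCoreOf p L ≤ L := Subgroup.map_subtype_le _

theorem isPGroup_pCoreOf (L : Subgroup G) : IsPGroup p (pCoreOf p L) :=
  (CfsgLib.Core.isPGroup_pCore p L).map L.subtype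

theorem le_normalizer_pCoreOf (L : Subgroup G) : L ≤ Subgroup.normalizer (pCoreOf p L : Set G) := by
  intro l hl
  rw [Subgroup.mem_normalizer_iff]
  intro x
  constructor
  · rintro ⟨y, hy, rfl⟩
    exact ⟨⟨l, hl⟩ * y * ⟨l, hl⟩⁻¹, Subgroup.Normal.conj_mem inferInstance _ hy _, by simp⟩
  · rintro ⟨y, hy, hxy⟩
    refine ⟨(⟨l, hl⟩ : L)⁻¹ * y * ⟨l, hl⟩⁻¹⁻¹, Subgroup.Normal.conj_mem inferInstance _ hy _, ?_⟩
    simp only [Subgroup.coe_subtype] at hxy ⊢
    simp [hxy, mul_assoc]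

theorem le_pCoreOf {L A : Subgroup G} (hA : A ≤ L) (hAp : IsPGroup p A)
    (hn : L ≤ Subgroup.normalizer (A : Set G)) : A ≤ pCoreOf p L := by
  haveI : (A.subgroupOf L).Normal := (Subgroup.normal_subgroupOf_iff_le_normalizer hA).2 hn
  have h := CfsgLib.Core.le_pCore (p := p) (N := A.subgroupOf L) (hAp.comap_of_injective _ L.subtype_injective)
  calc A = (A.subgroupOf L).map L.subtype := (Subgroup.map_subgroupOf_eq_of_le hA).symm
    _ ≤ pCoreOf p L := Subgroup.map_mono h

theorem pCoreOf_top : pCoreOf p (⊤ : Subgroup G) = pCore p G := by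
  exact CfsgLib.Core.map_equiv_pCore (p := p) (Subgroup.topEquiv (G := G))

/-- `L` has characteristic `p`. -/
def HasCharP (p : ℕ) (L : Subgroup G) : Prop :=
  L ⊓ Subgroup.centralizer (pCoreOf p L : Set G) ≤ pCoreOf p L

theorem hasCharP_iff (L : Subgroup G) :
    HasCharP p L ↔ Subgroup.centralizer (pCore p ↥L : Set ↥L) ≤ pCore p ↥L := by
  constructor
  · intro h x hx
    have : (x : G) ∈ pCoreOf p L := by
      refine h (Subgroup.mem_inf.2 ⟨x.2, Subgroup.mem_centralizer_iff.2 ?_⟩)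
      rintro _ ⟨y, hy, rfl⟩
      exact congrArg Subtype.val (Subgroup.mem_centralizer_iff.1 hx y hy)
    obtain ⟨y, hy, hyx⟩ := this
    rwa [← Subtype.ext hyx]
  · intro h x hx
    obtain ⟨hxL, hxC⟩ := Subgroup.mem_inf.1 hx
    exact ⟨⟨x, hxL⟩, h (Subgroup.mem_centralizer_iff.2 fun y hy =>
      Subtype.ext (Subgroup.mem_centralizer_iff.1 hxC y ⟨y, hy, rfl⟩)), rfl⟩

theorem hasCharP_top_iff :
    HasCharP p (⊤ : Subgroup G) ↔ Subgroup.centralizer (pCore p G : Set G) ≤ pCore p G := by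
  rw [HasCharP, pCoreOf_top, top_inf_eq]

theorem HasCharP.eq_one [Finite G] [Fact p.Prime] {L : Subgroup G} (h : HasCharP p L) {x : G}
    (hxL : x ∈ L) (hxo : (orderOf x).Coprime p) (hx : x ∈ Subgroup.centralizer (pCoreOf p L : Set G)) :
    x = 1 := by
  obtain ⟨k, hk⟩ := isPGroup_pCoreOf (p := p) L ⟨x, h (Subgroup.mem_inf.2 ⟨hxL, hx⟩)⟩
  exact orderOf_eq_one_iff.1 (Nat.eq_one_of_dvd_coprimes (hxo.pow_right k) dvd_rfl
    (orderOf_dvd_of_pow_eq_one (congrArg Subtype.val hk)))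

theorem hasCharP_of_eq_one [Finite G] [hp : Fact p.Prime] {L : Subgroup G}
    (h : ∀ x ∈ L, x ∈ Subgroup.centralizer (pCoreOf p L : Set G) → (orderOf x).Coprime p → x = 1) :
    HasCharP p L := by
  refine le_pCoreOf inf_le_left (fun x => ?_) ?_
  · obtain ⟨k, hk⟩ := CfsgLib.Transfer.exists_pow_prime_pow_coprime (p := p) (x : G)
    refine ⟨k, Subtype.ext ?_⟩
    exact h _ (L.pow_mem x.2.1 _) (Subgroup.pow_mem _ x.2.2 _) hk
  · intro l hl
    refine mem_normalizer_of_forall fun x hx => ?_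
    obtain ⟨hxL, hxC⟩ := Subgroup.mem_inf.1 hx
    refine Subgroup.mem_inf.2 ⟨L.mul_mem (L.mul_mem hl hxL) (L.inv_mem hl), Subgroup.mem_centralizer_iff.2 fun y hy => ?_⟩
    have h1 : l⁻¹ * y * l ∈ pCoreOf p L := by
      simpa using (Subgroup.mem_normalizer_iff.1 (le_normalizer_pCoreOf L (L.inv_mem hl)) y).1 hy
    have h2 := Subgroup.mem_centralizer_iff.1 hxC _ h1
    calc y * (l * x * l⁻¹) = l * ((l⁻¹ * y * l) * x) * l⁻¹ := by group
      _ = l * (x * (l⁻¹ * y * l)) * l⁻¹ := by rw [h2]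
      _ = l * x * l⁻¹ * y := by group

theorem HasCharP.of_normalized [Finite G] [hp : Fact p.Prime] {M L : Subgroup G} (hM : HasCharP p M)
    (hLM : L ≤ M) (hn : pCoreOf p M ≤ Subgroup.normalizer (L : Set G)) : HasCharP p L := by
  refine hasCharP_of_eq_one fun x hxL hxC hxo => hM.eq_one (hLM hxL) hxo ?_
  set R := pCoreOf p M with hRdef
  have hRL : R ⊓ L ≤ pCoreOf p L := by
    refine le_pCoreOf inf_le_right ((isPGroup_pCoreOf M).to_le inf_le_left) fun l hl => ?_
    refine mem_normalizer_of_forall fun y hy => ?_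
    obtain ⟨hyR, hyL⟩ := Subgroup.mem_inf.1 hy
    exact Subgroup.mem_inf.2 ⟨(Subgroup.mem_normalizer_iff.1 (le_normalizer_pCoreOf M (hLM hl)) y).1 hyR,
      L.mul_mem (L.mul_mem hl hyL) (L.inv_mem hl)⟩
  refine mem_centralizer_of_axb (B := ⊥) hxo (isPGroup_pCoreOf M) IsPGroup.of_bot bot_le
    (le_normalizer_pCoreOf M (hLM hxL)) (Subgroup.mem_centralizer_iff.2 fun b hb => by
      rw [Subgroup.mem_bot.1 hb, one_mul, mul_one]) ?_
  refine Subgroup.mem_centralizer_iff.2 fun q hq => ?_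
  have hqR : q ∈ R := (Subgroup.mem_inf.1 hq).1
  set z := q⁻¹ * (x * q * x⁻¹) with hz
  have hzR : z ∈ R := R.mul_mem (R.inv_mem hqR)
    ((Subgroup.mem_normalizer_iff.1 (le_normalizer_pCoreOf M (hLM hxL)) q).1 hqR)
  have hzL : z ∈ L := by
    have := L.mul_mem ((Subgroup.mem_normalizer_iff.1 (hn (R.inv_mem hqR)) x).1 hxL) (L.inv_mem hxL)
    simpa [hz, mul_assoc] using this
  have hxz : x * z = z * x :=
    (Subgroup.mem_centralizer_iff.1 hxC z (hRL (Subgroup.mem_inf.2 ⟨hzR, hzL⟩))).symm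
  have hpow : ∀ k : ℕ, x ^ k * q * (x ^ k)⁻¹ = q * z ^ k := by
    intro k
    induction k with
    | zero => simp
    | succ k ih =>
      calc x ^ (k + 1) * q * (x ^ (k + 1))⁻¹ = x * (x ^ k * q * (x ^ k)⁻¹) * x⁻¹ := by
            rw [pow_succ']; group
        _ = (x * q * x⁻¹) * (x * z ^ k * x⁻¹) := by rw [ih]; group
        _ = q * z ^ (k + 1) := by
            rw [(Commute.pow_right hxz k).eq, mul_inv_cancel_right, pow_succ', ← mul_assoc q, show q * z = x * q * x⁻¹ by rw [hz]; group]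
  have h5 := hpow (orderOf x)
  rw [pow_orderOf_eq_one, one_mul, inv_one, mul_one, eq_comm, mul_eq_left] at h5
  obtain ⟨m, hm⟩ := isPGroup_pCoreOf (p := p) M ⟨z, hzR⟩
  have hz1 : z = 1 := orderOf_eq_one_iff.1 (Nat.eq_one_of_dvd_coprimes (hxo.pow_right m)
    (orderOf_dvd_of_pow_eq_one h5) (orderOf_dvd_of_pow_eq_one (congrArg Subtype.val hm)))
  rw [hz, inv_mul_eq_one] at hz1
  calc q * x = (x * q * x⁻¹) * x := by rw [← hz1]
    _ = x * q := by group

theorem HasCharP.of_subnormal [Finite G] [Fact p.Prime] (hG : HasCharP p (⊤ : Subgroup G))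
    {L : Subgroup G} (hL : L.IsSubnormal) : HasCharP p L := by
  induction hL with
  | top => exact hG
  | step H K hle _ hn ih =>
    exact ih.of_normalized hle ((pCoreOf_le K).trans ((Subgroup.normal_subgroupOf_iff_le_normalizer hle).1 hn))

/-- `p`-local subgroups of a group of characteristic `p` have characteristic `p`. -/
theorem HasCharP.inf_normalizer [Finite G] [Fact p.Prime] {M B : Subgroup G} (hM : HasCharP p M)
    (hB : IsPGroup p B) (hBM : B ≤ M) : HasCharP p (M ⊓ Subgroup.normalizer (B : Set G)) := by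
  refine hasCharP_of_eq_one fun x hxL hxC hxo => hM.eq_one hxL.1 hxo ?_
  have hBO : B ≤ pCoreOf p (M ⊓ Subgroup.normalizer (B : Set G)) :=
    le_pCoreOf (le_inf hBM Subgroup.le_normalizer) hB inf_le_right
  have hRO : pCoreOf p M ⊓ Subgroup.centralizer (B : Set G) ≤
      pCoreOf p (M ⊓ Subgroup.normalizer (B : Set G)) := by
    refine le_pCoreOf (inf_le_inf (pCoreOf_le M) (Subgroup.centralizer_le_normalizer _))
      ((isPGroup_pCoreOf M).to_le inf_le_left) fun l hl => mem_normalizer_of_forall fun y hy => ?_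
    obtain ⟨hyR, hyC⟩ := Subgroup.mem_inf.1 hy
    refine Subgroup.mem_inf.2 ⟨(Subgroup.mem_normalizer_iff.1 (le_normalizer_pCoreOf M hl.1) y).1 hyR,
      Subgroup.mem_centralizer_iff.2 fun b hb => ?_⟩
    have h1 : l⁻¹ * b * l ∈ B := by
      simpa using (Subgroup.mem_normalizer_iff.1 (Subgroup.inv_mem _ hl.2) b).1 hb
    have h2 := Subgroup.mem_centralizer_iff.1 hyC _ h1
    calc b * (l * y * l⁻¹) = l * ((l⁻¹ * b * l) * y) * l⁻¹ := by group
      _ = l * (y * (l⁻¹ * b * l)) * l⁻¹ := by rw [h2]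
      _ = l * y * l⁻¹ * b := by group
  exact mem_centralizer_of_axb hxo (isPGroup_pCoreOf M) hB (hBM.trans (le_normalizer_pCoreOf M))
    (le_normalizer_pCoreOf M hxL.1) (Subgroup.centralizer_le (SetLike.coe_subset_coe.2 hBO) hxC)
    (Subgroup.centralizer_le (SetLike.coe_subset_coe.2 hRO) hxC)

/-- A `T`-invariant subgroup of the Sylow subgroup `T` that is self-centralizing in `T` is self-centralizing. -/
theorem centralizer_le_of_sylow [Finite G] [Fact p.Prime] (hG : HasCharP p (⊤ : Subgroup G)) (T : Sylow p G)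
    {Q : Subgroup G} (hQT : Q ≤ (T : Subgroup G)) (hQn : (T : Subgroup G) ≤ Subgroup.normalizer (Q : Set G))
    (hC : (T : Subgroup G) ⊓ Subgroup.centralizer (Q : Set G) ≤ Q) : Subgroup.centralizer (Q : Set G) ≤ Q := by
  set R := pCoreOf p (⊤ : Subgroup G) with hR
  have hRT : R ≤ (T : Subgroup G) := by rw [hR, pCoreOf_top]; exact CfsgLib.Core.pCore_le_sylow T
  have hRn : (⊤ : Subgroup G) ≤ Subgroup.normalizer (R : Set G) := le_normalizer_pCoreOf _
  have hp' : IsPGroup p (Subgroup.centralizer (Q : Set G)) := fun x => by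
    obtain ⟨k, hk⟩ := CfsgLib.Transfer.exists_pow_prime_pow_coprime (p := p) (x : G)
    refine ⟨k, Subtype.ext ?_⟩
    refine hG.eq_one (Subgroup.mem_top _) hk (mem_centralizer_of_axb (B := Q) hk (isPGroup_pCoreOf _)
      (T.isPGroup'.to_le hQT) (le_top.trans hRn) (hRn (Subgroup.mem_top _)) (Subgroup.pow_mem _ x.2 _) ?_)
    refine Subgroup.mem_centralizer_iff.2 fun y hy => ?_
    exact Subgroup.mem_centralizer_iff.1 (Subgroup.pow_mem _ x.2 (p ^ k)) y
      (hC (Subgroup.mem_inf.2 ⟨hRT hy.1, hy.2⟩))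
  have hTn : (T : Subgroup G) ≤ Subgroup.normalizer (Subgroup.centralizer (Q : Set G) : Set G) := by
    intro t ht
    rw [← map_conj_eq_self_iff_mem_normalizer, map_centralizer_equiv,
      map_conj_eq_self_iff_mem_normalizer.2 (hQn ht)]
  have hle : Subgroup.centralizer (Q : Set G) ≤ (T : Subgroup G) :=
    le_sup_left.trans (T.is_maximal' (IsPGroup.to_sup_of_normal_left' hp' T.isPGroup' hTn) le_sup_right).le
  exact fun x hx => hC (Subgroup.mem_inf.2 ⟨hle hx, hx⟩)

/-- Every subgroup containing such a `Q` has characteristic `p`. -/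
theorem hasCharP_of_overgroup [Finite G] [Fact p.Prime] (hG : HasCharP p (⊤ : Subgroup G)) (T : Sylow p G)
    {Q : Subgroup G} (hQT : Q ≤ (T : Subgroup G)) (hQn : (T : Subgroup G) ≤ Subgroup.normalizer (Q : Set G))
    (hC : (T : Subgroup G) ⊓ Subgroup.centralizer (Q : Set G) ≤ Q) {L : Subgroup G} (hQL : Q ≤ L) :
    HasCharP p L := by
  set R := pCoreOf p (⊤ : Subgroup G) with hR
  have hRT : R ≤ (T : Subgroup G) := by rw [hR, pCoreOf_top]; exact CfsgLib.Core.pCore_le_sylow T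
  have hRn : (⊤ : Subgroup G) ≤ Subgroup.normalizer (R : Set G) := le_normalizer_pCoreOf _
  have hCQ := centralizer_le_of_sylow hG T hQT hQn hC
  set M : Subgroup G := ⨆ l : L, Q.map (MulAut.conj (l : G)).toMonoidHom with hM
  have hQM : Q ≤ M := fun q hq => Subgroup.mem_iSup_of_mem (1 : L) (mem_map_conj.2 (by simpa using hq))
  have hML : M ≤ L := iSup_le fun l => by
    rintro _ ⟨q, hq, rfl⟩
    exact L.mul_mem (L.mul_mem l.2 (hQL hq)) (L.inv_mem l.2)
  have hLM : L ≤ Subgroup.normalizer (M : Set G) := fun g hg => by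
    rw [← map_conj_eq_self_iff_mem_normalizer, hM, Subgroup.map_iSup]
    simp only [map_conj_map_conj]
    exact (Equiv.mulLeft (⟨g, hg⟩ : L)).iSup_congr fun _ => rfl
  have hRM : R ≤ Subgroup.normalizer (M : Set G) := fun r hr => by
    rw [← map_conj_eq_self_iff_mem_normalizer, hM, Subgroup.map_iSup]
    refine iSup_congr fun l => ?_
    rw [map_conj_map_conj, show r * (l : G) = (l : G) * ((l : G)⁻¹ * r * l) by group, ← map_conj_map_conj,
      map_conj_eq_self_iff_mem_normalizer.2 (hQn (hRT ?_))]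
    simpa using (Subgroup.mem_normalizer_iff.1 (hRn (Subgroup.mem_top (l : G)⁻¹)) r).1 hr
  have hMc : HasCharP p M := hG.of_normalized le_top hRM
  refine hasCharP_of_eq_one fun x hxL hxC hxo => ?_
  have hOM : pCoreOf p M ≤ pCoreOf p L := by
    refine le_pCoreOf ((pCoreOf_le M).trans hML) (isPGroup_pCoreOf M) fun g hg => ?_
    refine mem_normalizer_of_forall ?_
    rintro _ ⟨y, hy, rfl⟩
    let e : M ≃* M :=
      { toFun := fun m => ⟨g * m * g⁻¹, (Subgroup.mem_normalizer_iff.1 (hLM hg) m).1 m.2⟩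
        invFun := fun m => ⟨g⁻¹ * m * g, by
          simpa using (Subgroup.mem_normalizer_iff.1 (Subgroup.inv_mem _ (hLM hg)) m).1 m.2⟩
        left_inv := fun m => Subtype.ext (by simp [mul_assoc])
        right_inv := fun m => Subtype.ext (by simp [mul_assoc])
        map_mul' := fun a b => Subtype.ext (by simp [mul_assoc]) }
    refine ⟨e y, ?_, rfl⟩
    rw [← CfsgLib.Core.map_equiv_pCore (p := p) e]
    exact ⟨y, hy, rfl⟩
  have hxQ : x ∈ Subgroup.centralizer (Q : Set G) := by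
    refine Subgroup.mem_centralizer_iff.2 fun q hq => ?_
    set z := q⁻¹ * (x * q * x⁻¹) with hz
    have hzM : z ∈ M := M.mul_mem (M.inv_mem (hQM hq))
      ((Subgroup.mem_normalizer_iff.1 (hLM hxL) q).1 (hQM hq))
    have hqL := hQL hq
    have hzC : z ∈ Subgroup.centralizer (pCoreOf p L : Set G) := by
      have h1 : q⁻¹ * x * q ∈ Subgroup.centralizer (pCoreOf p L : Set G) := by
        refine Subgroup.mem_centralizer_iff.2 fun y hy => ?_
        have h2 := Subgroup.mem_centralizer_iff.1 hxC _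
          ((Subgroup.mem_normalizer_iff.1 (le_normalizer_pCoreOf L hqL) y).1 hy)
        calc y * (q⁻¹ * x * q) = q⁻¹ * ((q * y * q⁻¹) * x) * q := by group
          _ = q⁻¹ * (x * (q * y * q⁻¹)) * q := by rw [h2]
          _ = q⁻¹ * x * q * y := by group
      have := Subgroup.mul_mem _ h1 (Subgroup.inv_mem _ hxC)
      simpa [hz, mul_assoc] using this
    have hzO : z ∈ pCoreOf p M :=
      hMc (Subgroup.mem_inf.2 ⟨hzM, Subgroup.centralizer_le (SetLike.coe_subset_coe.2 hOM) hzC⟩)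
    have hxz : x * z = z * x := (Subgroup.mem_centralizer_iff.1 hxC z (hOM hzO)).symm
    have hpow : ∀ k : ℕ, x ^ k * q * (x ^ k)⁻¹ = q * z ^ k := by
      intro k
      induction k with
      | zero => simp
      | succ k ih =>
        calc x ^ (k + 1) * q * (x ^ (k + 1))⁻¹ = x * (x ^ k * q * (x ^ k)⁻¹) * x⁻¹ := by
              rw [pow_succ']; group
          _ = (x * q * x⁻¹) * (x * z ^ k * x⁻¹) := by rw [ih]; group
          _ = q * z ^ (k + 1) := by
              rw [(Commute.pow_right hxz k).eq, mul_inv_cancel_right, pow_succ', ← mul_assoc q, show q * z = x * q * x⁻¹ by rw [hz]; group]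
    have h5 := hpow (orderOf x)
    rw [pow_orderOf_eq_one, one_mul, inv_one, mul_one, eq_comm, mul_eq_left] at h5
    obtain ⟨m, hm⟩ := isPGroup_pCoreOf (p := p) M ⟨z, hzO⟩
    have hz1 : z = 1 := orderOf_eq_one_iff.1 (Nat.eq_one_of_dvd_coprimes (hxo.pow_right m)
      (orderOf_dvd_of_pow_eq_one h5) (orderOf_dvd_of_pow_eq_one (congrArg Subtype.val hm)))
    rw [hz, inv_mul_eq_one] at hz1
    calc q * x = (x * q * x⁻¹) * x := by rw [← hz1]
      _ = x * q := by group
  obtain ⟨k, hk⟩ := T.isPGroup'.to_le hQT ⟨x, hCQ hxQ⟩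
  exact orderOf_eq_one_iff.1 (Nat.eq_one_of_dvd_coprimes (hxo.pow_right k) dvd_rfl
    (orderOf_dvd_of_pow_eq_one (congrArg Subtype.val hk)))

/-- `F*(H) = O_p(H)` exactly when `H` has characteristic `p`. -/
theorem gFitting_eq_pCore_iff [Finite G] [hp : Fact p.Prime] :
    generalizedFittingSubgroup G = pCore p G ↔ Subgroup.centralizer (pCore p G : Set G) ≤ pCore p G := by
  constructor
  · intro h
    rw [← h]
    exact CfsgLib.Components.centralizer_gFitting_le
  · intro h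
    refine le_antisymm ?_ ((CfsgLib.Core.pCore_le_fittingSubgroup p).trans CfsgLib.Components.fitting_le_gFitting)
    refine sup_le (CfsgLib.Components.layer_le_iff.2 fun K hK => ?_) ?_
    · exfalso
      have hc := CfsgLib.Components.component_commutes_fitting hK
      have hK' : K ≤ pCore p G := le_trans (Subgroup.commutator_eq_bot_iff_le_centralizer.1 hc)
        ((Subgroup.centralizer_le (SetLike.coe_subset_coe.2 (CfsgLib.Core.pCore_le_fittingSubgroup p))).trans h)
      haveI := ((CfsgLib.Core.isPGroup_pCore p G).to_le hK').isNilpotent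
      exact CfsgLib.Components.IsComponent.not_isSolvable hK inferInstance
    · rw [CfsgLib.Core.fittingSubgroup_eq_iSup_pCore]
      refine iSup_le fun q => ?_
      by_cases hq : (q : ℕ) = p
      · rw [hq]
      · intro x hx
        exact h (Subgroup.mem_centralizer_iff.2 fun y hy =>
          CfsgLib.Core.commute_pCore_pCore hp.out q.2 (Ne.symm hq) y hy x hx)

end CfsgLib.LocalEvenB
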