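import Cfsg.Agent.Lib.PLocal.ComplementReduction

/-!
# The reduced configuration of the normal `p`-complement argument from its local hypotheses

The proof is the one of `CfsgLib.PLocal.Minimal.config`, with the facts it uses as hypotheses.
-/

set_option autoImplicit false
set_option linter.all false

open scoped commutatorElement

universe w

namespace CfsgLib.LocalEvenB

open Subgroup Cfsg CfsgLib.PLocal
open scoped Pointwise

variable {G : Type w} [Group G] {p : ℕ} [Fact p.Prime] [Finite G] {P : Sylow p G}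

theorem centralizer_le_of_quotient_npc (hcore0 : pPrimeCore p G = ⊥)
    (hnpcQ : HasNormalPComplement p (G ⧸ pCore p G)) :
    centralizer (pCore p G : Set G) ≤ pCore p G := by
  obtain ⟨M, hM, hMc, hMp⟩ :=
    CfsgLib.Transfer.hasNormalPComplement_iff_exists.mp hnpcQ
  refine centralizer_pCore_le ?_ hcore0
  generalize hf : QuotientGroup.mk' (pCore p G) = f
  have hker : f.ker = pCore p G := hf ▸ QuotientGroup.ker_mk' _
  have hsurj : Function.Surjective f := hf ▸ QuotientGroup.mk'_surjective _
  have h1 : pCore p G ≤ M.comap f := hker.ge.trans (MonoidHom.ker_le_comap f M)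
  refine ⟨3, ![⊥, pCore p G, M.comap f, ⊤], rfl, rfl, ?_, ?_, ?_⟩
  · refine Fin.monotone_iff_le_succ.mpr fun i => ?_
    fin_cases i
    · exact bot_le
    · exact h1
    · exact le_top
  · intro i
    fin_cases i
    · exact (inferInstance : (⊥ : Subgroup G).Normal)
    · exact CfsgLib.Core.normal_pCore p G
    · exact hM.comap f
    · exact (inferInstance : (⊤ : Subgroup G).Normal)
  · intro i
    fin_cases i
    · left
      obtain ⟨k, hk⟩ := IsPGroup.iff_card.mp (CfsgLib.Core.isPGroup_pCore p G)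
      exact ⟨k, (relIndex_bot_left (pCore p G)).trans hk⟩
    · right
      show ((pCore p G).relIndex (M.comap f)).Coprime p
      have h := relIndex_ker (K := M.comap f) f
      rw [hker, map_comap_eq_self_of_surjective hsurj] at h
      rw [h]
      exact hMc
    · left
      obtain ⟨k, hk⟩ := IsPGroup.iff_card.mp hMp
      refine ⟨k, ?_⟩
      show (M.comap f).relIndex ⊤ = p ^ k
      rw [relIndex_top_right, index_comap_of_surjective _ hsurj, index_eq_card, hk]

/-- The coprime part `O^p(G/O_p(G))`: abelian and moved freely by `P`. -/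
theorem config_of_quotient_npc (hp2 : p ≠ 2) (hcore0 : pPrimeCore p G = ⊥)
    (hnpcQ : HasNormalPComplement p (G ⧸ pCore p G)) (hno : ¬ HasNormalPComplement p G)
    (hproper : ∀ U : Subgroup G, U ≠ ⊤ → (P : Subgroup G) ≤ U → HasNormalPComplement p U)
    (hlt : pCore p G < (P : Subgroup G)) : Config p P := by
  have hc := centralizer_le_of_quotient_npc hcore0 hnpcQ
  have hnpc := hnpcQ
  generalize hH : pCore p G = H at hlt hc
  haveI : H.Normal := hH ▸ inferInstance
  have hHp : IsPGroup p H := hH ▸ CfsgLib.Core.isPGroup_pCore p G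
  have hnpc' : HasNormalPComplement p (G ⧸ H) := by subst hH; exact hnpc
  have hcore : pCore p (G ⧸ H) = ⊥ := by subst hH; exact CfsgLib.Core.pCore_quotient_pCore p G
  generalize hf : QuotientGroup.mk' H = f
  have hker : f.ker = H := hf ▸ QuotientGroup.ker_mk' _
  have hsurj : Function.Surjective f := hf ▸ QuotientGroup.mk'_surjective _
  obtain ⟨P', hP'⟩ : ∃ P', P' = (P : Subgroup G).map f := ⟨_, rfl⟩
  have hP'p : IsPGroup p P' := hP' ▸ P.2.map f
  generalize hK : pResidual p (G ⧸ H) = K
  haveI hKn : K.Normal := hK ▸ inferInstance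
  have hKc : (Nat.card K).Coprime p :=
    hK ▸ CfsgLib.Transfer.hasNormalPComplement_iff_coprime.mp hnpc'
  have hKP : K ⊔ P' = ⊤ := by
    have := CfsgLib.Transfer.pResidual_sup_sylow (p := p) (P.mapSurjective hsurj)
    rw [hK, Sylow.coe_mapSurjective] at this
    rw [hP']; exact this
  have hKP' : K ⊓ P' = ⊥ := by
    obtain ⟨k, hk⟩ := IsPGroup.iff_card.mp hP'p
    exact Subgroup.inf_eq_bot_of_coprime (hk ▸ hKc.pow_right k)
  have hPX : (P : Subgroup G) ≤ (P').comap f := hP' ▸ le_comap_map f _
  have hKne : K ≠ ⊥ := by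
    intro h
    rw [h, bot_sup_eq] at hKP
    have hp1 : IsPGroup p (G ⧸ H) := (hKP ▸ hP'p).of_equiv Subgroup.topEquiv
    apply hno
    refine CfsgLib.Transfer.hasNormalPComplement_of_isPGroup ?_
    have h2 : IsPGroup p ((⊤ : Subgroup (G ⧸ H)).comap f) :=
      (hp1.to_subgroup ⊤).comap_of_ker_isPGroup f (by rw [hker]; exact hHp)
    rw [comap_top] at h2
    exact h2.of_equiv Subgroup.topEquiv
  have hirr : ∀ E : Subgroup (G ⧸ H), E ≤ K → E ≠ ⊥ → P' ≤ normalizer (E : Set (G ⧸ H)) → E = K := by
    intro E hEK hEb hPE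
    by_cases hU : (E ⊔ P').comap f = ⊤
    · have htop : E ⊔ P' = ⊤ := by
        rw [← map_comap_eq_self_of_surjective hsurj (E ⊔ P'), hU, map_top_of_surjective _ hsurj]
      refine eq_of_le_of_card_ge hEK ?_
      have h1 := CfsgLib.Core.card_sup_of_disjoint P' E hPE
        (le_bot_iff.mp ((inf_le_inf_left _ hEK).trans (by rw [inf_comm, hKP'])))
      have h2 := CfsgLib.Core.card_sup_of_disjoint P' K le_normalizer_of_normal
        (by rw [inf_comm]; exact hKP')
      rw [sup_comm, htop] at h1
      rw [sup_comm, hKP] at h2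
      exact le_of_eq (Nat.eq_of_mul_eq_mul_left Nat.card_pos (h2.symm.trans h1))
    exfalso
    have hPU : (P : Subgroup G) ≤ (E ⊔ P').comap f := hPX.trans (comap_mono le_sup_right)
    have hnpcU := hproper _ hU hPU
    generalize hUdef : (E ⊔ P').comap f = U at hU hPU hnpcU
    have hHU : H ≤ U := hUdef ▸ hker.ge.trans (MonoidHom.ker_le_comap f _)
    have hRc : (Nat.card ((pResidual p U).map U.subtype)).Coprime p := by
      rw [card_map_of_injective _ U.subtype_injective]
      exact CfsgLib.Transfer.hasNormalPComplement_iff_coprime.mp hnpcU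
    have hRn : U ≤ normalizer (((pResidual p U).map U.subtype : Subgroup G) : Set G) := by
      intro u hu
      exact le_normalizer_map U.subtype (mem_map_of_mem (x := ⟨u, hu⟩) _
        ((normalizer_eq_top (H := pResidual p U)).symm ▸ mem_top _))
    have hdisj : H ⊓ (pResidual p U).map U.subtype = ⊥ := by
      obtain ⟨k, hk⟩ := IsPGroup.iff_card.mp hHp
      exact Subgroup.inf_eq_bot_of_coprime (hk ▸ (hRc.pow_right k).symm)
    have hRH : (pResidual p U).map U.subtype ≤ H := by
      refine le_trans ?_ hc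
      intro r hr
      rw [mem_centralizer_iff]
      intro h hh
      have h1 : h * r * h⁻¹ * r⁻¹ ∈ H ⊓ (pResidual p U).map U.subtype := by
        refine ⟨?_, ?_⟩
        · have := (inferInstance : H.Normal).conj_mem _ (H.inv_mem hh) r
          simpa [mul_assoc] using H.mul_mem hh this
        · exact Subgroup.mul_mem _ (CfsgLib.Core.conj_mem_of_le_normalizer hRn (hHU hh) hr)
            (Subgroup.inv_mem _ hr)
      rw [hdisj, mem_bot, mul_inv_eq_one, mul_inv_eq_iff_eq_mul] at h1
      exact h1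
    have hR0 : pResidual p U = ⊥ := by
      rw [inf_eq_right.mpr hRH] at hdisj
      exact (map_eq_bot_iff_of_injective _ U.subtype_injective).mp hdisj
    have hUp : IsPGroup p U :=
      (CfsgLib.Transfer.isPGroup_quotient_pResidual (p := p) (G := U)).of_equiv
        ((QuotientGroup.quotientMulEquivOfEq hR0).trans QuotientGroup.quotientBot)
    have hEp : IsPGroup p E := by
      refine (hUp.map f).to_le ?_
      rw [← hUdef, map_comap_eq_self_of_surjective hsurj]
      exact le_sup_left
    obtain ⟨k, hk⟩ := IsPGroup.iff_card.mp hEp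
    apply hEb
    rw [← Subgroup.card_eq_one]
    exact Nat.eq_one_of_dvd_coprimes (hKc.pow_right k) (card_dvd_of_le hEK) (hk ▸ dvd_rfl)
  -- `K` is abelian
  haveI hKab : IsMulCommutative K := by
    obtain ⟨q, hq, hqd⟩ := Nat.exists_prime_and_dvd (n := Nat.card K)
      fun h => hKne (Subgroup.card_eq_one.mp h)
    haveI := Fact.mk hq
    obtain ⟨k, hk⟩ := IsPGroup.iff_card.mp hP'p
    haveI := hP'p.isNilpotent
    obtain ⟨Q, hQ⟩ := CfsgLib.Core.exists_invariant_sylow (A := P') (K := K)
      le_normalizer_of_normal (hk ▸ (hKc.pow_right k).symm) (Or.inl inferInstance) q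
    generalize hQ' : (Q : Subgroup K).map K.subtype = Q' at hQ
    have hQK : Q' ≤ K := hQ' ▸ map_subtype_le _
    have hQb : Q' ≠ ⊥ := by
      rw [← hQ', Ne, map_eq_bot_iff_of_injective _ K.subtype_injective]
      exact Q.ne_bot_of_dvd_card hqd
    have hQp : IsPGroup q Q' := hQ' ▸ Q.2.map _
    have hE : Q' ⊓ centralizer (Q' : Set (G ⧸ H)) = K := by
      refine hirr _ (inf_le_left.trans hQK) ?_ ?_
      · haveI : Nontrivial Q' := Q'.nontrivial_iff_ne_bot.mpr hQb
        obtain ⟨⟨⟨z, hz⟩, hzc⟩, hz1⟩ := ne_bot_iff_exists_ne_one.mp hQp.bot_lt_center.ne'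
        intro hb
        refine hz1 (Subtype.ext (Subtype.ext (mem_bot.mp (hb.le ⟨hz, ?_⟩))))
        exact mem_centralizer_iff.mpr fun y hy => congrArg Subtype.val (mem_center_iff.mp hzc ⟨y, hy⟩)
      · refine (le_inf hQ ?_).trans inf_normalizer_le_normalizer_inf
        rw [le_normalizer_iff]
        intro x hx z hz
        rw [mem_centralizer_iff] at hz ⊢
        intro y hy
        have h2 := congrArg (fun w => x * w * x⁻¹)
          (hz (x⁻¹ * y * x) (CfsgLib.Core.conj_mem_of_le_normalizer' hQ hx hy))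
        simpa [mul_assoc] using h2
    rw [← le_centralizer_iff_isMulCommutative, ← hE]
    exact inf_le_right.trans (Subgroup.centralizer_le inf_le_left)
  have hCK : P' ⊓ centralizer (K : Set (G ⧸ H)) = ⊥ := by
    haveI : (P' ⊓ centralizer (K : Set (G ⧸ H))).Normal := by
      rw [← normalizer_eq_top_iff, eq_top_iff, ← hKP]
      refine sup_le ?_ ((le_inf le_normalizer le_normalizer_of_normal).trans
        inf_normalizer_le_normalizer_inf)
      exact (le_centralizer_iff.mp inf_le_right).trans (centralizer_le_normalizer _)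
    rw [← le_bot_iff, ← hcore]
    exact CfsgLib.Core.le_pCore (hP'p.to_le inf_le_left)
  -- a complement `T` of `H` in the preimage of `K`
  have hHK : H ≤ K.comap f := hker.ge.trans (MonoidHom.ker_le_comap f K)
  obtain ⟨hi, hhi⟩ := IsPGroup.iff_card.mp hHp
  have hrel : H.relIndex (K.comap f) = Nat.card K := by
    have h := relIndex_ker (K := K.comap f) f
    rw [hker, map_comap_eq_self_of_surjective hsurj] at h
    exact h
  obtain ⟨B, hB⟩ := Subgroup.exists_right_complement'_of_coprime (N := H.subgroupOf (K.comap f)) (by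
    rw [Nat.card_congr (subgroupOfEquivOfLe hHK).toEquiv, hhi,
      show (H.subgroupOf (K.comap f)).index = Nat.card K from hrel]
    exact (hKc.pow_right hi).symm)
  generalize hT : B.map (K.comap f).subtype = T
  have hTK : T ≤ K.comap f := hT ▸ map_subtype_le _
  have hTc : Nat.card T = Nat.card K := by
    rw [← hT, card_map_of_injective _ (K.comap f).subtype_injective, ← hB.symm.index_eq_card]
    exact hrel
  have hTH : T ⊓ H = ⊥ := Subgroup.inf_eq_bot_of_coprime (by
    rw [hTc, hhi]; exact hKc.pow_right hi)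
  have hHT : H ⊔ T = K.comap f := by
    rw [sup_comm]
    refine eq_of_le_of_card_ge (sup_le hTK hHK) (le_of_eq ?_)
    rw [CfsgLib.Core.card_sup_of_disjoint T H le_normalizer_of_normal hTH, hTc, ← hf,
      CfsgLib.Core.card_comap_mk', mul_comm]
  have hTP : T ⊔ (P : Subgroup G) = ⊤ := by
    have h1 : (K.comap f) ⊔ (P : Subgroup G) = ⊤ := by
      have h := congrArg (Subgroup.comap f) hKP
      rw [hP', comap_top] at h
      rw [← h, ← map_comap_eq_self_of_surjective hsurj K, ← Subgroup.map_sup,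
        map_comap_eq_self_of_surjective hsurj K, comap_map_eq, hker,
        sup_eq_left.mpr (hHK.trans le_sup_left)]
    rw [eq_top_iff, ← h1, ← hHT]
    exact sup_le (sup_le (hlt.le.trans le_sup_right) le_sup_left) le_sup_right
  haveI hTab : IsMulCommutative T := by
    rw [← le_centralizer_iff_isMulCommutative]
    intro s hs
    rw [mem_centralizer_iff]
    intro t ht
    have h1 : f t * f s = f s * f t :=
      mem_centralizer_iff.mp (le_centralizer K (hTK hs)) (f t) (hTK ht)
    have h2 : t * s * (s * t)⁻¹ ∈ T ⊓ H := by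
      refine ⟨T.mul_mem (T.mul_mem ht hs) (T.inv_mem (T.mul_mem hs ht)), ?_⟩
      refine hker.le (MonoidHom.mem_ker.mpr ?_)
      rw [map_mul, map_inv, map_mul, map_mul, h1, mul_inv_cancel]
    rw [hTH, mem_bot, mul_inv_eq_one] at h2
    exact h2
  refine ⟨hH ▸ hc, ?_, ⟨T, hTc ▸ hKc, ?_, hTP, hTab⟩, ?_⟩
  · intro N hN
    rw [hH]
    haveI := hN
    haveI : (N.map f).Normal := hN.map f hsurj
    by_cases hb : N.map f ⊓ K = ⊥
    · left
      have hcomm : N.map f ≤ centralizer (K : Set (G ⧸ H)) := by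
        intro x hx
        rw [mem_centralizer_iff]
        exact fun y hy => (Subgroup.commute_of_normal_of_disjoint _ _ inferInstance hKn
          (disjoint_iff.mpr hb) x y hx hy).eq.symm
      have hNp : IsPGroup p (N.map f) := by
        obtain ⟨k, hk⟩ := IsPGroup.iff_card.mp
          (CfsgLib.Transfer.isPGroup_quotient_pResidual (p := p) (G := G ⧸ H))
        rw [hK] at hk
        have hd : Nat.card (N.map f) ∣ p ^ k := by
          rw [← hk, ← index_eq_card]
          have h1 := relIndex_dvd_of_le_left (⊤ : Subgroup (G ⧸ H)) (le_sup_right : K ≤ N.map f ⊔ K)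
          have h2 : K.relIndex (N.map f) = Nat.card (N.map f) := by
            rw [← inf_relIndex_right, inf_comm, hb, relIndex_bot_left]
          rw [← h2]
          exact relIndex_dvd_index_of_normal K (N.map f)
        obtain ⟨i, -, hi'⟩ := (Nat.dvd_prime_pow Fact.out).mp hd
        exact IsPGroup.of_card hi'
      have : N.map f = ⊥ := le_bot_iff.mp (hcore ▸ CfsgLib.Core.le_pCore hNp)
      rwa [Subgroup.map_eq_bot_iff, hker] at this
    · right
      have hKN : K ≤ N.map f :=
        (hirr (N.map f ⊓ K) inf_le_right hb le_normalizer_of_normal).ge.trans inf_le_left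
      have h : (K.comap f) ≤ N ⊔ H := by
        have h := comap_mono (f := f) hKN
        rwa [comap_map_eq, hker] at h
      rw [eq_top_iff, ← hTP]
      refine sup_le ((hTK.trans h).trans (sup_le le_sup_left (hlt.le.trans le_sup_right))) le_sup_right
  · rw [hH, hHT]; infer_instance
  -- quadratic action
  intro R hRn hRp hRC a ha hquad
  rw [hH] at hRC ⊢
  haveI := hRn
  have hconj : MulAut.conj a • T ≤ T ⊔ H := by
    rw [sup_comm, hHT]
    intro x hx
    have := (inferInstance : (K.comap f).Normal).conj_mem _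
      (hTK (CfsgLib.Core.mem_conj_smul_iff.mp hx)) a
    simpa [mul_assoc] using this
  obtain ⟨m, hm, hm'⟩ := CfsgLib.Core.exists_conj_eq_of_coprime (le_normalizer_of_normal (H := H) (K := T))
    hconj (CfsgLib.Core.card_conj_smul a T) (by rw [hTc, hhi]; exact hKc.pow_right hi)
    (Or.inl (haveI := hHp.isNilpotent; inferInstance))
  obtain ⟨n, hn⟩ : ∃ n, n = m⁻¹ * a := ⟨_, rfl⟩
  have hnT : n ∈ normalizer (T : Set G) := by
    rw [hn, CfsgLib.Core.mem_normalizer_iff_conj_smul_eq, map_mul, mul_smul, ← hm', map_inv,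
      inv_smul_smul]
  have hnP : n ∈ (P : Subgroup G) :=
    hn ▸ (P : Subgroup G).mul_mem ((P : Subgroup G).inv_mem (hlt.le hm)) ha
  have hfn : f n = f a := by
    rw [hn, map_mul, map_inv, MonoidHom.mem_ker.mp (hker.ge hm), inv_one, one_mul]
  by_contra haH
  obtain ⟨i, hi'⟩ := IsPGroup.iff_orderOf.mp P.2 ⟨n, hnP⟩
  rw [Subgroup.orderOf_mk] at hi'
  have hzT : zpowers n ≤ normalizer (T : Set G) := zpowers_le.mpr hnT
  have hzcop : (Nat.card (zpowers n)).Coprime (Nat.card T) := by
    rw [Nat.card_zpowers, hi', hTc]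
    exact (hKc.pow_right i).symm
  have hSne : ⁅T, zpowers n⁆ ≠ ⊥ := by
    intro h
    have hcn : T ≤ centralizer ((zpowers n : Subgroup G) : Set G) :=
      commutator_eq_bot_iff_le_centralizer.mp h
    have h1 : f n ∈ P' ⊓ centralizer (K : Set (G ⧸ H)) := by
      refine ⟨hP' ▸ mem_map_of_mem f hnP, mem_centralizer_iff.mpr fun y hy => ?_⟩
      obtain ⟨y, rfl⟩ := hsurj y
      have hy' : y ∈ T ⊔ H := by rw [sup_comm, hHT]; exact hy
      obtain ⟨t, ht, z, hz, rfl⟩ := mem_sup_of_normal_right.mp hy'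
      rw [map_mul, MonoidHom.mem_ker.mp (hker.ge hz), mul_one, ← map_mul, ← map_mul,
        (mem_centralizer_iff.mp (hcn ht) n (mem_zpowers n)).symm]
    rw [hCK, mem_bot, hfn] at h1
    exact haH (hker.le (MonoidHom.mem_ker.mpr h1))
  have hST : ⁅T, zpowers n⁆ ≤ T := le_normalizer_iff_commutator_le_left.mp hzT
  have hnS : n ∈ normalizer ((⁅T, zpowers n⁆ : Subgroup G) : Set G) :=
    CfsgLib.Core.le_normalizer_commutator_self (zpowers n) T (mem_sup_right (mem_zpowers n))
  have hfree : ∀ j : ℕ, ¬ p ∣ j → ∀ s ∈ ⁅T, zpowers n⁆, n ^ j * s = s * n ^ j → s = 1 := by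
    intro j hj s hs hcomm
    have hzj : n ∈ zpowers (n ^ j) := by
      have hcop : j.Coprime (orderOf n) := by
        rw [hi']
        exact ((Fact.out : p.Prime).coprime_iff_not_dvd.mpr hj).symm.pow_right i
      obtain ⟨k, hk⟩ := exists_pow_eq_self_of_coprime hcop
      have h := pow_mem (mem_zpowers (n ^ j)) k
      rwa [hk] at h
    refine mem_bot.mp ((CfsgLib.Core.abelian_inf_eq_bot hzT hzcop).le ⟨⟨hST hs, ?_⟩, hs⟩)
    refine mem_centralizer_iff.mpr fun y hy => ?_
    obtain ⟨k, rfl⟩ := mem_zpowers_iff.mp hy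
    obtain ⟨l, hl⟩ := mem_zpowers_iff.mp hzj
    have hc1 : Commute (n ^ j) s := hcomm
    have hc2 : Commute n s := hl ▸ hc1.zpow_left l
    exact (hc2.zpow_left k).eq
  have hScop : (Nat.card ↥⁅T, zpowers n⁆).Coprime p :=
    Nat.Coprime.coprime_dvd_left (card_dvd_of_le hST) (hTc ▸ hKc)
  -- `[T, n]` centralises `R`
  have hmain : ∀ k : ℕ, ∀ R' : Subgroup G, R'.Normal → R' ≤ R → Nat.card R' = k →
      ⁅T, zpowers n⁆ ≤ centralizer (R' : Set G) := by
    intro k
    induction k using Nat.strong_induction_on with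
    | _ k ih =>
    intro R' hR'n hR'R hk
    haveI := hR'n
    have hR'p : IsPGroup p R' := hRp.to_le hR'R
    by_cases hRb : R' = ⊥
    · rw [hRb]
      intro x _
      exact mem_centralizer_iff.mpr fun y hy => by
        rw [show y = 1 from hy, one_mul, mul_one]
    obtain ⟨R₂, hR₂⟩ : ∃ R₂, R₂ = ⁅R', H⁆ ⊔ (frattini R').map R'.subtype := ⟨_, rfl⟩
    haveI : R₂.Normal := hR₂ ▸ inferInstance
    have hle : R₂ ≤ R' := hR₂ ▸ sup_le (commutator_le_left R' H) (map_subtype_le _)
    have hne : R₂ ≠ R' := by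
      intro he
      apply hRb
      have hHR : H ≤ normalizer (R' : Set G) := le_normalizer_of_normal
      have h1 : (⁅R', H⁆).subgroupOf R' ⊔ frattini R' = ⊤ := by
        apply map_injective R'.subtype_injective
        rw [Subgroup.map_sup, subgroupOf_map_subtype, inf_of_le_left (commutator_le_left R' H),
          ← MonoidHom.range_eq_map, range_subtype, ← hR₂, he]
      have h2 := subgroupOf_eq_top.mp (frattini_nongenerating h1)
      exact eq_bot_of_le_commutator hR'p hHR (fun b hb => by
        obtain ⟨l, hl⟩ := hHp ⟨b, hb⟩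
        exact ⟨l, by
          rw [show b ^ p ^ l = 1 from congrArg Subtype.val hl]
          exact one_mem _⟩) le_rfl h2
    have hlt2 : Nat.card R₂ < k :=
      hk ▸ CfsgLib.Transfer.card_lt_of_lt (lt_of_le_of_ne hle hne)
    have hS2 := ih _ hlt2 R₂ inferInstance (hle.trans hR'R) rfl
    generalize hg : QuotientGroup.mk' R₂ = g
    have hgker : g.ker = R₂ := hg ▸ QuotientGroup.ker_mk' _
    haveI : (R'.map g).Normal :=
      hR'n.map g (hg ▸ QuotientGroup.mk'_surjective _)
    have hφR : (frattini R').map R'.subtype ≤ R₂ := hR₂ ▸ le_sup_right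
    have hel : IsElementaryAbelian p (R'.map g) := by
      refine ⟨le_centralizer_iff_isMulCommutative.mp ?_, ?_⟩
      · rintro _ ⟨x, hx, rfl⟩
        rw [mem_centralizer_iff]
        rintro _ ⟨y, hy, rfl⟩
        have h1 : ⁅(⟨y, hy⟩ : R'), (⟨x, hx⟩ : R')⁆ ∈ frattini R' :=
          CfsgLib.PGroups.commutator_le_frattini' hR'p
            (commutator_mem_commutator (mem_top _) (mem_top _))
        have h2 : ⁅y, x⁆ ∈ g.ker := hgker.ge (hφR ⟨_, h1, rfl⟩)
        rw [MonoidHom.mem_ker, map_commutatorElement, commutatorElement_eq_one_iff_mul_comm] at h2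
        exact h2
      · rintro _ ⟨x, hx, rfl⟩
        rw [← map_pow, ← MonoidHom.mem_ker]
        refine hgker.ge ?_
        exact hφR ⟨_, CfsgLib.PGroups.pow_mem_frattini hR'p ⟨x, hx⟩, rfl⟩
    have hga : ∀ v ∈ R', g (n * v * n⁻¹) = g (a * v * a⁻¹) := by
      intro v hv
      have hv' : a * v * a⁻¹ ∈ R' := hR'n.conj_mem v hv a
      have h1 : ⁅a * v * a⁻¹, m⁻¹⁆ ∈ g.ker :=
        hgker.ge (hR₂ ▸ mem_sup_left (commutator_mem_commutator hv' (H.inv_mem hm)))
      rw [MonoidHom.mem_ker, map_commutatorElement, commutatorElement_eq_one_iff_mul_comm,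
        ← map_mul, ← map_mul] at h1
      rw [hn, show m⁻¹ * a * v * (m⁻¹ * a)⁻¹ = m⁻¹ * (a * v * a⁻¹) * m by group, map_mul g _ m,
        ← h1, ← map_mul]
      congr 1
      group
    have hcen : (⁅T, zpowers n⁆).map g ≤ centralizer ((R'.map g : Subgroup (G ⧸ R₂)) : Set (G ⧸ R₂)) := by
      refine centralizes_of_quadratic hp2 hel (n := g n)
        (le_normalizer_map g (mem_map_of_mem g hnS)) ?_ ?_
        (Nat.Coprime.coprime_dvd_left (Subgroup.card_map_dvd _ _) hScop)
      · rintro j hj _ ⟨s, hs, rfl⟩ hcomm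
        have h1 : n ^ j * s * (n ^ j)⁻¹ * s⁻¹ ∈ ⁅T, zpowers n⁆ :=
          mul_mem ((Subgroup.mem_normalizer_iff.mp (pow_mem hnS j) s).mp hs) (inv_mem hs)
        have h2 : n ^ j * s * (n ^ j)⁻¹ * s⁻¹ ∈ R₂ := by
          refine hgker.le (MonoidHom.mem_ker.mpr ?_)
          rw [map_mul, map_mul, map_mul, map_inv, map_inv, map_pow,
            hcomm, mul_inv_cancel_right, mul_inv_cancel]
        obtain ⟨l, hl⟩ := IsPGroup.iff_card.mp (hR'p.to_le hle)
        have h3 : n ^ j * s * (n ^ j)⁻¹ * s⁻¹ = 1 := mem_bot.mp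
          ((Subgroup.inf_eq_bot_of_coprime (hl ▸ hScop.pow_right l)).le ⟨h1, h2⟩)
        rw [hfree j hj s hs (mul_inv_eq_iff_eq_mul.mp (mul_inv_eq_one.mp h3)), map_one]
      · rintro _ ⟨v, hv, rfl⟩
        have e2 : g (n * v * n⁻¹ * v⁻¹) = g (a * v * a⁻¹ * v⁻¹) := by
          rw [map_mul, hga v hv, ← map_mul]
        have hv2 : a * v * a⁻¹ * v⁻¹ ∈ R' := R'.mul_mem (hR'n.conj_mem v hv a) (R'.inv_mem hv)
        have e1 : g n * g (a * v * a⁻¹ * v⁻¹) * (g n)⁻¹ = g (a * v * a⁻¹ * v⁻¹) := by
          rw [← map_inv, ← map_mul, ← map_mul, hga _ hv2, hquad v (hR'R hv)]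
        rw [← e2] at e1
        simpa only [map_mul, map_inv] using e1
    rw [le_centralizer_iff]
    intro x hx
    obtain ⟨l, hl⟩ := IsPGroup.iff_card.mp (hR'p.to_le hle)
    obtain ⟨y, hy, hxy⟩ := CfsgLib.Core.exists_centralizing_in_coset
      (A := ⁅T, zpowers n⁆) (N := R₂) le_normalizer_of_normal (hl ▸ hScop.pow_right l)
      (Or.inr (haveI := (hR'p.to_le hle).isNilpotent; inferInstance)) (k := x) (fun s hs => by
        have h1 := mem_centralizer_iff.mp (hcen (mem_map_of_mem g hs)) (g x) (mem_map_of_mem g hx)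
        refine hgker.le (MonoidHom.mem_ker.mpr ?_)
        rw [map_mul, map_mul, map_mul, map_inv, map_inv, ← h1,
          mul_inv_cancel_right, inv_mul_cancel])
    have hyc : y ∈ centralizer ((⁅T, zpowers n⁆ : Subgroup G) : Set G) :=
      le_centralizer_iff.mp hS2 hy
    have := mul_mem hxy (inv_mem hyc)
    rwa [mul_inv_cancel_right] at this
  have hS := (hmain _ R hRn le_rfl rfl).trans hRC
  exact hSne (le_bot_iff.mp (hTH ▸ le_inf hST hS))

end CfsgLib.LocalEvenB
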