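import Cfsg.Agent.Lib.LocalEvenB.FpfModule2

/-!
# `2`-groups extended by `SL₂(2ⁿ)` with a fixed point free element of order three
-/

set_option autoImplicit false
set_option linter.all false
set_option maxHeartbeats 800000

namespace CfsgLib.LocalEvenB

open Matrix
open scoped MatrixGroups commutatorElement

variable {F : Type*} [Field F]

/-- A `2×2` matrix of order three in characteristic two is conjugate to the companion matrix. -/
theorem conj_companion [Finite F] [CharP F 2] (M : SL(2, F)) (h3 : M ^ 3 = 1) (h1 : M ≠ 1) (C : SL(2, F))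
    (hC : (C : Matrix (Fin 2) (Fin 2) F) = !![1, 1; 1, 0]) : ∃ P : SL(2, F), M * P = P * C := by
  classical
  obtain ⟨a, b, c, d, hM⟩ : ∃ a b c d, (M : Matrix (Fin 2) (Fin 2) F) = !![a, b; c, d] :=
    ⟨_, _, _, _, Matrix.eta_fin_two _⟩
  have hdet : a * d - b * c = 1 := by
    have := M.2
    rwa [hM, det_fin_two_of] at this
  have h2 : (1 : F) + 1 = 0 := CharTwo.add_self_eq_zero 1
  have h3' : !![a, b; c, d] * !![a, b; c, d] * !![a, b; c, d] = (1 : Matrix (Fin 2) (Fin 2) F) := by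
    have := congrArg (fun m : SL(2, F) => (m : Matrix (Fin 2) (Fin 2) F)) h3
    simpa [pow_succ, hM] using this
  rw [mul_fin_two, mul_fin_two, one_fin_two] at h3'
  have e00 := congrFun (congrFun h3' 0) 0
  have e01 := congrFun (congrFun h3' 0) 1
  have e10 := congrFun (congrFun h3' 1) 0
  have e11 := congrFun (congrFun h3' 1) 1
  simp only [Matrix.cons_val', Matrix.cons_val_zero, Matrix.cons_val_one, Matrix.cons_val_fin_one, Matrix.of_apply] at e00 e01 e10 e11
  have hne1 : ¬ (b = 0 ∧ c = 0 ∧ a = d) := by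
    rintro ⟨rfl, rfl, rfl⟩
    apply h1
    have ha2 : a * a = 1 := by simpa using hdet
    have ha : a = 1 := by
      have : (a + 1) * (a + 1) = 0 := by linear_combination ha2 + (a + 1) * h2
      have h := mul_self_eq_zero.1 this
      exact (eq_neg_of_add_eq_zero_left h).trans (CharTwo.neg_eq 1)
    subst ha
    refine Subtype.ext ?_
    show (M : Matrix (Fin 2) (Fin 2) F) = (1 : Matrix (Fin 2) (Fin 2) F)
    rw [hM, one_fin_two]
  have htr : a + d = 1 := by
    by_contra hne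
    have hne' : a + d + 1 ≠ 0 := fun h => hne ((eq_neg_of_add_eq_zero_left h).trans (CharTwo.neg_eq 1))
    have hk : (a + d) * (a + d) - 1 ≠ 0 := by
      intro h
      apply hne'
      have : (a + d + 1) * (a + d + 1) = 0 := by linear_combination h + (a + d + 1) * h2
      exact mul_self_eq_zero.1 this
    have hb : b * ((a + d) * (a + d) - 1) = 0 := by linear_combination e01 + b * hdet
    have hc : c * ((a + d) * (a + d) - 1) = 0 := by linear_combination e10 + c * hdet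
    have hb0 := (mul_eq_zero.1 hb).resolve_right hk
    have hc0 := (mul_eq_zero.1 hc).resolve_right hk
    have had : (a - d) * ((a + d) * (a + d) - 1) = 0 := by linear_combination e00 - e11 + (a - d) * hdet
    exact hne1 ⟨hb0, hc0, sub_eq_zero.1 ((mul_eq_zero.1 had).resolve_right hk)⟩
  -- a cyclic vector
  obtain ⟨v0, v1, hv⟩ : ∃ v0 v1 : F, (a * v0 + b * v1) * v1 - (c * v0 + d * v1) * v0 ≠ 0 := by
    by_contra hall
    push Not at hall
    have h10 := hall 1 0
    have h01 := hall 0 1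
    have h11 := hall 1 1
    simp at h10 h01
    simp [h10, h01] at h11
    exact hne1 ⟨h01, h10, sub_eq_zero.1 h11⟩
  obtain ⟨k, hk⟩ := (isSquare_iff_exists_mul_self _).1 (FiniteField.isSquare_of_char_two (ringChar.eq F 2) ((a * v0 + b * v1) * v1 - (c * v0 + d * v1) * v0))
  have hk0 : k ≠ 0 := fun h => hv (by rw [hk, h, mul_zero])
  refine ⟨⟨!![(a * v0 + b * v1) * k⁻¹, v0 * k⁻¹; (c * v0 + d * v1) * k⁻¹, v1 * k⁻¹], ?_⟩, ?_⟩
  · rw [det_fin_two_of]
    calc (a * v0 + b * v1) * k⁻¹ * (v1 * k⁻¹) - v0 * k⁻¹ * ((c * v0 + d * v1) * k⁻¹)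
        = ((a * v0 + b * v1) * v1 - (c * v0 + d * v1) * v0) * (k⁻¹ * k⁻¹) := by ring
      _ = 1 := by rw [hk]; field_simp
  · refine Subtype.ext ?_
    show (M : Matrix (Fin 2) (Fin 2) F) * !![(a * v0 + b * v1) * k⁻¹, v0 * k⁻¹; (c * v0 + d * v1) * k⁻¹, v1 * k⁻¹] =
      !![(a * v0 + b * v1) * k⁻¹, v0 * k⁻¹; (c * v0 + d * v1) * k⁻¹, v1 * k⁻¹] * (C : Matrix (Fin 2) (Fin 2) F)
    rw [hM, hC, mul_fin_two, mul_fin_two]
    ext i j; fin_cases i <;> fin_cases j <;> simp
    · linear_combination (a * v0 * k⁻¹ + b * v1 * k⁻¹) * htr - v0 * k⁻¹ * hdet - v0 * k⁻¹ * h2 * 1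
    · ring
    · linear_combination (c * v0 * k⁻¹ + d * v1 * k⁻¹) * htr - v1 * k⁻¹ * hdet - v1 * k⁻¹ * h2 * 1
    · ring

/-- The action on an abelian section. -/
theorem exists_act [Finite F] [CharP F 2] {G : Type*} [Group G] {A : Type*} [AddCommGroup A] (Q : Subgroup G) [Q.Normal]
    (hQ2 : IsPGroup 2 Q) (e : G ⧸ Q ≃* SL(2, F)) (τ : G →* AddMonoid.End A) (hτ : ∀ q ∈ Q, τ q = 1)
    {x : G} (hx : orderOf x = 3) (hfpf : ∀ a, τ x a = a → a = 0) :
    ∃ act : SL(2, F) →* AddMonoid.End A, (∀ (g : G) a, act (e (g : G ⧸ Q)) a = τ g a) ∧ ThreeRel act := by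
  classical
  let act : SL(2, F) →* AddMonoid.End A :=
    (QuotientGroup.lift Q τ (fun q hq => hτ q hq)).comp e.symm.toMonoidHom
  have hact : ∀ (g : G) a, act (e (g : G ⧸ Q)) a = τ g a := fun g a => by
    show QuotientGroup.lift Q τ (fun q hq => hτ q hq) (e.symm (e (g : G ⧸ Q))) a = _
    rw [e.symm_apply_apply]; rfl
  refine ⟨act, hact, fun s hs a => ?_⟩
  obtain ⟨X, hX⟩ : ∃ X, X = e (x : G ⧸ Q) := ⟨_, rfl⟩
  have hX3 : X ^ 3 = 1 := by rw [hX, ← map_pow, ← QuotientGroup.mk_pow, ← hx, pow_orderOf_eq_one, QuotientGroup.mk_one, map_one]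
  have hX1 : X ≠ 1 := by
    intro h
    rw [hX, MulEquiv.map_eq_one_iff, QuotientGroup.eq_one_iff] at h
    obtain ⟨k, hk⟩ := hQ2 ⟨x, h⟩
    have h2 : orderOf x ∣ 2 ^ k := orderOf_dvd_of_pow_eq_one (congrArg Subtype.val hk)
    rw [hx] at h2
    exact absurd (Nat.Prime.dvd_of_dvd_pow Nat.prime_three h2) (by norm_num)
  obtain ⟨y, hy⟩ : ∃ y, y = upU s * loU s⁻¹ := ⟨_, rfl⟩
  have h2 : (1 : F) + 1 = 0 := CharTwo.add_self_eq_zero 1
  have hy3 : y * (y * y) = 1 := by
    rw [hy, three_sq s hs, mul_assoc, ← mul_assoc (loU s⁻¹) (loU s⁻¹), loU_mul_self, one_mul, upU_mul_self]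
  have hy3' : y ^ 3 = 1 := by rw [pow_succ', pow_two]; exact hy3
  have hy1 : y ≠ 1 := by
    intro h
    rw [hy] at h
    have := congrArg (fun m : SL(2, F) => (m : Matrix (Fin 2) (Fin 2) F) 0 1) h
    simp [coe_upU, coe_loU, SpecialLinearGroup.coe_mul, mul_apply, Fin.sum_univ_two] at this
    exact hs this
  let C : SL(2, F) := ⟨!![1, 1; 1, 0], by rw [det_fin_two_of, mul_zero, mul_one, zero_sub]; exact CharTwo.neg_eq 1⟩
  obtain ⟨P, hP⟩ := conj_companion y hy3' hy1 C rfl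
  obtain ⟨R, hR⟩ := conj_companion X hX3 hX1 C rfl
  obtain ⟨g, hg⟩ : ∃ g, g = P * R⁻¹ := ⟨_, rfl⟩
  have hconj : X * g⁻¹ = g⁻¹ * y := by
    rw [hg, _root_.mul_inv_rev, inv_inv]
    calc X * (R * P⁻¹) = X * R * P⁻¹ := by rw [mul_assoc]
      _ = R * C * P⁻¹ := by rw [hR]
      _ = R * P⁻¹ * (P * C) * P⁻¹ := by group
      _ = R * P⁻¹ * y := by rw [← hP]; group
  rw [← hy]
  obtain ⟨t, ht⟩ : ∃ t, t = a + act y a + act (y * y) a := ⟨_, rfl⟩
  rw [← ht]
  have hfix : act y t = t := by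
    rw [ht, map_add, map_add, ← act_mul, ← act_mul, hy3, act_one]
    abel
  have h4 : act X (act g⁻¹ t) = act g⁻¹ t := by rw [← act_mul, hconj, act_mul, hfix]
  rw [hX, hact] at h4
  have h5 := hfpf _ h4
  have := congrArg (act g) h5
  rwa [← act_mul, mul_inv_cancel, act_one, map_zero] at this

/-- An alternating equivariant pairing between fixed point free modules vanishes. -/
theorem pairing_zero [CharP F 2] [Finite F] {A A' : Type*} [AddCommGroup A] [Finite A] [AddCommGroup A'] [Finite A']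
    {act : SL(2, F) →* AddMonoid.End A} {act' : SL(2, F) →* AddMonoid.End A'}
    (hrel : ThreeRel act) (hrel' : ThreeRel act') (h2 : ∀ a : A, a + a = 0) (h2' : ∀ a : A', a + a = 0)
    (hF : ∃ t : F, t ≠ 0 ∧ t ≠ 1) (B : A → A → A')
    (hl : ∀ a b c, B (a + b) c = B a c + B b c) (hr : ∀ a b c, B a (b + c) = B a b + B a c)
    (hswap : ∀ a b, B b a = B a b) (hequiv : ∀ g a b, B (act g a) (act g b) = act' g (B a b)) :
    ∀ a b, B a b = 0 := by
  letI := fixModule hrel h2
  letI := fixModule hrel' h2'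
  obtain ⟨r, hr0, hr1⟩ := hF
  let w : SL(2, F) := weyl 1 one_ne_zero
  have hBW : ∀ x y : upFix act, B x.1 y.1 ∈ upFix act' := fun x y t => by rw [← hequiv, x.2 t, y.2 t]
  obtain ⟨b, hb⟩ : ∃ b : upFix act → upFix act → upFix act', ∀ x y, b x y = ⟨B x.1 y.1, hBW x y⟩ := ⟨_, fun _ _ => rfl⟩
  have hbl : ∀ x y z, b (x + y) z = b x z + b y z := fun x y z => by rw [hb, hb, hb]; exact Subtype.ext (hl _ _ _)
  have hbr : ∀ x y z, b x (y + z) = b x y + b x z := fun x y z => by rw [hb, hb, hb]; exact Subtype.ext (hr _ _ _)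
  have hscal : ∀ (t : F), t ≠ 0 → ∀ x y, b (t • x) (t • y) = t • b x y := fun t ht x y => by
    refine Subtype.ext ?_
    rw [hb, hb]
    show B (fixSMul act t x.1) (fixSMul act t y.1) = fixSMul act' t (B x.1 y.1)
    rw [fixSMul_of_ne act ht, fixSMul_of_ne act ht, fixSMul_of_ne act' ht, hequiv]
  have h2b : ∀ v : upFix act', v + v = 0 := fun v => Subtype.ext (h2' _)
  have hmove : ∀ (t : F), t ≠ 0 → t + 1 ≠ 0 → ∀ x y, b (t • x) y = b x (t • y) := fun t ht ht1 x y => by
    have h := hscal (t + 1) ht1 x y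
    rw [add_smul, add_smul, add_smul, one_smul, one_smul, one_smul, hbl, hbr, hbr, hscal t ht] at h
    generalize t • b x y = P at h
    generalize b x y = R at h
    generalize b (t • x) y = S at h ⊢
    generalize b x (t • y) = T at h ⊢
    have h' : S + T = 0 := by
      have : P + R + (S + T) = P + R + 0 := by
        rw [add_zero]
        exact (show P + R + (S + T) = P + S + (T + R) by abel).trans h
      exact add_left_cancel this
    calc S = S + (T + T) := by rw [h2b, add_zero]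
      _ = T := by rw [← add_assoc, h', zero_add]
  have hr10 : r + 1 ≠ 0 := fun h => hr1 ((eq_neg_of_add_eq_zero_left h).trans (CharTwo.neg_eq 1))
  have hsq : ∀ x y, b x (r • r • y) = r • b x y := fun x y => by rw [← hmove r hr0 hr10, hscal r hr0]
  have hfix : ∀ x y : upFix act, B x.1 y.1 = 0 ∧ B x.1 (act w y.1) ∈ upFix act' := by
    intro x y
    obtain ⟨p, hp, c, hc, hpc⟩ := fix_top hrel' h2' (B x.1 (act w y.1))
    have key : ∀ t : F, b x (t • y) = t • (⟨act' w c, loFix_weyl act' hc 1 one_ne_zero⟩ : upFix act') := fun t => by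
      refine Subtype.ext ?_
      rw [hb]
      show B x.1 (fixSMul act t y.1) = fixSMul act' t (act' w c)
      have h := hequiv (upU t) x.1 (act w y.1)
      rw [x.2 t, upU_weyl_fix hrel h2 y.2 t, hr, ← hpc, map_add, hp t] at h
      have hc' : act' (upU t) c = c + fixSMul act' t (act' w c) := by
        conv_lhs => rw [← weyl_one_inv act' c]
        rw [upU_weyl_fix hrel' h2' (loFix_weyl act' hc 1 one_ne_zero) t, weyl_one_inv]
      rw [hc', ← add_assoc] at h
      exact add_left_cancel h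
    obtain ⟨C, hC⟩ : ∃ C, C = (⟨act' w c, loFix_weyl act' hc 1 one_ne_zero⟩ : upFix act') := ⟨_, rfl⟩
    rw [← hC] at key
    have h1 := key 1
    rw [one_smul, one_smul] at h1
    have h3 := key (r * r)
    rw [mul_smul r r y, hsq, h1] at h3
    have h4 : (r + r * r) • C = 0 := by rw [add_smul, ← h3, h2b]
    have hne : r + r * r ≠ 0 := by
      rw [show r + r * r = r * (r + 1) by ring]
      exact mul_ne_zero hr0 hr10
    have hC0 : C = 0 := (smul_eq_zero.1 h4).resolve_left hne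
    refine ⟨?_, ?_⟩
    · have := congrArg Subtype.val (h1.trans hC0)
      rwa [hb] at this
    · have hc0 : act' w c = 0 := by rw [hC] at hC0; exact congrArg Subtype.val hC0
      have : c = 0 := by rw [← weyl_one_inv act' c, hc0, map_zero]
      rw [← hpc, this, add_zero]
      exact hp
  have hmix : ∀ x y : upFix act, B x.1 (act w y.1) = 0 := fun x y => by
    refine fix_disjoint hrel' h2' (hfix x y).2 ?_
    have h := hequiv w y.1 (act w x.1)
    rw [weyl_one_inv act x.1, hswap] at h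
    rw [h]
    exact upFix_weyl act' (hfix y x).2 1 one_ne_zero
  intro a c
  obtain ⟨a1, ha1, a2, ha2, rfl⟩ := fix_top hrel h2 a
  obtain ⟨c1, hc1, c2, hc2, rfl⟩ := fix_top hrel h2 c
  have e2 : ∀ z ∈ loFix act, act w (act w z) = z ∧ act w z ∈ upFix act := fun z hz =>
    ⟨weyl_one_inv act z, loFix_weyl act hz 1 one_ne_zero⟩
  rw [hl, hr, hr, (hfix ⟨a1, ha1⟩ ⟨c1, hc1⟩).1, ← (e2 c2 hc2).1, hmix ⟨a1, ha1⟩ ⟨_, (e2 c2 hc2).2⟩,
    ← (e2 a2 ha2).1, hswap c1, hmix ⟨c1, hc1⟩ ⟨_, (e2 a2 ha2).2⟩, hequiv, (hfix ⟨_, (e2 a2 ha2).2⟩ ⟨_, (e2 c2 hc2).2⟩).1,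
    map_zero]
  simp

open Subgroup in
/-- A two-step section is elementary abelian. -/
theorem fpf_step [CharP F 2] [Finite F] (hF : ∃ t : F, t ≠ 0 ∧ t ≠ 1) {G : Type*} [Group G] [Finite G]
    (Q : Subgroup G) [Q.Normal] (hQ2 : IsPGroup 2 Q) (e : G ⧸ Q ≃* SL(2, F)) {x : G} (hx : orderOf x = 3)
    (hfpf : ∀ q ∈ Q, x * q * x⁻¹ = q → q = 1) (M : Subgroup G) [M.Normal] (hMQ : M ≤ Q)
    (hMc : ∀ m ∈ M, ∀ q ∈ Q, q * m = m * q) (hM2 : ∀ m ∈ M, m * m = 1)
    (hsq : ∀ q ∈ Q, q * q ∈ M) (hfpfQ : ∀ q ∈ Q, x * q * x⁻¹ * q⁻¹ ∈ M → q ∈ M) :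
    ∀ q ∈ Q, q * q = 1 := by
  classical
  haveI : IsMulCommutative ↥M := ⟨⟨fun a b => Subtype.ext (hMc b.1 b.2 a.1 (hMQ a.2))⟩⟩
  letI : CommGroup ↥M := { (inferInstance : Group ↥M) with mul_comm := fun a b => Subtype.ext (hMc b.1 b.2 a.1 (hMQ a.2)) }
  obtain ⟨π, hπ⟩ : ∃ π, π = QuotientGroup.mk' M := ⟨_, rfl⟩
  have hπs : Function.Surjective π := hπ ▸ QuotientGroup.mk'_surjective M
  have hπ1 : ∀ g, π g = 1 ↔ g ∈ M := fun g => by rw [hπ]; exact QuotientGroup.eq_one_iff g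
  haveI hQn : (Q.map π).Normal := Subgroup.Normal.map inferInstance π hπs
  have hsq' : ∀ a : ↥(Q.map π), a * a = 1 := by
    rintro ⟨_, q, hq, rfl⟩
    exact Subtype.ext (by show π q * π q = 1; rw [← map_mul, hπ1]; exact hsq q hq)
  have hcommQ : ∀ a b : ↥(Q.map π), a * b = b * a := fun a b => by
    have hinv : ∀ c : ↥(Q.map π), c⁻¹ = c := fun c => inv_eq_of_mul_eq_one_right (hsq' c)
    rw [← hinv (a * b), _root_.mul_inv_rev, hinv, hinv]
  letI : CommGroup ↥(Q.map π) := { (inferInstance : Group ↥(Q.map π)) with mul_comm := hcommQ }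
  let τ : G →* AddMonoid.End (Additive ↥M) :=
    { toFun := fun g => MonoidHom.toAdditive (MulAut.conjNormal (H := M) g).toMonoidHom
      map_one' := DFunLike.ext _ _ fun a => by
        show Additive.ofMul (MulAut.conjNormal (H := M) 1 (Additive.toMul a)) = a
        rw [map_one]; rfl
      map_mul' := fun g h => DFunLike.ext _ _ fun a => by
        show Additive.ofMul (MulAut.conjNormal (H := M) (g * h) (Additive.toMul a)) = Additive.ofMul (MulAut.conjNormal (H := M) g (MulAut.conjNormal (H := M) h (Additive.toMul a)))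
        rw [map_mul]; rfl }
  have hτ : ∀ g a, ((Additive.toMul (τ g a) : ↥M) : G) = g * (Additive.toMul a : ↥M) * g⁻¹ := fun g a =>
    MulAut.conjNormal_apply g (Additive.toMul a)
  let τ' : G →* AddMonoid.End (Additive ↥(Q.map π)) :=
    { toFun := fun g => MonoidHom.toAdditive (MulAut.conjNormal (H := Q.map π) (π g)).toMonoidHom
      map_one' := DFunLike.ext _ _ fun a => by
        show Additive.ofMul (MulAut.conjNormal (H := Q.map π) (π 1) (Additive.toMul a)) = a
        rw [map_one, map_one]; rfl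
      map_mul' := fun g h => DFunLike.ext _ _ fun a => by
        show Additive.ofMul (MulAut.conjNormal (H := Q.map π) (π (g * h)) (Additive.toMul a)) = Additive.ofMul (MulAut.conjNormal (H := Q.map π) (π g) (MulAut.conjNormal (H := Q.map π) (π h) (Additive.toMul a)))
        rw [map_mul, map_mul]; rfl }
  have hτ' : ∀ g a, ((Additive.toMul (τ' g a) : ↥(Q.map π)) : G ⧸ M) = π g * (Additive.toMul a : ↥(Q.map π)) * (π g)⁻¹ := fun g a =>
    MulAut.conjNormal_apply (π g) (Additive.toMul a)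
  obtain ⟨act, hact, hrel⟩ := exists_act Q hQ2 e τ (fun q hq => DFunLike.ext _ _ fun a => Additive.toMul.injective (Subtype.ext (by
    rw [hτ]
    show q * (Additive.toMul a : ↥M).1 * q⁻¹ = (Additive.toMul a : ↥M).1
    rw [hMc _ (Additive.toMul a).2 q hq, mul_inv_cancel_right]))) hx (fun a ha => by
      refine Additive.toMul.injective (Subtype.ext (hfpf _ (hMQ (Additive.toMul a).2) ?_))
      rw [← hτ, ha])
  obtain ⟨act', hact', hrel'⟩ := exists_act Q hQ2 e τ' (fun q hq => DFunLike.ext _ _ fun a => Additive.toMul.injective (Subtype.ext (by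
    rw [hτ']
    have := congrArg Subtype.val (hcommQ ⟨π q, mem_map_of_mem π hq⟩ (Additive.toMul a))
    simp only [Subgroup.coe_mul] at this
    rw [this, mul_inv_cancel_right]; rfl))) hx (fun a ha => by
      obtain ⟨q, hq, hqa⟩ := (Additive.toMul a).2
      have h1 : π (x * q * x⁻¹ * q⁻¹) = 1 := by
        have h2 := congrArg (fun b => ((Additive.toMul b : ↥(Q.map π)) : G ⧸ M)) ha
        simp only [hτ'] at h2
        rw [map_mul, map_mul, map_mul, map_inv, map_inv, hqa, h2, mul_inv_cancel]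
      refine Additive.toMul.injective (Subtype.ext ?_)
      rw [← hqa]
      exact (hπ1 q).2 (hfpfQ q hq ((hπ1 _).1 h1)))
  have h2M : ∀ a : Additive ↥M, a + a = 0 := fun a => Additive.toMul.injective (Subtype.ext (hM2 _ (Additive.toMul a).2))
  have h2Q : ∀ a : Additive ↥(Q.map π), a + a = 0 := fun a => Additive.toMul.injective (hsq' _)
  -- the commutator pairing
  have hsec : ∀ a : Additive ↥(Q.map π), ∃ q ∈ Q, π q = ((Additive.toMul a : ↥(Q.map π)) : G ⧸ M) := fun a => (Additive.toMul a).2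
  choose sec hsQ hsec using hsec
  have hcommM : ∀ a ∈ Q, ∀ b ∈ Q, ⁅a, b⁆ ∈ M := fun a ha b hb => by
    rw [← hπ1, map_commutatorElement, commutatorElement_eq_one_iff_mul_comm]
    exact congrArg Subtype.val (hcommQ ⟨π a, mem_map_of_mem π ha⟩ ⟨π b, mem_map_of_mem π hb⟩)
  have hwd : ∀ a ∈ Q, ∀ a' ∈ Q, ∀ b ∈ Q, ∀ b' ∈ Q, π a = π a' → π b = π b' → ⁅a, b⁆ = ⁅a', b'⁆ := by
    intro a ha a' ha' b hb b' hb' h1 h2
    obtain ⟨m, hm, rfl⟩ : ∃ m ∈ M, a = a' * m :=
      ⟨a'⁻¹ * a, (hπ1 _).1 (by rw [map_mul, map_inv, h1, inv_mul_cancel]), (mul_inv_cancel_left _ _).symm⟩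
    obtain ⟨m', hm', rfl⟩ : ∃ m' ∈ M, b = b' * m' :=
      ⟨b'⁻¹ * b, (hπ1 _).1 (by rw [map_mul, map_inv, h2, inv_mul_cancel]), (mul_inv_cancel_left _ _).symm⟩
    rw [commutatorElement_def, commutatorElement_def, _root_.mul_inv_rev, _root_.mul_inv_rev]
    have e1 : a' * m * (b' * m') = a' * b' * (m * m') := by
      rw [mul_assoc a' m, ← mul_assoc m b', ← hMc m hm b' hb', mul_assoc b' m, ← mul_assoc a']
    calc a' * m * (b' * m') * (m⁻¹ * a'⁻¹) * (m'⁻¹ * b'⁻¹)
        = a' * b' * ((m * m') * m⁻¹) * (a'⁻¹ * m'⁻¹) * b'⁻¹ := by rw [e1]; group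
      _ = a' * b' * a'⁻¹ * b'⁻¹ := by
        rw [← hMc m' hm' m (hMQ hm)|>.symm, mul_inv_cancel_right, mul_assoc (a' * b'), ← mul_assoc m' a'⁻¹,
          ← hMc m' hm' a'⁻¹ (inv_mem ha'), mul_inv_cancel_right]
  let B : Additive ↥(Q.map π) → Additive ↥(Q.map π) → Additive ↥M := fun a b =>
    Additive.ofMul ⟨⁅sec a, sec b⁆, hcommM _ (hsQ a) _ (hsQ b)⟩
  have hB : ∀ a b, ((Additive.toMul (B a b) : ↥M) : G) = ⁅sec a, sec b⁆ := fun _ _ => rfl
  have hl : ∀ a b c, B (a + b) c = B a c + B b c := fun a b c => Additive.toMul.injective (Subtype.ext (by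
    show ⁅sec (a + b), sec c⁆ = ⁅sec a, sec c⁆ * ⁅sec b, sec c⁆
    rw [hwd _ (hsQ _) (sec a * sec b) (mul_mem (hsQ a) (hsQ b)) _ (hsQ c) _ (hsQ c)
      (by rw [map_mul, hsec, hsec, hsec, toMul_add, Subgroup.coe_mul]) rfl]
    rw [show ⁅sec a * sec b, sec c⁆ = sec a * ⁅sec b, sec c⁆ * (sec a)⁻¹ * ⁅sec a, sec c⁆ by
      simp only [commutatorElement_def]; group]
    rw [hMc _ (hcommM _ (hsQ b) _ (hsQ c)) _ (hsQ a), mul_inv_cancel_right]
    exact (hMc _ (hcommM _ (hsQ b) _ (hsQ c)) _ (hMQ (hcommM _ (hsQ a) _ (hsQ c)))).symm))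
  have hswap : ∀ a b, B b a = B a b := fun a b => Additive.toMul.injective (Subtype.ext (by
    show ⁅sec b, sec a⁆ = ⁅sec a, sec b⁆
    rw [← commutatorElement_inv]
    exact inv_eq_of_mul_eq_one_right (hM2 _ (hcommM _ (hsQ a) _ (hsQ b)))))
  have hequiv : ∀ g a b, B (act' g a) (act' g b) = act g (B a b) := fun g a b => by
    obtain ⟨h, hh⟩ := QuotientGroup.mk_surjective (e.symm g)
    obtain rfl : e (h : G ⧸ Q) = g := by rw [hh, e.apply_symm_apply]
    refine Additive.toMul.injective (Subtype.ext ?_)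
    rw [hact, hτ, hB, hB, hact', hact']
    have hqn : ∀ c, h * sec c * h⁻¹ ∈ Q := fun c => (inferInstance : Q.Normal).conj_mem _ (hsQ c) h
    rw [hwd _ (hsQ _) _ (hqn a) _ (hsQ _) _ (hqn b) (by rw [hsec, hτ', map_mul, map_mul, map_inv, hsec])
      (by rw [hsec, hτ', map_mul, map_mul, map_inv, hsec])]
    simp only [commutatorElement_def]; group
  have hB0 := pairing_zero (act := act') (act' := act) hrel' hrel h2Q h2M hF B hl
    (fun a b c => by rw [hswap, hl, hswap b, hswap c]) hswap hequiv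
  have hQc : ∀ a ∈ Q, ∀ b ∈ Q, a * b = b * a := fun a ha b hb => by
    rw [← commutatorElement_eq_one_iff_mul_comm]
    have h1 : ∀ c (hc : c ∈ Q), π (sec (Additive.ofMul (⟨π c, mem_map_of_mem π hc⟩ : ↥(Q.map π)))) = π c := fun c hc => hsec _
    rw [hwd a ha _ (hsQ _) b hb _ (hsQ _) (h1 a ha).symm (h1 b hb).symm, ← hB, hB0]
    rfl
  letI : CommGroup ↥Q := { (inferInstance : Group ↥Q) with mul_comm := fun a b => Subtype.ext (hQc _ a.2 _ b.2) }
  let τ2 : G →* AddMonoid.End (Additive ↥Q) :=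
    { toFun := fun g => MonoidHom.toAdditive (MulAut.conjNormal (H := Q) g).toMonoidHom
      map_one' := DFunLike.ext _ _ fun a => by
        show Additive.ofMul (MulAut.conjNormal (H := Q) 1 (Additive.toMul a)) = a
        rw [map_one]; rfl
      map_mul' := fun g h => DFunLike.ext _ _ fun a => by
        show Additive.ofMul (MulAut.conjNormal (H := Q) (g * h) (Additive.toMul a)) = Additive.ofMul (MulAut.conjNormal (H := Q) g (MulAut.conjNormal (H := Q) h (Additive.toMul a)))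
        rw [map_mul]; rfl }
  have hτ2 : ∀ g a, ((Additive.toMul (τ2 g a) : ↥Q) : G) = g * (Additive.toMul a : ↥Q) * g⁻¹ := fun g a =>
    MulAut.conjNormal_apply g (Additive.toMul a)
  obtain ⟨act2, -, hrel2⟩ := exists_act Q hQ2 e τ2 (fun q hq => DFunLike.ext _ _ fun a => Additive.toMul.injective (Subtype.ext (by
    rw [hτ2, hQc q hq _ (Additive.toMul a).2, mul_inv_cancel_right]; rfl))) hx (fun a ha => by
      refine Additive.toMul.injective (Subtype.ext (hfpf _ (Additive.toMul a).2 ?_))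
      rw [← hτ2, ha])
  have h4 : ∀ a : Additive ↥Q, (a + a) + (a + a) = 0 := fun a => Additive.toMul.injective (Subtype.ext
    (hM2 _ (hsq _ (Additive.toMul a).2)))
  intro q hq
  exact congrArg (fun a : Additive ↥Q => ((Additive.toMul a : ↥Q) : G)) (fpf_exponent_two hrel2 h4 hF (Additive.ofMul ⟨q, hq⟩))

open Subgroup in
/-- The extension kernel is elementary abelian. -/
theorem fpf_extension_elementary [CharP F 2] [Finite F] (hF : ∃ t : F, t ≠ 0 ∧ t ≠ 1) :
    ∀ (n : ℕ) {G : Type*} [Group G] [Finite G] (Q : Subgroup G) [Q.Normal], Nat.card Q ≤ n → IsPGroup 2 Q →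
      (G ⧸ Q ≃* SL(2, F)) → ∀ x : G, orderOf x = 3 → (∀ q ∈ Q, x * q * x⁻¹ = q → q = 1) →
      ∀ q ∈ Q, q * q = 1 := by
  intro n
  induction n using Nat.strong_induction_on with
  | _ n ih =>
    intro G _ _ Q _ hn hQ2 e x hx hfpf
    classical
    by_cases hQ1 : Q = ⊥
    · intro q hq
      rw [hQ1, mem_bot] at hq
      rw [hq, mul_one]
    let M : Subgroup G :=
      { carrier := {m | m ∈ Q ∧ m * m = 1 ∧ ∀ q ∈ Q, q * m = m * q}
        one_mem' := ⟨one_mem _, one_mul _, fun q _ => by simp⟩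
        mul_mem' := fun {a b} ha hb => ⟨mul_mem ha.1 hb.1, by
          rw [mul_assoc, ← mul_assoc b, hb.2.2 a ha.1 |>.symm, mul_assoc a b, hb.2.1, mul_one, ha.2.1],
          fun q hq => by rw [← mul_assoc, ha.2.2 q hq, mul_assoc, hb.2.2 q hq, mul_assoc]⟩
        inv_mem' := fun {a} ha => by rw [inv_eq_of_mul_eq_one_right ha.2.1]; exact ha }
    haveI hMn : M.Normal := ⟨fun m hm g => ⟨(inferInstance : Q.Normal).conj_mem m hm.1 g, by
      calc g * m * g⁻¹ * (g * m * g⁻¹) = g * (m * m) * g⁻¹ := by group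
        _ = 1 := by rw [hm.2.1]; group, fun q hq => by
      have h1 := hm.2.2 (g⁻¹ * q * g⁻¹⁻¹) ((inferInstance : Q.Normal).conj_mem q hq g⁻¹)
      calc q * (g * m * g⁻¹) = g * (g⁻¹ * q * g⁻¹⁻¹ * m) * g⁻¹ := by group
        _ = g * m * g⁻¹ * q := by rw [h1]; group⟩⟩
    have hMQ : M ≤ Q := fun m hm => hm.1
    have hM1 : M ≠ ⊥ := by
      haveI : Fact (Nat.Prime 2) := ⟨Nat.prime_two⟩
      haveI : Nontrivial ↥Q := Q.nontrivial_iff_ne_bot.2 hQ1
      haveI := hQ2.center_nontrivial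
      obtain ⟨k, hk⟩ := IsPGroup.iff_card.1 (hQ2.to_subgroup (center ↥Q))
      have hk1 : k ≠ 0 := fun h => by
        have h1 := Finite.one_lt_card (α := center ↥Q)
        rw [hk, h, pow_zero] at h1
        exact lt_irrefl _ h1
      obtain ⟨c, hc⟩ := exists_prime_orderOf_dvd_card' (G := center ↥Q) 2 (hk ▸ dvd_pow_self 2 hk1)
      intro h0
      have hmem : ((c : ↥Q) : G) ∈ M := ⟨(c : ↥Q).2, by
        have h1 := pow_orderOf_eq_one c
        rw [hc, pow_two] at h1
        exact congrArg (fun z : center ↥Q => ((z : ↥Q) : G)) h1,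
        fun q hq => congrArg Subtype.val (mem_center_iff.1 c.2 ⟨q, hq⟩)⟩
      rw [h0, mem_bot] at hmem
      have : c = 1 := Subtype.ext (Subtype.ext hmem)
      rw [this, orderOf_one] at hc
      norm_num at hc
    obtain ⟨π, hπ⟩ : ∃ π, π = QuotientGroup.mk' M := ⟨_, rfl⟩
    have hπs : Function.Surjective π := hπ ▸ QuotientGroup.mk'_surjective M
    have hπ1 : ∀ g, π g = 1 ↔ g ∈ M := fun g => by rw [hπ]; exact QuotientGroup.eq_one_iff g
    have hfpfQ : ∀ q ∈ Q, x * q * x⁻¹ * q⁻¹ ∈ M → q ∈ M := by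
      intro q hq hqm
      let f : ↥M → ↥M := fun m => ⟨x * m * x⁻¹ * (m : G)⁻¹, mul_mem (hMn.conj_mem _ m.2 x) (inv_mem m.2)⟩
      have hf : Function.Injective f := fun a b h => by
        have h1 : x * (a : G) * x⁻¹ * (a : G)⁻¹ = x * (b : G) * x⁻¹ * (b : G)⁻¹ := congrArg Subtype.val h
        have h2 : x * ((b : G)⁻¹ * a) * x⁻¹ = (b : G)⁻¹ * a := by
          calc x * ((b : G)⁻¹ * a) * x⁻¹ = (x * (b : G) * x⁻¹)⁻¹ * (x * (a : G) * x⁻¹ * (a : G)⁻¹) * a := by group
            _ = (b : G)⁻¹ * a := by rw [h1]; group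
        exact Subtype.ext (inv_mul_eq_one.1 (hfpf _ (mul_mem (inv_mem (hMQ b.2)) (hMQ a.2)) h2)).symm
      obtain ⟨m, hm⟩ := (Finite.injective_iff_surjective.1 hf) ⟨_, hqm⟩
      have hm' : x * (m : G) * x⁻¹ * (m : G)⁻¹ = x * q * x⁻¹ * q⁻¹ := congrArg Subtype.val hm
      have h2 : x * ((m : G)⁻¹ * q) * x⁻¹ = (m : G)⁻¹ * q := by
        calc x * ((m : G)⁻¹ * q) * x⁻¹ = (x * (m : G) * x⁻¹)⁻¹ * (x * q * x⁻¹ * q⁻¹) * q := by group
          _ = (m : G)⁻¹ * q := by rw [← hm']; group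
      rw [← inv_mul_eq_one.1 (hfpf _ (mul_mem (inv_mem (hMQ m.2)) hq) h2)]
      exact m.2
    haveI hQn : (Q.map (QuotientGroup.mk' M)).Normal :=
      Subgroup.Normal.map inferInstance _ (QuotientGroup.mk'_surjective M)
    have hcard : Nat.card ↥(Q.map (QuotientGroup.mk' M)) < n := by
      refine lt_of_lt_of_le ?_ hn
      refine lt_of_le_of_ne (Nat.card_le_card_of_surjective _ ((QuotientGroup.mk' M).subgroupMap_surjective Q)) fun heq => hM1 ?_
      have hbij := (Nat.bijective_iff_surjective_and_card ((QuotientGroup.mk' M).subgroupMap Q)).2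
        ⟨(QuotientGroup.mk' M).subgroupMap_surjective Q, heq.symm⟩
      rw [eq_bot_iff]
      intro m hm
      rw [mem_bot]
      exact congrArg Subtype.val (@hbij.1 ⟨m, hMQ hm⟩ 1 (Subtype.ext (by
        show QuotientGroup.mk' M m = QuotientGroup.mk' M 1
        rw [map_one]; exact (QuotientGroup.eq_one_iff m).2 hm)))
    have hx' : orderOf (QuotientGroup.mk' M x) = 3 := by
      have h3 : (QuotientGroup.mk' M x) ^ 3 = 1 := by rw [← map_pow, ← hx, pow_orderOf_eq_one, map_one]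
      haveI : Fact (Nat.Prime 3) := ⟨Nat.prime_three⟩
      refine orderOf_eq_prime h3 fun h => ?_
      obtain ⟨k, hk⟩ := hQ2 ⟨x, hMQ ((QuotientGroup.eq_one_iff x).1 h)⟩
      have h2 : orderOf x ∣ 2 ^ k := orderOf_dvd_of_pow_eq_one (congrArg Subtype.val hk)
      rw [hx] at h2
      exact absurd (Nat.Prime.dvd_of_dvd_pow Nat.prime_three h2) (by norm_num)
    have hsq : ∀ q ∈ Q, q * q ∈ M := by
      intro q hq
      have hrec := ih _ hcard (Q.map (QuotientGroup.mk' M)) le_rfl (hQ2.map _)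
        ((QuotientGroup.quotientQuotientEquivQuotient M Q hMQ).trans e) (QuotientGroup.mk' M x) hx' (by
          rintro _ ⟨r, hr, rfl⟩ h
          refine (QuotientGroup.eq_one_iff r).2 (hfpfQ r hr ((QuotientGroup.eq_one_iff _).1 ?_))
          rw [← map_inv, ← map_mul, ← map_mul] at h
          show QuotientGroup.mk' M (x * r * x⁻¹ * r⁻¹) = 1
          rw [map_mul, h, ← map_mul, mul_inv_cancel, map_one]) _ (mem_map_of_mem _ hq)
      rw [← map_mul] at hrec
      exact (QuotientGroup.eq_one_iff _).1 hrec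
    exact fpf_step hF Q hQ2 e hx hfpf M hMQ (fun m hm => hm.2.2) (fun m hm => hm.2.1) hsq hfpfQ

end CfsgLib.LocalEvenB
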