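import Cfsg.Agent.Lib.Signalizer.Basic
import Cfsg.Agent.Lib.Core.Cores
import Cfsg.Agent.Lib.Components.FStar
import Cfsg.Agent.Lib.ZStar.Main
import Mathlib.GroupTheory.FixedPointFree

/-!
# Cores of involution centralisers generating an abelian subgroup of odd order
-/

set_option autoImplicit false
set_option linter.all false

namespace CfsgLib.LocalEvenB

open Subgroup Cfsg
open scoped commutatorElement

variable {G : Type*} [Group G] [Finite G]

/-- `O(C_G(y))` in `G`. -/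
def centOddCore (y : G) : Subgroup G :=
  (Cfsg.oddCore ↥(centralizer ({y} : Set G))).map (centralizer ({y} : Set G)).subtype

theorem centOddCore_le (y : G) : centOddCore y ≤ centralizer ({y} : Set G) := map_subtype_le _

theorem centOddCore_odd (y : G) : Odd (Nat.card (centOddCore y)) := by
  rw [centOddCore, card_map_of_injective (subtype_injective _)]
  exact CfsgLib.ZStar.odd_card_oddCore _

theorem centralizer_le_normalizer_centOddCore (y : G) :
    centralizer ({y} : Set G) ≤ normalizer (centOddCore y : Set G) := by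
  haveI : (Cfsg.oddCore ↥(centralizer ({y} : Set G))).Normal := CfsgLib.Core.normal_pPrimeCore 2 _
  have h := le_normalizer_map (H := Cfsg.oddCore ↥(centralizer ({y} : Set G))) (centralizer ({y} : Set G)).subtype
  rwa [normalizer_eq_top, ← MonoidHom.range_eq_map, range_subtype] at h

theorem eq_one_of_mem_two {U : Subgroup G} (hU : IsPGroup 2 U) {x : G} (hx : x ∈ U)
    (ho : Odd (orderOf x)) : x = 1 := by
  obtain ⟨k, hk⟩ := IsPGroup.iff_orderOf.1 hU ⟨x, hx⟩
  rw [Subgroup.orderOf_mk] at hk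
  rcases Nat.eq_zero_or_pos k with h | h
  · rwa [h, pow_zero, orderOf_eq_one_iff] at hk
  · rw [hk] at ho
    exact absurd ho (Nat.not_odd_iff_even.2 (Nat.even_pow.2 ⟨even_two, h.ne'⟩))

theorem odd_orderOf_of_mem {H : Subgroup G} (hH : Odd (Nat.card H)) {x : G} (hx : x ∈ H) :
    Odd (orderOf x) := by
  refine hH.of_dvd_nat ?_
  rw [← Subgroup.orderOf_mk _ hx]
  exact orderOf_dvd_natCard _

/-- An odd subgroup normalised by `C_X(a)`, centralised by the involution `a`, centralises any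
normal 2-subgroup `U` of `X`. -/
theorem centralizes_two_of_normalized {X D U : Subgroup G} (hU : IsPGroup 2 U) (hUX : U ≤ X)
    (hXU : X ≤ normalizer (U : Set G)) {a : G} (ha2 : a ^ 2 = 1) (haX : a ∈ X)
    (hDX : D ≤ X ⊓ centralizer ({a} : Set G)) (hD : Odd (Nat.card D))
    (hnorm : X ⊓ centralizer ({a} : Set G) ≤ normalizer (D : Set G)) :
    D ≤ centralizer (U : Set G) := by
  refine CfsgLib.Core.pq_lemma (P := zpowers a) (p := 2) ?_ (Nat.coprime_two_right.2 hD) hU ?_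
    (zpowers_le.2 (hXU haX)) (fun d hd => hXU (hDX hd).1) ?_
  · intro x
    refine ⟨1, Subtype.ext ?_⟩
    obtain ⟨i, hi⟩ := mem_zpowers_iff.1 x.2
    show (x : G) ^ 2 ^ 1 = 1
    rw [← hi, ← zpow_natCast, ← zpow_mul, mul_comm, zpow_mul, zpow_natCast, pow_one, ha2, one_zpow]
  · rw [zpowers_le, mem_centralizer_iff]
    intro d hd
    exact mem_centralizer_singleton_iff.1 (hDX hd).2
  · rintro u ⟨hu, hua⟩
    rw [mem_centralizer_iff]
    intro d hd
    have huN : u ∈ normalizer (D : Set G) :=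
      hnorm ⟨hUX hu, mem_centralizer_singleton_iff.2 (mem_centralizer_iff.1 hua a (mem_zpowers a)).symm⟩
    have h1 : d * u * d⁻¹ * u⁻¹ ∈ U :=
      mul_mem ((mem_normalizer_iff.1 (hXU (hDX hd).1) u).1 hu) (inv_mem hu)
    have h2 : d * u * d⁻¹ * u⁻¹ ∈ D := by
      rw [show d * u * d⁻¹ * u⁻¹ = d * (u * d⁻¹ * u⁻¹) by group]
      exact mul_mem hd ((mem_normalizer_iff.1 huN _).1 (inv_mem hd))
    have h3 := eq_one_of_mem_two hU h1 (odd_orderOf_of_mem hD h2)
    rw [mul_inv_eq_one] at h3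
    exact mul_inv_eq_iff_eq_mul.1 h3

/-- An involution acting without fixed points inverts. -/
theorem inverts_of_fixedPointFree {H : Subgroup G} {z : G} (hz : z ^ 2 = 1)
    (hzH : z ∈ normalizer (H : Set G)) (hfix : H ⊓ centralizer ({z} : Set G) = ⊥) :
    ∀ x ∈ H, z * x * z⁻¹ = x⁻¹ := by
  intro x hx
  let φ : H →* H := (normalizerMonoidHom H ⟨z, hzH⟩).toMonoidHom
  have hφ : ∀ y : H, ((φ y : H) : G) = z * y * z⁻¹ := fun y => rfl
  have hfpf : MonoidHom.FixedPointFree φ := by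
    intro y hy
    have h1 : (y : G) ∈ H ⊓ centralizer ({z} : Set G) := ⟨y.2, mem_centralizer_singleton_iff.2 (by
      have := congrArg Subtype.val hy
      rw [hφ] at this
      exact (mul_inv_eq_iff_eq_mul.1 this).symm)⟩
    rw [hfix, mem_bot] at h1
    exact Subtype.ext h1
  have hinvol : Function.Involutive φ := fun y => Subtype.ext (by
    rw [hφ, hφ, show z * (z * (y : G) * z⁻¹) * z⁻¹ = z ^ 2 * y * (z ^ 2)⁻¹ by rw [pow_two]; group, hz]
    group)
  have := congrArg Subtype.val (congrFun (hfpf.coe_eq_inv_of_involutive hinvol) ⟨x, hx⟩)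
  rw [hφ] at this
  exact this

variable {Y : Subgroup G}

theorem centOddCore_inverted (hY : IsElementaryAbelian 2 Y) {z : G} (hzY : z ∈ Y)
    (hz : generalizedFittingSubgroup ↥(centralizer ({z} : Set G)) = pCore 2 ↥(centralizer ({z} : Set G)))
    {a : G} (ha : a ∈ Y) : ∀ x ∈ centOddCore a, z * x * z⁻¹ = x⁻¹ := by
  have hcomm : a * z = z * a := CfsgLib.Signalizer.elementary_comm hY ha hzY
  refine inverts_of_fixedPointFree (hY.2 z hzY)
    (centralizer_le_normalizer_centOddCore a (mem_centralizer_singleton_iff.2 hcomm.symm)) ?_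
  obtain ⟨X, hX⟩ : ∃ X, X = centralizer ({z} : Set G) := ⟨_, rfl⟩
  rw [← hX] at hz ⊢
  obtain ⟨U, hU⟩ : ∃ U, U = (pCore 2 ↥X).map X.subtype := ⟨_, rfl⟩
  obtain ⟨D, hD⟩ : ∃ D, D = centOddCore a ⊓ X := ⟨_, rfl⟩
  rw [← hD]
  have hU2 : IsPGroup 2 U := hU ▸ (CfsgLib.Core.isPGroup_pCore 2 ↥X).map _
  have hXU : X ≤ normalizer (U : Set G) := by
    haveI := CfsgLib.Core.normal_pCore 2 ↥X
    have h := le_normalizer_map (H := pCore 2 ↥X) X.subtype
    rw [normalizer_eq_top, ← MonoidHom.range_eq_map, range_subtype] at h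
    exact hU ▸ h
  have hDodd : Odd (Nat.card D) := (centOddCore_odd a).of_dvd_nat (card_dvd_of_le (hD ▸ inf_le_left))
  have hcent := centralizes_two_of_normalized (X := X) (D := D) hU2 (hU ▸ map_subtype_le _) hXU
    (hY.2 a ha) (hX ▸ mem_centralizer_singleton_iff.2 hcomm)
    (hD ▸ le_inf inf_le_right (inf_le_left.trans (centOddCore_le a))) hDodd
    (hD ▸ le_trans (le_inf (inf_le_right.trans (centralizer_le_normalizer_centOddCore a))
      (inf_le_left.trans le_normalizer)) inf_normalizer_le_normalizer_inf)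
  rw [eq_bot_iff]
  intro d hd
  have hdX : d ∈ X := (hD ▸ hd : d ∈ centOddCore a ⊓ X).2
  have h1 : (⟨d, hdX⟩ : X) ∈ generalizedFittingSubgroup ↥X := by
    refine CfsgLib.Components.centralizer_gFitting_le (mem_centralizer_iff.2 fun y hy => Subtype.ext ?_)
    rw [hz] at hy
    exact mem_centralizer_iff.1 (hcent hd) (y : G) (hU ▸ mem_map_of_mem _ hy)
  rw [hz] at h1
  exact mem_bot.2 (eq_one_of_mem_two hU2 (hU ▸ mem_map_of_mem X.subtype h1) (odd_orderOf_of_mem hDodd hd))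

theorem centOddCore_commute (hY : IsElementaryAbelian 2 Y) {z : G} (hzY : z ∈ Y)
    (hz : generalizedFittingSubgroup ↥(centralizer ({z} : Set G)) = pCore 2 ↥(centralizer ({z} : Set G)))
    {a : G} (ha : a ∈ Y) {x y : G} (hx : x ∈ centOddCore a) (hy : y ∈ centOddCore a) : x * y = y * x := by
  have h1 := centOddCore_inverted hY hzY hz ha (x⁻¹ * y⁻¹) (mul_mem (inv_mem hx) (inv_mem hy))
  have h2 := centOddCore_inverted hY hzY hz ha x⁻¹ (inv_mem hx)
  have h3 := centOddCore_inverted hY hzY hz ha y⁻¹ (inv_mem hy)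
  rw [inv_inv] at h2 h3
  rw [mul_inv_rev, inv_inv, inv_inv] at h1
  rw [← h1, show z * (x⁻¹ * y⁻¹) * z⁻¹ = (z * x⁻¹ * z⁻¹) * (z * y⁻¹ * z⁻¹) by group, h2, h3]

theorem centOddCore_balance (hY : IsElementaryAbelian 2 Y)
    (hE : ∀ x ∈ Y, x ≠ 1 → layer ↥(centralizer ({x} : Set G)) = ⊥) {z : G} (hzY : z ∈ Y)
    (hz : generalizedFittingSubgroup ↥(centralizer ({z} : Set G)) = pCore 2 ↥(centralizer ({z} : Set G)))
    {a b : G} (ha : a ∈ Y) (hb : b ∈ Y) (hb1 : b ≠ 1) :
    centOddCore a ⊓ centralizer ({b} : Set G) ≤ centOddCore b := by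
  obtain ⟨K, hK⟩ : ∃ K, K = centralizer ({b} : Set G) := ⟨_, rfl⟩
  have hbK : centOddCore b ≤ K := hK ▸ centOddCore_le b
  have hEK : layer ↥K = ⊥ := hK ▸ hE b hb hb1
  rw [← hK]
  obtain ⟨U, hU⟩ : ∃ U, U = (pCore 2 ↥K).map K.subtype := ⟨_, rfl⟩
  obtain ⟨D, hD⟩ : ∃ D, D = centOddCore a ⊓ K := ⟨_, rfl⟩
  rw [← hD]
  have hU2 : IsPGroup 2 U := hU ▸ (CfsgLib.Core.isPGroup_pCore 2 ↥K).map _
  have hXU : K ≤ normalizer (U : Set G) := by
    haveI := CfsgLib.Core.normal_pCore 2 ↥K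
    have h := le_normalizer_map (H := pCore 2 ↥K) K.subtype
    rw [normalizer_eq_top, ← MonoidHom.range_eq_map, range_subtype] at h
    exact hU ▸ h
  have hDK : D ≤ K := hD ▸ inf_le_right
  have hDodd : Odd (Nat.card D) := (centOddCore_odd a).of_dvd_nat (card_dvd_of_le (hD ▸ inf_le_left))
  have hcentU := centralizes_two_of_normalized (X := K) (D := D) hU2 (hU ▸ map_subtype_le _) hXU
    (hY.2 a ha) (hK ▸ mem_centralizer_singleton_iff.2 (CfsgLib.Signalizer.elementary_comm hY ha hb))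
    (hD ▸ le_inf inf_le_right (inf_le_left.trans (centOddCore_le a))) hDodd
    (hD ▸ le_trans (le_inf (inf_le_right.trans (centralizer_le_normalizer_centOddCore a))
      (inf_le_left.trans le_normalizer)) inf_normalizer_le_normalizer_inf)
  intro d hd
  -- `d` centralises `O(C(b))`, both being inverted by `z`
  have hcentA : ∀ w ∈ centOddCore b, d * w = w * d := by
    intro w hw
    have hdw : d * w * d⁻¹ ∈ centOddCore b :=
      (mem_normalizer_iff.1 (centralizer_le_normalizer_centOddCore b (hK ▸ hDK hd)) w).1 hw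
    have h1 := centOddCore_inverted hY hzY hz hb _ hdw
    have h2 := centOddCore_inverted hY hzY hz hb w hw
    have h3 := centOddCore_inverted hY hzY hz ha d (hD ▸ hd : d ∈ centOddCore a ⊓ K).1
    have e : z * (d * w * d⁻¹) * z⁻¹ = (z * d * z⁻¹) * (z * w * z⁻¹) * (z * d * z⁻¹)⁻¹ := by group
    rw [h1, h2, h3, inv_inv, show (d * w * d⁻¹)⁻¹ = d * w⁻¹ * d⁻¹ by group] at e
    have e2 : d ^ 2 * w⁻¹ = w⁻¹ * d ^ 2 := by
      calc d ^ 2 * w⁻¹ = d * (d * w⁻¹ * d⁻¹) * d := by rw [pow_two]; group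
        _ = d * (d⁻¹ * w⁻¹ * d) * d := by rw [e]
        _ = w⁻¹ * d ^ 2 := by rw [pow_two]; group
    obtain ⟨k, hk⟩ := exists_pow_eq_self_of_coprime (x := d) (n := 2)
      (Nat.coprime_two_left.2 (odd_orderOf_of_mem hDodd hd))
    have e3 : Commute (d ^ 2) w := by simpa using (show Commute (d ^ 2) w⁻¹ from e2).inv_right
    exact hk ▸ (e3.pow_left k).eq
  obtain ⟨dk, hdk⟩ : ∃ dk : K, dk = ⟨d, hDK hd⟩ := ⟨_, rfl⟩
  have hFle : fittingSubgroup ↥K ≤ pCore 2 ↥K ⊔ oddCore ↥K := by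
    rw [CfsgLib.Core.fittingSubgroup_eq_finset_sup]
    refine Finset.sup_le fun p hp => ?_
    by_cases hp2 : p = 2
    · exact hp2 ▸ le_sup_left
    · haveI := Fact.mk (Nat.mem_primeFactors.mp hp).1
      obtain ⟨i, hi⟩ := IsPGroup.iff_card.1 (CfsgLib.Core.isPGroup_pCore p ↥K)
      refine le_trans (CfsgLib.ZStar.le_oddCore (CfsgLib.Core.normal_pCore p ↥K) ?_) le_sup_right
      rw [hi]
      exact ((Fact.out : p.Prime).odd_of_ne_two hp2).pow
  have hdC : dk ∈ centralizer (fittingSubgroup ↥K : Set ↥K) := by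
    have h1 : pCore 2 ↥K ⊔ oddCore ↥K ≤ centralizer ({dk} : Set ↥K) := by
      refine sup_le (fun u hu => ?_) (fun w hw => ?_)
      · exact mem_centralizer_singleton_iff.2 (Subtype.ext (hdk ▸
          (mem_centralizer_iff.1 (hcentU hd) (u : G) (hU ▸ mem_map_of_mem _ hu))))
      · subst hK
        exact mem_centralizer_singleton_iff.2 (Subtype.ext (hdk ▸ (hcentA _ ⟨w, hw, rfl⟩).symm))
    exact mem_centralizer_iff.2 fun f hf => mem_centralizer_singleton_iff.1 (h1 (hFle hf))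
  have hdF := hFle (CfsgLib.Components.centralizer_fitting_le_of_layer_eq_bot hEK hdC)
  haveI : (oddCore ↥K).Normal := CfsgLib.Core.normal_pPrimeCore 2 _
  obtain ⟨u, hu, w, hw, huw⟩ := mem_sup_of_normal_right.1 hdF
  have hdo : Odd (orderOf dk) := by
    rw [hdk, Subgroup.orderOf_mk]; exact odd_orderOf_of_mem hDodd hd
  have hπ : QuotientGroup.mk' (oddCore ↥K) dk = QuotientGroup.mk' (oddCore ↥K) u := by
    rw [← huw, map_mul]
    simp only [QuotientGroup.mk'_apply, (QuotientGroup.eq_one_iff w).2 hw, mul_one]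
  have h1 : orderOf (QuotientGroup.mk' (oddCore ↥K) dk) = 1 := by
    obtain ⟨i, hi⟩ := IsPGroup.iff_orderOf.1 (CfsgLib.Core.isPGroup_pCore 2 ↥K) ⟨u, hu⟩
    rw [Subgroup.orderOf_mk] at hi
    exact Nat.eq_one_of_dvd_coprimes ((Nat.coprime_two_right.2 hdo).pow_right i)
      (orderOf_map_dvd _ _) (hi ▸ hπ ▸ orderOf_map_dvd _ _)
  subst hK
  exact ⟨dk, (QuotientGroup.eq_one_iff dk).1 (orderOf_eq_one_iff.1 h1), congrArg Subtype.val hdk⟩

theorem centOddCores_commute (hY : IsElementaryAbelian 2 Y) (h8 : 8 ≤ Nat.card Y)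
    (hE : ∀ x ∈ Y, x ≠ 1 → layer ↥(centralizer ({x} : Set G)) = ⊥) {z : G} (hzY : z ∈ Y)
    (hz : generalizedFittingSubgroup ↥(centralizer ({z} : Set G)) = pCore 2 ↥(centralizer ({z} : Set G)))
    {a b : G} (ha : a ∈ Y) (hb : b ∈ Y) :
    centOddCore a ≤ centralizer (centOddCore b : Set G) := by
  have hYn : ∀ c ∈ Y, Y ≤ normalizer (centOddCore c : Set G) := fun c hc =>
    (CfsgLib.Signalizer.elementary_le_centralizer hY hc).trans (centralizer_le_normalizer_centOddCore c)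
  have h2 : ∀ c : G, ¬ 2 ∣ Nat.card (centOddCore c) := fun c => (centOddCore_odd c).not_two_dvd_nat
  refine CfsgLib.Signalizer.le_of_hyperplanes_le hY (h2 a) (hYn a ha) fun B₁ hB₁ hi₁ => ?_
  rw [le_centralizer_iff]
  refine CfsgLib.Signalizer.le_of_hyperplanes_le hY (h2 b) (hYn b hb) fun B₂ hB₂ hi₂ => ?_
  have hne : B₁ ⊓ B₂ ≠ ⊥ := by
    intro h0
    have h1 : (B₁ ⊓ B₂).relIndex Y ≤ B₁.relIndex Y * B₂.relIndex Y := relIndex_inf_le
    rw [h0, relIndex_bot_left] at h1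
    have := Nat.mul_le_mul hi₁ hi₂
    omega
  obtain ⟨e, ⟨he₁, he₂⟩, he1⟩ := (Subgroup.bot_or_exists_ne_one _).resolve_left hne
  rintro y ⟨hy, hyB⟩
  rw [mem_centralizer_iff]
  rintro x ⟨hx, hxB⟩
  have hc : ∀ {w : G}, w ∈ centralizer (B₁ : Set G) ∨ w ∈ centralizer (B₂ : Set G) →
      w ∈ centralizer ({e} : Set G) := by
    rintro w (h | h)
    · exact mem_centralizer_singleton_iff.2 (mem_centralizer_iff.1 h e he₁).symm
    · exact mem_centralizer_singleton_iff.2 (mem_centralizer_iff.1 h e he₂).symm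
  exact centOddCore_commute hY hzY hz (hB₁ he₁)
    (centOddCore_balance hY hE hzY hz ha (hB₁ he₁) he1 ⟨hx, hc (Or.inl hxB)⟩)
    (centOddCore_balance hY hE hzY hz hb (hB₁ he₁) he1 ⟨hy, hc (Or.inr hyB)⟩)

theorem centOddCores_generate_odd (hY : IsElementaryAbelian 2 Y) (h8 : 8 ≤ Nat.card Y)
    (hE : ∀ x ∈ Y, x ≠ 1 → layer ↥(centralizer ({x} : Set G)) = ⊥) {z : G} (hzY : z ∈ Y)
    (hz : generalizedFittingSubgroup ↥(centralizer ({z} : Set G)) = pCore 2 ↥(centralizer ({z} : Set G))) :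
    Odd (Nat.card ↥(⨆ y : {y : G // y ∈ Y ∧ y ≠ 1}, centOddCore (y : G))) := by
  obtain ⟨W, hW⟩ : ∃ W, W = ⨆ y : {y : G // y ∈ Y ∧ y ≠ 1}, centOddCore (y : G) := ⟨_, rfl⟩
  rw [← hW]
  have hWc : W ≤ centralizer (W : Set G) := by
    conv_lhs => rw [hW]
    refine iSup_le fun y => ?_
    rw [le_centralizer_iff, hW]
    exact iSup_le fun w => centOddCores_commute hY h8 hE hzY hz w.2.1 y.2.1
  have hall : ∀ x ∈ W, Odd (orderOf x) := by
    intro x hx
    suffices h : x ∈ W ∧ Odd (orderOf x) from h.2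
    rw [hW] at hx
    refine iSup_induction _ (C := fun x => x ∈ W ∧ Odd (orderOf x)) hx (fun y u hu => ?_)
      ⟨one_mem _, by simp⟩ ?_
    · exact ⟨hW ▸ mem_iSup_of_mem y hu, odd_orderOf_of_mem (centOddCore_odd _) hu⟩
    · rintro u v ⟨huW, hu⟩ ⟨hvW, hv⟩
      exact ⟨mul_mem huW hvW, (hu.mul hv).of_dvd_nat
        (show Commute u v from mem_centralizer_iff.1 (hWc hvW) u huW).orderOf_mul_dvd_mul_orderOf⟩
  rw [Nat.odd_iff, Nat.two_dvd_ne_zero.symm.trans Iff.rfl]
  intro hd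
  obtain ⟨w, hw⟩ := exists_prime_orderOf_dvd_card' (G := W) 2 hd
  have := hall w w.2
  rw [Subgroup.orderOf_coe, hw] at this
  exact absurd this (by decide)

theorem normalizer_le_normalizer_centOddCores (Y : Subgroup G) :
    normalizer (Y : Set G) ≤
      normalizer ((⨆ y : {y : G // y ∈ Y ∧ y ≠ 1}, centOddCore (y : G) : Subgroup G) : Set G) := by
  rw [le_normalizer_iff]
  intro g hg x hx
  obtain ⟨W, hW⟩ : ∃ W, W = ⨆ y : {y : G // y ∈ Y ∧ y ≠ 1}, centOddCore (y : G) := ⟨_, rfl⟩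
  suffices h : W ≤ W.comap (MulAut.conj g).toMonoidHom by rw [← hW] at hx ⊢; exact h hx
  conv_lhs => rw [hW]
  refine iSup_le fun y => ?_
  rintro _ ⟨w, hw, rfl⟩
  obtain ⟨y', hy'⟩ : ∃ y' : G, y' = g * (y : G) * g⁻¹ := ⟨_, rfl⟩
  have hy'Y : y' ∈ Y ∧ y' ≠ 1 := ⟨hy' ▸ (mem_normalizer_iff.1 hg _).1 y.2.1, fun h =>
    y.2.2 (conj_eq_one_iff.1 (hy' ▸ h))⟩
  have hmem : g * ((w : ↥(centralizer ({(y : G)} : Set G))) : G) * g⁻¹ ∈ centOddCore y' := by
    have hyy : (centralizer ({(y : G)} : Set G)).map (MulAut.conj g).toMonoidHom = centralizer ({y'} : Set G) := by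
      ext t
      constructor
      · rintro ⟨s, hs, rfl⟩
        rw [mem_centralizer_singleton_iff, hy']
        show g * s * g⁻¹ * (g * y * g⁻¹) = g * y * g⁻¹ * (g * s * g⁻¹)
        have := mem_centralizer_singleton_iff.1 hs
        calc g * s * g⁻¹ * (g * y * g⁻¹) = g * (s * y) * g⁻¹ := by group
          _ = g * (y * s) * g⁻¹ := by rw [this]
          _ = g * y * g⁻¹ * (g * s * g⁻¹) := by group
      · intro ht
        refine ⟨g⁻¹ * t * g, ?_, by show g * (g⁻¹ * t * g) * g⁻¹ = t; group⟩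
        rw [SetLike.mem_coe, mem_centralizer_singleton_iff]
        rw [mem_centralizer_singleton_iff, hy'] at ht
        calc g⁻¹ * t * g * y = g⁻¹ * (t * (g * y * g⁻¹)) * g := by group
          _ = g⁻¹ * (g * y * g⁻¹ * t) * g := by rw [ht]
          _ = y * (g⁻¹ * t * g) := by group
    let e : ↥(centralizer ({(y : G)} : Set G)) ≃* ↥(centralizer ({y'} : Set G)) :=
      ((MulAut.conj g).subgroupMap _).trans (MulEquiv.subgroupCongr hyy)
    exact ⟨e w, (CfsgLib.Core.map_equiv_pPrimeCore (p := 2) e).le (mem_map_of_mem _ hw), rfl⟩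
  exact hW ▸ mem_iSup_of_mem (ι := {y : G // y ∈ Y ∧ y ≠ 1}) ⟨y', hy'Y⟩ hmem

end CfsgLib.LocalEvenB
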