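import Cfsg.Agent.Lib.LocalEvenB.StronglyClosedFusion
import Cfsg.Agent.Lib.Fusion.Sections
import Cfsg.Agent.Lib.Transfer.SLTwoFree
import Cfsg.Agent.Lib.Transfer.LinearStable

/-!
# `Z(J(S))` controls fusion when local subgroups above `Z(S)` involve no `SL₂(p)`
-/

set_option autoImplicit false
set_option linter.all false

open scoped commutatorElement

universe w

namespace CfsgLib.LocalEvenB

open Subgroup Cfsg CfsgLib.PLocal
open scoped Pointwise

variable {p : ℕ} [Fact p.Prime]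

/-- No normalizer of a subgroup between `Z(S)` and `S` involves `SL₂(p)`. -/
def LocallySLFree {G : Type*} [Group G] (p : ℕ) (S : Subgroup G) : Prop :=
  ∀ P : Subgroup G, S ⊓ centralizer (S : Set G) ≤ P → P ≤ S →
    ¬ Involves (Matrix.SpecialLinearGroup (Fin 2) (ZMod p)) ↥(normalizer (P : Set G))

theorem involves_of_hom {X A B L : Type*} [Group X] [Group A] [Group B] [Group L] (j : X →* A)
    (hj : Function.Injective j) (f : X →* B) (hf : Function.Surjective f) (h : Involves L B) : Involves L A := by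
  obtain ⟨K, R, hn, ⟨e⟩⟩ := h
  refine CfsgLib.Fusion.involves_of_surjective (j.comp (K.comap f).subtype)
    (hj.comp (K.comap f).subtype_injective)
    ((e.toMonoidHom.comp (QuotientGroup.mk' (R.subgroupOf K))).comp (f.subgroupComap K)) ?_
  refine (e.surjective.comp (QuotientGroup.mk'_surjective _)).comp ?_
  intro k
  obtain ⟨x, hx⟩ := hf (k : B)
  exact ⟨⟨x, show f x ∈ K from hx ▸ k.2⟩, Subtype.ext hx⟩

theorem ActsAsMember.trans {G : Type*} [Group G] {N U : Subgroup G} {a b : G}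
    (hb : ActsAsMember N U b) (ha : ActsAsMember N U a) (hbU : ∀ u ∈ U, b * u * b⁻¹ ∈ U) :
    ActsAsMember N U (a * b) := by
  obtain ⟨r, hr, hr'⟩ := hb
  obtain ⟨s, hs, hs'⟩ := ha
  refine ⟨s * r, N.mul_mem hs hr, fun u hu => ?_⟩
  calc s * r * u * (s * r)⁻¹ = s * (r * u * r⁻¹) * s⁻¹ := by group
    _ = s * (b * u * b⁻¹) * s⁻¹ := by rw [hr' u hu]
    _ = a * (b * u * b⁻¹) * a⁻¹ := hs' _ (hbU u hu)
    _ = a * b * u * (a * b)⁻¹ := by group

theorem conj_mem_of_normalizer {G : Type*} [Group G] {U : Subgroup G} {y : G}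
    (hy : y ∈ normalizer (U : Set G)) : ∀ u ∈ U, y * u * y⁻¹ ∈ U :=
  fun u hu => (mem_normalizer_iff.1 hy u).1 hu

theorem normalizer_inf_le_normalizer_sup {G : Type*} [Group G] {A B : Subgroup G} {g : G}
    (hA : g ∈ normalizer (A : Set G)) (hB : g ∈ normalizer (B : Set G)) :
    g ∈ normalizer ((A ⊔ B : Subgroup G) : Set G) := by
  rw [mem_normalizer_iff_map_conj_eq] at hA hB ⊢
  change A.map (MulAut.conj g).toMonoidHom = A at hA
  change B.map (MulAut.conj g).toMonoidHom = B at hB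
  show (A ⊔ B).map (MulAut.conj g).toMonoidHom = A ⊔ B
  rw [Subgroup.map_sup, hA, hB]

theorem centerThompsonA_normalizer_le {G : Type*} [Group G] [Finite G] (T : Subgroup G) :
    normalizer (T : Set G) ≤ normalizer ((centerThompsonAOf T : Subgroup G) : Set G) :=
  normalizer_le_normalizer_centerThompsonA T

/-- A group factorizes over a subgroup and a normal `p'`-subgroup: automisers of `p`-subgroups come from the subgroup. -/
theorem absorb_core {G : Type*} [Group G] [Finite G] {M O : Subgroup G} [O.Normal] (hO : (Nat.card O).Coprime p)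
    (hG : M ⊔ O = ⊤) {U : Subgroup G} (hUp : IsPGroup p U) (hUM : U ≤ M) {y : G}
    (hy : y ∈ normalizer (U : Set G)) : ActsAsMember M U y := by
  obtain ⟨o, ho, m, hm, hom⟩ := mem_sup_of_normal_left.1 ((sup_comm O M).trans hG |>.ge (mem_top y))
  subst hom
  obtain ⟨R, hR⟩ : ∃ R, R = O ⊓ M := ⟨_, rfl⟩
  have hUR : U ≤ normalizer (R : Set G) := hR ▸
    (le_inf le_normalizer_of_normal (hUM.trans le_normalizer)).trans inf_normalizer_le_normalizer_inf
  have hconj : ∀ u ∈ U, m * u * m⁻¹ ∈ U ⊔ R := by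
    intro u hu
    have hv := conj_mem_of_normalizer hy u hu
    obtain ⟨v, hv'⟩ : ∃ v, v = o * m * u * (o * m)⁻¹ := ⟨_, rfl⟩
    rw [← hv'] at hv
    have e : m * u * m⁻¹ = v * (v⁻¹ * o⁻¹ * v⁻¹⁻¹ * o) := by rw [hv']; group
    rw [e]
    refine mul_mem_sup hv ?_
    rw [hR]
    refine ⟨O.mul_mem (Normal.conj_mem inferInstance _ (O.inv_mem ho) _) ho, ?_⟩
    have h2 : m * u * m⁻¹ ∈ M := M.mul_mem (M.mul_mem hm (hUM hu)) (M.inv_mem hm)
    rw [e] at h2
    have h3 := M.mul_mem (M.inv_mem (hUM hv)) h2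
    rwa [inv_mul_cancel_left] at h3
  have hidx : ¬ p ∣ U.relIndex (U ⊔ R) := by
    intro hd
    have e1 := CfsgLib.Core.card_sup_mul_card_inf U R hUR
    have e2 := (U.subgroupOf (U ⊔ R)).card_mul_index
    rw [Nat.card_congr (subgroupOfEquivOfLe le_sup_left).toEquiv] at e2
    rw [← e2, mul_assoc] at e1
    have h2 : p ∣ Nat.card R := hd.trans ⟨_, (Nat.eq_of_mul_eq_mul_left Nat.card_pos e1).symm⟩
    have h3 : p ∣ Nat.card O := h2.trans (hR ▸ card_dvd_of_le inf_le_left)
    exact (Fact.out : p.Prime).not_dvd_one (hO ▸ Nat.dvd_gcd h3 dvd_rfl)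
  obtain ⟨b, hb, hbU⟩ := CfsgLib.Transfer.exists_conj_le (S := U.map (MulAut.conj m).toMonoidHom) hUp hidx
    (by rintro _ ⟨u, hu, rfl⟩; exact hconj u hu) (hUp.map _)
  rw [sup_comm, ← SetLike.mem_coe, coe_mul_of_right_le_normalizer_left _ _ hUR] at hb
  obtain ⟨c, hc', a, ha, rfl⟩ := Set.mem_mul.1 hb
  rw [hR] at hc'
  refine ⟨c⁻¹ * m, M.mul_mem (M.inv_mem hc'.2) hm, fun u hu => ?_⟩
  obtain ⟨w, hw⟩ : ∃ w, w = c⁻¹ * m * u * (c⁻¹ * m)⁻¹ := ⟨_, rfl⟩
  have hwU : w ∈ U := by
    have h2 := U.mul_mem (U.mul_mem ha (hbU _ ⟨u, hu, rfl⟩)) (U.inv_mem ha)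
    convert h2 using 1
    show _ = a * ((c * a)⁻¹ * (m * u * m⁻¹) * (c * a)) * a⁻¹
    rw [hw]; group
  have hv : o * m * u * (o * m)⁻¹ = (o * c) * w * (o * c)⁻¹ := by rw [hw]; group
  have hoc : o * c ∈ O := O.mul_mem ho hc'.1
  have h1 : (o * c) * w * (o * c)⁻¹ * w⁻¹ ∈ O := by
    rw [show (o * c) * w * (o * c)⁻¹ * w⁻¹ = (o * c) * (w * (o * c)⁻¹ * w⁻¹) by group]
    exact O.mul_mem hoc (Normal.conj_mem inferInstance _ (O.inv_mem hoc) _)
  have h2 : (o * c) * w * (o * c)⁻¹ * w⁻¹ ∈ U :=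
    U.mul_mem (hv ▸ conj_mem_of_normalizer hy u hu) (U.inv_mem hwU)
  rw [← hw, hv, mul_inv_eq_one.1 (disjoint_def.1 (disjoint_of_isPGroup hO hUp) h2 h1)]

theorem locallySLFree_subgroupOf {G : Type*} [Group G] {S M : Subgroup G} (h : LocallySLFree p S)
    (hZ : S ⊓ centralizer (S : Set G) ≤ M) : LocallySLFree p (S.subgroupOf M) := by
  intro P hP1 hP2 hinv
  refine h (P.map M.subtype) ?_ (map_le_iff_le_comap.2 hP2) ?_
  · intro z hz
    exact ⟨⟨z, hZ hz⟩, hP1 ⟨hz.1, mem_centralizer_iff.2 fun s hs =>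
      Subtype.ext (mem_centralizer_iff.1 hz.2 _ hs)⟩, rfl⟩
  · refine involves_of_hom (X := ↥(normalizer (P : Set ↥M)))
      ((M.subtype.comp (normalizer (P : Set ↥M)).subtype).codRestrict _
        (fun x => le_normalizer_map M.subtype ⟨x, x.2, rfl⟩))
      (fun a b hab => Subtype.ext (Subtype.ext (by have h1 := congrArg Subtype.val hab; exact h1))) (MonoidHom.id _)
      Function.surjective_id hinv

theorem locallySLFree_map {G H : Type*} [Group G] [Group H] (f : G →* H) (hf : Function.Surjective f)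
    {S : Subgroup G} (hker : f.ker ≤ S) (h : LocallySLFree p S) : LocallySLFree p (S.map f) := by
  intro P hP1 hP2 hinv
  have hPS : P.comap f ≤ S := by
    refine (comap_mono hP2).trans ?_
    rw [comap_map_eq, sup_eq_left.2 hker]
  refine h (P.comap f) ?_ hPS ?_
  · intro z hz
    refine hP1 ⟨mem_map_of_mem f hz.1, mem_centralizer_iff.2 ?_⟩
    rintro _ ⟨s, hs, rfl⟩
    rw [← map_mul, ← map_mul, mem_centralizer_iff.1 hz.2 s hs]
  · have e : (normalizer (P : Set H)).comap f = normalizer ((P.comap f : Subgroup G) : Set G) :=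
      comap_normalizer_eq_of_surjective _ hf
    rw [← e]
    refine involves_of_hom (MonoidHom.id _) Function.injective_id (f.subgroupComap (normalizer (P : Set H))) ?_ hinv
    intro k
    obtain ⟨x, hx⟩ := hf (k : H)
    exact ⟨⟨x, show f x ∈ _ from hx ▸ k.2⟩, Subtype.ext hx⟩

/-- Glauberman: `N(Z(J(S)))` controls the fusion in `S`. -/
theorem zj_controls_of_locallySLFree (hp : p ≠ 2) {G : Type w} [Group G] [Finite G] (S : Sylow p G)
    (hfree : LocallySLFree p (S : Subgroup G)) (U : Subgroup G) (hU : U ≤ (S : Subgroup G)) (y : G)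
    (hy : ∀ u ∈ U, y * u * y⁻¹ ∈ (S : Subgroup G)) :
    ActsAsMember (normalizer ((centerThompsonAOf (S : Subgroup G) : Subgroup G) : Set G)) U y := by
  suffices ∀ (n : ℕ) (G : Type w) [Group G] [Finite G], Nat.card G = n → ∀ S : Sylow p G,
      LocallySLFree p (S : Subgroup G) → ∀ U : Subgroup G, U ≤ (S : Subgroup G) → ∀ y : G,
        (∀ u ∈ U, y * u * y⁻¹ ∈ (S : Subgroup G)) →
        ActsAsMember (normalizer ((centerThompsonAOf (S : Subgroup G) : Subgroup G) : Set G)) U y from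
    this _ G rfl S hfree U hU y hy
  intro n
  induction n using Nat.strong_induction_on with
  | _ n ihn =>
  intro G _ _ hn S hfree
  obtain ⟨N, hN⟩ : ∃ N, N = normalizer ((centerThompsonAOf (S : Subgroup G) : Subgroup G) : Set G) := ⟨_, rfl⟩
  rw [← hN]
  have hSN : (S : Subgroup G) ≤ N := hN ▸ le_normalizer.trans (centerThompsonA_normalizer_le _)
  -- fusion in proper subgroups
  have hsub : ∀ M : Subgroup G, M ≠ ⊤ → ¬ p ∣ ((S : Subgroup G) ⊓ M).relIndex M →
      (S : Subgroup G) ⊓ centralizer ((S : Subgroup G) : Set G) ≤ M →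
      ∀ U : Subgroup G, U ≤ (S : Subgroup G) ⊓ M → ∀ y ∈ M, (∀ u ∈ U, y * u * y⁻¹ ∈ (S : Subgroup G)) →
        ActsAsMember (M ⊓ normalizer ((centerThompsonAOf ((S : Subgroup G) ⊓ M) : Subgroup G) : Set G)) U y := by
    intro M hM hsyl hZ U hU y hyM hy
    obtain ⟨T, hT⟩ : ∃ T : Sylow p ↥M, (T : Subgroup ↥M) = (S : Subgroup G).subgroupOf M := by
      refine ⟨(S.2.comap_subtype (K := M)).toSylow ?_, rfl⟩
      intro hd
      apply hsyl
      rwa [inf_relIndex_right]
    obtain ⟨r, hr, hr'⟩ := ihn _ (hn ▸ CfsgLib.Core.card_subgroup_lt M hM) ↥M rfl T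
      (hT ▸ locallySLFree_subgroupOf hfree hZ) (U.subgroupOf M) (hT ▸ fun u hu => (hU hu).1) ⟨y, hyM⟩
      (hT ▸ fun u hu => hy _ hu)
    refine ⟨(r : G), ⟨r.2, ?_⟩, fun u hu => congrArg Subtype.val (hr' ⟨u, (hU hu).2⟩ hu)⟩
    have h1 := le_normalizer_map M.subtype (mem_map_of_mem M.subtype hr)
    rwa [centerThompsonA_map M.subtype _ (by rw [M.ker_subtype]; exact disjoint_bot_right), hT,
      subgroupOf_map_subtype] at h1
  -- subgroups containing `S`
  have hover : ∀ M : Subgroup G, M ≠ ⊤ → (S : Subgroup G) ≤ M →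
      ∀ U : Subgroup G, U ≤ (S : Subgroup G) → ∀ y ∈ M, (∀ u ∈ U, y * u * y⁻¹ ∈ (S : Subgroup G)) →
        ActsAsMember N U y := by
    intro M hM hSM U hU y hyM hy
    obtain ⟨r, hr, hr'⟩ := hsub M hM (by
      rw [inf_eq_left.2 hSM]
      exact fun hd => S.not_dvd_index (hd.trans (relIndex_dvd_index_of_le hSM)))
      (inf_le_left.trans hSM) U (le_inf hU (hU.trans hSM)) y hyM hy
    rw [inf_eq_left.2 hSM, ← hN] at hr
    exact ⟨r, hr.2, hr'⟩
  suffices main : ∀ (k : ℕ) (U : Subgroup G), Nat.card G - Nat.card U < k → U ≤ (S : Subgroup G) →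
      ∀ y : G, (∀ u ∈ U, y * u * y⁻¹ ∈ (S : Subgroup G)) → ActsAsMember N U y from
    fun U hU y hy => main _ U (Nat.lt_succ_self _) hU y hy
  intro k
  induction k with
  | zero => intro U h; omega
  | succ k ih =>
  intro U hk hUP y hy
  by_cases hUb : U = ⊥
  · exact ⟨1, one_mem _, fun u hu => by rw [hUb, mem_bot] at hu; simp [hu]⟩
  have hbig : ∀ V : Subgroup G, V ≤ (S : Subgroup G) → Nat.card U < Nat.card V → ∀ y : G,
      (∀ u ∈ V, y * u * y⁻¹ ∈ (S : Subgroup G)) → ActsAsMember N V y := fun V hV hlt =>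
    ih V (by have := card_le_card_group V; omega) hV
  -- the chain of local subgroups, without normal `p`-subgroups
  have hloc : pCore p G = ⊥ → ∀ (j : ℕ) (V : Subgroup G),
      Nat.card G - Nat.card ↥((S : Subgroup G) ⊓ normalizer (V : Set G)) < j →
      V ≤ (S : Subgroup G) → V ≠ ⊥ →
      ¬ p ∣ ((S : Subgroup G) ⊓ normalizer (V : Set G)).relIndex (normalizer (V : Set G)) →
      ∀ U₁ : Subgroup G, U₁ ≤ (S : Subgroup G) ⊓ normalizer (V : Set G) → Nat.card U₁ = Nat.card U →
        ∀ y ∈ normalizer (V : Set G), y ∈ normalizer (U₁ : Set G) → ActsAsMember N U₁ y := by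
    intro hQ0 j
    induction j with
    | zero => intro V h; omega
    | succ j ihj =>
    intro V hj hVP hVb hsyl U₁ hU₁ hcard y hyV hyU
    obtain ⟨H, hH⟩ : ∃ H, H = normalizer (V : Set G) := ⟨_, rfl⟩
    rw [← hH] at hj hsyl hU₁ hyV
    have hHtop : H ≠ ⊤ := by
      intro ht
      haveI : V.Normal := normalizer_eq_top_iff.1 (hH ▸ ht)
      exact hVb (le_bot_iff.1 (hQ0 ▸ CfsgLib.Core.le_pCore (S.2.to_le hVP)))
    have hZH : (S : Subgroup G) ⊓ centralizer ((S : Subgroup G) : Set G) ≤ H := fun z hz =>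
      hH ▸ centralizer_le_normalizer _ (centralizer_le (SetLike.coe_subset_coe.2 hVP) hz.2)
    obtain ⟨ZV, hZV⟩ : ∃ ZV, ZV = centerThompsonAOf ((S : Subgroup G) ⊓ H) := ⟨_, rfl⟩
    obtain ⟨m₁, hm₁, hagree⟩ := hsub H hHtop hsyl hZH U₁ hU₁ y hyV
      fun u hu => (hU₁ (conj_mem_of_normalizer hyU u hu)).1
    have hm₁U : ∀ u ∈ U₁, m₁ * u * m₁⁻¹ ∈ U₁ := fun u hu => hagree u hu ▸ conj_mem_of_normalizer hyU u hu
    rw [← hZV] at hm₁
    have hm₁Z : m₁ ∈ normalizer (ZV : Set G) := hm₁.2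
    by_cases hSle : (S : Subgroup G) ≤ H
    · refine ⟨m₁, ?_, hagree⟩
      rw [hN]
      rwa [hZV, inf_eq_left.2 hSle] at hm₁Z
    obtain ⟨NP, hNP⟩ : ∃ NP, NP = (S : Subgroup G) ⊓ normalizer (ZV : Set G) := ⟨_, rfl⟩
    have hlt : (S : Subgroup G) ⊓ H < NP := by
      refine lt_of_lt_of_le (CfsgLib.Transfer.lt_inf_normalizer S.2 (lt_of_le_of_ne inf_le_left
        fun e => hSle (inf_eq_left.1 e))) ?_
      rw [hNP, hZV]
      exact inf_le_inf_left _ (centerThompsonA_normalizer_le _)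
    have hU₁NP : U₁ ≤ NP := hU₁.trans hlt.le
    have hNPlt : Nat.card U < Nat.card NP :=
      hcard ▸ (Subgroup.card_le_of_le hU₁).trans_lt (CfsgLib.Transfer.card_lt_of_lt hlt)
    have hVSH : V ≤ (S : Subgroup G) ⊓ H := le_inf hVP (hH ▸ le_normalizer)
    have hZVle : ZV ≤ (S : Subgroup G) ⊓ H := hZV ▸ centerThompsonA_le _
    have hZVb : ZV ≠ ⊥ := hZV ▸ centerThompsonA_ne_bot (S.2.to_le inf_le_left)
      (fun h0 => hVb (le_bot_iff.1 (h0 ▸ hVSH)))
    have hZNP : ZV ≤ NP := hNP ▸ le_inf (hZVle.trans inf_le_left) le_normalizer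
    obtain ⟨Rs, hRs⟩ := ((S.2.to_le (hNP ▸ inf_le_left : NP ≤ (S : Subgroup G))).comap_subtype
      (K := normalizer (ZV : Set G))).exists_le_sylow
    obtain ⟨Q, hQ⟩ := (Rs.2.map (normalizer (ZV : Set G)).subtype).exists_le_sylow
    obtain ⟨a', ha'⟩ := MulAction.exists_smul_eq G Q S
    have hmove : ∀ x : G, x ∈ (Rs : Subgroup _).map (normalizer (ZV : Set G)).subtype →
        a' * x * a'⁻¹ ∈ (S : Subgroup G) := fun x hx => ha' ▸ ⟨x, hQ hx, rfl⟩
    have hNPRs : NP ≤ (Rs : Subgroup _).map (normalizer (ZV : Set G)).subtype := fun x hx =>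
      ⟨⟨x, (hNP.le hx).2⟩, hRs hx, rfl⟩
    obtain ⟨n', hn', hna⟩ := hbig NP (hNP ▸ inf_le_left) hNPlt a' fun u hu => hmove u (hNPRs hu)
    obtain ⟨V', hV'⟩ : ∃ V', V' = ZV.map (MulAut.conj a').toMonoidHom := ⟨_, rfl⟩
    have hNV' : normalizer (V' : Set G) = (normalizer (ZV : Set G)).map (MulAut.conj a').toMonoidHom := by
      rw [hV']; exact (map_equiv_normalizer_eq ZV (MulAut.conj a')).symm
    have hRsP : ((Rs : Subgroup _).map (normalizer (ZV : Set G)).subtype).map (MulAut.conj a').toMonoidHom ≤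
        (S : Subgroup G) ⊓ normalizer (V' : Set G) := by
      rintro _ ⟨x, hx, rfl⟩
      exact ⟨hmove x hx, hNV' ▸ mem_map_of_mem _ (map_subtype_le _ hx)⟩
    have hj' : Nat.card G - Nat.card ↥((S : Subgroup G) ⊓ normalizer (V' : Set G)) < j := by
      have h1 : Nat.card NP ≤ Nat.card ↥((S : Subgroup G) ⊓ normalizer (V' : Set G)) := by
        rw [← Subgroup.card_map_of_injective (f := (MulAut.conj a').toMonoidHom) (K := NP) (MulAut.conj a').injective]
        exact card_le_of_le ((map_mono hNPRs).trans hRsP)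
      have h2 := CfsgLib.Transfer.card_lt_of_lt hlt
      have h3 := card_le_card_group ((S : Subgroup G) ⊓ normalizer (V' : Set G))
      omega
    have hsyl' : ¬ p ∣ ((S : Subgroup G) ⊓ normalizer (V' : Set G)).relIndex (normalizer (V' : Set G)) := by
      intro hd
      have h1 := hd.trans (relIndex_dvd_of_le_left (normalizer (V' : Set G)) hRsP)
      rw [hNV', relIndex_map_map_of_injective _ _ (MulAut.conj a').injective, relIndex, subgroupOf,
        comap_map_eq_self_of_injective (normalizer (ZV : Set G)).subtype_injective] at h1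
      exact Rs.not_dvd_index h1
    have hV'b : V' ≠ ⊥ := fun h0 => hZVb ((map_eq_bot_iff_of_injective _ (MulAut.conj a').injective).1 (hV' ▸ h0))
    obtain ⟨r, hr, hr'⟩ := ihj V' hj'
      (hV' ▸ (map_mono (hZNP.trans hNPRs)).trans (hRsP.trans inf_le_left)) hV'b hsyl'
      (U₁.map (MulAut.conj a').toMonoidHom) ((map_mono (hU₁NP.trans hNPRs)).trans hRsP)
      ((Subgroup.card_map_of_injective (MulAut.conj a').injective).trans hcard)
      (a' * m₁ * a'⁻¹) (hNV' ▸ ⟨m₁, hm₁Z, rfl⟩) (le_normalizer_map (MulAut.conj a').toMonoidHom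
        ⟨m₁, mem_normalizer_iff_map_conj_eq.2 (eq_of_le_of_card_ge
          (by rintro _ ⟨u, hu, rfl⟩; exact hm₁U u hu)
          (Subgroup.card_map_of_injective (MulAut.conj m₁).injective).ge), rfl⟩)
    refine ⟨n'⁻¹ * r * n', N.mul_mem (N.mul_mem (N.inv_mem hn') hr) hn', fun u hu => ?_⟩
    calc n'⁻¹ * r * n' * u * (n'⁻¹ * r * n')⁻¹ = n'⁻¹ * (r * (n' * u * n'⁻¹) * r⁻¹) * n' := by group
      _ = n'⁻¹ * (r * (a' * u * a'⁻¹) * r⁻¹) * n' := by rw [hna u (hU₁NP hu)]
      _ = n'⁻¹ * (a' * (m₁ * u * m₁⁻¹) * a'⁻¹) * n' := by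
        rw [show r * (a' * u * a'⁻¹) * r⁻¹ = _ from hr' _ ⟨u, hu, rfl⟩]; group
      _ = n'⁻¹ * (n' * (m₁ * u * m₁⁻¹) * n'⁻¹) * n' := by rw [hna _ (hU₁NP (hm₁U u hu))]
      _ = y * u * y⁻¹ := by rw [hagree u hu]; group
  -- with a nontrivial `O_p`
  obtain ⟨Q, hQ⟩ : ∃ Q, Q = pCore p G := ⟨_, rfl⟩
  haveI hQn : Q.Normal := hQ ▸ CfsgLib.Core.normal_pCore p G
  have hQp : IsPGroup p Q := hQ ▸ CfsgLib.Core.isPGroup_pCore p G
  have hQS : Q ≤ (S : Subgroup G) := hQ ▸ CfsgLib.Core.pCore_le_sylow S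
  have hcore : Q ≠ ⊥ → ∀ I : Subgroup G, I ≤ (S : Subgroup G) →
      ¬ p ∣ ((S : Subgroup G) ⊓ normalizer (I : Set G)).relIndex (normalizer (I : Set G)) →
      Nat.card I = Nat.card U → ∀ z ∈ normalizer (I : Set G), ActsAsMember N I z := by
    intro hQb I hIS hsyl hcard z hz
    obtain ⟨H, hH⟩ : ∃ H, H = normalizer (I : Set G) := ⟨_, rfl⟩
    rw [← hH] at hsyl
    by_cases hQI : ¬ Q ≤ I
    · have hlt : I < I ⊔ Q := lt_of_le_of_ne le_sup_left fun e => hQI (le_sup_right.trans e.ge)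
      have hle : I ⊔ Q ≤ (S : Subgroup G) := sup_le hIS hQS
      have hzN : z ∈ normalizer ((I ⊔ Q : Subgroup G) : Set G) :=
        normalizer_inf_le_normalizer_sup hz (le_normalizer_of_normal (mem_top z))
      obtain ⟨r, hr, hr'⟩ := hbig _ hle (hcard ▸ CfsgLib.Transfer.card_lt_of_lt hlt) z
        fun u hu => hle (conj_mem_of_normalizer hzN u hu)
      exact ⟨r, hr, fun u hu => hr' u (mem_sup_left hu)⟩
    push Not at hQI
    obtain ⟨CS, hCS⟩ : ∃ CS, CS = centralizer (Q : Set G) ⊓ (S : Subgroup G) := ⟨_, rfl⟩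
    by_cases hCSQ : CS ≤ Q
    · -- constrained modulo the core
      have hZQ : (S : Subgroup G) ⊓ centralizer ((S : Subgroup G) : Set G) ≤ Q := fun x hx =>
        hCSQ (hCS.ge ⟨centralizer_le (SetLike.coe_subset_coe.2 hQS) hx.2, hx.1⟩)
      have hGfree : ¬ Involves (Matrix.SpecialLinearGroup (Fin 2) (ZMod p)) G := by
        intro hinv
        have h1 := hfree Q hZQ hQS
        rw [normalizer_eq_top_iff.2 hQn] at h1
        exact h1 (involves_of_hom ((Subgroup.topEquiv (G := G)).symm.toMonoidHom) (Subgroup.topEquiv (G := G)).symm.injective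
          (MonoidHom.id G) Function.surjective_id hinv)
      obtain ⟨O, hO⟩ : ∃ O, O = pPrimeCore p G := ⟨_, rfl⟩
      haveI : O.Normal := hO ▸ CfsgLib.Core.normal_pPrimeCore p _
      have hOc : (Nat.card O).Coprime p := hO ▸ CfsgLib.Core.coprime_card_pPrimeCore p _
      obtain ⟨C, hC⟩ : ∃ C, C = centralizer (Q : Set G) := ⟨_, rfl⟩
      haveI : C.Normal := hC ▸ inferInstance
      have hCO : C ≤ Q ⊔ O := by
        -- `C ∩ S` is central in `C`
        have hd : ¬ p ∣ CS.relIndex C := by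
          rw [hCS, ← hC, inf_comm, inf_relIndex_right]
          exact fun hd => S.not_dvd_index (hd.trans (CfsgLib.HallGen.relIndex_dvd_index_right _ _))
        haveI : (CS.subgroupOf C).Normal := by
          refine ⟨fun x hx g => ?_⟩
          have hxQ : (x : G) ∈ Q := hCSQ hx
          have h1 : (g : G) * (x : G) = (x : G) * (g : G) :=
            (mem_centralizer_iff.1 (hC ▸ g.2 : (g : G) ∈ centralizer (Q : Set G)) _ hxQ).symm
          rw [mem_subgroupOf, Subgroup.coe_mul, Subgroup.coe_mul, Subgroup.coe_inv, h1, mul_inv_cancel_right]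
          exact hx
        have hcs : IsPGroup p ↥(CS.subgroupOf C) := (S.2.to_le (hCS ▸ inf_le_right)).comap_subtype
        have hcop : (Nat.card (CS.subgroupOf C)).Coprime (CS.subgroupOf C).index := by
          obtain ⟨i, hi⟩ := IsPGroup.iff_card.1 hcs
          rw [hi]
          exact ((Nat.Prime.coprime_iff_not_dvd Fact.out).2 hd).pow_left i
        obtain ⟨K, hK⟩ := exists_right_complement'_of_coprime hcop
        have hKn : K.Normal := by
          rw [← normalizer_eq_top_iff, eq_top_iff, ← hK.sup_eq_top]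
          refine sup_le (le_trans ?_ (centralizer_le_normalizer _)) le_normalizer
          intro x hx
          rw [mem_centralizer_iff]
          intro t _
          exact Subtype.ext (mem_centralizer_iff.1 (hC ▸ t.2 : (t : G) ∈ centralizer (Q : Set G)) _ (hCSQ hx)).symm
        have hKc : (Nat.card K).Coprime p := by
          rw [← hK.symm.index_eq_card]
          exact ((Nat.Prime.coprime_iff_not_dvd Fact.out).2 hd).symm
        haveI := hKn
        intro x hx
        have h1 := congrArg (Subgroup.map C.subtype) hK.sup_eq_top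
        rw [Subgroup.map_sup, ← MonoidHom.range_eq_map, range_subtype, subgroupOf_map_subtype] at h1
        rw [← h1] at hx
        refine sup_le_sup (inf_le_left.trans hCSQ) ?_ hx
        rw [hO]
        exact (map_mono (CfsgLib.Core.le_pPrimeCore hKc)).trans (CfsgLib.Core.map_subtype_pPrimeCore_le C)
      obtain ⟨π, hπ⟩ : ∃ π, π = QuotientGroup.mk' O := ⟨_, rfl⟩
      have hπs : Function.Surjective π := hπ ▸ QuotientGroup.mk'_surjective O
      have hker : π.ker = O := hπ ▸ QuotientGroup.ker_mk' O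
      have hcK : centralizer (pCore p (G ⧸ O) : Set (G ⧸ O)) ≤ pCore p (G ⧸ O) := by
        have h1 : Q.map π ≤ pCore p (G ⧸ O) := by
          haveI : (Q.map π).Normal := hQn.map π hπs
          exact CfsgLib.Core.le_pCore (hQp.map _)
        refine (centralizer_le (SetLike.coe_subset_coe.2 h1)).trans (le_trans ?_ h1)
        rw [hπ, ← map_centralizer_eq O hOc hQp, ← hπ, ← hC, map_le_iff_le_comap, comap_map_eq, hker]
        exact hCO
      have hdisj : Disjoint (S : Subgroup G) π.ker := by rw [hker]; exact disjoint_of_isPGroup hOc S.2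
      have hnoq : Transfer.NoQuad p (G ⧸ O) := Transfer.noQuad_of_not_involves
        (fun Y _ _ V H h1 h2 h3 h4 x hx hx1 h5 h6 =>
          Transfer.involves_SLTwo_of_quadratic hp V H h1 h2 h3 h4 x hx hx1 h5 h6)
        (fun hinv => hGfree (involves_of_hom (MonoidHom.id G) Function.injective_id π hπs hinv))
      have hZn : ((centerThompsonAOf (S : Subgroup G)).map π).Normal := by
        rw [centerThompsonA_map π _ hdisj, ← zCore_abelian_eq, ← Sylow.coe_mapSurjective hπs S]
        exact zCore_normal_of_closed hp (goodPred_abelian p) hcK (S.mapSurjective hπs)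
          ⟨le_rfl, fun _ _ _ hg => hg⟩ (Transfer.stableAt_of_noQuad hnoq _)
      have htop : N ⊔ O = ⊤ := by
        have h1 : N.map π = ⊤ := by
          rw [hN, hπ, map_normalizer_eq O hOc (S.2.to_le (centerThompsonA_le _)), ← hπ, normalizer_eq_top_iff]
          exact hZn
        have h2 := congrArg (Subgroup.comap π) h1
        rwa [comap_map_eq, hker, comap_top] at h2
      exact absorb_core hOc htop (S.2.to_le hIS) (hIS.trans hSN) hz
    -- the centralizer of `Q` is not inside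
    by_cases hCSI : CS ≤ I
    · obtain ⟨R, hR⟩ : ∃ R, R = I ⊓ (Q ⊔ centralizer (Q : Set G)) := ⟨_, rfl⟩
      have hRS : R = (S : Subgroup G) ⊓ (Q ⊔ centralizer (Q : Set G)) := by
        refine le_antisymm (hR ▸ inf_le_inf_right _ hIS) ?_
        rw [hR]
        rintro x ⟨hxS, hxC⟩
        refine ⟨?_, hxC⟩
        obtain ⟨a, ha, b, hb, rfl⟩ := mem_sup_of_normal_left.1 hxC
        have hbS : b ∈ (S : Subgroup G) := by
          have := (S : Subgroup G).mul_mem ((S : Subgroup G).inv_mem (hQS ha)) hxS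
          rwa [inv_mul_cancel_left] at this
        exact I.mul_mem (hQI ha) (hCSI (hCS.ge ⟨hb, hbS⟩))
      have hRtop : normalizer (R : Set G) ≠ ⊤ := by
        intro ht
        haveI : R.Normal := normalizer_eq_top_iff.1 ht
        refine hCSQ ?_
        intro x hx
        have h1 : x ∈ R := hRS.ge ⟨(hCS.le hx).2, mem_sup_right (hCS.le hx).1⟩
        exact hQ.ge (CfsgLib.Core.le_pCore (S.2.to_le (hRS.le.trans inf_le_left)) h1)
      refine hover _ hRtop ?_ I hIS z ?_ fun u hu => hIS (conj_mem_of_normalizer hz u hu)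
      · rw [hRS]
        exact (le_inf le_normalizer le_normalizer_of_normal).trans inf_normalizer_le_normalizer_inf
      · rw [hR]
        exact inf_normalizer_le_normalizer_inf ⟨hz, le_normalizer_of_normal (mem_top z)⟩
    -- the part of the centralizer in the normalizer
    obtain ⟨CT, hCT⟩ : ∃ CT, CT = centralizer (Q : Set G) ⊓ ((S : Subgroup G) ⊓ H) := ⟨_, rfl⟩
    have hCTI : ¬ CT ≤ I := by
      intro hle
      apply hCSI
      haveI : (centralizer (Q : Set G)).Normal := inferInstance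
      have hIn : I ≤ normalizer (CS : Set G) := by
        rw [hCS]
        exact (le_inf le_normalizer_of_normal (hIS.trans le_normalizer)).trans inf_normalizer_le_normalizer_inf
      by_contra hne
      have hlt : I < I ⊔ CS := lt_of_le_of_ne le_sup_left fun e => hne (le_sup_right.trans e.ge)
      have hle2 : I ⊔ CS ≤ (S : Subgroup G) := sup_le hIS (hCS ▸ inf_le_right)
      have h1 := CfsgLib.Transfer.lt_inf_normalizer (S.2.to_le hle2) hlt
      refine h1.not_ge ?_
      rintro x ⟨hx, hxN⟩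
      have hx' : x ∈ ((CS : Set G) * (I : Set G)) := by
        rw [← coe_mul_of_right_le_normalizer_left _ _ hIn, ← sup_comm]
        exact hx
      obtain ⟨c, hc, u, hu, rfl⟩ := Set.mem_mul.1 hx'
      have hcN : c ∈ normalizer (I : Set G) := by
        have := (normalizer (I : Set G)).mul_mem hxN (inv_mem (le_normalizer hu))
        rwa [mul_inv_cancel_right] at this
      exact I.mul_mem (hle (hCT.ge ⟨(hCS.le hc).1, (hCS.le hc).2, hH.ge hcN⟩)) hu
    -- quotient argument when `G = C(Q) S`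
    have hcase : ∀ w ∈ normalizer (I : Set G), w ∈ centralizer (Q : Set G) ⊔ (S : Subgroup G) → ActsAsMember N I w := by
      intro w hw hwM
      by_cases hM : centralizer (Q : Set G) ⊔ (S : Subgroup G) ≠ ⊤
      · exact hover _ hM le_sup_right I hIS w hwM fun u hu => hIS (conj_mem_of_normalizer hw u hu)
      push Not at hM
      obtain ⟨π, hπ⟩ : ∃ π, π = QuotientGroup.mk' Q := ⟨_, rfl⟩
      have hπs : Function.Surjective π := hπ ▸ QuotientGroup.mk'_surjective Q
      have hker : π.ker = Q := hπ ▸ QuotientGroup.ker_mk' Q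
      obtain ⟨Sb, hSb⟩ : ∃ Sb : Sylow p (G ⧸ Q), (Sb : Subgroup (G ⧸ Q)) = (S : Subgroup G).map π :=
        ⟨S.mapSurjective hπs, Sylow.coe_mapSurjective _ _⟩
      have hlt : Nat.card (G ⧸ Q) < n := hn ▸ CfsgLib.Core.card_quotient_lt _ hQb
      obtain ⟨rb, hrb, hrb'⟩ := ihn _ hlt (G ⧸ Q) rfl Sb (hSb ▸ locallySLFree_map π hπs (hker.trans_le hQS) hfree)
        (I.map π) (hSb ▸ map_mono hIS) (π w) (by
          rintro _ ⟨u, hu, rfl⟩
          rw [hSb, ← map_mul, ← map_inv, ← map_mul]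
          exact mem_map_of_mem _ (hIS (conj_mem_of_normalizer hw u hu)))
      obtain ⟨Zb, hZb⟩ : ∃ Zb, Zb = centerThompsonAOf ((S : Subgroup G).map π) := ⟨_, rfl⟩
      rw [hSb, ← hZb] at hrb
      obtain ⟨M, hM'⟩ : ∃ M, M = (normalizer (Zb : Set (G ⧸ Q))).comap π := ⟨_, rfl⟩
      obtain ⟨r, rfl⟩ := hπs rb
      have hSM : (S : Subgroup G) ≤ M := hM' ▸ map_le_iff_le_comap.1
        (le_normalizer.trans (hZb ▸ centerThompsonA_normalizer_le _))
      by_cases hSQ : (S : Subgroup G) ≤ Q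
      · exact absurd ((hCS ▸ inf_le_right : CS ≤ (S : Subgroup G)).trans hSQ) hCSQ
      have hMtop : M ≠ ⊤ := by
        intro ht
        have hX : normalizer ((Zb.comap π : Subgroup G) : Set G) = ⊤ := by
          rw [← comap_normalizer_eq_of_surjective _ hπs, ← hM', ht]
        haveI : (Zb.comap π).Normal := normalizer_eq_top_iff.1 hX
        have hZp : IsPGroup p ↥(Zb.comap π) :=
          ((S.2.map π).to_le (hZb ▸ centerThompsonA_le _)).comap_of_ker_isPGroup π (by rw [hker]; exact hQp)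
        have hZb0 : Zb ≠ ⊥ := hZb ▸ centerThompsonA_ne_bot (S.2.map π) (by
          rw [Ne, Subgroup.map_eq_bot_iff, hker]; exact hSQ)
        refine hZb0 ?_
        rw [← map_comap_eq_self_of_surjective hπs Zb, Subgroup.map_eq_bot_iff, hker]
        exact (CfsgLib.Core.le_pCore hZp).trans hQ.ge
      have hmod : ∀ u ∈ I, (w * u * w⁻¹)⁻¹ * (r * u * r⁻¹) ∈ Q := by
        intro u hu
        rw [← hker, MonoidHom.mem_ker, map_mul, map_inv]
        have h1 := hrb' _ ⟨u, hu, rfl⟩
        simp only [map_mul, map_inv]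
        rw [h1, inv_mul_cancel]
      have hrI : ∀ u ∈ I, r * u * r⁻¹ ∈ I := by
        intro u hu
        have := I.mul_mem (conj_mem_of_normalizer hw u hu) (hQI (hmod u hu))
        rwa [mul_inv_cancel_left] at this
      have hrN : r ∈ normalizer (I : Set G) := mem_normalizer_iff_map_conj_eq.2 (eq_of_le_of_card_ge
        (by rintro _ ⟨u, hu, rfl⟩; exact hrI u hu) (Subgroup.card_map_of_injective (MulAut.conj r).injective).ge)
      obtain ⟨v, hv⟩ : ∃ v, v = r⁻¹ * w := ⟨_, rfl⟩
      have hvN : v ∈ normalizer (I : Set G) := hv ▸ mul_mem (inv_mem hrN) hw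
      -- elements acting trivially on `I / Q`
      let L : Subgroup ↥(normalizer (I : Set G)) :=
        { carrier := {x | ∀ u ∈ I, π ((x : G) * u * (x : G)⁻¹) = π u}
          one_mem' := fun u hu => by simp
          mul_mem' := fun {a b} ha hb u hu => by
            have e : ((a * b : ↥(normalizer (I : Set G))) : G) * u * ((a * b : ↥(normalizer (I : Set G))) : G)⁻¹ =
                (a : G) * ((b : G) * u * (b : G)⁻¹) * (a : G)⁻¹ := by push_cast; group
            rw [e, ha _ (conj_mem_of_normalizer b.2 u hu), hb u hu]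
          inv_mem' := fun {a} ha u hu => by
            have h2 := ha _ (conj_mem_of_normalizer (inv_mem a.2) u hu)
            have e : (a : G) * ((a : G)⁻¹ * u * (a : G)⁻¹⁻¹) * (a : G)⁻¹ = u := by group
            rw [e] at h2
            simpa using h2.symm }
      obtain ⟨CI, hCI⟩ : ∃ CI, CI = (centralizer (I : Set G)).subgroupOf (normalizer (I : Set G)) := ⟨_, rfl⟩
      haveI : CI.Normal := by
        rw [hCI]
        refine ⟨fun x hx g => mem_centralizer_iff.2 fun u hu => ?_⟩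
        have h1 : ((g : G)⁻¹ * u * (g : G)⁻¹⁻¹) * (x : G) = (x : G) * ((g : G)⁻¹ * u * (g : G)⁻¹⁻¹) :=
          mem_centralizer_iff.1 hx _ (conj_mem_of_normalizer (inv_mem g.2) u hu)
        push_cast
        calc u * ((g : G) * (x : G) * (g : G)⁻¹) = (g : G) * (((g : G)⁻¹ * u * (g : G)⁻¹⁻¹) * (x : G)) * (g : G)⁻¹ := by group
          _ = (g : G) * ((x : G) * ((g : G)⁻¹ * u * (g : G)⁻¹⁻¹)) * (g : G)⁻¹ := by rw [h1]
          _ = (g : G) * (x : G) * (g : G)⁻¹ * u := by group
      have hCIL : CI ≤ L := by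
        intro x hx u hu
        rw [hCI] at hx
        have h1 : u * (x : G) = (x : G) * u := mem_centralizer_iff.1 hx u hu
        rw [← h1, mul_inv_cancel_right]
      haveI hLn : L.Normal := by
        refine ⟨fun x hx g u hu => ?_⟩
        have h2 := congrArg (fun t => π (g : G) * t * π (g : G)⁻¹)
          (hx _ (conj_mem_of_normalizer (inv_mem g.2) u hu))
        simp only [← map_mul] at h2
        convert h2 using 2 <;> push_cast <;> group
      have hLp : IsPGroup p ↥(L.map (QuotientGroup.mk' CI)) := by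
        rintro ⟨_, x, hx, rfl⟩
        -- a power centralizes `Q`
        obtain ⟨j₁, hj₁⟩ : ∃ j, ((x : G)) ^ p ^ j ∈ centralizer (Q : Set G) := by
          have hp' : IsPGroup p ↥((S : Subgroup G).map (QuotientGroup.mk' (centralizer (Q : Set G)))) := S.2.map _
          have htop : (S : Subgroup G).map (QuotientGroup.mk' (centralizer (Q : Set G))) = ⊤ := by
            refine eq_top_iff.2 fun z _ => ?_
            obtain ⟨g, rfl⟩ := QuotientGroup.mk'_surjective _ z
            obtain ⟨c, hc, s, hs, rfl⟩ := mem_sup_of_normal_left.1 (hM.ge (mem_top g))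
            exact ⟨s, hs, by rw [map_mul, (QuotientGroup.eq_one_iff c).2 hc |> fun e => show QuotientGroup.mk' _ c = 1 from e, one_mul]⟩
          obtain ⟨j, hj⟩ := hp' ⟨QuotientGroup.mk' _ (x : G), htop.ge (mem_top _)⟩
          refine ⟨j, (QuotientGroup.eq_one_iff _).1 ?_⟩
          exact (map_pow (QuotientGroup.mk' (centralizer (Q : Set G))) _ _).trans (congrArg Subtype.val hj)
        obtain ⟨j₂, hj₂⟩ := IsPGroup.iff_card.1 hQp
        refine ⟨j₁ + j₂, Subtype.ext ?_⟩
        show (QuotientGroup.mk' CI x) ^ p ^ (j₁ + j₂) = 1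
        rw [← map_pow]
        refine (QuotientGroup.eq_one_iff _).2 ?_
        rw [hCI, mem_subgroupOf, mem_centralizer_iff]
        intro u hu
        obtain ⟨a, ha⟩ : ∃ a, a = (x : G) ^ p ^ j₁ := ⟨_, rfl⟩
        obtain ⟨q, hq⟩ : ∃ q, q = u⁻¹ * (a * u * a⁻¹) := ⟨_, rfl⟩
        have hqQ : q ∈ Q := by
          have hxL : x ^ p ^ j₁ ∈ L := pow_mem hx _
          have h3 := hxL u hu
          rw [Subgroup.coe_pow, ← ha] at h3
          rw [hq, ← hker, MonoidHom.mem_ker, map_mul, h3, ← map_mul, inv_mul_cancel, map_one]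
        have haq : a * q * a⁻¹ = q := by
          rw [← mem_centralizer_iff.1 (ha ▸ hj₁) q hqQ, mul_inv_cancel_right]
        have hpow : ∀ i : ℕ, a ^ i * u * (a ^ i)⁻¹ = u * q ^ i := by
          intro i
          induction i with
          | zero => simp
          | succ i ih' =>
            have hqi : a * q ^ i * a⁻¹ = q ^ i := by rw [← conj_pow, haq]
            calc a ^ (i + 1) * u * (a ^ (i + 1))⁻¹ = a * (a ^ i * u * (a ^ i)⁻¹) * a⁻¹ := by
                  rw [pow_succ']; group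
              _ = (a * u * a⁻¹) * (a * q ^ i * a⁻¹) := by rw [ih']; simp [mul_assoc]
              _ = u * q ^ (i + 1) := by
                  rw [hqi, show a * u * a⁻¹ = u * q by rw [hq]; group, pow_succ', mul_assoc]
        have hq1 : q ^ p ^ j₂ = 1 := by
          rw [← hj₂]
          exact congrArg Subtype.val (pow_card_eq_one' (x := (⟨q, hqQ⟩ : ↥Q)))
        have h4 := hpow (p ^ j₂)
        rw [hq1, mul_one, ha, ← pow_mul, ← pow_add, mul_inv_eq_iff_eq_mul] at h4
        rw [Subgroup.coe_pow]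
        exact h4.symm
      obtain ⟨T, hT⟩ : ∃ T : Sylow p ↥(normalizer (I : Set G)), (T : Subgroup ↥(normalizer (I : Set G))) = (S : Subgroup G).subgroupOf (normalizer (I : Set G)) := by
        refine ⟨(S.2.comap_subtype (K := normalizer (I : Set G))).toSylow ?_, rfl⟩
        intro hd
        apply hsyl
        rw [hH]
        rwa [inf_relIndex_right]
      obtain ⟨j₃, hj₃⟩ := IsPGroup.iff_card.1 hLp
      have hdec := pGroup_mod_eq_sup hCIL ⟨j₃, by
        have h0 := relIndex_ker (QuotientGroup.mk' CI) (K := L)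
        rw [QuotientGroup.ker_mk'] at h0
        rw [h0, hj₃]⟩ T
      have hvL : (⟨v, hvN⟩ : ↥(normalizer (I : Set G))) ∈ L := by
        intro u hu
        show π (v * u * v⁻¹) = π u
        have h1 := hrb' _ ⟨u, hu, rfl⟩
        rw [hv]
        simp only [map_mul, map_inv, mul_inv_rev, inv_inv]
        rw [show (π r)⁻¹ * π w * π u * ((π w)⁻¹ * π r) = (π r)⁻¹ * (π w * π u * (π w)⁻¹) * π r by group, ← h1]
        group
      rw [← hdec] at hvL
      obtain ⟨s, hs, c, hc, hsc⟩ := mem_sup_of_normal_right.1 hvL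
      have hsS : (s : G) ∈ (S : Subgroup G) := by
        have := hs.1
        rw [hT] at this
        exact this
      have hvs : ∀ u ∈ I, (r * (s : G)) * u * (r * (s : G))⁻¹ = w * u * w⁻¹ := by
        intro u hu
        have h1 : w = r * ((s : G) * (c : G)) := by
          rw [show (s : G) * (c : G) = v from congrArg Subtype.val hsc, hv, mul_inv_cancel_left]
        have h3 : u * (c : G) = (c : G) * u :=
          mem_centralizer_iff.1 (hCI ▸ hc : c ∈ (centralizer (I : Set G)).subgroupOf _) u hu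
        have h2 : (c : G) * u * (c : G)⁻¹ = u := by rw [← h3, mul_inv_cancel_right]
        rw [h1, show r * ((s : G) * (c : G)) * u * (r * ((s : G) * (c : G)))⁻¹ =
          (r * (s : G)) * ((c : G) * u * (c : G)⁻¹) * (r * (s : G))⁻¹ by group, h2]
      obtain ⟨t, ht, ht'⟩ := hover M hMtop hSM I hIS (r * (s : G)) (M.mul_mem (hM' ▸ hrb) (hSM hsS))
        fun u hu => hvs u hu ▸ hIS (conj_mem_of_normalizer hw u hu)
      exact ⟨t, ht, fun u hu => (ht' u hu).trans (hvs u hu)⟩
    -- decompose `z`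
    obtain ⟨CH, hCH⟩ : ∃ CH, CH = (centralizer (Q : Set G)).subgroupOf H := ⟨_, rfl⟩
    haveI : CH.Normal := hCH ▸ (inferInstance : (centralizer (Q : Set G)).Normal).comap _
    obtain ⟨T, hT⟩ : ∃ T : Sylow p ↥H, (T : Subgroup ↥H) = (S : Subgroup G).subgroupOf H := by
      refine ⟨(S.2.comap_subtype (K := H)).toSylow ?_, rfl⟩
      intro hd
      apply hsyl
      rwa [inf_relIndex_right]
    have hTi : ¬ p ∣ (T : Subgroup ↥H).relIndex CH := fun hd =>
      T.not_dvd_index (hd.trans (CfsgLib.HallGen.relIndex_dvd_index_right _ _))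
    let T' : Sylow p ↥CH := (T.2.comap_subtype (K := CH)).toSylow hTi
    have hFr := Sylow.normalizer_sup_eq_top T'
    obtain ⟨m, hm, c, hc, hmc⟩ := mem_sup_of_normal_right.1 (hFr.ge (mem_top (⟨z, hH ▸ hz⟩ : ↥H)))
    have hcQ : (c : G) ∈ centralizer (Q : Set G) := by rw [hCH] at hc; exact hc
    have hcI : (c : G) ∈ normalizer (I : Set G) := hH ▸ c.2
    have hmI : (m : G) ∈ normalizer (I : Set G) := hH ▸ m.2
    have hmCT : (m : G) ∈ normalizer (CT : Set G) := by
      have e : ((T' : Subgroup ↥CH).map CH.subtype).map H.subtype = CT := by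
        show (((T : Subgroup ↥H).subgroupOf CH).map CH.subtype).map H.subtype = CT
        rw [subgroupOf_map_subtype, hT, hCH, hCT, Subgroup.map_inf _ _ _ H.subtype_injective, subgroupOf_map_subtype,
          subgroupOf_map_subtype]
        ac_rfl
      rw [← e]
      exact le_normalizer_map H.subtype ⟨m, hm, rfl⟩
    have hmAct : ActsAsMember N I m := by
      have hlt : I < I ⊔ CT := lt_of_le_of_ne le_sup_left fun e => hCTI (le_sup_right.trans e.ge)
      have hle : I ⊔ CT ≤ (S : Subgroup G) := sup_le hIS (hCT ▸ inf_le_right.trans inf_le_left)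
      obtain ⟨r, hr, hr'⟩ := hbig _ hle (hcard ▸ CfsgLib.Transfer.card_lt_of_lt hlt) (m : G)
        fun u hu => hle (conj_mem_of_normalizer (normalizer_inf_le_normalizer_sup hmI hmCT) u hu)
      exact ⟨r, hr, fun u hu => hr' u (mem_sup_left hu)⟩
    have hzmc : z = (m : G) * (c : G) := (congrArg Subtype.val hmc).symm
    rw [hzmc]
    exact (hcase _ hcI (mem_sup_left hcQ)).trans hmAct (conj_mem_of_normalizer hcI)
  -- Alperin paths
  have hpath := CfsgLib.Transfer.exists_fusionPath S (A := (U : Set G)) (g := y⁻¹) (fun u hu => hUP hu)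
    (by rintro _ ⟨u, hu, rfl⟩; show y⁻¹⁻¹ * u * y⁻¹ ∈ (S : Subgroup G); rw [inv_inv]; exact hy u hu)
  suffices walk : ∀ (B : Set G) (g : G), CfsgLib.Transfer.FusionPath S B g →
      ∀ V : Subgroup G, (V : Set G) = B → Nat.card V = Nat.card U →
        ∃ r ∈ N, ∀ v ∈ V, r * v * r⁻¹ = g⁻¹ * v * g by
    obtain ⟨r, hr, hr'⟩ := walk _ _ hpath U rfl rfl
    exact ⟨r, hr, fun u hu => by rw [hr' u hu]; group⟩
  intro B g h
  induction h with
  | one B => exact fun V _ _ => ⟨1, one_mem _, fun v _ => by simp⟩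
  | step B R x g ht hx hB _ ihp =>
    intro V hV hcV
    obtain ⟨I, hI⟩ : ∃ I, I = (S : Subgroup G) ⊓ (R : Subgroup G) := ⟨_, rfl⟩
    have hVI : V ≤ I := fun v hv => hI ▸ hB (hV ▸ hv)
    have hxI : x⁻¹ ∈ normalizer (I : Set G) := hI ▸ inv_mem hx
    have hIS : I ≤ (S : Subgroup G) := hI ▸ inf_le_left
    have hstep : ActsAsMember N I x⁻¹ := by
      rcases lt_or_eq_of_le (hcV ▸ card_le_of_le hVI) with hlt | he
      · exact hbig I hIS hlt x⁻¹ fun u hu => hIS ((mem_normalizer_iff.1 hxI u).1 hu)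
      · by_cases hQb : Q = ⊥
        · refine hloc (hQ ▸ hQb) _ I (Nat.lt_succ_self _) hIS ?_ (hI ▸ ht.1) I
            (le_inf hIS le_normalizer) he.symm x⁻¹ hxI hxI
          intro h0
          rw [h0, card_bot] at he
          exact hUb (card_eq_one.1 he)
        · exact hcore hQb I hIS (hI ▸ ht.1) he.symm x⁻¹ hxI
    obtain ⟨r₁, hr₁, hr₁'⟩ := hstep
    obtain ⟨r₂, hr₂, hr₂'⟩ := ihp (V.map (MulAut.conj x⁻¹).toMonoidHom) (by
      rw [coe_map, hV]
      exact Set.image_congr fun a _ => by simp)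
      ((Subgroup.card_map_of_injective (MulAut.conj x⁻¹).injective).trans hcV)
    refine ⟨r₂ * r₁, N.mul_mem hr₂ hr₁, fun v hv => ?_⟩
    calc r₂ * r₁ * v * (r₂ * r₁)⁻¹ = r₂ * (r₁ * v * r₁⁻¹) * r₂⁻¹ := by group
      _ = r₂ * (x⁻¹ * v * x⁻¹⁻¹) * r₂⁻¹ := by rw [hr₁' v (hVI hv)]
      _ = g⁻¹ * (x⁻¹ * v * x⁻¹⁻¹) * g := hr₂' _ ⟨v, hv, rfl⟩
      _ = (x * g)⁻¹ * v * (x * g) := by group

end CfsgLib.LocalEvenB
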