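import Cfsg.Agent.Lib.LocalEvenB.ComplementConfig
import Cfsg.Agent.Lib.LocalEvenB.StronglyClosedZJ
import Cfsg.Agent.Lib.PLocal.NormalPComplementThms

/-!
# Normal `p`-complements decided by a characteristic subgroup of a strongly closed subgroup
-/

set_option autoImplicit false
set_option linter.all false

open scoped commutatorElement

universe w

namespace CfsgLib.LocalEvenB

open Subgroup Cfsg CfsgLib.PLocal
open scoped Pointwise

variable {p : ℕ} [Fact p.Prime]

theorem map_isStronglyClosed {G K : Type w} [Group G] [Finite G] [Group K] (f : G →* K)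
    (hf : Function.Surjective f) (hker : (Nat.card f.ker).Coprime p) (P : Sylow p G) {D : Subgroup G}
    (hD : IsStronglyClosed D (P : Subgroup G)) :
    IsStronglyClosed (D.map f) ((P : Subgroup G).map f) := by
  refine ⟨map_mono hD.1, ?_⟩
  rintro _ ⟨x, hx, rfl⟩ k hk
  obtain ⟨g, rfl⟩ := hf k
  obtain ⟨y, hy, hyx⟩ := hk
  -- `g x g⁻¹` is a `p`-element of `P · ker f`
  set U := (P : Subgroup G) ⊔ f.ker with hU
  have hmem : g * x * g⁻¹ ∈ U := by
    have : g * x * g⁻¹ = y * (y⁻¹ * (g * x * g⁻¹)) := by group
    rw [this]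
    exact mul_mem_sup hy (by rw [MonoidHom.mem_ker, map_mul, map_inv, hyx, map_mul, map_mul, map_inv]; group)
  have hPi : ¬ p ∣ (P : Subgroup G).relIndex U := fun hd =>
    P.not_dvd_index (hd.trans (relIndex_dvd_index_of_le le_sup_left))
  have hxp : IsPGroup p ↥(zpowers (g * x * g⁻¹)) := by
    have := (P.2.to_le (zpowers_le.2 (hD.1 hx))).map (MulAut.conj g).toMonoidHom
    rwa [MonoidHom.map_zpowers] at this
  obtain ⟨u, hu, hux⟩ := CfsgLib.Transfer.exists_conj_le P.2 hPi (zpowers_le.2 hmem) hxp
  have hux' : (u⁻¹ * g) * x * (u⁻¹ * g)⁻¹ ∈ (P : Subgroup G) := by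
    convert hux _ (mem_zpowers _) using 1
    group
  obtain ⟨a, ha, n, hn, rfl⟩ := mem_sup_of_normal_right.1 hu
  have hd := hD.2 x hx _ hux'
  set z := ((a * n)⁻¹ * g) * x * ((a * n)⁻¹ * g)⁻¹ with hz
  have hd2 : a * z * a⁻¹ ∈ D := hD.2 z hd a
    ((P : Subgroup G).mul_mem ((P : Subgroup G).mul_mem ha (hD.1 hd)) ((P : Subgroup G).inv_mem ha))
  refine ⟨a * z * a⁻¹, hd2, ?_⟩
  rw [hz]
  simp only [map_mul, map_inv, MonoidHom.mem_ker.1 hn, mul_one]
  group

theorem subgroupOf_isStronglyClosed {G : Type w} [Group G] (U : Subgroup G) {D S : Subgroup G}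
    (hD : IsStronglyClosed D S) : IsStronglyClosed (D.subgroupOf U) (S.subgroupOf U) :=
  ⟨fun _ hx => hD.1 hx, fun x hx g hg => hD.2 x hx g hg⟩

/-- A functor on subgroups whose value on a strongly closed subgroup becomes normal in the stable
configuration decides the existence of a normal `p`-complement. -/
theorem hasNormalPComplement_of_stronglyClosed (hp : p ≠ 2)
    (W : ∀ {K : Type w} [Group K] [Finite K], Subgroup K → Subgroup K)
    (hle : ∀ {K : Type w} [Group K] [Finite K] (S : Subgroup K), W S ≤ S)
    (hmap : ∀ {K L : Type w} [Group K] [Finite K] [Group L] [Finite L] (f : K →* L)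
      (S : Subgroup K), Disjoint S f.ker → (W S).map f = W (S.map f))
    (hnormal : ∀ {K : Type w} [Group K] [Finite K], centralizer (pCore p K : Set K) ≤ pCore p K →
      ∀ (Q : Sylow p K) (D : Subgroup K), IsStronglyClosed D (Q : Subgroup K) →
        StableAt p (Q : Subgroup K) → (W D).Normal)
    {G : Type w} [Group G] [Finite G] (P : Sylow p G) (D : Subgroup G)
    (hD : IsStronglyClosed D (P : Subgroup G))
    (h : HasNormalPComplement p (normalizer ((W D : Subgroup G) : Set G))) :
    HasNormalPComplement p G := by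
  suffices ∀ (n : ℕ) (K : Type w) [Group K] [Finite K], Nat.card K = n → ∀ (Q : Sylow p K) (D : Subgroup K),
      IsStronglyClosed D (Q : Subgroup K) →
      HasNormalPComplement p (normalizer ((W D : Subgroup K) : Set K)) → HasNormalPComplement p K from
    this _ G rfl P D hD h
  intro n
  induction n using Nat.strong_induction_on with
  | _ n ih =>
  intro G _ _ hn P D hD h
  by_contra hno
  have hWfix : ∀ g : G, g ∈ normalizer (D : Set G) → g ∈ normalizer ((W D : Subgroup G) : Set G) := by
    intro g hg
    rw [mem_normalizer_iff_map_conj_eq] at hg ⊢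
    have h := hmap (MulAut.conj g).toMonoidHom D
      (by rw [(MonoidHom.ker_eq_bot_iff _).2 (MulAut.conj g).injective]; exact disjoint_bot_right)
    rw [show D.map (MulAut.conj g).toMonoidHom = D from hg] at h
    exact h
  have hproper : ∀ U : Subgroup G, U ≠ ⊤ → (P : Subgroup G) ≤ U → HasNormalPComplement p U := by
    intro U hU hPU
    refine ih _ (hn ▸ CfsgLib.Core.card_subgroup_lt U hU) U rfl (P.subtype hPU) (D.subgroupOf U) ?_ ?_
    · rw [Sylow.coe_subtype]; exact subgroupOf_isStronglyClosed U hD
    · refine npc_of_map_subtype (npc_of_le ?_ h)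
      refine (le_normalizer_map U.subtype).trans ?_
      rw [hmap U.subtype (D.subgroupOf U) (by rw [U.ker_subtype]; exact disjoint_bot_right),
        subgroupOf_map_subtype, inf_of_le_left (hD.1.trans hPU)]
  -- `O_{p'}(G) = 1`
  have hcore0 : pPrimeCore p G = ⊥ := by
    by_contra hne
    apply hno
    have hN := CfsgLib.Core.coprime_card_pPrimeCore p G
    refine npc_of_quotient _ hN (ih _ (hn ▸ CfsgLib.Core.card_quotient_lt _ hne) _ rfl
      (P.mapSurjective (QuotientGroup.mk'_surjective (pPrimeCore p G)))
      (D.map (QuotientGroup.mk' (pPrimeCore p G))) ?_ ?_)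
    · rw [Sylow.coe_mapSurjective]
      exact map_isStronglyClosed _ (QuotientGroup.mk'_surjective _)
        (by rw [QuotientGroup.ker_mk']; exact hN) P hD
    · rw [← hmap _ D (by rw [QuotientGroup.ker_mk']; exact disjoint_of_isPGroup hN (P.2.to_le hD.1)),
        ← map_normalizer_eq (pPrimeCore p G) hN (P.2.to_le ((hle D).trans hD.1))]
      exact npc_map _ h
  -- `Z(J(P))` is normal
  have hZ : normalizer ((centerThompsonAOf (P : Subgroup G) : Subgroup G) : Set G) = ⊤ := by
    by_contra hne
    exact hno (hasNormalPComplement_glauberman hp P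
      (hproper _ hne (le_normalizer.trans (normalizer_le_normalizer_centerThompsonA _))))
  by_cases hlt' : pCore p G = (P : Subgroup G)
  · refine hno (npc_of_top (eq_top_iff.2 fun g _ => hWfix g (mem_normalizer_iff.2 fun x => ?_)) h)
    haveI := CfsgLib.Core.normal_pCore p G
    have hPn : ((P : Subgroup G)).Normal := hlt' ▸ CfsgLib.Core.normal_pCore p G
    constructor
    · exact fun hx => hD.2 x hx g (hPn.conj_mem x (hD.1 hx) g)
    · intro hx
      have h1 := hD.2 _ hx g⁻¹ (hPn.conj_mem _ (hD.1 hx) g⁻¹)
      simpa [mul_assoc] using h1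
  have hlt : pCore p G < (P : Subgroup G) :=
    lt_of_le_of_ne (CfsgLib.Core.pCore_le_sylow P) hlt'
  have hnpcQ : HasNormalPComplement p (G ⧸ pCore p G) := by
    set f := QuotientGroup.mk' (pCore p G) with hf
    have hker : f.ker = pCore p G := QuotientGroup.ker_mk' _
    have hsurj : Function.Surjective f := QuotientGroup.mk'_surjective _
    refine hasNormalPComplement_glauberman hp (P.mapSurjective hsurj) ?_
    rw [Sylow.coe_mapSurjective]
    set Z := centerThompsonAOf ((P : Subgroup G).map f) with hZdef
    have hPb : (P : Subgroup G).map f ≠ ⊥ := by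
      rw [Ne, Subgroup.map_eq_bot_iff, hker]
      exact not_le_of_gt hlt
    have hPp : IsPGroup p ((P : Subgroup G).map f) := P.2.map f
    have hZb : Z ≠ ⊥ := centerThompsonA_ne_bot hPp hPb
    have hcX : (normalizer (Z : Set (G ⧸ pCore p G))).comap f
        = normalizer ((Z.comap f : Subgroup G) : Set G) :=
      comap_normalizer_eq_of_surjective _ hsurj
    have hU : normalizer ((Z.comap f : Subgroup G) : Set G) ≠ ⊤ := by
      intro htop
      haveI : (Z.comap f).Normal := normalizer_eq_top_iff.1 htop
      have hZp : IsPGroup p ↥(Z.comap f) :=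
        (hPp.to_le (centerThompsonA_le _)).comap_of_ker_isPGroup f
          (by rw [hker]; exact CfsgLib.Core.isPGroup_pCore p G)
      have h1 := map_le_iff_le_comap.2 (le_of_eq (le_antisymm (CfsgLib.Core.le_pCore hZp)
        (le_of_eq_of_le hker.symm (ker_le_comap f Z))).symm)
      refine hZb ?_
      rw [← map_comap_eq_self_of_surjective hsurj Z, Subgroup.map_eq_bot_iff, hker]
      exact CfsgLib.Core.le_pCore hZp
    have hPX : (P : Subgroup G) ≤ normalizer ((Z.comap f : Subgroup G) : Set G) := by
      rw [← hcX]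
      exact map_le_iff_le_comap.1 (le_normalizer.trans (normalizer_le_normalizer_centerThompsonA _))
    rw [← map_comap_eq_self_of_surjective hsurj (normalizer (Z : Set (G ⧸ pCore p G))), hcX]
    exact npc_map f (hproper _ hU hPX)
  have hcfg := config_of_quotient_npc hp hcore0 hnpcQ hno hproper hlt
  refine hno (npc_of_top ?_ h)
  haveI := hnormal hcfg.centralizer_le P D hD hcfg.stableAt
  exact normalizer_eq_top_iff.2 inferInstance

theorem omega_centerThompsonOf_le {K : Type w} [Group K] (S : Subgroup K) :
    Cfsg.omegaOne p (Cfsg.centerThompsonOf p S) ≤ S :=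
  (closure_le _).2 fun x hx => map_subtype_le _ hx.1.1

theorem omega_centerThompsonOf_map {K L : Type w} [Group K] [Group L] (f : K →* L) (S : Subgroup K)
    (hf : Disjoint S f.ker) :
    (Cfsg.omegaOne p (Cfsg.centerThompsonOf p S)).map f
      = Cfsg.omegaOne p (Cfsg.centerThompsonOf p (S.map f)) := by
  have hC : (Cfsg.centerThompsonOf p S).map f = Cfsg.centerThompsonOf p (S.map f) := by
    rw [Cfsg.centerThompsonOf, Cfsg.centerThompsonOf, ← thompsonOf_map f S hf]
    exact map_centralizer_of_injOn f _ (hf.mono_left (map_subtype_le _))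
  rw [Cfsg.omegaOne, Cfsg.omegaOne, MonoidHom.map_closure, ← hC]
  congr 1
  ext y
  constructor
  · rintro ⟨x, ⟨hx, hxp⟩, rfl⟩
    exact ⟨⟨x, hx, rfl⟩, by rw [← map_pow, hxp, map_one]⟩
  · rintro ⟨⟨x, hx, rfl⟩, hxp⟩
    refine ⟨x, ⟨hx, ?_⟩, rfl⟩
    have hxS : x ∈ S := map_subtype_le _ hx.1
    exact disjoint_def.1 hf (S.pow_mem hxS p) (by rw [MonoidHom.mem_ker, map_pow, hxp])

theorem hasNormalPComplement_centerThompsonA_stronglyClosed (hp : p ≠ 2) {G : Type w} [Group G]
    [Finite G] (P : Sylow p G) (D : Subgroup G) (hD : IsStronglyClosed D (P : Subgroup G))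
    (h : HasNormalPComplement p (normalizer ((centerThompsonAOf D : Subgroup G) : Set G))) :
    HasNormalPComplement p G := by
  refine hasNormalPComplement_of_stronglyClosed hp (fun S => centerThompsonAOf S)
    (fun S => centerThompsonA_le S) (fun f S hf => centerThompsonA_map f S hf) ?_ P D hD h
  intro K _ _ hc Q D' hD' hst
  have := zCore_normal_of_closed hp (goodPred_abelian p) hc Q hD' hst
  rwa [zCore_abelian_eq] at this

theorem hasNormalPComplement_omegaCenterThompson_stronglyClosed (hp : p ≠ 2) {G : Type w} [Group G]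
    [Finite G] (P : Sylow p G) (D : Subgroup G) (hD : IsStronglyClosed D (P : Subgroup G))
    (h : HasNormalPComplement p
      (normalizer ((Cfsg.omegaOne p (Cfsg.centerThompsonOf p D) : Subgroup G) : Set G))) :
    HasNormalPComplement p G := by
  refine hasNormalPComplement_of_stronglyClosed hp
    (fun S => Cfsg.omegaOne p (Cfsg.centerThompsonOf p S))
    (fun S => omega_centerThompsonOf_le S) (fun f S hf => omega_centerThompsonOf_map f S hf) ?_ P D hD h
  intro K _ _ hc Q D' hD' hst
  have := zCore_normal_of_closed hp (goodPred_elementary p) hc Q hD' hst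
  rwa [zCore_elementary_eq, ← omega_centerThompsonOf_eq] at this

end CfsgLib.LocalEvenB
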