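import Cfsg.Agent.Lib.LocalEvenB.BaumannBlock

/-!
# The module of a block
-/

set_option autoImplicit false
set_option linter.all false

namespace CfsgLib.LocalEvenB

open Subgroup Cfsg
open scoped commutatorElement MatrixGroups

section SLTwo

variable {F : Type*} [Field F]

/-- An additive subgroup of the plane invariant under `SL₂(F)'` is everything or zero. -/
theorem sl2_commutator_irred [Finite F] (U : AddSubgroup (Fin 2 → F))
    (hU : ∀ g ∈ commutator (Matrix.SpecialLinearGroup (Fin 2) F), ∀ w ∈ U,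
      (g : Matrix (Fin 2) (Fin 2) F).mulVec w ∈ U)
    {w : Fin 2 → F} (hw : w ∈ U) (hw0 : w ≠ 0) : U = ⊤ := by
  have hmem : ∀ x : F, ∃ g ∈ commutator (Matrix.SpecialLinearGroup (Fin 2) F),
      (g : Matrix (Fin 2) (Fin 2) F) = !![1 + x + x ^ 2, -x ^ 2; x, 1 - x] := by
    intro x
    let u : Matrix.SpecialLinearGroup (Fin 2) F := ⟨!![1, x; 0, 1], by simp [Matrix.det_fin_two]⟩
    let v : Matrix.SpecialLinearGroup (Fin 2) F := ⟨!![1, 0; 1, 1], by simp [Matrix.det_fin_two]⟩
    refine ⟨⁅u, v⁆, commutator_mem_commutator (mem_top u) (mem_top v), ?_⟩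
    rw [commutatorElement_def, Matrix.SpecialLinearGroup.coe_mul, Matrix.SpecialLinearGroup.coe_mul,
      Matrix.SpecialLinearGroup.coe_mul, Matrix.SpecialLinearGroup.coe_inv, Matrix.SpecialLinearGroup.coe_inv,
      Matrix.adjugate_fin_two, Matrix.adjugate_fin_two]
    ext i j
    fin_cases i <;> fin_cases j <;> simp [u, v, Matrix.mul_apply, Fin.sum_univ_two] <;> ring
  have hinv : ∀ x : F, ∃ g ∈ commutator (Matrix.SpecialLinearGroup (Fin 2) F),
      (g : Matrix (Fin 2) (Fin 2) F) = !![1 - x, x ^ 2; -x, 1 + x + x ^ 2] := by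
    intro x
    obtain ⟨g, hg, he⟩ := hmem x
    refine ⟨g⁻¹, inv_mem hg, ?_⟩
    rw [Matrix.SpecialLinearGroup.coe_inv, he, Matrix.adjugate_fin_two]
    simp
  have hsq : ∀ s : F, ∀ u ∈ U, (s ^ 2) • u ∈ U := by
    intro s u hu
    obtain ⟨g, hg, he⟩ := hmem s
    obtain ⟨g', hg', he'⟩ := hinv s
    have h1 := U.sub_mem (U.sub_mem (U.add_mem (hU g hg u hu) (hU g' hg' u hu)) hu) hu
    have h2 : (g : Matrix (Fin 2) (Fin 2) F).mulVec u + (g' : Matrix (Fin 2) (Fin 2) F).mulVec u - u - u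
        = (s ^ 2) • u := by
      rw [he, he']
      funext i
      fin_cases i <;> simp [Matrix.mulVec, dotProduct, Fin.sum_univ_two, Matrix.vecHead, Matrix.vecTail] <;> ring
    rwa [h2] at h1
  have hsmul : ∀ a : F, ∀ u ∈ U, a • u ∈ U := by
    intro a u hu
    by_cases h2 : (2 : F) = 0
    · haveI : CharP F 2 := CharP.charP_iff_prime_eq_zero Nat.prime_two |>.2 (by exact_mod_cast h2)
      letI := Fintype.ofFinite F
      obtain ⟨b, hb⟩ := FiniteField.isSquare_of_char_two (F := F) (ringChar.eq F 2) a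
      rw [hb, ← pow_two]
      exact hsq b u hu
    · have h1 := U.sub_mem (U.sub_mem (hsq (a / 2 + 1) u hu) (hsq (a / 2) u hu)) hu
      have e : ((a / 2 + 1) ^ 2) • u - ((a / 2) ^ 2) • u - u = a • u := by
        funext i
        simp only [Pi.sub_apply, Pi.smul_apply, smul_eq_mul]
        field_simp
        ring
      rwa [e] at h1
  obtain ⟨x, hx⟩ : ∃ x : F, w 0 * (x * w 0 + (1 - x) * w 1) - w 1 * ((1 + x + x ^ 2) * w 0 + -x ^ 2 * w 1) ≠ 0 := by
    by_cases h1 : w 1 = 0
    · refine ⟨1, ?_⟩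
      have h0 : w 0 ≠ 0 := fun h0 => hw0 (by funext i; fin_cases i <;> assumption)
      rw [h1]
      simp [h0]
    · by_contra hcon
      push Not at hcon
      have e1 := hcon 1
      have e2 := hcon (w 0 / w 1)
      field_simp at e2
      ring_nf at e2
      have h0 : w 0 = 0 := by
        rcases mul_eq_zero.1 (neg_eq_zero.1 e2) with h | h
        · exact (pow_eq_zero_iff (n := 2) (by norm_num)).1 h
        · exact absurd h h1
      rw [h0] at e1
      apply h1
      exact mul_self_eq_zero.1 (by linear_combination e1)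
  obtain ⟨g, hg, he⟩ := hmem x
  have hgw := hU g hg w hw
  rw [he] at hgw
  rw [eq_top_iff]
  rintro t -
  obtain ⟨D, hD⟩ : ∃ D, D = w 0 * (x * w 0 + (1 - x) * w 1) - w 1 * ((1 + x + x ^ 2) * w 0 + -x ^ 2 * w 1) :=
    ⟨_, rfl⟩
  have ht : t = ((t 0 * (x * w 0 + (1 - x) * w 1) - t 1 * ((1 + x + x ^ 2) * w 0 + -x ^ 2 * w 1)) / D) • w +
      ((w 0 * t 1 - w 1 * t 0) / D) • (!![1 + x + x ^ 2, -x ^ 2; x, 1 - x] : Matrix (Fin 2) (Fin 2) F).mulVec w := by
    have hD0 : D ≠ 0 := hD ▸ hx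
    funext i
    fin_cases i <;> simp [Matrix.mulVec, dotProduct, Fin.sum_univ_two, Matrix.vecHead, Matrix.vecTail] <;> field_simp <;> rw [hD] <;> ring
  rw [ht]
  exact U.add_mem (hsmul _ w hw) (hsmul _ _ hgw)

end SLTwo

section Alt

/-- Even-weight vectors form an irreducible module for the alternating group of odd degree. -/
theorem alternating_irred {n : ℕ} (hn : Odd n) (U : AddSubgroup (Fin n → ZMod 2))
    (hU : ∀ σ ∈ alternatingGroup (Fin n), ∀ w ∈ U, (fun i => w (σ i)) ∈ U)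
    {w : Fin n → ZMod 2} (hw : w ∈ U) (hw0 : w ≠ 0) (hwe : ∑ i, w i = 0)
    (v : Fin n → ZMod 2) (hv : ∑ i, v i = 0) : v ∈ U := by
  classical
  have hz : ∀ a : ZMod 2, a = 0 ∨ a = 1 := by decide
  have h11 : (1 : ZMod 2) + 1 = 0 := by decide
  have hcyc : ∀ {a b c : Fin n}, a ≠ b → b ≠ c → Equiv.swap a b * Equiv.swap b c ∈ alternatingGroup (Fin n) := by
    intro a b c hab hbc
    rw [Equiv.Perm.mem_alternatingGroup, map_mul, Equiv.Perm.sign_swap hab, Equiv.Perm.sign_swap hbc]
    rfl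
  obtain ⟨i, hi⟩ : ∃ i, w i = 1 := by
    by_contra h
    push Not at h
    exact hw0 (funext fun i => (hz (w i)).resolve_right (h i))
  obtain ⟨j, hj⟩ : ∃ j, w j = 0 := by
    by_contra h
    push Not at h
    have h1 : ∀ i, w i = 1 := fun i => (hz (w i)).resolve_left (h i)
    simp only [h1, Finset.sum_const, Finset.card_univ, Fintype.card_fin, nsmul_one] at hwe
    rw [ZMod.natCast_eq_zero_iff_even] at hwe
    exact Nat.not_even_iff_odd.2 hn hwe
  have hij : i ≠ j := fun e => by rw [e, hj] at hi; exact absurd hi (by decide)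
  obtain ⟨k, hki, hkj⟩ : ∃ k : Fin n, k ≠ i ∧ k ≠ j := by
    by_contra h
    push Not at h
    have hle : (Finset.univ : Finset (Fin n)) ⊆ {i, j} := fun k _ => by
      rcases eq_or_ne k i with e | e
      · simp [e]
      · simp [h k e]
    have hcard := Finset.card_le_card hle
    rw [Finset.card_univ, Fintype.card_fin, Finset.card_pair hij] at hcard
    obtain ⟨t, rfl⟩ := hn
    have : t = 0 := by omega
    subst this
    exact hij (Fin.ext (by omega))
  -- a vector with two ones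
  obtain ⟨P, hP⟩ : ∃ P : Fin n → Fin n → Fin n → ZMod 2,
      P = fun a b x => (if x = a then 1 else 0) + (if x = b then 1 else 0) := ⟨_, rfl⟩
  have h3 : ∀ a b c : Fin n, a ≠ b → b ≠ c → a ≠ c → P a b ∈ U → P a c ∈ U := by
    intro a b c hab hbc hac hab'
    have h1 := hU _ (hcyc hab hbc) _ hab'
    convert h1 using 1
    funext x
    subst hP
    simp only [Equiv.Perm.mul_apply]
    by_cases hxa : x = a
    · subst hxa; simp [Equiv.swap_apply_of_ne_of_ne hab hac, hab.symm, hac, hac.symm, hab]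
    by_cases hxb : x = b
    · subst hxb; simp [Equiv.swap_apply_of_ne_of_ne hac.symm hbc.symm, hab.symm, hbc, hbc.symm, hac.symm]
    by_cases hxc : x = c
    · subst hxc; simp [hab, hac.symm, hbc.symm, hxa, hxb]
    simp [Equiv.swap_apply_of_ne_of_ne hxb hxc, Equiv.swap_apply_of_ne_of_ne hxa hxb, hxa, hxb, hxc]
  have hcomm : ∀ a b, P a b = P b a := fun a b => by subst hP; funext x; exact add_comm _ _
  obtain ⟨a₀, b₀, hab₀, hP₀⟩ : ∃ a b, a ≠ b ∧ P a b ∈ U := by
    have h1 := U.add_mem (hU _ (hcyc hij hkj.symm) w hw) hw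
    rcases hz (w k) with hk | hk
    · refine ⟨i, k, hki.symm, ?_⟩
      convert h1 using 1
      funext x
      subst hP
      simp only [Pi.add_apply, Equiv.Perm.mul_apply]
      by_cases hxi : x = i
      · subst hxi; simp [Equiv.swap_apply_of_ne_of_ne hij hki.symm, hi, hj, hki.symm]
      by_cases hxj : x = j
      · subst hxj; simp [Equiv.swap_apply_of_ne_of_ne hki hkj, hj, hk, hij.symm, hkj.symm]
      by_cases hxk : x = k
      · subst hxk; simp [hi, hk, hki]
      simp [Equiv.swap_apply_of_ne_of_ne hxj hxk, Equiv.swap_apply_of_ne_of_ne hxi hxj, hxi, hxk, CharTwo.add_self_eq_zero]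
    · refine ⟨i, j, hij, ?_⟩
      convert h1 using 1
      funext x
      subst hP
      simp only [Pi.add_apply, Equiv.Perm.mul_apply]
      by_cases hxi : x = i
      · subst hxi; simp [Equiv.swap_apply_of_ne_of_ne hij hki.symm, hi, hj, hij]
      by_cases hxj : x = j
      · subst hxj; simp [Equiv.swap_apply_of_ne_of_ne hki hkj, hj, hk, hij.symm]
      by_cases hxk : x = k
      · subst hxk; simp [hi, hk, hki, hkj, h11]
      simp [Equiv.swap_apply_of_ne_of_ne hxj hxk, Equiv.swap_apply_of_ne_of_ne hxi hxj, hxi, hxj, CharTwo.add_self_eq_zero]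
  have hbase : ∀ x, x ≠ a₀ → P a₀ x ∈ U := by
    intro x hx
    rcases eq_or_ne b₀ x with e | e
    · exact e ▸ hP₀
    · exact h3 a₀ b₀ x hab₀ e hx.symm hP₀
  have hdiag : ∀ x, P x x = 0 := fun x => by subst hP; funext y; exact CharTwo.add_self_eq_zero _
  have hsum : v = ∑ x, if v x = 1 then P a₀ x else 0 := by
    funext y
    subst hP
    rw [Finset.sum_apply]
    have e : ∀ x : Fin n, (if v x = 1 then (fun t => (if t = a₀ then (1 : ZMod 2) else 0) + (if t = x then 1 else 0)) else 0) y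
        = v x * (if y = a₀ then 1 else 0) + (if y = x then v x else 0) := fun x => by
      rcases hz (v x) with h | h <;> simp [h]
    rw [Finset.sum_congr rfl fun x _ => e x, Finset.sum_add_distrib, ← Finset.sum_mul, hv, zero_mul, zero_add,
      Finset.sum_ite_eq, if_pos (Finset.mem_univ y)]
  rw [hsum]
  refine U.sum_mem fun x _ => ?_
  split_ifs
  · rcases eq_or_ne x a₀ with e | e
    · rw [e, hdiag]; exact U.zero_mem
    · exact hbase x e
  · exact U.zero_mem

end Alt

variable {G : Type*} [Group G] [Finite G] {p : ℕ} [hp : Fact p.Prime]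

/-- What the block definition gives about the action on `V = Ω₁(Z(O_p(E)))`. -/
theorem block_module {T E : Subgroup G} (hE : IsBaumannBlock p T E) :
    E ≤ normalizer (omegaOneCenter p (pCoreOf p E) : Set G) ∧
    (∀ U : Subgroup G, omegaOneCenter p (pCoreOf p E) ⊓ centralizer (E : Set G) ≤ U →
      U ≤ omegaOneCenter p (pCoreOf p E) → E ≤ normalizer (U : Set G) →
      ∀ u ∈ U, u ∉ centralizer (E : Set G) → U = omegaOneCenter p (pCoreOf p E)) ∧
    (∀ e ∈ E, (∀ v ∈ omegaOneCenter p (pCoreOf p E), e * v = v * e) → e ∈ pCoreOf p E) := by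
  obtain ⟨V, hV⟩ : ∃ V, V = omegaOneCenter p (pCoreOf p E) := ⟨_, rfl⟩
  obtain ⟨Z, hZ⟩ : ∃ Z, Z = V ⊓ centralizer (E : Set G) := ⟨_, rfl⟩
  have hQV : ∀ q ∈ pCoreOf p E, ∀ v ∈ V, q * v = v * q := by
    intro q hq v hv
    rw [hV, omegaOneCenter] at hv
    exact mem_centralizer_iff.1 (CfsgLib.PGroups.omegaOne_le _ hv).2 q hq
  have hkerQ : ∀ {R : Type} [Group R] (ρ : ↥E →* R) (C : Subgroup R), ρ.range = C →
      Nonempty (↥E ⧸ pCore p ↥E ≃* ↥C) → (∀ e : ↥E, (∀ v ∈ V, (e : G) * v = v * e) → ρ e = 1) →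
      ∀ e ∈ E, (∀ v ∈ V, e * v = v * e) → e ∈ pCoreOf p E := by
    intro R _ ρ C hC ⟨f⟩ htriv e he hev
    have hle : pCore p ↥E ≤ ρ.ker := fun q hq => htriv q fun v hv => hQV _ (mem_map_of_mem _ hq) v hv
    have hk : ρ.ker ≤ pCore p ↥E := by
      haveI : Finite ↥C := Finite.of_equiv _ f.toEquiv
      refine (eq_of_le_of_card_ge hle ?_).ge
      have h1 := ρ.ker.card_mul_index
      have h2 := (pCore p ↥E).card_mul_index
      rw [Subgroup.index_ker, hC] at h1
      rw [Subgroup.index_eq_card, Nat.card_congr f.toEquiv] at h2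
      exact (Nat.eq_of_mul_eq_mul_right Nat.card_pos (h1.trans h2.symm)).le
    exact ⟨⟨e, he⟩, hk (htriv ⟨e, he⟩ hev), rfl⟩
  rcases hE.2.2.2.2 with ⟨F, _, _, n, hcard, hiso, ⟨hn, -, ρ, ψ, hρ, hψ, hψk, hact⟩, -⟩ |
      ⟨hp2, m, hiso, ⟨hn, -, ρ, ψ, hρ, hψe, hψs, hψk, hact⟩, -⟩
  · subst hV
    refine ⟨hn, fun U hZU hUV hUn u hu huc => ?_, ?_⟩
    · let UA : AddSubgroup (Fin 2 → F) :=
        (Subgroup.map ψ (U.subgroupOf (omegaOneCenter p (pCoreOf p E)))).toAddSubgroup'
      have hmem : ∀ t : Fin 2 → F, t ∈ UA ↔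
          ∃ x : ↥(omegaOneCenter p (pCoreOf p E)), (x : G) ∈ U ∧ Multiplicative.toAdd (ψ x) = t := by
        intro t
        constructor
        · rintro ⟨x, hx, he⟩
          exact ⟨x, hx, by rw [he]; rfl⟩
        · rintro ⟨x, hx, he⟩
          exact ⟨x, hx, by rw [← he]; rfl⟩
      have htop : UA = ⊤ := by
        refine sl2_commutator_irred UA (fun g hg t ht => ?_) ((hmem _).2 ⟨⟨u, hUV hu⟩, hu, rfl⟩) ?_
        · rw [← hρ] at hg
          obtain ⟨e, rfl⟩ := hg
          obtain ⟨x, hx, rfl⟩ := (hmem t).1 ht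
          obtain ⟨y, hy, hye⟩ := hact e x
          exact (hmem _).2 ⟨y, hy ▸ (mem_normalizer_iff.1 (hUn e.2) _).1 hx, hye⟩
        · intro h0
          have h1 : ψ ⟨u, hUV hu⟩ = 1 := Multiplicative.toAdd.injective h0
          exact huc ((hψk _).1 h1).2
      refine le_antisymm hUV fun v hv => ?_
      obtain ⟨x, hx, he⟩ := (hmem (Multiplicative.toAdd (ψ ⟨v, hv⟩))).1 (htop ▸ AddSubgroup.mem_top _)
      have h1 : ψ (x⁻¹ * ⟨v, hv⟩) = 1 := by
        rw [map_mul, map_inv, Multiplicative.toAdd.injective he, inv_mul_cancel]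
      have h2 := U.mul_mem hx (hZU ((hψk _).1 h1))
      simpa using h2
    · refine hkerQ ρ _ hρ hiso fun e he => ?_
      apply Subtype.ext
      ext i j
      obtain ⟨x, hx⟩ := hψ (Multiplicative.ofAdd (Pi.single j 1))
      obtain ⟨y, hy, hye⟩ := hact e x
      have hyx : y = x := Subtype.ext (by rw [hy, he _ x.2, mul_inv_cancel_right])
      rw [hyx, hx, toAdd_ofAdd, Matrix.mulVec_single_one] at hye
      have := congrFun hye i
      simp only [Matrix.col_apply] at this
      rw [← this, Matrix.SpecialLinearGroup.coe_one, Matrix.one_apply, Pi.single_apply]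
  · subst hV
    refine ⟨hn, fun U hZU hUV hUn u hu huc => ?_, ?_⟩
    · let UA : AddSubgroup (Fin (2 * m + 1) → ZMod 2) :=
        (Subgroup.map ψ (U.subgroupOf (omegaOneCenter p (pCoreOf p E)))).toAddSubgroup'
      have hmem : ∀ t : Fin (2 * m + 1) → ZMod 2, t ∈ UA ↔
          ∃ x : ↥(omegaOneCenter p (pCoreOf p E)), (x : G) ∈ U ∧ Multiplicative.toAdd (ψ x) = t := by
        intro t
        constructor
        · rintro ⟨x, hx, he⟩
          exact ⟨x, hx, by rw [he]; rfl⟩
        · rintro ⟨x, hx, he⟩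
          exact ⟨x, hx, by rw [← he]; rfl⟩
      have hne : Multiplicative.toAdd (ψ ⟨u, hUV hu⟩) ≠ 0 := by
        intro h0
        have h1 : ψ ⟨u, hUV hu⟩ = 1 := Multiplicative.toAdd.injective h0
        exact huc ((hψk _).1 h1).2
      refine le_antisymm hUV fun v hv => ?_
      have hvU := alternating_irred ⟨m, rfl⟩ UA (fun σ hσ t ht => ?_) ((hmem _).2 ⟨⟨u, hUV hu⟩, hu, rfl⟩) hne
        (hψe _) _ (hψe ⟨v, hv⟩)
      · obtain ⟨x, hx, he⟩ := (hmem _).1 hvU
        have h1 : ψ (x⁻¹ * ⟨v, hv⟩) = 1 := by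
          rw [map_mul, map_inv, Multiplicative.toAdd.injective he, inv_mul_cancel]
        have h2 := U.mul_mem hx (hZU ((hψk _).1 h1))
        simpa using h2
      · have hσ' : σ⁻¹ ∈ ρ.range := hρ ▸ inv_mem hσ
        obtain ⟨e, he⟩ := hσ'
        obtain ⟨x, hx, rfl⟩ := (hmem t).1 ht
        obtain ⟨y, hy, hye⟩ := hact e x
        refine (hmem _).2 ⟨y, hy ▸ (mem_normalizer_iff.1 (hUn e.2) _).1 hx, funext fun i => ?_⟩
        rw [hye i, he, inv_inv]
    · refine hkerQ ρ _ hρ hiso fun e he => ?_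
      refine inv_eq_one.1 (Equiv.ext fun i => ?_)
      rw [Equiv.Perm.one_apply]
      by_contra hne
      obtain ⟨k, hki, hkj⟩ : ∃ k, k ≠ i ∧ k ≠ (ρ e)⁻¹ i := by
        by_contra h
        push Not at h
        have hle : (Finset.univ : Finset (Fin (2 * m + 1))) ⊆ {i, (ρ e)⁻¹ i} := fun k _ => by
          rcases eq_or_ne k i with e' | e'
          · simp [e']
          · simp [h k e']
        have hcard := Finset.card_le_card hle
        rw [Finset.card_univ, Fintype.card_fin, Finset.card_pair (fun e' => hne e'.symm)] at hcard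
        have : m = 0 := by omega
        subst this
        exact hne (Fin.ext (by omega))
      obtain ⟨x, hx⟩ := hψs (Pi.single i 1 + Pi.single k 1) (by
        simp only [Pi.add_apply, Finset.sum_add_distrib, Finset.sum_pi_single', Finset.mem_univ, if_true]
        exact CharTwo.add_self_eq_zero _)
      obtain ⟨y, hy, hye⟩ := hact e x
      have hyx : y = x := Subtype.ext (by rw [hy, he _ x.2, mul_inv_cancel_right])
      have := hye i
      rw [hyx, hx, Pi.add_apply, Pi.add_apply, Pi.single_eq_same, Pi.single_eq_of_ne hki.symm,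
        Pi.single_eq_of_ne hne, Pi.single_eq_of_ne hkj.symm] at this
      simp at this

end CfsgLib.LocalEvenB
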