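import Cfsg.Agent.Lib.LocalEvenB.StronglyClosedZJ
import Cfsg.Agent.Lib.PLocal.Replacement
import Cfsg.Agent.Lib.PLocal.Comm
import Cfsg.Agent.Lib.PGroups.ClassTwo

/-!
# The replacement subgroup does not lose elements of order `p`
-/

set_option autoImplicit false
set_option linter.all false

namespace CfsgLib.LocalEvenB

open Subgroup Cfsg CfsgLib.PLocal
open scoped commutatorElement

variable {G : Type*} [Group G] {p : ℕ}

theorem omegaOne_le (A : Subgroup G) : Cfsg.omegaOne p A ≤ A :=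
  (Subgroup.closure_le _).2 fun _ hx => hx.1

theorem pow_eq_one_of_mem_omegaOne {A : Subgroup G} (hA : IsMulCommutative A) {x : G}
    (hx : x ∈ Cfsg.omegaOne p A) : x ^ p = 1 := by
  let K : Subgroup G :=
    { carrier := {x | x ∈ A ∧ x ^ p = 1}
      one_mem' := ⟨one_mem _, one_pow _⟩
      mul_mem' := fun {u v} hu hv => ⟨mul_mem hu.1 hv.1, by
        have hcm : Commute u v := comm_of_mem hA hu.1 hv.1
        rw [hcm.mul_pow, hu.2, hv.2, mul_one]⟩
      inv_mem' := fun {u} hu => ⟨inv_mem hu.1, by rw [inv_pow, hu.2, inv_one]⟩ }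
  exact ((Subgroup.closure_le K).2 (fun y hy => hy) hx).2

theorem normalizer_le_normalizer_omegaOne (A : Subgroup G) :
    normalizer (A : Set G) ≤ normalizer ((Cfsg.omegaOne p A : Subgroup G) : Set G) := by
  intro g hg
  rw [mem_normalizer_iff_map_conj_eq] at hg ⊢
  rw [map_omegaOne _ (MulAut.conj g).injective, hg]

theorem omega_card_le_replace [Finite G] [Fact p.Prime] (hp : p ≠ 2) {A X : Subgroup G} {b : G}
    (hA : IsMulCommutative A) (hX : replace A b = X) (hXc : IsMulCommutative X)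
    (hbN : b ∈ normalizer ((normalizer (A : Set G)) : Set G)) :
    Nat.card ↥(Cfsg.omegaOne p A) ≤ Nat.card ↥(Cfsg.omegaOne p X) := by
  obtain ⟨N, hN⟩ : ∃ N, N = normalizer (A : Set G) := ⟨_, rfl⟩
  rw [← hN] at hbN
  obtain ⟨A', hA'⟩ : ∃ A', A' = A.map (MulAut.conj b⁻¹).toMonoidHom := ⟨_, rfl⟩
  obtain ⟨W, hW⟩ : ∃ W, W = Cfsg.omegaOne p A := ⟨_, rfl⟩
  obtain ⟨W', hW'⟩ : ∃ W', W' = Cfsg.omegaOne p A' := ⟨_, rfl⟩
  rw [← hW]
  have hWmap : W.map (MulAut.conj b⁻¹).toMonoidHom = W' := by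
    rw [hW, hW', hA', map_omegaOne _ (MulAut.conj b⁻¹).injective]
  haveI hA'c : IsMulCommutative A' := by
    haveI := hA
    rw [hA']; infer_instance
  have hconj : ∀ n ∈ N, b⁻¹ * n * b ∈ N := fun n hn => (mem_normalizer_iff''.1 hbN n).1 hn
  have hA'N : A' ≤ N := by
    rw [hA']
    rintro _ ⟨a, ha, rfl⟩
    show b⁻¹ * a * b⁻¹⁻¹ ∈ N
    rw [inv_inv]
    exact hconj a (hN ▸ le_normalizer ha)
  have hNA' : N ≤ normalizer (A' : Set G) := by
    intro n hn
    have hn' : b * n * b⁻¹ ∈ normalizer (A : Set G) :=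
      hN ▸ (mem_normalizer_iff.1 hbN n).1 hn
    have h := le_normalizer_map (H := A) (MulAut.conj b⁻¹).toMonoidHom ⟨_, hn', rfl⟩
    rw [← hA'] at h
    simpa [mul_assoc] using h
  have hWA : W ≤ A := hW ▸ omegaOne_le A
  have hW'A : W' ≤ A' := hW' ▸ omegaOne_le A'
  have hW'N : W' ≤ normalizer (W : Set G) := by
    rw [hW]
    exact hW'A.trans (hA'N.trans (hN ▸ normalizer_le_normalizer_omegaOne A))
  have hWN' : W ≤ normalizer (W' : Set G) := by
    rw [hW']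
    exact hWA.trans ((hN ▸ le_normalizer : A ≤ N).trans (hNA'.trans (normalizer_le_normalizer_omegaOne A')))
  obtain ⟨C, hC⟩ : ∃ C : Subgroup G, C = closure {g : G | ∃ a ∈ W, g = a * b⁻¹ * a⁻¹ * b} := ⟨_, rfl⟩
  have hCX : C ≤ X := by
    rw [hC, ← hX, replace]
    exact le_sup_of_le_right (closure_mono fun g ⟨a, ha, he⟩ => ⟨a, hWA ha, he⟩)
  have hIX : W ⊓ W' ≤ X := by
    rw [← hX, replace, ← hA']
    exact le_sup_of_le_left (inf_le_inf hWA hW'A)
  have hgenJ : ∀ a ∈ W, a * b⁻¹ * a⁻¹ * b = a * MulAut.conj b⁻¹ a⁻¹ := fun a _ => by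
    simp [mul_assoc]
  have hCJ : C ≤ W ⊔ W' := by
    rw [hC, Subgroup.closure_le]
    rintro _ ⟨a, ha, rfl⟩
    rw [hgenJ a ha]
    exact mul_mem_sup ha (hWmap ▸ mem_map_of_mem _ (W.inv_mem ha))
  have hexp : ∀ a ∈ W, (a * MulAut.conj b⁻¹ a⁻¹) ^ p = 1 := by
    intro a ha
    obtain ⟨c, hc⟩ : ∃ c, c = MulAut.conj b⁻¹ a⁻¹ := ⟨_, rfl⟩
    have hcW : c ∈ W' := hc ▸ hWmap ▸ mem_map_of_mem _ (W.inv_mem ha)
    rw [← hc]
    have hz : ⁅c, a⁆ ∈ W ⊓ W' := by
      refine ⟨?_, ?_⟩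
      · rw [commutatorElement_def]
        exact W.mul_mem ((mem_normalizer_iff.1 (hW'N hcW) a).1 ha) (W.inv_mem ha)
      · rw [commutatorElement_def, mul_assoc, mul_assoc, ← mul_assoc a]
        exact W'.mul_mem hcW ((mem_normalizer_iff.1 (hWN' ha) _).1 (W'.inv_mem hcW))
    let J : Subgroup G := W ⊔ W'
    let a₀ : J := ⟨a, mem_sup_left ha⟩
    let c₀ : J := ⟨c, mem_sup_right hcW⟩
    have hzc : ⁅c₀, a₀⁆ ∈ center J := by
      refine mem_center_iff.2 fun y => Subtype.ext ?_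
      have hle : J ≤ centralizer ({⁅c, a⁆} : Set G) := sup_le
        (fun y hy => mem_centralizer_singleton_iff.2 (comm_of_mem hA (hWA hy) (hWA hz.1)))
        (fun y hy => mem_centralizer_singleton_iff.2 (comm_of_mem hA'c (hW'A hy) (hW'A hz.2)))
      exact mem_centralizer_singleton_iff.1 (hle y.2)
    have hodd : Odd p := (Fact.out : p.Prime).odd_of_ne_two hp
    have h := congrArg Subtype.val (CfsgLib.PGroups.mul_pow_of_central_odd hzc hodd (Subtype.ext (by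
      show ⁅c, a⁆ ^ p = 1
      exact pow_eq_one_of_mem_omegaOne hA (hW ▸ hz.1))))
    simp only [SubmonoidClass.coe_pow, Subgroup.coe_mul, a₀, c₀] at h
    rw [h, pow_eq_one_of_mem_omegaOne hA (hW ▸ ha), pow_eq_one_of_mem_omegaOne hA'c (hW' ▸ hcW), one_mul]
  have hTX : (W ⊓ W') ⊔ C ≤ Cfsg.omegaOne p X := by
    refine sup_le (fun x hx => ?_) ?_
    · exact Subgroup.subset_closure ⟨hIX hx, pow_eq_one_of_mem_omegaOne hA (hW ▸ hx.1)⟩
    · rw [hC, Subgroup.closure_le]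
      intro x hx
      refine Subgroup.subset_closure ⟨hCX (hC ▸ Subgroup.subset_closure hx), ?_⟩
      obtain ⟨a, ha, rfl⟩ := hx
      rw [hgenJ a ha]
      exact hexp a ha
  refine le_trans ?_ (Subgroup.card_le_of_le hTX)
  have hTJ : (W ⊓ W') ⊔ C ≤ W ⊔ W' := sup_le (inf_le_left.trans le_sup_left) hCJ
  have hsup : (W ⊓ W') ⊔ C ⊔ W = W ⊔ W' := by
    refine le_antisymm (sup_le hTJ le_sup_left) (sup_le le_sup_right ?_)
    intro x hx
    rw [← hWmap] at hx
    obtain ⟨a, ha, rfl⟩ := hx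
    have : MulAut.conj b⁻¹ a = a * (a⁻¹ * b⁻¹ * a⁻¹⁻¹ * b) := by simp [mul_assoc]
    show MulAut.conj b⁻¹ a ∈ W ⊓ W' ⊔ C ⊔ W
    rw [this]
    exact mul_mem (mem_sup_right ha)
      (mem_sup_left (mem_sup_right (hC ▸ Subgroup.subset_closure ⟨a⁻¹, W.inv_mem ha, rfl⟩)))
  have h1 := card_sup_mul_card_inf ((W ⊓ W') ⊔ C) W (hTJ.trans (sup_le le_normalizer hW'N))
  rw [hsup] at h1
  have h2 := card_sup_mul_card_inf W' W hW'N
  rw [sup_comm W' W, inf_comm W' W] at h2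
  have hWc : Nat.card W' = Nat.card W := by
    rw [← hWmap]; exact Subgroup.card_map_of_injective (MulAut.conj b⁻¹).injective
  rw [hWc] at h2
  refine Nat.le_of_mul_le_mul_right ?_ (Nat.card_pos (α := W))
  rw [h1, h2]
  exact Nat.mul_le_mul_left _ (Subgroup.card_le_of_le (le_inf le_sup_left inf_le_left))

end CfsgLib.LocalEvenB
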