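import Mathlib
import Cfsg.Agent.Lib.Perm.UniqueSylowTwo

/-!
# Sylow 2-subgroups of symmetric and alternating groups are self-normalising

* `odd_normalizer_perm_eq_one`: an element of odd order normalising a Sylow 2-subgroup of a
  symmetric group is trivial.
* `odd_normalizer_alt_eq_one`: the same for the even part, in degree at least six.

Both rest on the pairing of the points by the involution `z` centralising the Sylow subgroup.
-/

set_option autoImplicit false
set_option linter.all false

namespace CfsgLib.LocalEvenB.AltSylowTwo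

open Equiv Equiv.Perm MulAction

variable {α : Type*}

/-- A Sylow 2-subgroup centralises an involution with at most one fixed point. -/
theorem exists_pairing [Finite α] (P : Sylow 2 (Perm α)) :
    ∃ z : Perm α, (∀ a, z (z a) = a) ∧ (∀ a b, z a = a → z b = b → a = b) ∧
      ∀ g ∈ (P : Subgroup (Perm α)), Commute z g := by
  classical
  haveI := Fact.mk Nat.prime_two
  have key : ∀ O : orbitRel.Quotient (P : Subgroup (Perm α)) α, ∃ c : (P : Subgroup (Perm α)),
      ∀ b : α, Quotient.mk _ b = O →
        (c • b = b → ∀ g : (P : Subgroup (Perm α)), g • b = b) ∧ c • c • b = b ∧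
        ∀ g : (P : Subgroup (Perm α)), g • c • b = c • g • b := by
    intro O
    induction O using Quotient.inductionOn with
    | h a₀ =>
    have hmem : ∀ b : α, Quotient.mk (orbitRel (P : Subgroup (Perm α)) α) b = Quotient.mk _ a₀ →
        b ∈ orbit (P : Subgroup (Perm α)) a₀ := fun b hb => orbitRel_apply.1 (Quotient.exact hb)
    by_cases hfix : ∀ g : (P : Subgroup (Perm α)), g • a₀ = a₀
    · refine ⟨1, fun b hb => ?_⟩
      obtain ⟨g, hg⟩ := hmem b hb
      have hb' : b = a₀ := hg.symm.trans (hfix g)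
      refine ⟨fun _ g => by rw [hb']; exact hfix g, by rw [one_smul, one_smul], fun g => ?_⟩
      rw [one_smul, one_smul]
    push Not at hfix
    let f := MulAction.toPermHom (P : Subgroup (Perm α)) (orbit (P : Subgroup (Perm α)) a₀)
    have hP : IsPGroup 2 f.range := P.isPGroup'.of_surjective f.rangeRestrict
      f.rangeRestrict_surjective
    haveI : Nontrivial f.range := by
      obtain ⟨g, hga⟩ := hfix
      refine ⟨⟨⟨f g, _, rfl⟩, 1, fun h => hga ?_⟩⟩
      exact congrArg Subtype.val (congrArg (fun w : f.range =>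
        (w : Perm (orbit (P : Subgroup (Perm α)) a₀)) ⟨a₀, mem_orbit_self a₀⟩) h)
    haveI := hP.center_nontrivial
    have hd : 2 ∣ Nat.card (Subgroup.center f.range) := by
      obtain ⟨i, hi⟩ := IsPGroup.iff_card.1 (hP.to_subgroup (Subgroup.center f.range))
      have := Finite.one_lt_card (α := Subgroup.center f.range)
      rw [hi] at this ⊢
      exact dvd_pow_self 2 (by rintro rfl; simp at this)
    obtain ⟨ζ, hζ⟩ := exists_prime_orderOf_dvd_card' (G := Subgroup.center f.range) 2 hd
    obtain ⟨c, hc⟩ := (ζ : f.range).2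
    have hcomm : ∀ (g : (P : Subgroup (Perm α))) (b : orbit (P : Subgroup (Perm α)) a₀),
        g • c • b = c • g • b := by
      intro g b
      have h := congrArg (fun w : f.range => (w : Perm _) b)
        (Subgroup.mem_center_iff.1 ζ.2 ⟨f g, g, rfl⟩)
      have h' : f g (((ζ : f.range) : Perm _) b) = ((ζ : f.range) : Perm _) (f g b) := h
      rw [← hc] at h'
      exact h'
    have hcc : ∀ b : orbit (P : Subgroup (Perm α)) a₀, c • c • b = b := by
      intro b
      have h := congrArg (fun w : Subgroup.center f.range => ((w : f.range) : Perm _) b)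
        (show ζ * ζ = 1 by rw [← sq]; exact orderOf_dvd_iff_pow_eq_one.1 (hζ.dvd))
      have h' : ((ζ : f.range) : Perm _) (((ζ : f.range) : Perm _) b) = b := h
      rw [← hc] at h'
      exact h'
    refine ⟨c, fun b hb => ⟨fun h => ?_, congrArg Subtype.val (hcc ⟨b, hmem b hb⟩),
      fun g => congrArg Subtype.val (hcomm g ⟨b, hmem b hb⟩)⟩⟩
    exfalso
    have hall : ∀ b' : orbit (P : Subgroup (Perm α)) a₀, c • b' = b' := by
      intro b'
      obtain ⟨g, hg⟩ := exists_smul_eq (P : Subgroup (Perm α))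
        (⟨b, hmem b hb⟩ : orbit (P : Subgroup (Perm α)) a₀) b'
      rw [← hg, ← hcomm, show c • (⟨b, hmem b hb⟩ : orbit (P : Subgroup (Perm α)) a₀) = ⟨b, hmem b hb⟩
        from Subtype.ext h]
    have hf1 : f c = 1 := Equiv.ext fun b' => hall b'
    have : ζ = 1 := Subtype.ext (Subtype.ext (hc.symm.trans hf1))
    rw [this, orderOf_one] at hζ
    exact absurd hζ (by norm_num)
  choose c hc using key
  let z₀ : α → α := fun a => c (Quotient.mk _ a) • a
  have hmk : ∀ (g : (P : Subgroup (Perm α))) (a : α),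
      Quotient.mk (orbitRel (P : Subgroup (Perm α)) α) (g • a) = Quotient.mk _ a := fun g a =>
    Quotient.sound (orbitRel_apply.2 (mem_orbit a g))
  have hinv : ∀ a, z₀ (z₀ a) = a := fun a => by
    show c (Quotient.mk _ (c _ • a)) • c _ • a = a
    rw [hmk]
    exact (hc _ a rfl).2.1
  refine ⟨Function.Involutive.toPerm z₀ hinv, hinv, fun a b ha hb => ?_, fun g hg => ?_⟩
  · exact CfsgLib.Perm.UniqueSylowTwo.fixed_eq P
      (fun g hg => (hc _ a rfl).1 ha ⟨g, hg⟩) (fun g hg => (hc _ b rfl).1 hb ⟨g, hg⟩)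
  refine Equiv.ext fun a => ?_
  show z₀ ((⟨g, hg⟩ : (P : Subgroup (Perm α))) • a) =
    (⟨g, hg⟩ : (P : Subgroup (Perm α))) • z₀ a
  show c (Quotient.mk _ (_ • a)) • _ = _
  rw [hmk]
  exact ((hc _ a rfl).2.2 _).symm

variable [DecidableEq α]

theorem comm_apply {z k : Perm α} (h : Commute z k) (b : α) : k (z b) = z (k b) :=
  (congrArg (fun f : Perm α => f b) h.eq).symm

/-- The permutations commuting with `z` that map every pair `{a, z a}` to itself. -/
def pairGroup (z : Perm α) (hz : ∀ a, z (z a) = a) : Subgroup (Perm α) where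
  carrier := {k | Commute z k ∧ ∀ a, k a = a ∨ k a = z a}
  one_mem' := ⟨Commute.one_right z, fun a => Or.inl rfl⟩
  mul_mem' := by
    rintro k l ⟨hk, hk'⟩ ⟨hl, hl'⟩
    refine ⟨hk.mul_right hl, fun a => ?_⟩
    show k (l a) = a ∨ k (l a) = z a
    rcases hl' a with h | h <;> rw [h]
    · exact hk' a
    · rw [comm_apply hk]
      rcases hk' a with e | e <;> rw [e]
      · exact Or.inr rfl
      · exact Or.inl (hz a)
  inv_mem' := by
    rintro k ⟨hk, hk'⟩
    refine ⟨hk.inv_right, fun a => ?_⟩
    rcases hk' a with e | e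
    · left; rw [inv_eq_iff_eq, e]
    · right; rw [inv_eq_iff_eq, comm_apply hk, e, hz]

variable [Finite α]

/-- The transposition of a pair lies in the Sylow subgroup. -/
theorem swap_mem (P : Sylow 2 (Perm α)) {z : Perm α} (hz : ∀ a, z (z a) = a)
    (hzP : ∀ g ∈ (P : Subgroup (Perm α)), Commute z g) (a : α) :
    swap a (z a) ∈ (P : Subgroup (Perm α)) := by
  haveI := Fact.mk Nat.prime_two
  have hT : IsPGroup 2 (pairGroup z hz) := by
    rintro ⟨k, hk, hk'⟩
    refine ⟨1, Subtype.ext (Equiv.ext fun b => ?_)⟩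
    show (k ^ (2 ^ 1)) b = b
    rw [pow_one, sq, Perm.mul_apply]
    rcases hk' b with e | e
    · rw [e, e]
    · rw [e, comm_apply hk, e, hz]
  have hle : (P : Subgroup (Perm α)) ≤ Subgroup.normalizer (pairGroup z hz : Set (Perm α)) := by
    have main : ∀ g ∈ (P : Subgroup (Perm α)), ∀ k ∈ pairGroup z hz, g * k * g⁻¹ ∈ pairGroup z hz := by
      rintro g hg k ⟨hk, hk'⟩
      refine ⟨((hzP g hg).mul_right hk).mul_right (hzP g hg).inv_right, fun b => ?_⟩
      show g (k (g⁻¹ b)) = b ∨ g (k (g⁻¹ b)) = z b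
      rcases hk' (g⁻¹ b) with e | e <;> rw [e]
      · left; simp
      · right; rw [comm_apply (hzP g hg)]; simp
    intro g hg
    rw [Subgroup.mem_normalizer_iff]
    refine fun k => ⟨main g hg k, fun h => ?_⟩
    have := main g⁻¹ (inv_mem hg) _ h
    simpa [mul_assoc] using this
  have hmem : swap a (z a) ∈ pairGroup z hz := by
    refine ⟨?_, fun b => ?_⟩
    · show z * swap a (z a) = swap a (z a) * z
      rw [mul_swap_eq_swap_mul, hz, swap_comm]
    · by_cases h1 : b = a
      · right; rw [h1, swap_apply_left]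
      by_cases h2 : b = z a
      · right; rw [h2, swap_apply_right, hz]
      left; exact swap_apply_of_ne_of_ne h1 h2
  exact P.is_maximal' (P.isPGroup'.to_sup_of_normal_right' hT hle) le_sup_left ▸
    Subgroup.mem_sup_right hmem

/-- An involution with at most one fixed point that fixes every pair of `z` is `z`. -/
theorem eq_of_pairs {z u : Perm α} (hu2 : ∀ a, u (u a) = a)
    (hu : ∀ a b, u a = a → u b = b → a = b) (hz : ∀ a, z (z a) = a)
    (hzf : ∀ a b, z a = a → z b = b → a = b)
    (hp : ∀ a, z a ≠ a → u a = a ∨ u a = z a) : u = z := by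
  have hmv : ∀ a, z a ≠ a → u a = z a := by
    intro a ha
    refine (hp a ha).resolve_left fun e => ?_
    have hza : z (z a) ≠ z a := fun h => ha (z.injective h)
    rcases hp (z a) hza with e' | e'
    · exact ha (hu a (z a) e e').symm
    · rw [hz] at e'
      exact ha (u.injective (e'.trans e.symm))
  refine Equiv.ext fun a => ?_
  by_cases ha : z a = a
  · rw [ha]
    by_contra hne
    have h2 : z (u a) ≠ u a := fun h => hne (hzf _ _ h ha)
    have h3 : a = z (u a) := (hu2 a).symm.trans (hmv _ h2)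
    have h4 : z a = u a := by rw [h3, hz, ← h3]
    exact hne (h4.symm.trans ha)
  · exact hmv a ha

/-- If `g` carries the transpositions of pairs into themselves it commutes with `z`. -/
theorem commute_of_pairs {z g : Perm α} (hz : ∀ a, z (z a) = a)
    (hzf : ∀ a b, z a = a → z b = b → a = b)
    (hp : ∀ a, z a ≠ a → (g * z * g⁻¹) a = a ∨ (g * z * g⁻¹) a = z a) : Commute z g := by
  have h := eq_of_pairs (u := g * z * g⁻¹) (z := z)
    (fun a => by simp [hz])
    (fun a b ha hb => g⁻¹.injective (hzf _ _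
      (by simpa using congrArg (⇑g⁻¹) ha) (by simpa using congrArg (⇑g⁻¹) hb))) hz hzf hp
  show z * g = g * z
  calc z * g = (g * z * g⁻¹) * g := by rw [h]
    _ = g * z := by group

/-- An element commuting with a transposition maps its two points to themselves. -/
theorem preserve_of_commute_swap {u : Perm α} {a b : α} (hab : a ≠ b)
    (h : Commute u (swap a b)) : u a = a ∨ u a = b := by
  have h1 : swap (u a) (u b) = swap a b := by
    have := h.eq
    rw [mul_swap_eq_swap_mul] at this
    exact mul_right_cancel this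
  by_contra hcon
  push Not at hcon
  have := congrArg (fun f : Perm α => f (u a)) h1
  simp only [swap_apply_left, swap_apply_of_ne_of_ne hcon.1 hcon.2] at this
  exact hab (u.injective this.symm)

theorem commute_conj_of_mem (P : Subgroup (Perm α)) {z g s : Perm α}
    (hzP : ∀ t ∈ P, Commute z t) (hs : g⁻¹ * s * g ∈ P) : Commute (g * z * g⁻¹) s := by
  have h := congrArg (fun w => g * w * g⁻¹) (hzP _ hs).eq
  show g * z * g⁻¹ * s = s * (g * z * g⁻¹)
  simpa [mul_assoc] using h

theorem eq_one_of_odd_of_sq {g : Perm α} (hg : Odd (orderOf g)) (h : g ^ 2 = 1) : g = 1 := by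
  have h1 : orderOf g ∣ 2 := orderOf_dvd_of_pow_eq_one h
  rcases (Nat.dvd_prime Nat.prime_two).1 h1 with e | e
  · exact orderOf_eq_one_iff.1 e
  · rw [e] at hg; exact absurd hg (by decide)

universe u

theorem odd_normalizer_aux : ∀ (n : ℕ) (α : Type u) [Finite α], Nat.card α = n →
    ∀ (P : Sylow 2 (Perm α)) (g : Perm α), Odd (orderOf g) →
      (∀ s, s ∈ (P : Subgroup (Perm α)) ↔ g * s * g⁻¹ ∈ (P : Subgroup (Perm α))) → g = 1 := by
  classical
  haveI := Fact.mk Nat.prime_two
  intro n
  induction n using Nat.strong_induction_on with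
  | _ n ih =>
  intro α _ hn P g hg hnorm
  obtain ⟨z, hz, hzf, hzP⟩ := exists_pairing P
  have hcz : Commute z g := by
    refine commute_of_pairs hz hzf fun a ha => ?_
    refine preserve_of_commute_swap (fun h => ha h.symm) (commute_conj_of_mem _ hzP ?_)
    refine (hnorm _).2 ?_
    have : g * (g⁻¹ * swap a (z a) * g) * g⁻¹ = swap a (z a) := by group
    rw [this]
    exact swap_mem P hz hzP a
  rcases isEmpty_or_nonempty α with hα | ⟨⟨a₀⟩⟩
  · exact Subsingleton.elim _ _
  haveI := Fintype.ofFinite α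
  let e := Fintype.equivFin α
  let Q := {a : α // z a ≠ a ∧ e a < e (z a)}
  set C := Subgroup.centralizer ({z} : Set (Perm α))
  have hC : ∀ k : C, ∀ a, (k : Perm α) (z a) = z ((k : Perm α) a) := fun k a =>
    congrArg (fun f : Perm α => f a) (Subgroup.mem_centralizer_singleton_iff.1 k.2)
  have hCm : ∀ k : C, ∀ a, z a ≠ a → z ((k : Perm α) a) ≠ (k : Perm α) a := fun k a ha h =>
    ha ((k : Perm α).injective (by rw [hC, h]))
  let pr : ∀ a : α, z a ≠ a → Q := fun a ha =>
    if h : e a < e (z a) then ⟨a, ha, h⟩ else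
      ⟨z a, fun h' => ha (z.injective h'), by
        rw [hz]
        exact lt_of_le_of_ne (not_lt.1 h) fun h' => ha (e.injective h')⟩
  have hpr : ∀ a ha, (pr a ha : α) = a ∨ (pr a ha : α) = z a := fun a ha => by
    by_cases h : e a < e (z a)
    · left; simp only [pr, dif_pos h]
    · right; simp only [pr, dif_neg h]
  have hprq : ∀ (q : Q) (a : α) ha, (a = (q : α) ∨ a = z (q : α)) → pr a ha = q := by
    intro q a ha h
    rcases h with rfl | rfl
    · simp only [pr, dif_pos q.2.2, Subtype.coe_eta]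
    · have : ¬ e (z (q : α)) < e (z (z (q : α))) := by rw [hz]; exact not_lt.2 q.2.2.le
      simp only [pr, dif_neg this]
      exact Subtype.ext (hz _)
  let act : C → Q → Q := fun k q => pr ((k : Perm α) q) (hCm k _ q.2.1)
  have hmul : ∀ (k l : C) (q : Q), act k (act l q) = act (k * l) q := by
    intro k l q
    refine hprq _ ((k : Perm α) (act l q : α)) (hCm k _ (act l q).2.1) ?_
    have h1 := hpr ((k : Perm α) ((l : Perm α) q)) (hCm k _ (hCm l _ q.2.1))
    have h2 : (act (k * l) q : α) = pr ((k : Perm α) ((l : Perm α) q)) (hCm k _ (hCm l _ q.2.1)) := rfl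
    rw [h2]
    rcases hpr ((l : Perm α) q) (hCm l _ q.2.1) with e1 | e1 <;>
      rcases h1 with e2 | e2 <;> rw [show (act l q : α) = _ from e1, e2]
    · exact Or.inl rfl
    · exact Or.inr (hz _).symm
    · exact Or.inr (hC k _)
    · exact Or.inl (hC k _)
  have hone : ∀ q : Q, act 1 q = q := fun q => hprq q (q : α) q.2.1 (Or.inl rfl)
  let φ : C →* Perm Q :=
    { toFun := fun k =>
        { toFun := act k
          invFun := act k⁻¹
          left_inv := fun q => by rw [hmul, inv_mul_cancel, hone]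
          right_inv := fun q => by rw [hmul, mul_inv_cancel, hone] }
      map_one' := Equiv.ext hone
      map_mul' := fun k l => Equiv.ext fun q => (hmul k l q).symm }
  have hsurj : Function.Surjective φ := by
    intro σ
    let L : Perm Q → α → α := fun τ a =>
      if ha : z a = a then a else
        if h : e a < e (z a) then (τ ⟨a, ha, h⟩ : α) else z (τ (pr a ha) : α)
    have hLq : ∀ τ (q : Q), L τ q = τ q ∧ L τ (z (q : α)) = z (τ q : α) := by
      intro τ q
      have h2 : z (z (q : α)) ≠ z (q : α) := fun h => q.2.1 (z.injective h)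
      have h3 : ¬ e (z (q : α)) < e (z (z (q : α))) := by rw [hz]; exact not_lt.2 q.2.2.le
      refine ⟨by simp only [L, dif_neg q.2.1, dif_pos q.2.2, Subtype.coe_eta], ?_⟩
      simp only [L, dif_neg h2, dif_neg h3]
      rw [hprq q _ h2 (Or.inr rfl)]
    have hcases : ∀ a, z a = a ∨ ∃ q : Q, a = (q : α) ∨ a = z (q : α) := fun a =>
      or_iff_not_imp_left.2 fun ha => ⟨pr a ha, (hpr a ha).imp Eq.symm fun h => by rw [h, hz]⟩
    have hLfix : ∀ τ a, z a = a → L τ a = a := fun τ a ha => by simp only [L, dif_pos ha]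
    have hLinv : ∀ τ a, L τ⁻¹ (L τ a) = a := by
      intro τ a
      rcases hcases a with ha | ⟨q, rfl | rfl⟩
      · rw [hLfix _ _ ha, hLfix _ _ ha]
      · rw [(hLq τ q).1, (hLq τ⁻¹ _).1]; simp
      · rw [(hLq τ q).2, (hLq τ⁻¹ _).2]; simp
    have hLz : ∀ τ a, L τ (z a) = z (L τ a) := by
      intro τ a
      rcases hcases a with ha | ⟨q, rfl | rfl⟩
      · rw [ha, hLfix _ _ ha, ha]
      · rw [(hLq τ q).1, (hLq τ q).2]
      · rw [hz, (hLq τ q).1, (hLq τ q).2, hz]
    let k : Perm α := ⟨L σ, L σ⁻¹, hLinv σ, fun a => by simpa using hLinv σ⁻¹ a⟩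
    have hk : k ∈ C := Subgroup.mem_centralizer_singleton_iff.2 (Equiv.ext fun a => hLz σ a)
    refine ⟨⟨k, hk⟩, Equiv.ext fun q => hprq (σ q) (k (q : α)) (hCm ⟨k, hk⟩ _ q.2.1) ?_⟩
    exact Or.inl (hLq σ q).1
  have hPC : (P : Subgroup (Perm α)) ≤ C := fun s hs =>
    Subgroup.mem_centralizer_singleton_iff.2 (hzP s hs).eq.symm
  have hgC : g ∈ C := Subgroup.mem_centralizer_singleton_iff.2 hcz.eq.symm
  have hlt : Nat.card Q < n := by
    rw [← hn, Nat.card_eq_fintype_card, Nat.card_eq_fintype_card]
    by_cases h : z a₀ = a₀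
    · exact Fintype.card_subtype_lt (x := a₀) (fun h' => h'.1 h)
    · by_cases h2 : e a₀ < e (z a₀)
      · exact Fintype.card_subtype_lt (x := z a₀) (fun h' => by
          have := h'.2; rw [hz] at this; exact lt_asymm this h2)
      · exact Fintype.card_subtype_lt (x := a₀) (fun h' => h2 h'.2)
  have hφ : φ ⟨g, hgC⟩ = 1 := by
    refine ih _ hlt Q rfl ((P.subtype hPC).mapSurjective hsurj) _ (hg.of_dvd_nat ?_) fun s => ?_
    · exact (orderOf_map_dvd φ _).trans (Subgroup.orderOf_mk (a := g) hgC ▸ dvd_rfl)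
    · rw [Sylow.coe_mapSurjective, Sylow.coe_subtype, Subgroup.mem_map, Subgroup.mem_map]
      constructor
      · rintro ⟨k, hk, rfl⟩
        refine ⟨⟨g, hgC⟩ * k * ⟨g, hgC⟩⁻¹, ?_, by rw [map_mul, map_mul, map_inv]⟩
        exact (hnorm _).1 hk
      · rintro ⟨k, hk, hks⟩
        refine ⟨⟨g, hgC⟩⁻¹ * k * ⟨g, hgC⟩, (hnorm _).2 ?_, ?_⟩
        · have : g * (g⁻¹ * (k : Perm α) * g) * g⁻¹ = k := by group
          show g * (g⁻¹ * (k : Perm α) * g) * g⁻¹ ∈ (P : Subgroup (Perm α))
          rw [this]; exact hk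
        · rw [map_mul, map_mul, map_inv, hks]; group
  refine eq_one_of_odd_of_sq hg (Equiv.ext fun a => ?_)
  have hpair : ∀ a, z a ≠ a → g a = a ∨ g a = z a := by
    intro a ha
    have hga : ∀ q : Q, g q = q ∨ g q = z (q : α) := by
      intro q
      have h1 : act ⟨g, hgC⟩ q = q := congrArg (fun f : Perm Q => f q) hφ
      have h2 : (pr (g q) (hCm ⟨g, hgC⟩ _ q.2.1) : α) = q := congrArg Subtype.val h1
      rcases hpr (g q) (hCm ⟨g, hgC⟩ _ q.2.1) with e1 | e1 <;> rw [e1] at h2
      · exact Or.inl h2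
      · exact Or.inr (z.injective (h2.trans (hz _).symm))
    rcases hpr a ha with e1 | e1
    · have := hga (pr a ha); rwa [e1] at this
    · have := hga (pr a ha)
      rw [e1, hC ⟨g, hgC⟩] at this
      rcases this with h | h
      · exact Or.inl (z.injective h)
      · rw [hz] at h
        exact Or.inr (z.injective (h.trans (hz a).symm))
  show (g ^ 2) a = a
  rw [sq, Perm.mul_apply]
  by_cases ha : z a = a
  · have h1 : ∀ b, z b = b → g b = b := fun b hb => hzf _ _ (by rw [← comm_apply hcz, hb]) hb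
    rw [h1 a ha, h1 a ha]
  · rcases hpair a ha with e1 | e1
    · rw [e1, e1]
    · rw [e1, comm_apply hcz, e1, hz]

/-- An element of odd order normalising a Sylow 2-subgroup of a symmetric group is trivial. -/
theorem odd_normalizer_perm_eq_one {α : Type*} [Finite α] (P : Sylow 2 (Perm α)) {g : Perm α}
    (hg : Odd (orderOf g))
    (hnorm : ∀ s, s ∈ (P : Subgroup (Perm α)) ↔ g * s * g⁻¹ ∈ (P : Subgroup (Perm α))) : g = 1 :=
  odd_normalizer_aux (Nat.card α) α rfl P g hg hnorm

/-- The same for the even part of a Sylow 2-subgroup, in degree at least six. -/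
theorem odd_normalizer_alt_eq_one [Fintype α] (hn : 6 ≤ Fintype.card α) (P : Sylow 2 (Perm α))
    {g : Perm α} (hg : Odd (orderOf g))
    (hnorm : ∀ s, (s ∈ (P : Subgroup (Perm α)) ∧ sign s = 1) ↔
      (g * s * g⁻¹ ∈ (P : Subgroup (Perm α)) ∧ sign (g * s * g⁻¹) = 1)) : g = 1 := by
  haveI := Fact.mk Nat.prime_two
  obtain ⟨z, hz, hzf, hzP⟩ := exists_pairing P
  have hT : ∀ a b, z a ≠ a → z b ≠ b →
      Commute (g * z * g⁻¹) (swap a (z a) * swap b (z b)) := by
    intro a b ha hb
    refine commute_conj_of_mem _ hzP ((hnorm _).2 ?_).1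
    have : g * (g⁻¹ * (swap a (z a) * swap b (z b)) * g) * g⁻¹ = swap a (z a) * swap b (z b) := by
      group
    rw [this]
    refine ⟨mul_mem (swap_mem P hz hzP a) (swap_mem P hz hzP b), ?_⟩
    rw [map_mul, sign_swap (fun h => ha h.symm), sign_swap (fun h => hb h.symm)]
    decide
  set u := g * z * g⁻¹ with hu
  have hquad : ∀ a b, z a ≠ a → z b ≠ b → b ≠ a → b ≠ z a →
      u a = a ∨ u a = z a ∨ u a = b ∨ u a = z b := by
    intro a b ha hb h1 h2
    by_contra hcon
    push Not at hcon
    obtain ⟨c1, c2, c3, c4⟩ := hcon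
    have h := congrArg (fun f : Perm α => f a) (hT a b ha hb).eq
    simp only [Perm.mul_apply] at h
    rw [swap_apply_of_ne_of_ne (Ne.symm h1) (fun h' => h2 (by rw [h', hz])), swap_apply_left,
      swap_apply_of_ne_of_ne c3 c4, swap_apply_of_ne_of_ne c1 c2] at h
    exact ha (u.injective h)
  have hcz : Commute z g := by
    refine commute_of_pairs hz hzf fun a ha => ?_
    have hfix : (Finset.univ.filter fun b => z b = b).card ≤ 1 := Finset.card_le_one.2 fun x hx y hy =>
      hzf x y (Finset.mem_filter.1 hx).2 (Finset.mem_filter.1 hy).2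
    have pick : ∀ S : Finset α, S.card ≤ 4 → ∃ b, b ∉ S ∧ z b ≠ b := by
      intro S hS
      by_contra hcon
      push Not at hcon
      have hsub : (Finset.univ : Finset α) ⊆ S ∪ Finset.univ.filter fun b => z b = b := fun b _ => by
        by_cases hb : b ∈ S
        · exact Finset.mem_union_left _ hb
        · exact Finset.mem_union_right _ (Finset.mem_filter.2 ⟨Finset.mem_univ _, hcon b hb⟩)
      have := (Finset.card_le_card hsub).trans (Finset.card_union_le _ _)
      rw [Finset.card_univ] at this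
      omega
    obtain ⟨b, hbS, hb⟩ := pick {a, z a} (Finset.card_le_two.trans (by norm_num))
    obtain ⟨c, hcS, hc⟩ := pick {a, z a, b, z b} Finset.card_le_four
    simp only [Finset.mem_insert, Finset.mem_singleton, not_or] at hbS hcS
    by_contra hcon
    push Not at hcon
    rcases hquad a b ha hb hbS.1 hbS.2 with h | h | h | h
    · exact hcon.1 h
    · exact hcon.2 h
    all_goals
      rcases hquad a c ha hc hcS.1 hcS.2.1 with h' | h' | h' | h'
      · exact hcon.1 h'
      · exact hcon.2 h'
    · exact hcS.2.2.1 (h'.symm.trans h)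
    · exact hcS.2.2.2 (by rw [← h, h', hz])
    · exact hcS.2.2.2 (h'.symm.trans h)
    · exact hcS.2.2.1 (z.injective (h'.symm.trans h))
  have hmain : ∀ (k : Perm α), Odd (orderOf k) → Commute z k →
      (∀ s, (s ∈ (P : Subgroup (Perm α)) ∧ sign s = 1) →
        (k * s * k⁻¹ ∈ (P : Subgroup (Perm α)) ∧ sign (k * s * k⁻¹) = 1)) →
      ∀ s ∈ (P : Subgroup (Perm α)), k * s * k⁻¹ ∈ (P : Subgroup (Perm α)) := by
    intro k _ hk hkn s hs
    rcases Int.units_eq_one_or (sign s) with h | h
    · exact (hkn s ⟨hs, h⟩).1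
    obtain ⟨a, ha⟩ : ∃ a, z a ≠ a := by
      by_contra hcon
      push Not at hcon
      have : Fintype.card α ≤ 1 := Fintype.card_le_one_iff.2 fun x y => hzf x y (hcon x) (hcon y)
      omega
    have h1 := (hkn (s * swap a (z a)) ⟨mul_mem hs (swap_mem P hz hzP a), by
      rw [map_mul, h, sign_swap (fun h => ha h.symm)]; decide⟩).1
    have h2 : k * swap a (z a) * k⁻¹ = swap (k a) (z (k a)) := by
      rw [mul_swap_eq_swap_mul, mul_inv_cancel_right, comm_apply hk]
    have h3 : k * s * k⁻¹ = k * (s * swap a (z a)) * k⁻¹ * (k * swap a (z a) * k⁻¹) := by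
      have : swap a (z a) * swap a (z a) = 1 := swap_mul_self _ _
      calc k * s * k⁻¹ = k * (s * (swap a (z a) * swap a (z a))) * k⁻¹ := by rw [this, mul_one]
        _ = _ := by group
    rw [h3, h2]
    exact mul_mem h1 (swap_mem P hz hzP _)
  refine odd_normalizer_perm_eq_one P hg fun s => ⟨hmain g hg hcz (fun s h => (hnorm s).1 h) s, fun h => ?_⟩
  have := hmain g⁻¹ (by rwa [orderOf_inv]) hcz.inv_right (fun s h => (hnorm _).2 (by
    have e1 : g * (g⁻¹ * s * g⁻¹⁻¹) * g⁻¹ = s := by group
    rw [e1]; exact h)) _ h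
  simpa [mul_assoc] using this

end CfsgLib.LocalEvenB.AltSylowTwo
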