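import Cfsg.Agent.Lib.Transfer.Conj
import Mathlib.GroupTheory.IsSubnormal

/-!
Sylow subgroups meet subnormal subgroups in Sylow subgroups.
-/

set_option autoImplicit false

namespace CfsgLib.LocalEvenB

variable {G : Type*} [Group G] [Finite G] {p : ℕ} [Fact p.Prime]

theorem not_dvd_relIndex_inf_of_subnormal (Q : Sylow p G) {H : Subgroup G} (hH : H.IsSubnormal) :
    ¬ p ∣ ((Q : Subgroup G) ⊓ H).relIndex H := by
  induction hH with
  | top => rw [inf_top_eq, Subgroup.relIndex_top_right]; exact Q.not_dvd_index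
  | step H K h_le _ hN ih =>
    have hKH : K ≤ Subgroup.normalizer (H : Set G) := (Subgroup.normal_subgroupOf_iff_le_normalizer h_le).1 hN
    obtain ⟨R, -, hRH, hRp, hRi⟩ := CfsgLib.Transfer.exists_sylow_of_le (p := p) (N := H) bot_le IsPGroup.of_bot
    obtain ⟨n, hn, hconj⟩ := CfsgLib.Transfer.exists_conj_le (Q.2.to_le inf_le_left) ih (hRH.trans h_le) hRp
    intro hd
    apply hRi
    have hle : R.map (MulAut.conj n⁻¹).toMonoidHom ≤ (Q : Subgroup G) ⊓ H := by
      rintro _ ⟨r, hr, rfl⟩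
      refine Subgroup.mem_inf.2 ⟨?_, ?_⟩
      · show n⁻¹ * r * (n⁻¹)⁻¹ ∈ (Q : Subgroup G)
        rw [inv_inv]
        exact (hconj r hr).1
      · simpa using (Subgroup.mem_normalizer_iff.1 (hKH (K.inv_mem hn)) r).1 (hRH hr)
    have hc := Subgroup.card_dvd_of_le hle
    rw [CfsgLib.Transfer.card_map_conj] at hc
    obtain ⟨c, hc⟩ := hc
    have h1 : Nat.card ↥((Q : Subgroup G) ⊓ H) * ((Q : Subgroup G) ⊓ H).relIndex H = Nat.card H := by
      rw [← Subgroup.relIndex_bot_left, ← Subgroup.relIndex_bot_left H]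
      exact Subgroup.relIndex_mul_relIndex ⊥ _ _ bot_le inf_le_right
    have h2 : Nat.card R * R.relIndex H = Nat.card H := by
      rw [← Subgroup.relIndex_bot_left, ← Subgroup.relIndex_bot_left H]
      exact Subgroup.relIndex_mul_relIndex ⊥ _ _ bot_le hRH
    have h3 : R.relIndex H = c * ((Q : Subgroup G) ⊓ H).relIndex H := by
      rw [← h2, hc, mul_assoc] at h1
      exact (Nat.eq_of_mul_eq_mul_left Nat.card_pos h1).symm
    rw [h3]
    exact hd.mul_left c

end CfsgLib.LocalEvenB
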