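import Cfsg.Agent.Lib.LocalEvenB.BlockModule

/-!
# Location of a block
-/

set_option autoImplicit false
set_option linter.all false

namespace CfsgLib.LocalEvenB

open Subgroup Cfsg
open scoped commutatorElement

variable {G : Type*} [Group G] [Finite G] {p : ℕ} [hp : Fact p.Prime]

omit [Finite G] in
theorem omegaOneCenter_comm {X : Subgroup G} {a b : G} (ha : a ∈ omegaOneCenter p X)
    (hb : b ∈ omegaOneCenter p X) : a * b = b * a :=
  mem_centralizer_iff.1 (CfsgLib.PGroups.omegaOne_le _ hb).2 a (CfsgLib.PGroups.omegaOne_le _ ha).1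

theorem omegaOneCenter_pow {X : Subgroup G} {a : G} (ha : a ∈ omegaOneCenter p X) : a ^ p = 1 := by
  haveI : IsMulCommutative ↥(X ⊓ centralizer (X : Set G)) :=
    le_centralizer_iff_isMulCommutative.1 (inf_le_right.trans (centralizer_le inf_le_left))
  exact (CfsgLib.PGroups.mem_omegaOne_iff_of_comm.1 ha).2

theorem normalizer_le_normalizer_omegaOneCenter (X : Subgroup G) :
    normalizer (X : Set G) ≤ normalizer (omegaOneCenter p X : Set G) := by
  intro g hg
  refine mem_normalizer_of_forall fun z hz => ?_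
  haveI : IsMulCommutative ↥(X ⊓ centralizer (X : Set G)) :=
    le_centralizer_iff_isMulCommutative.1 (inf_le_right.trans (centralizer_le inf_le_left))
  obtain ⟨⟨h1, h2⟩, h3⟩ := CfsgLib.PGroups.mem_omegaOne_iff_of_comm.1 hz
  refine CfsgLib.PGroups.mem_omegaOne ⟨(mem_normalizer_iff.1 hg z).1 h1,
    (mem_normalizer_iff.1 (CfsgLib.Signalizer.normalizer_le_normalizer_centralizer_set X hg) z).1 h2⟩ ?_
  rw [conj_pow, h3, mul_one, mul_inv_cancel]

theorem block_location (hG : centralizer (pCore p G : Set G) ≤ pCore p G) (T : Sylow p G) (E : Subgroup G)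
    (hE : IsBaumannBlock p (T : Subgroup G) E) :
    pResidualOf p (E ⊔ pCore p G) = E ∧
    ⁅omegaOneCenter p (pCoreOf p E), E⁆ ≤ omegaOneCenter p (pCore p G) ∧
    ⁅⁅omegaOneCenter p (pCoreOf p E), E⁆, thompsonSubgroupOf p (T : Subgroup G)⁆ ≠ ⊥ := by
  obtain ⟨R, hR⟩ : ∃ R, R = pCore p G := ⟨_, rfl⟩
  rw [← hR] at hG ⊢
  haveI hRn : R.Normal := hR ▸ CfsgLib.Core.normal_pCore p G
  have hRp : IsPGroup p R := hR ▸ CfsgLib.Core.isPGroup_pCore p G
  have hnR : ∀ X : Subgroup G, X ≤ normalizer (R : Set G) := fun X => by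
    rw [normalizer_eq_top_iff.2 hRn]; exact le_top
  have hRE : R ≤ normalizer (E : Set G) := block_normalized T hE hRp (hnR _) (hnR _)
  have hgen := closure_coprime_eq_of_pResidualOf hE.1
  obtain ⟨hEV, hirr, hker⟩ := block_module hE
  obtain ⟨Q, hQ⟩ : ∃ Q, Q = pCoreOf p E := ⟨_, rfl⟩
  obtain ⟨V, hV⟩ : ∃ V, V = omegaOneCenter p Q := ⟨_, rfl⟩
  rw [← hQ] at hEV hirr hker ⊢
  rw [← hV] at hEV hirr hker ⊢
  have hQp : IsPGroup p Q := hQ ▸ (CfsgLib.Core.isPGroup_pCore p ↥E).map _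
  have hQE : Q ≤ E := hQ ▸ map_subtype_le _
  have hNQ : normalizer (E : Set G) ≤ normalizer (Q : Set G) := by
    intro g hg
    rw [mem_normalizer_iff_map_conj_eq]
    have e := CfsgLib.Core.map_equiv_pCore (p := p) (normalizerMonoidHom E ⟨g, hg⟩)
    conv_rhs => rw [hQ, pCoreOf, ← e]
    rw [hQ, pCoreOf, map_map, map_map]
    rfl
  have hNV : normalizer (E : Set G) ≤ normalizer (V : Set G) :=
    hNQ.trans (hV ▸ normalizer_le_normalizer_omegaOneCenter Q)
  have hVQ : V ≤ Q := hV ▸ (CfsgLib.PGroups.omegaOne_le _).trans inf_le_left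
  have hQV : ∀ q ∈ Q, ∀ v ∈ V, q * v = v * q := fun q hq v hv =>
    mem_centralizer_iff.1 (CfsgLib.PGroups.omegaOne_le _ (hV ▸ hv : v ∈ omegaOneCenter p Q)).2 q hq
  -- normal `p`-subgroups of `E` lie in `Q`
  have hnormQ : ∀ X : Subgroup G, IsPGroup p X → X ≤ E → E ≤ normalizer (X : Set G) → X ≤ Q := by
    intro X hXp hXE hEX x hx
    haveI : (X.subgroupOf E).Normal := (normal_subgroupOf_iff_le_normalizer hXE).2 hEX
    exact hQ ▸ ⟨⟨x, hXE hx⟩, CfsgLib.Core.le_pCore (N := X.subgroupOf E) (hXp.comap_subtype) (mem_subgroupOf.2 hx), rfl⟩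
  obtain ⟨Z, hZ⟩ : ∃ Z, Z = V ⊓ centralizer (E : Set G) := ⟨_, rfl⟩
  rw [← hZ] at hirr
  refine ⟨?_, ?_, ?_⟩
  · -- the residual
    refine le_antisymm ?_ ?_
    · rw [pResidualOf, map_le_iff_le_comap]
      exact CfsgLib.Transfer.pResidual_le_iff.2 fun g hg =>
        mem_of_coprime_sup hRp hRE g.2 (by show (orderOf (g : G)).Coprime p; rwa [Subgroup.orderOf_coe])
    · conv_lhs => rw [← hgen]
      rw [closure_le]
      rintro g ⟨hgE, hgc⟩
      exact ⟨⟨g, mem_sup_left hgE⟩, CfsgLib.Transfer.pResidual_le_iff.1 le_rfl _ (by rwa [Subgroup.orderOf_mk]), rfl⟩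
  · -- `R` centralises `[V, E]`
    have hREQ : ∀ r ∈ R, ∀ e ∈ E, r * e * r⁻¹ * e⁻¹ ∈ Q := by
      intro r hr e he
      refine hnormQ (R ⊓ E) (hRp.to_le inf_le_left) inf_le_right
        ((le_inf (hnR E) le_normalizer).trans inf_normalizer_le_normalizer_inf) (mem_inf.2 ⟨?_, ?_⟩)
      · rw [show r * e * r⁻¹ * e⁻¹ = r * (e * r⁻¹ * e⁻¹) by group]
        exact mul_mem hr (hRn.conj_mem _ (inv_mem hr) e)
      · exact mul_mem ((mem_normalizer_iff.1 (hRE hr) e).1 he) (inv_mem he)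
    have hcomm : ∀ r ∈ R, ∀ e ∈ E, ∀ v ∈ V, r * (e * v * e⁻¹) * r⁻¹ = e * (r * v * r⁻¹) * e⁻¹ := by
      intro r hr e he v hv
      obtain ⟨q, hq, hqdef⟩ : ∃ q ∈ Q, q = r * e * r⁻¹ * e⁻¹ := ⟨_, hREQ r hr e he, rfl⟩
      have h1 : e * (r * v * r⁻¹) * e⁻¹ ∈ V :=
        (mem_normalizer_iff.1 (hEV he) _).1 ((mem_normalizer_iff.1 (hNV (hRE hr)) v).1 hv)
      calc r * (e * v * e⁻¹) * r⁻¹ = q * (e * (r * v * r⁻¹) * e⁻¹) * q⁻¹ := by rw [hqdef]; group
        _ = e * (r * v * r⁻¹) * e⁻¹ := by rw [hQV q hq _ h1, mul_inv_cancel_right]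
    have hZn : ∀ r ∈ R, ∀ z ∈ Z, r * z * r⁻¹ ∈ Z := fun r hr z hz => by
      rw [hZ] at hz ⊢
      exact ⟨(mem_normalizer_iff.1 (hNV (hRE hr)) z).1 hz.1,
        (mem_normalizer_iff.1 (CfsgLib.Signalizer.normalizer_le_normalizer_centralizer_set E (hRE hr)) z).1 hz.2⟩
    have hconjZ : ∀ e ∈ E, ∀ z ∈ Z, e * z * e⁻¹ = z := fun e he z hz => by
      rw [mem_centralizer_iff.1 (hZ ▸ hz : z ∈ V ⊓ centralizer (E : Set G)).2 e he, mul_inv_cancel_right]
    have hWcent : ∀ r ∈ R, ∀ v ∈ V, r * v * r⁻¹ * v⁻¹ ∈ Z := by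
      let U : Subgroup G :=
        { carrier := {v | v ∈ V ∧ ∀ r ∈ R, r * v * r⁻¹ * v⁻¹ ∈ Z}
          one_mem' := ⟨one_mem _, fun r _ => by simp⟩
          mul_mem' := fun {a b} ha hb => ⟨mul_mem ha.1 hb.1, fun r hr => by
            have h1 := mul_mem (ha.2 r hr) (hb.2 r hr)
            have hb' : r * b * r⁻¹ * b⁻¹ ∈ V := (hZ ▸ hb.2 r hr : _ ∈ V ⊓ centralizer (E : Set G)).1
            have hc : a * (r * b * r⁻¹ * b⁻¹) = (r * b * r⁻¹ * b⁻¹) * a :=
              omegaOneCenter_comm (hV ▸ ha.1) (hV ▸ hb')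
            rw [show r * (a * b) * r⁻¹ * (a * b)⁻¹ = (r * a * r⁻¹ * a⁻¹) * (a * (r * b * r⁻¹ * b⁻¹)) * a⁻¹ by group,
              hc, show (r * a * r⁻¹ * a⁻¹) * ((r * b * r⁻¹ * b⁻¹) * a) * a⁻¹ = (r * a * r⁻¹ * a⁻¹) * (r * b * r⁻¹ * b⁻¹) by group]
            exact h1⟩
          inv_mem' := fun {a} ha => ⟨inv_mem ha.1, fun r hr => by
            have hb' : r * a * r⁻¹ * a⁻¹ ∈ V := (hZ ▸ ha.2 r hr : _ ∈ V ⊓ centralizer (E : Set G)).1
            have hc : a * (r * a * r⁻¹ * a⁻¹)⁻¹ = (r * a * r⁻¹ * a⁻¹)⁻¹ * a :=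
              omegaOneCenter_comm (hV ▸ ha.1) (hV ▸ inv_mem hb')
            rw [show r * a⁻¹ * r⁻¹ * a⁻¹⁻¹ = a⁻¹ * ((r * a * r⁻¹ * a⁻¹)⁻¹ * a) by group, ← hc,
              inv_mul_cancel_left]
            exact inv_mem (ha.2 r hr)⟩ }
      have hZU : Z ≤ U := fun z hz => ⟨(hZ ▸ hz : z ∈ V ⊓ centralizer (E : Set G)).1, fun r hr =>
        mul_mem (hZn r hr z hz) (inv_mem hz)⟩
      have hEU : E ≤ normalizer (U : Set G) := by
        rw [le_normalizer_iff]
        intro e he v hv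
        refine ⟨(mem_normalizer_iff.1 (hEV he) v).1 hv.1, fun r hr => ?_⟩
        rw [hcomm r hr e he v hv.1, show e * (r * v * r⁻¹) * e⁻¹ * (e * v * e⁻¹)⁻¹ = e * (r * v * r⁻¹ * v⁻¹) * e⁻¹ by group,
          hconjZ e he _ (hv.2 r hr)]
        exact hv.2 r hr
      suffices hUV : U = V from fun r hr v hv => (hUV.ge hv).2 r hr
      by_cases hVZ : V ≤ Z
      · exact le_antisymm (fun v hv => hv.1) (hVZ.trans hZU)
      -- a fixed point
      obtain ⟨X, hX⟩ : ∃ X, X = R ⊔ V := ⟨_, rfl⟩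
      have hXp : IsPGroup p X := hX ▸ hRp.to_sup_of_normal_right' (hQp.to_le hVQ) (hRE.trans hNV)
      have hVX : V ≤ X := hX ▸ le_sup_right
      have hVab : V ≤ normalizer (Z : Set G) := by
        rw [le_normalizer_iff]
        intro v hv z hz
        rw [omegaOneCenter_comm (a := v) (b := z) (X := Q) (p := p) (hV ▸ hv) (hV ▸ (hZ ▸ hz : z ∈ V ⊓ centralizer (E : Set G)).1), mul_inv_cancel_right]
        exact hz
      haveI : (Z.subgroupOf X).Normal :=
        (normal_subgroupOf_iff_le_normalizer ((hZ ▸ inf_le_left : Z ≤ V).trans hVX)).2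
          (hX ▸ sup_le (le_normalizer_iff.2 hZn) hVab)
      haveI : (V.subgroupOf X).Normal :=
        (normal_subgroupOf_iff_le_normalizer hVX).2 (hX ▸ sup_le (hRE.trans hNV) le_normalizer)
      obtain ⟨π, hπ⟩ : ∃ π, π = QuotientGroup.mk' (Z.subgroupOf X) := ⟨_, rfl⟩
      haveI : ((V.subgroupOf X).map π).Normal :=
        Subgroup.Normal.map inferInstance π (hπ ▸ QuotientGroup.mk'_surjective _)
      have hne : (V.subgroupOf X).map π ≠ ⊥ := by
        intro h0
        refine hVZ fun v hv => ?_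
        have h1 := mem_map_of_mem π (show (⟨v, hVX hv⟩ : X) ∈ V.subgroupOf X from mem_subgroupOf.2 hv)
        rw [h0, mem_bot, hπ, QuotientGroup.mk'_apply, QuotientGroup.eq_one_iff] at h1
        exact h1
      obtain ⟨c, ⟨⟨x, hx, hxc⟩, hcZ⟩, hc1⟩ := (Subgroup.bot_or_exists_ne_one _).resolve_left
        (CfsgLib.PGroups.inf_center_ne_bot (hXp.to_quotient _) hne)
      have hxV : (x : G) ∈ V := mem_subgroupOf.1 hx
      have hxU : (x : G) ∈ U := ⟨hxV, fun r hr => by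
        have h1 := mem_center_iff.1 hcZ (π ⟨r, hX ▸ mem_sup_left hr⟩)
        rw [← hxc, ← map_mul, ← map_mul, hπ, QuotientGroup.mk'_apply, QuotientGroup.mk'_apply, QuotientGroup.eq,
          mem_subgroupOf] at h1
        have h2 : ((x : G) * r)⁻¹ * (r * x) ∈ Z := by simpa using inv_mem h1
        have h3 := hZn r hr _ h2
        have hxZ : (x : G) ∉ centralizer (E : Set G) → True := fun _ => trivial
        have hmemV : r * (x : G) * r⁻¹ ∈ V := (mem_normalizer_iff.1 (hNV (hRE hr)) _).1 hxV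
        rw [show r * (((x : G) * r)⁻¹ * (r * x)) * r⁻¹ = (x : G)⁻¹ * (r * x * r⁻¹) by group,
          omegaOneCenter_comm (hV ▸ inv_mem hxV) (hV ▸ hmemV)] at h3
        exact h3⟩
      refine hirr U hZU (fun v hv => hv.1) hEU x hxU fun hxE => hc1 ?_
      rw [← hxc, hπ, QuotientGroup.mk'_apply, QuotientGroup.eq_one_iff]
      exact mem_subgroupOf.2 (hZ ▸ ⟨hxV, hxE⟩)
    have hWR : ⁅V, E⁆ ≤ R := by
      refine le_trans ?_ hG
      rw [commutator_le]
      intro v hv e he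
      refine mem_centralizer_iff.2 fun r hr => ?_
      have hrv := hWcent r hr v hv
      obtain ⟨z, hz⟩ : ∃ z, z = r * v * r⁻¹ * v⁻¹ := ⟨_, rfl⟩
      rw [← hz] at hrv
      have hev : e * v⁻¹ * e⁻¹ ∈ V := (mem_normalizer_iff.1 (hEV he) _).1 (inv_mem hv)
      have hzV : z ∈ V := (hZ ▸ hrv : z ∈ V ⊓ centralizer (E : Set G)).1
      have h2 : r * (e * v⁻¹ * e⁻¹) * r⁻¹ = z⁻¹ * (e * v⁻¹ * e⁻¹) := by
        rw [hcomm r hr e he _ (inv_mem hv), show r * v⁻¹ * r⁻¹ = v⁻¹ * z⁻¹ by rw [hz]; group,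
          show e * (v⁻¹ * z⁻¹) * e⁻¹ = (e * v⁻¹ * e⁻¹) * (e * z * e⁻¹)⁻¹ by group, hconjZ e he z hrv]
        exact omegaOneCenter_comm (hV ▸ hev) (hV ▸ inv_mem hzV)
      have key : r * (v * (e * v⁻¹ * e⁻¹)) * r⁻¹ = v * (e * v⁻¹ * e⁻¹) := by
        calc r * (v * (e * v⁻¹ * e⁻¹)) * r⁻¹ = (r * v * r⁻¹) * (r * (e * v⁻¹ * e⁻¹) * r⁻¹) := by group
          _ = z * (v * z⁻¹) * (e * v⁻¹ * e⁻¹) := by rw [h2, hz]; group
          _ = v * (e * v⁻¹ * e⁻¹) := by rw [omegaOneCenter_comm (a := v) (b := z⁻¹) (X := Q) (p := p) (hV ▸ hv) (hV ▸ inv_mem hzV), mul_inv_cancel_left]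
      have key2 := mul_inv_eq_iff_eq_mul.1 key
      rwa [show v * (e * v⁻¹ * e⁻¹) = ⁅v, e⁆ by rw [commutatorElement_def]; group] at key2
    refine commutator_le.2 fun v hv e he => ?_
    have hmem := hWR (commutator_mem_commutator hv he)
    refine CfsgLib.PGroups.mem_omegaOne ⟨hmem, ?_⟩ ?_
    · refine mem_centralizer_iff.2 fun r hr => ?_
      have hrv := hWcent r hr v hv
      obtain ⟨z, hz⟩ : ∃ z, z = r * v * r⁻¹ * v⁻¹ := ⟨_, rfl⟩
      rw [← hz] at hrv
      have hev : e * v⁻¹ * e⁻¹ ∈ V := (mem_normalizer_iff.1 (hEV he) _).1 (inv_mem hv)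
      have hzV : z ∈ V := (hZ ▸ hrv : z ∈ V ⊓ centralizer (E : Set G)).1
      have h2 : r * (e * v⁻¹ * e⁻¹) * r⁻¹ = z⁻¹ * (e * v⁻¹ * e⁻¹) := by
        rw [hcomm r hr e he _ (inv_mem hv), show r * v⁻¹ * r⁻¹ = v⁻¹ * z⁻¹ by rw [hz]; group,
          show e * (v⁻¹ * z⁻¹) * e⁻¹ = (e * v⁻¹ * e⁻¹) * (e * z * e⁻¹)⁻¹ by group, hconjZ e he z hrv]
        exact omegaOneCenter_comm (hV ▸ hev) (hV ▸ inv_mem hzV)
      have key : r * (v * (e * v⁻¹ * e⁻¹)) * r⁻¹ = v * (e * v⁻¹ * e⁻¹) := by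
        calc r * (v * (e * v⁻¹ * e⁻¹)) * r⁻¹ = (r * v * r⁻¹) * (r * (e * v⁻¹ * e⁻¹) * r⁻¹) := by group
          _ = z * (v * z⁻¹) * (e * v⁻¹ * e⁻¹) := by rw [h2, hz]; group
          _ = v * (e * v⁻¹ * e⁻¹) := by rw [omegaOneCenter_comm (a := v) (b := z⁻¹) (X := Q) (p := p) (hV ▸ hv) (hV ▸ inv_mem hzV), mul_inv_cancel_left]
      have key2 := mul_inv_eq_iff_eq_mul.1 key
      rwa [show v * (e * v⁻¹ * e⁻¹) = ⁅v, e⁆ by rw [commutatorElement_def]; group] at key2
    · refine omegaOneCenter_pow (X := Q) ?_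
      rw [← hV, commutatorElement_def, show v * e * v⁻¹ * e⁻¹ = v * (e * v⁻¹ * e⁻¹) by group]
      exact mul_mem hv ((mem_normalizer_iff.1 (hEV he) _).1 (inv_mem hv))
  · -- `J` moves `[V, E]`
    intro hJW
    obtain ⟨J, hJ⟩ : ∃ J, J = thompsonSubgroupOf p (T : Subgroup G) := ⟨_, rfl⟩
    rw [← hJ] at hJW
    rw [commutator_eq_bot_iff_le_centralizer] at hJW
    have hJB : J ≤ baumannSubgroupOf p (T : Subgroup G) := hJ ▸ centralizes_thompson_omega _
    have hBE : baumannSubgroupOf p (T : Subgroup G) ≤ normalizer (E : Set G) := by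
      have := Subgroup.normalizer_commutator_ge_right E (baumannSubgroupOf p (T : Subgroup G))
      rwa [hE.2.1] at this
    have hJE : J ≤ normalizer (E : Set G) := hJB.trans hBE
    have hWn : E ≤ normalizer ((⁅V, E⁆ : Subgroup G) : Set G) := normalizer_commutator_ge_right V E
    have hkerW : ∀ e ∈ E, (∀ w ∈ ⁅V, E⁆, e * w = w * e) → e ∈ Q := by
      intro e he hew
      refine hker e he fun v hv => ?_
      by_cases hWZ : ⁅V, E⁆ ≤ Z
      · -- then all coprime elements act trivially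
        have hEt : E ≤ centralizer (V : Set G) := by
          conv_lhs => rw [← hgen]
          rw [closure_le]
          rintro g ⟨hgE, hgc⟩
          refine mem_centralizer_iff.2 fun u hu => ?_
          obtain ⟨w, hw⟩ : ∃ w, w = g * u * g⁻¹ * u⁻¹ := ⟨_, rfl⟩
          have hwW : w ∈ ⁅V, E⁆ := by
            rw [hw, ← commutatorElement_def, commutator_comm]
            exact commutator_mem_commutator hgE hu
          have hwZ := hWZ hwW
          have hn : ∀ n : ℕ, g ^ n * u * (g ^ n)⁻¹ = w ^ n * u := by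
            intro n
            induction n with
            | zero => simp
            | succ n ih =>
              calc g ^ (n + 1) * u * (g ^ (n + 1))⁻¹ = g * (g ^ n * u * (g ^ n)⁻¹) * g⁻¹ := by rw [pow_succ']; group
                _ = (g * w ^ n * g⁻¹) * (g * u * g⁻¹) := by rw [ih]; group
                _ = w ^ (n + 1) * u := by
                  rw [← conj_pow, mem_centralizer_iff.1 (hZ ▸ hwZ : w ∈ V ⊓ centralizer (E : Set G)).2 g hgE,
                    mul_inv_cancel_right, pow_succ, hw]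
                  group
          have h1 := hn (orderOf g)
          rw [pow_orderOf_eq_one, one_mul, inv_one, mul_one] at h1
          have h2 : w ^ orderOf g = 1 := mul_eq_right.1 h1.symm
          have h3 : w ^ p = 1 := omegaOneCenter_pow (hV ▸ (hZ ▸ hwZ : w ∈ V ⊓ centralizer (E : Set G)).1)
          have h4 : orderOf w = 1 :=
            Nat.eq_one_of_dvd_coprimes hgc (orderOf_dvd_of_pow_eq_one h2) (orderOf_dvd_of_pow_eq_one h3)
          rw [orderOf_eq_one_iff, hw, mul_inv_eq_one, mul_inv_eq_iff_eq_mul] at h4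
          exact h4.symm
        exact (mem_centralizer_iff.1 (hEt he) v hv).symm
      · obtain ⟨w, hw, hwZ⟩ := SetLike.not_le_iff_exists.1 hWZ
        have hZV : Z ≤ V := hZ ▸ inf_le_left
        have hWV : ⁅V, E⁆ ≤ V := commutator_le.2 fun a ha b hb => by
          rw [commutatorElement_def, show a * b * a⁻¹ * b⁻¹ = a * (b * a⁻¹ * b⁻¹) by group]
          exact mul_mem ha ((mem_normalizer_iff.1 (hEV hb) _).1 (inv_mem ha))
        have hU : Z ⊔ ⁅V, E⁆ = V := hirr _ le_sup_left (sup_le hZV hWV) (by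
          rw [le_normalizer_iff]
          intro a ha x hx
          have hle : Z ⊔ ⁅V, E⁆ ≤ (Z ⊔ ⁅V, E⁆).comap (MulAut.conj a).toMonoidHom := by
            refine sup_le (fun z hz => ?_) (fun z hz => mem_sup_right ((mem_normalizer_iff.1 (hWn ha) z).1 hz))
            refine mem_sup_left ?_
            show a * z * a⁻¹ ∈ Z
            rw [mem_centralizer_iff.1 (hZ ▸ hz : z ∈ V ⊓ centralizer (E : Set G)).2 a ha, mul_inv_cancel_right]
            exact hz
          exact hle hx) w (mem_sup_right hw) (fun hwc => hwZ (hZ ▸ ⟨hWV hw, hwc⟩))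
        have hle : Z ⊔ ⁅V, E⁆ ≤ centralizer ({e} : Set G) := sup_le
          (fun z hz => mem_centralizer_singleton_iff.2 (mem_centralizer_iff.1 (hZ ▸ hz : z ∈ V ⊓ centralizer (E : Set G)).2 e he).symm)
          (fun z hz => mem_centralizer_singleton_iff.2 (hew z hz).symm)
        exact (mem_centralizer_singleton_iff.1 (hle (hU.ge hv))).symm
    have hJQ : J ≤ normalizer (Q : Set G) := hJE.trans hNQ
    have hEJ : E ≤ normalizer (J : Set G) := by
      intro e he
      rw [mem_normalizer_iff_map_conj_eq]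
      obtain ⟨T'', hT''⟩ := (((hJ ▸ T.2.to_le (thompsonSubgroupOf_le _)) : IsPGroup p J).to_sup_of_normal_right' hQp hJQ).exists_le_sylow
      have hJ'' : thompsonSubgroupOf p (T'' : Subgroup G) = J := by
        rw [hJ] at hT'' ⊢
        exact thompson_eq_of_le (le_sup_left.trans hT'')
      have hmapT : (((e • T : Sylow p G)) : Subgroup G) = (T : Subgroup G).map (MulAut.conj e).toMonoidHom := rfl
      have hle : thompsonSubgroupOf p ((e • T : Sylow p G) : Subgroup G) ≤ (T'' : Subgroup G) := by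
        rw [hmapT, ← CfsgLib.PLocal.thompsonOf_conj, ← hJ]
        rintro _ ⟨j, hj, rfl⟩
        refine hT'' ?_
        have hq : e * j * e⁻¹ * j⁻¹ ∈ Q := by
          refine hkerW _ ?_ fun w hw => ?_
          · rw [show e * j * e⁻¹ * j⁻¹ = e * (j * e⁻¹ * j⁻¹) by group]
            exact mul_mem he ((mem_normalizer_iff.1 (hJE hj) _).1 (inv_mem he))
          · have hjc : ∀ x ∈ ⁅V, E⁆, j * x = x * j := fun x hx => (mem_centralizer_iff.1 (hJW hx) j hj)
            have hwe : e⁻¹ * w * e ∈ ⁅V, E⁆ := (mem_normalizer_iff''.1 (hWn he) w).1 hw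
            have h1 : j⁻¹ * w * j = w := by rw [mul_assoc, ← hjc w hw, inv_mul_cancel_left]
            calc e * j * e⁻¹ * j⁻¹ * w = e * j * (e⁻¹ * (j⁻¹ * w * j) * e) * e⁻¹ * j⁻¹ := by group
              _ = e * (j * (e⁻¹ * w * e)) * e⁻¹ * j⁻¹ := by rw [h1]; group
              _ = w * (e * j * e⁻¹ * j⁻¹) := by rw [hjc _ hwe]; group
        have := mul_mem (mem_sup_right hq : e * j * e⁻¹ * j⁻¹ ∈ J ⊔ Q) (mem_sup_left hj : j ∈ J ⊔ Q)
        rwa [inv_mul_cancel_right] at this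
      have h1 := thompson_eq_of_le hle
      rw [hJ'', hmapT, ← CfsgLib.PLocal.thompsonOf_conj, ← hJ] at h1
      exact h1.symm
    -- `E` centralises `Ω₁(Z(J))`
    obtain ⟨O, hO⟩ : ∃ O, O = omegaOne p (centerThompsonOf p (T : Subgroup G)) := ⟨_, rfl⟩
    have hOdef : O = omegaOneCenter p J := by rw [hO, omegaOneCenter, hJ]; rfl
    have hEO : E ≤ normalizer (O : Set G) := hOdef ▸ hEJ.trans (normalizer_le_normalizer_omegaOneCenter J)
    have hEC : E ≤ centralizer (O : Set G) := by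
      conv_lhs => rw [← hE.2.1]
      rw [commutator_le]
      intro a ha b hb
      rw [commutatorElement_def]
      have hbC : b ∈ centralizer (O : Set G) := hO ▸ hb.2
      exact mul_mem ((mem_normalizer_iff.1 (CfsgLib.Signalizer.normalizer_le_normalizer_centralizer_set O (hEO ha)) b).1 hbC) (inv_mem hbC)
    refine hE.2.2.2.1 (commutator_eq_bot_iff_le_centralizer.2 (hEC.trans (centralizer_le (SetLike.coe_subset_coe.2 ?_))))
    intro z hz
    have hz1 := CfsgLib.PGroups.omegaOne_le _ hz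
    have hz2 := omegaOneCenter_pow hz
    obtain ⟨A, hA⟩ := CfsgLib.PLocal.exists_maxIn (CfsgLib.PLocal.goodPred_elementary (G := G) p) (T : Subgroup G)
    have hzA : z ∈ A := CfsgLib.Transfer.mem_maxElem_of_centralizes hA hz1.1 hz2
      (mem_centralizer_iff.2 fun a ha => mem_centralizer_iff.1 hz1.2 a (hA.1 ha))
    rw [hOdef]
    refine CfsgLib.PGroups.mem_omegaOne ⟨hJ ▸ CfsgLib.Transfer.le_thompsonOf_of_max hA hzA, mem_centralizer_iff.2 fun x hx => ?_⟩ hz2
    exact mem_centralizer_iff.1 hz1.2 x (thompsonSubgroupOf_le _ (hJ ▸ hx))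

end CfsgLib.LocalEvenB
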