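import Cfsg.Agent.Lib.LocalEvenB.ChermakDelgado
import Cfsg.Prelude.Def_PLocal

/-!
Centrally large subgroups.
-/

set_option autoImplicit false

open Cfsg
open scoped Pointwise commutatorElement

namespace CfsgLib.LocalEvenB

variable {G : Type*} [Group G] [Finite G]

omit [Finite G] in
theorem card_center_eq (R : Subgroup G) :
    Nat.card (Subgroup.center R) = Nat.card ↥(R ⊓ Subgroup.centralizer (R : Set G)) := by
  rw [Nat.card_congr ((Subgroup.center R).equivMapOfInjective R.subtype R.subtype_injective).toEquiv]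
  congr 2
  congr 1
  ext x
  simp only [Subgroup.mem_map, Subgroup.mem_inf, Subgroup.mem_centralizer_iff]
  constructor
  · rintro ⟨y, hy, rfl⟩
    exact ⟨y.2, fun h hh => congrArg Subtype.val (Subgroup.mem_center_iff.1 hy ⟨h, hh⟩)⟩
  · rintro ⟨hx, hc⟩
    exact ⟨⟨x, hx⟩, Subgroup.mem_center_iff.2 fun y => Subtype.ext (hc y y.2), rfl⟩

theorem bddAbove_centralProduct :
    BddAbove {k : ℕ | ∃ R : Subgroup G, Nat.card ↥R * Nat.card ↥(Subgroup.center ↥R) = k} :=
  (Set.finite_range fun R : Subgroup G => Nat.card R * Nat.card (Subgroup.center R)).bddAbove.mono (by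
    rintro k ⟨R, rfl⟩; exact ⟨R, rfl⟩)

theorem centralMeasure_le_cdMeasure (R : Subgroup G) :
    Nat.card R * Nat.card (Subgroup.center R) ≤ cdMeasure R := by
  rw [card_center_eq]
  exact Nat.mul_le_mul_left _ (Subgroup.card_le_of_le inf_le_right)

theorem maxCentralProduct_eq : maxCentralProduct G = maxCentralizerProduct G := by
  refine le_antisymm ?_ ?_
  · refine csSup_le ⟨_, ⊥, rfl⟩ ?_
    rintro k ⟨R, rfl⟩
    exact (centralMeasure_le_cdMeasure R).trans (cdMeasure_le R)
  · obtain ⟨R, hR⟩ := exists_isCentralizerLarge (G := G)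
    obtain ⟨hC, hRR⟩ := cd_centralizer hR
    obtain ⟨-, hS, -, -, -⟩ := cd_sup hR hC
    refine le_trans (le_of_eq ?_) (le_csSup bddAbove_centralProduct ⟨R ⊔ Subgroup.centralizer (R : Set G), rfl⟩)
    rw [card_center_eq, inf_eq_right.2 ?_]
    · exact hS.symm
    · rw [centralizer_sup]
      exact inf_le_left.trans le_sup_right

theorem isCentrallyLarge_iff (Q : Subgroup G) :
    IsCentrallyLarge Q ↔ IsCentralizerLarge Q ∧ Subgroup.centralizer (Q : Set G) ≤ Q := by
  unfold IsCentrallyLarge IsCentralizerLarge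
  rw [maxCentralProduct_eq, card_center_eq]
  constructor
  · intro h
    have h1 : Nat.card Q * Nat.card ↥(Q ⊓ Subgroup.centralizer (Q : Set G)) ≤
        Nat.card Q * Nat.card ↥(Subgroup.centralizer (Q : Set G)) :=
      Nat.mul_le_mul_left _ (Subgroup.card_le_of_le inf_le_right)
    have h2 := cdMeasure_le Q
    unfold cdMeasure at h2
    refine ⟨le_antisymm h2 (h ▸ h1), ?_⟩
    have h3 : Nat.card ↥(Subgroup.centralizer (Q : Set G)) ≤ Nat.card ↥(Q ⊓ Subgroup.centralizer (Q : Set G)) :=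
      Nat.le_of_mul_le_mul_left (h2.trans h.ge) Nat.card_pos
    exact (Subgroup.eq_of_le_of_card_ge inf_le_right h3) ▸ inf_le_left
  · rintro ⟨h, hc⟩
    rw [inf_eq_right.2 hc]; exact h

theorem cl_centralizer_eq {Q : Subgroup G} (hQ : IsCentrallyLarge Q) :
    Q ⊓ Subgroup.centralizer (Q : Set G) = Subgroup.centralizer (Q : Set G) :=
  inf_eq_right.2 ((isCentrallyLarge_iff Q).1 hQ).2

theorem cl_sup {Q R : Subgroup G} (hQ : IsCentrallyLarge Q) (hR : IsCentrallyLarge R) :
    ((Q ⊔ R : Subgroup G) : Set G) = (Q : Set G) * (R : Set G) ∧ IsCentrallyLarge (Q ⊔ R) := by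
  obtain ⟨hQl, hQc⟩ := (isCentrallyLarge_iff Q).1 hQ
  obtain ⟨hRl, -⟩ := (isCentrallyLarge_iff R).1 hR
  obtain ⟨hs, hl, -, -, -⟩ := cd_sup hQl hRl
  refine ⟨hs, (isCentrallyLarge_iff _).2 ⟨hl, ?_⟩⟩
  rw [centralizer_sup]
  exact inf_le_left.trans (hQc.trans le_sup_left)

theorem exists_isCentrallyLarge : ∃ Q : Subgroup G, IsCentrallyLarge Q := by
  obtain ⟨R, hR⟩ := Nat.sSup_mem (s := {k : ℕ | ∃ R : Subgroup G, Nat.card ↥R *
    Nat.card ↥(Subgroup.center ↥R) = k}) ⟨_, ⊥, rfl⟩ bddAbove_centralProduct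
  exact ⟨R, hR⟩

theorem exists_isMinimalCentrallyLarge_le {Q : Subgroup G} (hQ : IsCentrallyLarge Q) :
    ∃ X ≤ Q, IsMinimalCentrallyLarge X := by
  obtain ⟨X, hX⟩ := (Set.toFinite {R : Subgroup G | IsCentrallyLarge R ∧ R ≤ Q}).exists_minimal ⟨Q, hQ, le_rfl⟩
  exact ⟨X, hX.1.2, hX.1.1, fun R hR hRl => le_antisymm hR (hX.2 ⟨hRl, hR.trans hX.1.2⟩ hR)⟩

/-- A nonempty family of centrally large subgroups joins to a centrally large subgroup. -/
theorem cl_sSup {S : Set (Subgroup G)} (hne : S.Nonempty) (hS : ∀ Q ∈ S, IsCentrallyLarge Q) :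
    IsCentrallyLarge (sSup S) := by
  obtain ⟨M, hM⟩ := (Set.toFinite {R : Subgroup G | IsCentrallyLarge R ∧ R ≤ sSup S}).exists_maximal
    (let ⟨Q, hQ⟩ := hne; ⟨Q, hS Q hQ, le_sSup hQ⟩)
  have h : sSup S ≤ M := sSup_le fun Q hQ =>
    le_trans le_sup_right (hM.2 ⟨(cl_sup hM.1.1 (hS Q hQ)).2, sup_le hM.1.2 (le_sSup hQ)⟩ le_sup_left)
  rw [le_antisymm h hM.1.2]
  exact hM.1.1

theorem maxAbelian_nonempty : (maxAbelianSubgroups G).Nonempty := by
  obtain ⟨A, hA, hmax⟩ := Set.exists_max_image {A : Subgroup G | IsMulCommutative A} (fun A => Nat.card A)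
    (Set.toFinite _) ⟨⊥, ⟨⟨fun a b => Subsingleton.elim _ _⟩⟩⟩
  exact ⟨A, hA, hmax⟩

omit [Finite G] in
theorem le_centralizer_iff_isMulCommutative {A : Subgroup G} :
    IsMulCommutative A ↔ A ≤ Subgroup.centralizer (A : Set G) := by
  constructor
  · intro h x hx
    exact Subgroup.mem_centralizer_iff.2 fun y hy => congrArg Subtype.val (h.is_comm.comm ⟨y, hy⟩ ⟨x, hx⟩)
  · intro h
    exact ⟨⟨fun x y => Subtype.ext (Subgroup.mem_centralizer_iff.1 (h y.2) x x.2)⟩⟩

omit [Finite G] in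
theorem sup_le_centralizer {H K : Subgroup G} {s : Set G}
    (hH : H ≤ Subgroup.centralizer s) (hK : K ≤ Subgroup.centralizer s) :
    H ⊔ K ≤ Subgroup.centralizer s := sup_le hH hK

theorem centralizer_eq_of_maxAbelian {A : Subgroup G} (hA : A ∈ maxAbelianSubgroups G) :
    Subgroup.centralizer (A : Set G) = A := by
  have hAA := le_centralizer_iff_isMulCommutative.1 hA.1
  refine le_antisymm (fun x hx => ?_) hAA
  set B := A ⊔ Subgroup.zpowers x with hB
  have hBab : IsMulCommutative B := by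
    refine le_centralizer_iff_isMulCommutative.2 ?_
    rw [hB, centralizer_sup]
    have hxA : A ≤ Subgroup.centralizer ((Subgroup.zpowers x : Subgroup G) : Set G) :=
      Subgroup.le_centralizer_iff.1 (Subgroup.zpowers_le.2 hx)
    refine sup_le (le_inf hAA hxA) (le_inf (Subgroup.zpowers_le.2 hx) ?_)
    exact le_centralizer_iff_isMulCommutative.1 inferInstance
  have h1 : A = B := Subgroup.eq_of_le_of_card_ge le_sup_left (hA.2 B hBab)
  rw [h1]
  exact Subgroup.mem_sup_right (Subgroup.mem_zpowers x)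

/-- A centrally large `Q` and an abelian subgroup `A` of largest order. -/
theorem cl_maxAbelian {Q A : Subgroup G} (hQ : IsCentrallyLarge Q) (hA : A ∈ maxAbelianSubgroups G) :
    ((Q ⊔ A : Subgroup G) : Set G) = (Q : Set G) * (A : Set G) ∧ IsCentrallyLarge (Q ⊔ A) ∧
      (Q ⊔ A) ⊓ Subgroup.centralizer ((Q ⊓ A : Subgroup G) : Set G) = Subgroup.centralizer (Q : Set G) ⊔ A ∧
      ((Subgroup.centralizer (Q : Set G) ⊔ A : Subgroup G) : Set G) =
        ((Subgroup.centralizer (Q : Set G) : Subgroup G) : Set G) * (A : Set G) := by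
  obtain ⟨hQl, hQc⟩ := (isCentrallyLarge_iff Q).1 hQ
  have hAC := centralizer_eq_of_maxAbelian hA
  have hAA : A ≤ Subgroup.centralizer (A : Set G) := hAC.ge
  set D := Subgroup.centralizer (Q : Set G) with hD
  set B := Q ⊓ A with hB
  set M := maxCentralizerProduct G
  have hQD : Nat.card Q * Nat.card D = M := hQl
  -- `D ⊔ B` is abelian
  have hDB : ((D ⊔ B : Subgroup G)) ≤ Subgroup.centralizer ((D ⊔ B : Subgroup G) : Set G) := by
    have hBD : B ≤ Subgroup.centralizer (D : Set G) :=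
      inf_le_left.trans (Subgroup.le_centralizer_iff.1 le_rfl)
    have hDD : D ≤ Subgroup.centralizer (D : Set G) :=
      hQc.trans (Subgroup.le_centralizer_iff.1 le_rfl)
    have hBB : B ≤ Subgroup.centralizer (B : Set G) :=
      inf_le_right.trans (hAA.trans (Subgroup.centralizer_le (SetLike.coe_subset_coe.2 inf_le_right)))
    rw [centralizer_sup]
    exact sup_le (le_inf hDD (Subgroup.le_centralizer_iff.1 hBD)) (le_inf hBD hBB)
  have hDBset : ((D : Set G) * (B : Set G)) ⊆ ((D ⊔ B : Subgroup G) : Set G) :=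
    Set.mul_subset_iff.2 fun a ha b hb => Subgroup.mul_mem_sup ha hb
  have hDinf : D ⊓ B = D ⊓ A := by
    rw [hB, ← inf_assoc, inf_eq_left.2 hQc]
  set a := Nat.card A
  set b := Nat.card B
  set d := Nat.card D
  set q := Nat.card Q
  set e := Nat.card ↥(D ⊓ A)
  -- (I)
  have e1 := card_mul_set_eq D B
  rw [hDinf] at e1
  have i1 : d * b ≤ a * e := by
    rw [← e1]
    exact Nat.mul_le_mul_right _ ((Nat.card_mono (Set.toFinite _) hDBset).trans
      (hA.2 _ (le_centralizer_iff_isMulCommutative.2 hDB)))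
  -- (II)
  have e2 := card_mul_set_eq Q A
  have hsub : ((Q : Set G) * (A : Set G)) ⊆ ((Q ⊔ A : Subgroup G) : Set G) :=
    Set.mul_subset_iff.2 fun x hx y hy => Subgroup.mul_mem_sup hx hy
  have hcQA : Subgroup.centralizer ((Q ⊔ A : Subgroup G) : Set G) = D ⊓ A := by
    rw [centralizer_sup, hAC]
  have hm := cdMeasure_le (Q ⊔ A)
  unfold cdMeasure at hm
  rw [hcQA] at hm
  set j := Nat.card ↥(Q ⊔ A) with hj
  set s := Nat.card ((Q : Set G) * (A : Set G) : Set G) with hs
  have hsj : s ≤ j := Nat.card_mono (Set.toFinite _) hsub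
  have hb0 : 0 < b := Nat.card_pos
  have he0 : 0 < e := Nat.card_pos
  have i2 : (s * e) * b ≤ (q * d) * b := by
    refine Nat.mul_le_mul_right _ ?_
    rw [hQD]
    exact (Nat.mul_le_mul_right _ hsj).trans hm
  have e2' : s * b = q * a := e2
  have hq0 : 0 < q := Nat.card_pos
  have i3 : a * e ≤ d * b := by
    refine Nat.le_of_mul_le_mul_left ?_ hq0
    calc q * (a * e) = (s * b) * e := by rw [e2']; ring
      _ = (s * e) * b := by ring
      _ ≤ (q * d) * b := i2
      _ = q * (d * b) := by ring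
  have eq1 : a * e = d * b := le_antisymm i3 i1
  have eq2 : s * e = M := by
    rw [← hQD]
    refine Nat.eq_of_mul_eq_mul_right hb0 ?_
    calc (s * e) * b = (s * b) * e := by ring
      _ = q * (a * e) := by rw [e2']; ring
      _ = (q * d) * b := by rw [eq1]; ring
  have hjs : j ≤ s := Nat.le_of_mul_le_mul_right (eq2.symm ▸ hm) he0
  have hset : ((Q ⊔ A : Subgroup G) : Set G) = (Q : Set G) * (A : Set G) :=
    (Set.Finite.eq_of_subset_of_card_le (Set.toFinite _) hsub hjs).symm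
  have hlarge : IsCentrallyLarge (Q ⊔ A) := by
    refine (isCentrallyLarge_iff _).2 ⟨?_, ?_⟩
    · show j * Nat.card _ = M
      rw [hcQA, le_antisymm hjs hsj, eq2]
    · rw [hcQA]; exact inf_le_right.trans le_sup_right
  -- `D ⊔ B` has largest order
  have hDBmax : (D ⊔ B : Subgroup G) ∈ maxAbelianSubgroups G := by
    refine ⟨le_centralizer_iff_isMulCommutative.2 hDB, fun C hC => (hA.2 C hC).trans ?_⟩
    refine le_trans ?_ (Nat.card_mono (Set.toFinite _) hDBset)
    refine Nat.le_of_mul_le_mul_right ?_ he0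
    rw [e1, eq1]
  have hDBc := centralizer_eq_of_maxAbelian hDBmax
  have hCsub : ((Q ⊔ A) ⊓ Subgroup.centralizer (B : Set G) : Subgroup G) ≤ D ⊔ A ∧
      (((Q ⊔ A) ⊓ Subgroup.centralizer (B : Set G) : Subgroup G) : Set G) ⊆ (D : Set G) * (A : Set G) := by
    have key : ∀ x ∈ (Q ⊔ A) ⊓ Subgroup.centralizer (B : Set G), x ∈ (D : Set G) * (A : Set G) := by
      rintro x ⟨hx1, hx2⟩
      replace hx1 : x ∈ ((Q ⊔ A : Subgroup G) : Set G) := hx1
      rw [hset] at hx1
      obtain ⟨u, hu, v, hv, rfl⟩ := Set.mem_mul.1 hx1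
      have hvB : v ∈ Subgroup.centralizer (B : Set G) :=
        Subgroup.centralizer_le (SetLike.coe_subset_coe.2 inf_le_right) (hAA hv)
      have huB : u ∈ Subgroup.centralizer (B : Set G) := by
        simpa using (Subgroup.centralizer (B : Set G)).mul_mem hx2 ((Subgroup.centralizer (B : Set G)).inv_mem hvB)
      have huDB : u ∈ D ⊔ B := by
        rw [← hDBc, centralizer_sup]
        exact ⟨Subgroup.le_centralizer_iff.1 (le_rfl : D ≤ Subgroup.centralizer (Q : Set G)) hu, huB⟩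
      have hcomm : ((D ⊔ B : Subgroup G) : Set G) = (D : Set G) * (B : Set G) := by
        refine (Set.Finite.eq_of_subset_of_card_le (Set.toFinite _) hDBset ?_).symm
        refine Nat.le_of_mul_le_mul_right ?_ he0
        rw [e1, ← eq1]
        exact Nat.mul_le_mul_right _ (hA.2 _ hDBmax.1)
      rw [← SetLike.mem_coe, hcomm] at huDB
      obtain ⟨u1, hu1, u2, hu2, rfl⟩ := Set.mem_mul.1 huDB
      exact Set.mem_mul.2 ⟨u1, hu1, u2 * v, A.mul_mem hu2.2 hv, (mul_assoc _ _ _).symm⟩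
    exact ⟨fun x hx => by
      obtain ⟨u, hu, v, hv, rfl⟩ := Set.mem_mul.1 (key x hx)
      exact Subgroup.mul_mem_sup hu hv, key⟩
  have hsup : D ⊔ A ≤ (Q ⊔ A) ⊓ Subgroup.centralizer (B : Set G) :=
    le_inf (sup_le_sup hQc le_rfl) (sup_le
      (Subgroup.centralizer_le (SetLike.coe_subset_coe.2 inf_le_left))
      (hAA.trans (Subgroup.centralizer_le (SetLike.coe_subset_coe.2 inf_le_right))))
  refine ⟨hset, hlarge, le_antisymm hCsub.1 hsup, ?_⟩
  refine Set.Subset.antisymm (fun x hx => hCsub.2 (hsup hx)) ?_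
  exact Set.mul_subset_iff.2 fun x hx y hy => Subgroup.mul_mem_sup hx hy

theorem centralizer_le_of_thompsonA : Subgroup.centralizer (thompsonSubgroupA G : Set G) ≤ thompsonSubgroupA G := by
  obtain ⟨A, hA⟩ := maxAbelian_nonempty (G := G)
  have h : A ≤ thompsonSubgroupA G := le_sSup hA
  exact le_trans (Subgroup.centralizer_le (SetLike.coe_subset_coe.2 h))
    ((centralizer_eq_of_maxAbelian hA).le.trans h)

theorem cl_sup_thompsonA {Q : Subgroup G} (hQ : IsCentrallyLarge Q) :
    IsCentrallyLarge (Q ⊔ thompsonSubgroupA G) ∧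
      Subgroup.centralizer ((thompsonSubgroupA G ⊓ Subgroup.centralizer (thompsonSubgroupA G : Set G) : Subgroup G) : Set G)
        ≤ Q ⊔ thompsonSubgroupA G := by
  set J := thompsonSubgroupA G with hJ
  have hT : IsCentrallyLarge (Q ⊔ J) := by
    have h := cl_sSup (S := (fun A => Q ⊔ A) '' maxAbelianSubgroups G) (maxAbelian_nonempty.image _) (by
      rintro _ ⟨A, hA, rfl⟩; exact (cl_maxAbelian hQ hA).2.1)
    have he : sSup ((fun A => Q ⊔ A) '' maxAbelianSubgroups G) = Q ⊔ J := by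
      refine le_antisymm (sSup_le ?_) (sup_le ?_ (sSup_le fun A hA => ?_))
      · rintro _ ⟨A, hA, rfl⟩; exact sup_le_sup_left (le_sSup hA) Q
      · obtain ⟨A, hA⟩ := maxAbelian_nonempty (G := G)
        exact le_sup_left.trans (le_sSup ⟨A, hA, rfl⟩)
      · exact le_sup_right.trans (le_sSup ⟨A, hA, rfl⟩)
    rwa [he] at h
  refine ⟨hT, ?_⟩
  rw [inf_eq_right.2 centralizer_le_of_thompsonA]
  have h2 := (cd_centralizer ((isCentrallyLarge_iff _).1 hT).1).2
  refine le_trans ?_ h2.ge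
  refine Subgroup.centralizer_le (SetLike.coe_subset_coe.2 ?_)
  rw [centralizer_sup]
  exact inf_le_right

theorem thompsonA_le_centrallyLargeJoin : thompsonSubgroupA G ≤ centrallyLargeJoin G := by
  obtain ⟨Q, hQ⟩ := exists_isCentrallyLarge (G := G)
  exact le_sup_right.trans (le_sSup (cl_sup_thompsonA hQ).1)

theorem centralizer_center_thompsonA_le :
    Subgroup.centralizer ((thompsonSubgroupA G ⊓ Subgroup.centralizer (thompsonSubgroupA G : Set G) : Subgroup G) : Set G)
      ≤ centrallyLargeJoin G := by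
  obtain ⟨Q, hQ⟩ := exists_isCentrallyLarge (G := G)
  exact (cl_sup_thompsonA hQ).2.trans (le_sSup (cl_sup_thompsonA hQ).1)

theorem mcl_eq {Q R : Subgroup G} (hQ : IsMinimalCentrallyLarge Q) (hR : IsCentrallyLarge R) :
    (Q ⊓ R) ⊔ Subgroup.centralizer (Q : Set G) = Q := by
  obtain ⟨hQl, hQc⟩ := (isCentrallyLarge_iff Q).1 hQ.1
  obtain ⟨hRl, hRc⟩ := (isCentrallyLarge_iff R).1 hR
  obtain ⟨-, -, hI, hCI, hCIs⟩ := cd_sup hQl hRl
  set D := Subgroup.centralizer (Q : Set G) with hD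
  obtain ⟨hDl, hQDD⟩ := cd_centralizer hQl
  obtain ⟨-, hX, -, -, -⟩ := cd_sup hI hDl
  refine hQ.2 _ (sup_le inf_le_left hQc) ((isCentrallyLarge_iff _).2 ⟨hX, ?_⟩)
  rw [centralizer_sup, hCI, ← hQDD]
  intro x hx
  obtain ⟨hx1, hx2⟩ := hx
  replace hx1 : x ∈ ((D ⊔ Subgroup.centralizer (R : Set G) : Subgroup G) : Set G) := hx1
  rw [hCIs] at hx1
  obtain ⟨u, hu, v, hv, rfl⟩ := Set.mem_mul.1 hx1
  refine (sup_comm D (Q ⊓ R)).le (Subgroup.mul_mem_sup hu ⟨?_, hRc hv⟩)
  have := Q.mul_mem (Q.inv_mem (hQc hu)) hx2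
  rwa [inv_mul_cancel_left] at this

omit [Finite G] in
theorem commutator_sup_central {I D : Subgroup G} (hD : D ≤ Subgroup.centralizer ((I ⊔ D : Subgroup G) : Set G)) :
    ⁅I ⊔ D, I ⊔ D⁆ = ⁅I, I⁆ := by
  refine le_antisymm ?_ (Subgroup.commutator_mono le_sup_left le_sup_left)
  have hset : ∀ x ∈ I ⊔ D, ∃ i ∈ I, ∃ d ∈ D, x = i * d := by
    intro x hx
    have hn : I ⊔ D ≤ Subgroup.normalizer (I : Set G) := by
      refine sup_le Subgroup.le_normalizer fun d hd => Subgroup.mem_normalizer_iff.2 fun i => ?_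
      have hc : ∀ y ∈ I ⊔ D, d * y * d⁻¹ = y := fun y hy =>
        mul_inv_eq_iff_eq_mul.2 (Subgroup.mem_centralizer_iff.1 (hD hd) y hy).symm
      constructor
      · intro hi; rw [hc i (Subgroup.mem_sup_left hi)]; exact hi
      · intro hi
        have h2 := hc _ (Subgroup.mem_sup_left hi)
        have : d * i * d⁻¹ = i := by
          have := congrArg (fun z => d⁻¹ * z * d) h2
          simpa [mul_assoc] using this
        exact this ▸ hi
    rw [← SetLike.mem_coe, Subgroup.coe_mul_of_right_le_normalizer_left I D (le_sup_right.trans hn)] at hx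
    obtain ⟨i, hi, d, hd, rfl⟩ := Set.mem_mul.1 hx
    exact ⟨i, hi, d, hd, rfl⟩
  refine Subgroup.commutator_le.2 fun x hx y hy => ?_
  obtain ⟨i, hi, d, hd, rfl⟩ := hset x hx
  obtain ⟨j, hj, e, he, rfl⟩ := hset y hy
  have hcd : ∀ z ∈ I ⊔ D, Commute d z := fun z hz => (Subgroup.mem_centralizer_iff.1 (hD hd) z hz).symm
  have hce : ∀ z ∈ I ⊔ D, Commute e z := fun z hz => (Subgroup.mem_centralizer_iff.1 (hD he) z hz).symm
  have h1 : i * d * (j * e) * (i * d)⁻¹ * (j * e)⁻¹ = i * j * i⁻¹ * j⁻¹ := by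
    have c1 : d * (j * e) * d⁻¹ = j * e := by
      rw [(hcd (j * e) (mul_mem (Subgroup.mem_sup_left hj) (Subgroup.mem_sup_right he))).eq, mul_inv_cancel_right]
    have c2 : e * i⁻¹ * e⁻¹ = i⁻¹ := by
      rw [(hce i⁻¹ (Subgroup.mem_sup_left (I.inv_mem hi))).eq, mul_inv_cancel_right]
    calc i * d * (j * e) * (i * d)⁻¹ * (j * e)⁻¹ = i * (d * (j * e) * d⁻¹) * i⁻¹ * (j * e)⁻¹ := by group
      _ = i * j * (e * i⁻¹ * e⁻¹) * j⁻¹ := by rw [c1]; group
      _ = i * j * i⁻¹ * j⁻¹ := by rw [c2]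
  rw [commutatorElement_def, h1, ← commutatorElement_def]
  exact Subgroup.commutator_mem_commutator hi hj

theorem mcl_data {Q R : Subgroup G} (hQ : IsMinimalCentrallyLarge Q) (hR : IsMinimalCentrallyLarge R) :
    ⁅Q, Q⁆ = ⁅R, R⁆ ∧ Nat.card Q = Nat.card R ∧
      Nat.card (Subgroup.centralizer (Q : Set G)) = Nat.card (Subgroup.centralizer (R : Set G)) := by
  obtain ⟨hQl, hQc⟩ := (isCentrallyLarge_iff Q).1 hQ.1
  obtain ⟨hRl, hRc⟩ := (isCentrallyLarge_iff R).1 hR.1
  have eQ := mcl_eq hQ hR.1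
  have eR := mcl_eq hR hQ.1
  rw [inf_comm] at eR
  set I := Q ⊓ R with hI
  set DQ := Subgroup.centralizer (Q : Set G) with hDQ
  set DR := Subgroup.centralizer (R : Set G) with hDR
  have hDQ' : DQ ≤ Subgroup.centralizer ((I ⊔ DQ : Subgroup G) : Set G) := by rw [eQ]
  have hDR' : DR ≤ Subgroup.centralizer ((I ⊔ DR : Subgroup G) : Set G) := by rw [eR]
  have hcomm : ⁅Q, Q⁆ = ⁅R, R⁆ := by
    rw [← eQ, commutator_sup_central hDQ', ← eR, commutator_sup_central hDR']
  refine ⟨hcomm, ?_⟩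
  have hZI : ∀ D X : Subgroup G, I ⊔ D = X → D = Subgroup.centralizer (X : Set G) → D ≤ X →
      I ⊓ D = I ⊓ Subgroup.centralizer (I : Set G) := by
    intro D X hX hD hDX
    have h1 : D ⊓ I ≤ Subgroup.centralizer (I : Set G) :=
      inf_le_left.trans (hD.le.trans (Subgroup.centralizer_le (SetLike.coe_subset_coe.2 (hX ▸ le_sup_left))))
    refine le_antisymm (le_inf inf_le_left ((inf_comm I D).le.trans h1)) (le_inf inf_le_left ?_)
    conv_rhs => rw [hD, ← hX, centralizer_sup]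
    exact le_inf inf_le_right
      (inf_le_left.trans (Subgroup.le_centralizer_iff.1 (hD.le.trans
        (Subgroup.centralizer_le (SetLike.coe_subset_coe.2 (hX ▸ le_sup_left))))))
  have hcard : ∀ D X : Subgroup G, I ⊔ D = X → D = Subgroup.centralizer (X : Set G) →
      Nat.card X * Nat.card ↥(I ⊓ D) = Nat.card I * Nat.card D := by
    intro D X hX hD
    have hn : D ≤ Subgroup.normalizer (I : Set G) :=
      le_trans (hD.le.trans (Subgroup.centralizer_le (SetLike.coe_subset_coe.2 (hX ▸ le_sup_left))))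
        (Subgroup.centralizer_le_normalizer _)
    rw [← card_mul_set_eq I D, ← Subgroup.coe_mul_of_right_le_normalizer_left I D hn, hX]
    rfl
  have cQ := hcard DQ Q eQ rfl
  have cR := hcard DR R eR rfl
  rw [hZI DQ Q eQ rfl hQc] at cQ
  rw [hZI DR R eR rfl hRc] at cR
  set z := Nat.card ↥(I ⊓ Subgroup.centralizer (I : Set G))
  have hm : Nat.card Q * Nat.card DQ = Nat.card R * Nat.card DR := hQl.trans hRl.symm
  have hi0 : 0 < Nat.card I := Nat.card_pos
  have hsq : Nat.card DQ * Nat.card DQ = Nat.card DR * Nat.card DR := by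
    refine Nat.eq_of_mul_eq_mul_left hi0 ?_
    calc Nat.card I * (Nat.card DQ * Nat.card DQ) = Nat.card I * Nat.card DQ * Nat.card DQ := by ring
      _ = (Nat.card Q * Nat.card DQ) * z := by rw [← cQ]; ring
      _ = Nat.card I * Nat.card DR * Nat.card DR := by rw [hm, ← cR]; ring
      _ = Nat.card I * (Nat.card DR * Nat.card DR) := by ring
  have hD : Nat.card DQ = Nat.card DR := Nat.mul_self_inj.1 hsq
  exact ⟨Nat.eq_of_mul_eq_mul_right Nat.card_pos (hD ▸ hm), hD⟩

theorem cl_abelian_card {Q : Subgroup G} (hQ : IsMulCommutative Q) (hl : IsCentrallyLarge Q) :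
    maxCentralizerProduct G = Nat.card Q * Nat.card Q := by
  obtain ⟨hQl, hQc⟩ := (isCentrallyLarge_iff Q).1 hl
  have : Subgroup.centralizer (Q : Set G) = Q := le_antisymm hQc (le_centralizer_iff_isMulCommutative.1 hQ)
  have h : Nat.card Q * Nat.card (Subgroup.centralizer (Q : Set G)) = maxCentralizerProduct G := hQl
  rw [this] at h; exact h.symm

/-- If some centrally large subgroup is abelian, the minimal ones are the abelian ones of largest order. -/
theorem mcl_iff_maxAbelian {Q : Subgroup G} (hQ : IsMulCommutative Q) (hl : IsMinimalCentrallyLarge Q)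
    (X : Subgroup G) : IsMinimalCentrallyLarge X ↔ X ∈ maxAbelianSubgroups G := by
  have hM := cl_abelian_card hQ hl.1
  have hab : ∀ B : Subgroup G, IsMulCommutative B → Nat.card B * Nat.card B ≤ maxCentralizerProduct G := fun B hB =>
    (Nat.mul_le_mul_left _ (Subgroup.card_le_of_le (le_centralizer_iff_isMulCommutative.1 hB))).trans (cdMeasure_le B)
  have hQmax : ∀ B : Subgroup G, IsMulCommutative B → Nat.card B ≤ Nat.card Q := fun B hB =>
    Nat.mul_self_le_mul_self_iff.1 (hM ▸ hab B hB)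
  constructor
  · intro hX
    obtain ⟨hd, hc, -⟩ := mcl_data hl hX
    refine ⟨?_, fun B hB => hc ▸ hQmax B hB⟩
    rw [le_centralizer_iff_isMulCommutative, ← Subgroup.commutator_eq_bot_iff_le_centralizer, ← hd,
      Subgroup.commutator_eq_bot_iff_le_centralizer, ← le_centralizer_iff_isMulCommutative]
    exact hQ
  · intro hX
    have hcard : Nat.card X = Nat.card Q := le_antisymm (hQmax X hX.1) (hX.2 Q hQ)
    have hXl : IsCentrallyLarge X := (isCentrallyLarge_iff X).2
      ⟨by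
        show Nat.card X * Nat.card _ = _
        rw [centralizer_eq_of_maxAbelian hX, hcard, hM], (centralizer_eq_of_maxAbelian hX).le⟩
    refine ⟨hXl, fun R hR hRl => ?_⟩
    have hRab : IsMulCommutative R := le_centralizer_iff_isMulCommutative.2
      (hR.trans ((le_centralizer_iff_isMulCommutative.1 hX.1).trans (Subgroup.centralizer_le (SetLike.coe_subset_coe.2 hR))))
    refine Subgroup.eq_of_le_of_card_ge hR ?_
    rw [hcard]
    exact le_of_eq (Nat.mul_self_inj.1 (hM.symm.trans (cl_abelian_card hRab hRl)))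

end CfsgLib.LocalEvenB
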