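import Cfsg.Agent.Lib.Classical.SL2Sylow

/-!
# Irreducible `SL₂(F)`-modules which are quadratic or small are natural
-/

set_option autoImplicit false
set_option linter.all false
set_option maxHeartbeats 800000

namespace CfsgLib.LocalEvenB

open Matrix
open scoped MatrixGroups LinearAlgebra.Projectivization

variable {F : Type*} [Field F] {A : Type*} [AddCommGroup A]

/-- The upper unitriangular element. -/
def upU (t : F) : SL(2, F) := ⟨!![1, t; 0, 1], by simp [det_fin_two]⟩

/-- The lower unitriangular element. -/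
def loU (t : F) : SL(2, F) := ⟨!![1, 0; t, 1], by simp [det_fin_two]⟩

/-- The Weyl element. -/
def weyl (t : F) (ht : t ≠ 0) : SL(2, F) := ⟨!![0, t; -t⁻¹, 0], by simp [det_fin_two, ht]⟩

theorem coe_upU (t : F) : ((upU t : SL(2, F)) : Matrix (Fin 2) (Fin 2) F) = !![1, t; 0, 1] := rfl

theorem coe_loU (t : F) : ((loU t : SL(2, F)) : Matrix (Fin 2) (Fin 2) F) = !![1, 0; t, 1] := rfl

theorem coe_weyl (t : F) (ht : t ≠ 0) :
    ((weyl t ht : SL(2, F)) : Matrix (Fin 2) (Fin 2) F) = !![0, t; -t⁻¹, 0] := rfl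

theorem upU_add (s t : F) : upU (s + t) = upU s * upU t := by
  ext i j; fin_cases i <;> fin_cases j <;> simp [coe_upU, SpecialLinearGroup.coe_mul, mul_apply, Fin.sum_univ_two, add_comm]

theorem loU_add (s t : F) : loU (s + t) = loU s * loU t := by
  ext i j; fin_cases i <;> fin_cases j <;> simp [coe_loU, SpecialLinearGroup.coe_mul, mul_apply, Fin.sum_univ_two]

theorem upU_zero : upU (0 : F) = 1 := by
  ext i j; fin_cases i <;> fin_cases j <;> simp [upU]

theorem weyl_eq_up (t : F) (ht : t ≠ 0) : weyl t ht = upU t * loU (-t⁻¹) * upU t := by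
  ext i j; fin_cases i <;> fin_cases j <;> simp [coe_weyl, coe_upU, coe_loU, SpecialLinearGroup.coe_mul, mul_apply, Fin.sum_univ_two, ht]

theorem weyl_eq_lo (t : F) (ht : t ≠ 0) : weyl t ht = loU (-t⁻¹) * upU t * loU (-t⁻¹) := by
  ext i j; fin_cases i <;> fin_cases j <;> simp [coe_weyl, coe_upU, coe_loU, SpecialLinearGroup.coe_mul, mul_apply, Fin.sum_univ_two, ht]

theorem weyl_conj_up (t : F) (ht : t ≠ 0) (s : F) : loU (-s * t⁻¹ * t⁻¹) * weyl t ht = weyl t ht * upU s := by
  ext i j; fin_cases i <;> fin_cases j <;> simp [coe_weyl, coe_upU, coe_loU, SpecialLinearGroup.coe_mul, mul_apply, Fin.sum_univ_two, ht] <;> field_simp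

theorem weyl_conj_lo (t : F) (ht : t ≠ 0) (s : F) : upU (-s * t * t) * weyl t ht = weyl t ht * loU s := by
  ext i j; fin_cases i <;> fin_cases j <;> simp [coe_weyl, coe_upU, coe_loU, SpecialLinearGroup.coe_mul, mul_apply, Fin.sum_univ_two, ht] <;> field_simp

theorem upU_eq_transvection (t : F) :
    upU t = SpecialLinearGroup.transvection (zero_ne_one : (0 : Fin 2) ≠ 1) t := by
  refine Subtype.ext ?_
  ext i j
  rw [SpecialLinearGroup.transvection_coe]
  fin_cases i <;> fin_cases j <;> simp [upU, Matrix.transvection, Matrix.single]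

/-- `SL₂(F)` is generated by the upper unitriangular group and the Weyl element. -/
theorem mem_of_up_weyl (K : Subgroup SL(2, F)) (hu : ∀ t, upU t ∈ K) (hw : weyl (1 : F) one_ne_zero ∈ K)
    (g : SL(2, F)) : g ∈ K := by
  open CfsgLib.Classical.Two in
  have h0 : rootGroup (basePoint F 0) ≤ K := fun x hx => by
    rw [← SetLike.mem_coe, rootGroup_basePoint] at hx
    obtain ⟨t, rfl⟩ := hx
    simpa only [← upU_eq_transvection] using hu t
  open CfsgLib.Classical.Two in
  have hsm : weyl (1 : F) one_ne_zero • basePoint F 0 = basePoint F 1 := by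
    rw [Projectivization.smul_mk, Projectivization.mk_eq_mk_iff']
    refine ⟨-1, funext fun i => ?_⟩
    simp only [Matrix.SpecialLinearGroup.smul_def, Matrix.smul_eq_mulVec]
    fin_cases i <;> simp [coe_weyl, Matrix.mulVec, dotProduct, Fin.sum_univ_two]
  open CfsgLib.Classical.Two in
  have h1 : rootGroup (basePoint F 1) ≤ K := fun x hx => by
    rw [← hsm, rootGroup_smul] at hx
    obtain ⟨y, hy, rfl⟩ := hx
    exact K.mul_mem (K.mul_mem hw (h0 hy)) (K.inv_mem hw)
  open CfsgLib.Classical.Two in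
  exact (rootGroup_sup_eq_top (F := F) (p := basePoint F 0) (r := basePoint F 1) (by
    intro hc
    obtain ⟨a, ha⟩ := (Projectivization.mk_eq_mk_iff' F _ _ _ _).1 hc
    simpa using congrFun ha 0)).ge.trans (sup_le h0 h1) (Subgroup.mem_top g)

/-- Irreducible modules, quadratic or with many fixed points, are natural. -/
theorem natural_of_quadratic_or_small [Fintype F] [Finite A] {p : ℕ} [Fact p.Prime] [CharP F p]
    (act : SL(2, F) →* AddMonoid.End A) (hp : ∀ x : A, p • x = 0)
    (hirr : ∀ U : AddSubgroup A, (∀ g, ∀ x ∈ U, act g x ∈ U) → U = ⊥ ∨ U = ⊤)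
    (hnt : ∃ g x, act g x ≠ x)
    (hyp : (∀ s t : F, ∀ x, act (upU t) (act (upU s) x - x) = act (upU s) x - x) ∨
      Nat.card A ≤ Nat.card {x : A // ∀ t : F, act (upU t) x = x} ^ 2) :
    ∃ θ : (Fin 2 → F) ≃+ A, ∀ g v, act g (θ v) = θ ((g : Matrix (Fin 2) (Fin 2) F) *ᵥ v) := by
  classical
  have hmul : ∀ g h x, act (g * h) x = act g (act h x) := fun g h x => by rw [map_mul]; rfl
  have hone : ∀ x, act 1 x = x := fun x => by rw [map_one]; rfl
  have hclosed : ∀ (U : AddSubgroup A), (∀ t, ∀ x ∈ U, act (upU t) x ∈ U) →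
      (∀ x ∈ U, act (weyl 1 one_ne_zero) x ∈ U) → U = ⊥ ∨ U = ⊤ := fun U hu hw => hirr U fun g => by
    haveI : Finite SL(2, F) := Finite.of_injective (fun g : SL(2, F) => (g : Matrix (Fin 2) (Fin 2) F)) Subtype.val_injective
    let S : Submonoid SL(2, F) :=
      { carrier := {g | ∀ x ∈ U, act g x ∈ U}
        one_mem' := fun x hx => by rw [hone]; exact hx
        mul_mem' := fun {g h} hg hh x hx => by rw [hmul]; exact hg _ (hh x hx) }
    have hinv : ∀ {g}, g ∈ S → g⁻¹ ∈ S := fun {g} hg => by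
      have h1 : g * g ^ (orderOf g - 1) = 1 := by
        rw [← pow_succ', Nat.sub_add_cancel (orderOf_pos g), pow_orderOf_eq_one]
      rw [inv_eq_of_mul_eq_one_right h1]
      exact S.pow_mem hg _
    let K : Subgroup SL(2, F) := { S with inv_mem' := hinv }
    exact mem_of_up_weyl K hu hw g
  let W : AddSubgroup A :=
    { carrier := {x | ∀ t, act (upU t) x = x}
      zero_mem' := fun t => map_zero _
      add_mem' := fun {x y} hx hy t => by rw [map_add, hx t, hy t]
      neg_mem' := fun {x} hx t => by rw [map_neg, hx t] }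
  let W' : AddSubgroup A :=
    { carrier := {x | ∀ t, act (loU t) x = x}
      zero_mem' := fun t => map_zero _
      add_mem' := fun {x y} hx hy t => by rw [map_add, hx t, hy t]
      neg_mem' := fun {x} hx t => by rw [map_neg, hx t] }
  have hwW : ∀ (t : F) (ht : t ≠ 0), ∀ x ∈ W, act (weyl t ht) x ∈ W' := fun t ht x hx s => by
    have h := weyl_conj_up t ht (-s * t * t)
    rw [show -(-s * t * t) * t⁻¹ * t⁻¹ = s by field_simp] at h
    rw [← hmul, h, hmul, hx]
  have hwW' : ∀ (t : F) (ht : t ≠ 0), ∀ x ∈ W', act (weyl t ht) x ∈ W := fun t ht x hx s => by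
    have h := weyl_conj_lo t ht (-s * t⁻¹ * t⁻¹)
    rw [show -(-s * t⁻¹ * t⁻¹) * t * t = s by field_simp] at h
    rw [← hmul, h, hmul, hx]
  obtain ⟨w1, hw1⟩ : ∃ w1, w1 = weyl (1 : F) one_ne_zero := ⟨_, rfl⟩
  have hW1 : ∀ x ∈ W, act w1 x ∈ W' := fun x hx => hw1 ▸ hwW 1 one_ne_zero x hx
  have hW1' : ∀ x ∈ W', act w1 x ∈ W := fun x hx => hw1 ▸ hwW' 1 one_ne_zero x hx
  -- no fixed points
  have hdisj : ∀ x ∈ W, x ∈ W' → x = 0 := by
    rcases hclosed (W ⊓ W') (fun t x hx => by rw [hx.1 t]; exact hx)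
      (fun x hx => ⟨hwW' 1 one_ne_zero x hx.2, hwW 1 one_ne_zero x hx.1⟩) with h | h
    · exact fun x h1 h2 => (AddSubgroup.mem_bot).1 (h ▸ (⟨h1, h2⟩ : x ∈ W ⊓ W'))
    · exfalso
      obtain ⟨g, x, hgx⟩ := hnt
      refine hgx ?_
      let K : Subgroup SL(2, F) :=
        { carrier := {g | ∀ x, act g x = x}
          one_mem' := hone
          mul_mem' := fun {a b} ha hb x => by rw [hmul, hb, ha]
          inv_mem' := fun {a} ha x => by conv_lhs => rw [← ha x, ← hmul, inv_mul_cancel, hone] }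
      refine mem_of_up_weyl K (fun t y => ((h ▸ AddSubgroup.mem_top y : y ∈ W ⊓ W')).1 t) (fun y => ?_) g x
      rw [weyl_eq_up, hmul, hmul]
      have hy : y ∈ W ⊓ W' := h ▸ AddSubgroup.mem_top y
      rw [hy.1, hy.2, hy.1]
  have hdec : ∀ y, ∃ a ∈ W, ∃ b ∈ W', a + b = y := by
    suffices hsup : W ⊔ W' = ⊤ from fun y => AddSubgroup.mem_sup.1 (hsup ▸ AddSubgroup.mem_top y)
    rcases hyp with hq | hs
    · rcases hclosed (W ⊔ W') (fun t y _ => by
        have h1 : act (upU t) y - y ∈ W := fun s => hq t s y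
        have h2 := AddSubgroup.add_mem _ (AddSubgroup.mem_sup_left (T := W') h1) ‹y ∈ W ⊔ W'›
        rwa [sub_add_cancel] at h2) (fun y hy => by
        obtain ⟨a, ha, b, hb, rfl⟩ := AddSubgroup.mem_sup.1 hy
        rw [map_add, add_comm]
        exact AddSubgroup.add_mem_sup (hwW' 1 one_ne_zero b hb) (hwW 1 one_ne_zero a ha)) with h | h
      · refine absurd hnt ?_
        push Not
        intro g x
        have hz : ∀ t y, act (upU t) y = y := fun t y => sub_eq_zero.1 <| AddSubgroup.mem_bot.1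
          (h ▸ AddSubgroup.mem_sup_left (fun s => hq t s y : act (upU t) y - y ∈ W))
        have hall : ∀ y : A, y = 0 := fun y => AddSubgroup.mem_bot.1 (h ▸ AddSubgroup.mem_sup_left (fun t => hz t y : y ∈ W))
        rw [hall x, map_zero]
      · exact h
    · let f : W × W' →+ A := W.subtype.coprod W'.subtype
      have hinj : Function.Injective f := by
        rw [injective_iff_map_eq_zero]
        rintro ⟨a, b⟩ hab
        have hab' : (a : A) + b = 0 := hab
        have ha : (a : A) ∈ W' := by rw [eq_neg_of_add_eq_zero_left hab']; exact W'.neg_mem b.2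
        have ha0 := hdisj _ a.2 ha
        rw [ha0, zero_add] at hab'
        exact Prod.ext (Subtype.ext ha0) (Subtype.ext hab')
      have hcard : Nat.card W ≤ Nat.card W' := Nat.card_le_card_of_injective (fun x => ⟨_, hW1 _ x.2⟩) fun x y e => by
        have h := congrArg (fun z : W' => act w1⁻¹ (z : A)) e
        simp only [← hmul, inv_mul_cancel, hone] at h
        exact Subtype.ext h
      have hge : Nat.card A ≤ Nat.card (W × W') := by
        rw [Nat.card_prod]
        exact hs.trans ((sq _).le.trans (Nat.mul_le_mul_left _ hcard))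
      rw [eq_top_iff]
      intro y _
      obtain ⟨⟨a, b⟩, rfl⟩ := ((Nat.bijective_iff_injective_and_card f).2
        ⟨hinj, le_antisymm (Nat.card_le_card_of_injective f hinj) hge⟩).2 y
      exact AddSubgroup.add_mem_sup a.2 b.2
  have huniq : ∀ {a a' b b'}, a ∈ W → a' ∈ W → b ∈ W' → b' ∈ W' → a + b = a' + b' → a = a' := by
    intro a a' b b' ha ha' hb hb' h
    refine sub_eq_zero.1 (hdisj _ (W.sub_mem ha ha') ?_)
    rw [sub_eq_sub_iff_add_eq_add.2 (show a + b = b' + a' by rw [h, add_comm])]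
    exact W'.sub_mem hb' hb
  -- the unipotent group is trivial on `A / W`
  let X : AddSubgroup A :=
    { carrier := {m | m ∈ W' ∧ ∀ r, act (upU r) m - m ∈ W}
      zero_mem' := ⟨W'.zero_mem, fun r => by rw [map_zero, sub_zero]; exact W.zero_mem⟩
      add_mem' := fun {x y} hx hy => ⟨W'.add_mem hx.1 hy.1, fun r => by
        rw [map_add, add_sub_add_comm]; exact W.add_mem (hx.2 r) (hy.2 r)⟩
      neg_mem' := fun {x} hx => ⟨W'.neg_mem hx.1, fun r => by
        rw [map_neg, neg_sub_neg, ← neg_sub]; exact W.neg_mem (hx.2 r)⟩ }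
  let Y : AddSubgroup A :=
    { carrier := {m | m ∈ W ∧ ∀ r, act (loU r) m - m ∈ W'}
      zero_mem' := ⟨W.zero_mem, fun r => by rw [map_zero, sub_zero]; exact W'.zero_mem⟩
      add_mem' := fun {x y} hx hy => ⟨W.add_mem hx.1 hy.1, fun r => by
        rw [map_add, add_sub_add_comm]; exact W'.add_mem (hx.2 r) (hy.2 r)⟩
      neg_mem' := fun {x} hx => ⟨W.neg_mem hx.1, fun r => by
        rw [map_neg, neg_sub_neg, ← neg_sub]; exact W'.neg_mem (hx.2 r)⟩ }
  have hkey : ∀ m ∈ X, ∀ (t : F) (ht : t ≠ 0), act (upU t) m - m = act (weyl t ht) m := by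
    intro m hm t ht
    obtain ⟨x, hx⟩ : ∃ x, x = act (upU t) m - m := ⟨_, rfl⟩
    have hxW : x ∈ W := hx ▸ hm.2 t
    have hum : act (upU t) m = x + m := by rw [hx, sub_add_cancel]
    obtain ⟨y, hy⟩ : ∃ y, y = act (weyl t ht) m := ⟨_, rfl⟩
    have hyW : y ∈ W := hy ▸ hwW' t ht m hm.1
    have hvx : act (loU (-t⁻¹)) x = y - m := by
      rw [hy, weyl_eq_lo, hmul, hmul, hm.1, hum, map_add, hm.1, add_sub_cancel_right]
    have hwx : act (weyl t ht) x = (y - x) + -m := by
      rw [weyl_eq_up, hmul, hmul, hxW, hvx, map_sub, hyW, hum]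
      abel
    rw [← hx, ← hy]
    have h0 : (0 : A) + act (weyl t ht) x = (y - x) + -m := by rw [zero_add, hwx]
    exact (sub_eq_zero.1 (huniq W.zero_mem (W.sub_mem hyW hxW) (hwW t ht x hxW) (W'.neg_mem hm.1) h0).symm).symm
  have hXY : ∀ (t : F) (ht : t ≠ 0), ∀ m ∈ X, act (weyl t ht) m ∈ Y := fun t ht m hm =>
    ⟨hwW' t ht m hm.1, fun r => by
      have h := weyl_conj_up t ht (-r * t * t)
      rw [show -(-r * t * t) * t⁻¹ * t⁻¹ = r by field_simp] at h
      rw [← hmul, h, hmul, ← map_sub]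
      exact hwW t ht _ (hm.2 _)⟩
  have hYX : ∀ m ∈ Y, act (weyl 1 one_ne_zero) m ∈ X := fun m hm =>
    ⟨hwW 1 one_ne_zero m hm.1, fun r => by
      have h := weyl_conj_lo (1 : F) one_ne_zero (-r)
      rw [show -(-r) * (1 : F) * 1 = r by ring] at h
      rw [← hmul, h, hmul, ← map_sub]
      exact hwW' 1 one_ne_zero _ (hm.2 _)⟩
  have hXtop : ∀ m ∈ W', m ∈ X := by
    rcases hclosed (Y ⊔ X) (fun t x hx => by
      obtain ⟨a, ha, m, hm, rfl⟩ := AddSubgroup.mem_sup.1 hx
      rw [map_add, ha.1 t, ← add_sub_cancel m (act (upU t) m)]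
      by_cases ht : t = 0
      · subst ht; rw [upU_zero, hone, sub_self, add_zero]; exact AddSubgroup.add_mem_sup ha hm
      · rw [hkey m hm t ht, add_comm m, ← add_assoc]
        exact AddSubgroup.add_mem_sup (Y.add_mem ha (hXY t ht m hm)) hm) (fun x hx => by
      obtain ⟨a, ha, m, hm, rfl⟩ := AddSubgroup.mem_sup.1 hx
      rw [map_add, add_comm]
      exact AddSubgroup.add_mem_sup (hXY 1 one_ne_zero m hm) (hYX a ha)) with h | h
    · -- `X = 0` is impossible: a `p`-group fixes something modulo `W`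
      have hX0 : ∀ m ∈ X, m = 0 := fun m hm => AddSubgroup.mem_bot.1 (h ▸ AddSubgroup.mem_sup_right hm)
      intro m hm
      by_contra hne
      let Q := A ⧸ W
      let σ : Multiplicative F →* Equiv.Perm Q :=
        { toFun := fun t =>
            { toFun := QuotientAddGroup.map W W (act (upU (Multiplicative.toAdd t))) (fun x hx => by
                show act _ x ∈ W; rw [hx]; exact hx)
              invFun := QuotientAddGroup.map W W (act (upU (-Multiplicative.toAdd t))) (fun x hx => by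
                show act _ x ∈ W; rw [hx]; exact hx)
              left_inv := fun x => by
                induction x using QuotientAddGroup.induction_on with
                | H x =>
                  show ((act _ (act _ x) : A) : Q) = _
                  rw [← hmul, ← upU_add, neg_add_cancel, upU_zero, hone]
              right_inv := fun x => by
                induction x using QuotientAddGroup.induction_on with
                | H x =>
                  show ((act _ (act _ x) : A) : Q) = _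
                  rw [← hmul, ← upU_add, add_neg_cancel, upU_zero, hone] }
          map_one' := Equiv.ext fun x => by
            induction x using QuotientAddGroup.induction_on with
            | H x => show ((act (upU (0 : F)) x : A) : Q) = _; rw [upU_zero, hone]; rfl
          map_mul' := fun s t => Equiv.ext fun x => by
            induction x using QuotientAddGroup.induction_on with
            | H x => show ((act (upU (_ + _)) x : A) : Q) = _; rw [upU_add, hmul]; rfl }
      letI : MulAction (Multiplicative F) Q := MulAction.compHom _ σ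
      obtain ⟨n, -, hn⟩ := FiniteField.card F p
      have hP : IsPGroup p (Multiplicative F) := IsPGroup.of_card (n := n) (by
        rw [Nat.card_congr Multiplicative.toAdd, Nat.card_eq_fintype_card, hn])
      have hmQ : (m : Q) ≠ 0 := fun h0 => hne (by
        have h1 : m = 0 := hdisj m ((QuotientAddGroup.eq_zero_iff m).1 h0) hm
        exact h1 ▸ X.zero_mem)
      have hdvd : p ∣ Nat.card Q := by
        have h1 : addOrderOf (m : Q) = p := addOrderOf_eq_prime (by rw [← QuotientAddGroup.mk_nsmul, hp]; rfl) hmQ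
        exact h1 ▸ addOrderOf_dvd_natCard _
      have h0 : (0 : Q) ∈ MulAction.fixedPoints (Multiplicative F) Q := fun t => by
        show ((act (upU _) 0 : A) : Q) = 0
        rw [map_zero]; rfl
      obtain ⟨q, hq, hq0⟩ := hP.exists_fixed_point_of_prime_dvd_card_of_fixed_point Q hdvd h0
      induction q using QuotientAddGroup.induction_on with
      | H x =>
        obtain ⟨a, ha, b, hb, rfl⟩ := hdec x
        have hbX : b ∈ X := ⟨hb, fun r => by
          have h1 : ((act (upU r) (a + b) : A) : Q) = ((a + b : A) : Q) := hq (Multiplicative.ofAdd r)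
          rw [QuotientAddGroup.eq_iff_sub_mem, map_add, ha r, add_sub_add_left_eq_sub] at h1
          exact h1⟩
        refine hq0 ?_
        rw [hX0 b hbX, add_zero]
        exact ((QuotientAddGroup.eq_zero_iff a).2 ha).symm
    · intro m hm
      obtain ⟨a, ha, b, hb, hab⟩ := AddSubgroup.mem_sup.1 (h ▸ AddSubgroup.mem_top m : m ∈ Y ⊔ X)
      have : a = 0 := huniq ha.1 W.zero_mem hb.1 hm (by rw [zero_add, hab])
      rw [this, zero_add] at hab
      exact hab ▸ hb
  -- scalars
  let hd : (t : F) → t ≠ 0 → SL(2, F) := fun t ht => weyl t ht * w1⁻¹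
  let n : F → A → A := fun t x => act (upU t) (act w1⁻¹ x) - act w1⁻¹ x
  have hinvW : ∀ x ∈ W, act w1⁻¹ x ∈ W' := fun x hx => by
    have h1 : act w1 (act w1 (act w1 (act w1 (act w1⁻¹ x)))) = act w1 (act w1 (act w1 x)) := by
      rw [← hmul w1 w1⁻¹, mul_inv_cancel, hone]
    have h4 : w1 * w1 * w1 * w1 = 1 := by
      rw [hw1]; ext i j; fin_cases i <;> fin_cases j <;> simp [coe_weyl, SpecialLinearGroup.coe_mul, mul_apply, Fin.sum_univ_two]
    rw [← hmul, ← hmul, ← hmul, h4, hone] at h1
    rw [h1]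
    exact hW1 _ (hW1' _ (hW1 _ hx))
  have hnmem : ∀ t, ∀ x ∈ W, n t x ∈ W := fun t x hx => (hXtop _ (hinvW x hx)).2 t
  have hn1 : ∀ x ∈ W, n 1 x = x := fun x hx => by
    show act (upU 1) _ - _ = x
    rw [hkey _ (hXtop _ (hinvW x hx)) 1 one_ne_zero, ← hw1, ← hmul, mul_inv_cancel, hone]
  have hnw : ∀ (t : F) (ht : t ≠ 0), ∀ x ∈ W, n t x = act (hd t ht) x := fun t ht x hx => by
    show act (upU t) _ - _ = _
    rw [hkey _ (hXtop _ (hinvW x hx)) t ht, ← hmul]
  have hn0 : ∀ x, n 0 x = 0 := fun x => by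
    show act (upU 0) _ - _ = 0
    rw [upU_zero, hone, sub_self]
  have hnadd : ∀ s t, ∀ x ∈ W, n (s + t) x = n s x + n t x := fun s t x hx => by
    show act (upU (s + t)) _ - _ = _
    have h1 : act (upU t) (act w1⁻¹ x) = n t x + act w1⁻¹ x := (sub_add_cancel _ _).symm
    rw [upU_add, hmul, h1, map_add, hnmem t x hx s]
    show n t x + act (upU s) _ - _ = _
    rw [add_sub_assoc, add_comm]
  have hnlin : ∀ t x y, n t (x + y) = n t x + n t y := fun t x y => by
    show act _ (act _ (x + y)) - _ = _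
    simp only [map_add]
    exact add_sub_add_comm _ _ _ _
  have hdmul : ∀ (s t : F) (hs : s ≠ 0) (ht : t ≠ 0), hd (s * t) (mul_ne_zero hs ht) = hd s hs * hd t ht := by
    intro s t hs ht
    have h1 : w1⁻¹ = weyl (-1 : F) (neg_ne_zero.2 one_ne_zero) := by
      refine inv_eq_of_mul_eq_one_right ?_
      rw [hw1]; ext i j; fin_cases i <;> fin_cases j <;> simp [coe_weyl, SpecialLinearGroup.coe_mul, mul_apply, Fin.sum_univ_two]
    show weyl _ _ * w1⁻¹ = weyl _ _ * w1⁻¹ * (weyl _ _ * w1⁻¹)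
    rw [h1]
    ext i j; fin_cases i <;> fin_cases j <;> simp [coe_weyl, SpecialLinearGroup.coe_mul, mul_apply, Fin.sum_univ_two] <;> ring
  have hnmul : ∀ s t, ∀ x ∈ W, n (s * t) x = n s (n t x) := fun s t x hx => by
    by_cases hs : s = 0
    · subst hs; rw [zero_mul, hn0, hn0]
    by_cases ht : t = 0
    · subst ht
      rw [mul_zero, hn0]
      show 0 = act _ (act _ 0) - act _ 0
      rw [map_zero, map_zero, sub_zero]
    rw [hnw _ (mul_ne_zero hs ht) x hx, hnw s hs _ (hnmem t x hx), hnw t ht x hx, hdmul s t hs ht, hmul]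
  obtain ⟨x0, hx0, hx00⟩ : ∃ x ∈ W, x ≠ 0 := by
    by_contra hall
    push Not at hall
    obtain ⟨g, x, hgx⟩ := hnt
    obtain ⟨a, ha, b, hb, rfl⟩ := hdec x
    have hb0 : act w1 b = 0 := hall _ (hW1' b hb)
    have hb1 : b = 0 := by rw [← hone b, ← inv_mul_cancel w1, hmul, hb0, map_zero]
    rw [hall a ha, hb1, add_zero, map_zero] at hgx
    exact hgx rfl
  let f : (Fin 2 → F) → A := fun v => n (v 0) x0 + act w1⁻¹ (n (v 1) x0)
  have hfadd : ∀ v w, f (v + w) = f v + f w := fun v w => by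
    show n (v 0 + w 0) x0 + act w1⁻¹ (n (v 1 + w 1) x0) = _
    rw [hnadd _ _ x0 hx0, hnadd _ _ x0 hx0, map_add]
    exact add_add_add_comm _ _ _ _
  have hup : ∀ t v, act (upU t) (f v) = f (((upU t : SL(2, F)) : Matrix (Fin 2) (Fin 2) F) *ᵥ v) := fun t v => by
    have e0 : (((upU t : SL(2, F)) : Matrix (Fin 2) (Fin 2) F) *ᵥ v) 0 = v 0 + t * v 1 := by
      simp [coe_upU, Matrix.mulVec, dotProduct, Fin.sum_univ_two]
    have e1 : (((upU t : SL(2, F)) : Matrix (Fin 2) (Fin 2) F) *ᵥ v) 1 = v 1 := by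
      simp [coe_upU, Matrix.mulVec, dotProduct, Fin.sum_univ_two]
    show act (upU t) (n (v 0) x0 + act w1⁻¹ (n (v 1) x0)) = n _ x0 + act w1⁻¹ (n _ x0)
    rw [e0, e1, map_add, hnmem (v 0) x0 hx0 t, hnadd _ _ x0 hx0, hnmul t (v 1) x0 hx0, add_assoc]
    show _ = n (v 0) x0 + ((act (upU t) (act w1⁻¹ (n (v 1) x0)) - act w1⁻¹ (n (v 1) x0)) + _)
    rw [sub_add_cancel]
  have hwf : ∀ v, act w1 (f v) = f (((w1 : SL(2, F)) : Matrix (Fin 2) (Fin 2) F) *ᵥ v) := fun v => by
    have e0 : (((w1 : SL(2, F)) : Matrix (Fin 2) (Fin 2) F) *ᵥ v) 0 = v 1 := by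
      simp [hw1, coe_weyl, Matrix.mulVec, dotProduct, Fin.sum_univ_two]
    have e1 : (((w1 : SL(2, F)) : Matrix (Fin 2) (Fin 2) F) *ᵥ v) 1 = -1 * v 0 := by
      simp [hw1, coe_weyl, Matrix.mulVec, dotProduct, Fin.sum_univ_two]
    have hsq : hd (-1 : F) (neg_ne_zero.2 one_ne_zero) = w1 * w1 := by
      have h1 : weyl (-1 : F) (neg_ne_zero.2 one_ne_zero) = w1 * w1 * w1 := by
        rw [hw1]; ext i j; fin_cases i <;> fin_cases j <;> simp [coe_weyl, SpecialLinearGroup.coe_mul, mul_apply, Fin.sum_univ_two]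
      show weyl _ _ * w1⁻¹ = _
      rw [h1, mul_inv_cancel_right]
    show act w1 (n (v 0) x0 + act w1⁻¹ (n (v 1) x0)) = n _ x0 + act w1⁻¹ (n _ x0)
    rw [e0, e1, map_add, ← hmul w1 w1⁻¹, mul_inv_cancel, hone, hnmul _ _ x0 hx0, add_comm,
      hnw (-1) (neg_ne_zero.2 one_ne_zero) _ (hnmem _ x0 hx0), hsq, ← hmul w1⁻¹, inv_mul_cancel_left]
  have hequiv : ∀ g v, act g (f v) = f ((g : Matrix (Fin 2) (Fin 2) F) *ᵥ v) := by
    let K : Subgroup SL(2, F) :=
      { carrier := {g | ∀ v, act g (f v) = f ((g : Matrix (Fin 2) (Fin 2) F) *ᵥ v)}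
        one_mem' := fun v => by rw [hone, Matrix.SpecialLinearGroup.coe_one, one_mulVec]
        mul_mem' := fun {a b} ha hb v => by
          rw [hmul, hb, ha, Matrix.SpecialLinearGroup.coe_mul, mulVec_mulVec]
        inv_mem' := fun {a} ha v => by
          have h1 := ha (((a⁻¹ : SL(2, F)) : Matrix (Fin 2) (Fin 2) F) *ᵥ v)
          rw [mulVec_mulVec, ← Matrix.SpecialLinearGroup.coe_mul, mul_inv_cancel, Matrix.SpecialLinearGroup.coe_one, one_mulVec] at h1
          conv_lhs => rw [← h1, ← hmul, inv_mul_cancel, hone] }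
    exact fun g => mem_of_up_weyl K hup (hw1 ▸ hwf) g
  have hfinj : ∀ v, f v = 0 → v = 0 := fun v hv => by
    have h0 : ∀ t, n t x0 = 0 → t = 0 := fun t ht0 => by
      by_contra ht
      apply hx00
      rw [← hn1 x0 hx0, ← inv_mul_cancel₀ ht, hnmul _ _ x0 hx0, ht0]
      show act _ (act _ 0) - act _ 0 = 0
      rw [map_zero, map_zero, sub_zero]
    have ha : n (v 0) x0 = 0 := huniq (hnmem _ x0 hx0) W.zero_mem (hinvW _ (hnmem (v 1) x0 hx0)) W'.zero_mem
      (by rw [add_zero]; exact hv)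
    have hb : act w1⁻¹ (n (v 1) x0) = 0 := by
      have h1 : n (v 0) x0 + act w1⁻¹ (n (v 1) x0) = 0 := hv
      rwa [ha, zero_add] at h1
    have hb' : n (v 1) x0 = 0 := by
      rw [← hone (n (v 1) x0), ← mul_inv_cancel w1, hmul, hb, map_zero]
    funext i
    fin_cases i
    · exact h0 _ ha
    · exact h0 _ hb'
  let fh : (Fin 2 → F) →+ A := AddMonoidHom.mk' f hfadd
  have hsurj : Function.Surjective fh := by
    have hinv : ∀ g, ∀ y ∈ fh.range, act g y ∈ fh.range := by
      rintro g _ ⟨v, rfl⟩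
      exact ⟨_, (hequiv g v).symm⟩
    rcases hirr fh.range hinv with h | h
    · exfalso
      apply hx00
      have h1 : f ![1, 0] ∈ fh.range := ⟨![1, 0], rfl⟩
      rw [h, AddSubgroup.mem_bot] at h1
      have h2 := hfinj _ h1
      exact absurd (congrFun h2 0) (by simp)
    · exact fun y => (h ▸ AddSubgroup.mem_top y : y ∈ fh.range)
  exact ⟨AddEquiv.ofBijective fh ⟨(injective_iff_map_eq_zero fh).2 hfinj, hsurj⟩, hequiv⟩

end CfsgLib.LocalEvenB
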