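import Cfsg.Prelude.Def_BaumannBlocks
import Cfsg.Agent.Lib.LocalEvenB.Basic
import Cfsg.Agent.Lib.Transfer.ZJFull
import Cfsg.Agent.Lib.PLocal.Factorization
import Cfsg.Agent.Lib.Core.Cores
import Cfsg.Agent.Lib.Core.Coprime
import Cfsg.Agent.Lib.PGroups.Omega
import Cfsg.Agent.Lib.Signalizer.Basic
import Cfsg.Agent.Lib.LocalEvenB.ThompsonOf

/-!
# Blocks relative to the Baumann subgroup
-/

set_option autoImplicit false
set_option linter.all false

namespace CfsgLib.LocalEvenB

open Subgroup Cfsg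
open scoped commutatorElement

variable {G : Type*} [Group G] [Finite G] {p : ℕ} [hp : Fact p.Prime]

/-- A `p'`-element of `E B`, `B` a `p`-group normalising `E`, lies in `E`. -/
theorem mem_of_coprime_sup {E B : Subgroup G} (hB : IsPGroup p B) (hBE : B ≤ normalizer (E : Set G))
    {g : G} (hg : g ∈ E ⊔ B) (hgc : Nat.Coprime (orderOf g) p) : g ∈ E := by
  haveI : (E.subgroupOf (E ⊔ B)).Normal :=
    (normal_subgroupOf_iff_le_normalizer le_sup_left).2 (sup_le le_normalizer hBE)
  obtain ⟨π, hπ⟩ : ∃ π, π = QuotientGroup.mk' (E.subgroupOf (E ⊔ B)) := ⟨_, rfl⟩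
  have h1 := hg
  rw [sup_comm, CfsgLib.Core.mem_sup_iff_mul hBE] at h1
  obtain ⟨b, hb, a, ha, rfl⟩ := h1
  have h2 : π ⟨b * a, hg⟩ = π ⟨b, mem_sup_right hb⟩ := by
    rw [hπ, QuotientGroup.mk'_apply, QuotientGroup.mk'_apply, QuotientGroup.eq, mem_subgroupOf]
    simpa using ha
  obtain ⟨i, hi⟩ := IsPGroup.iff_orderOf.1 hB ⟨b, hb⟩
  rw [Subgroup.orderOf_mk] at hi
  have h3 : orderOf (π ⟨b * a, hg⟩) = 1 := by
    refine Nat.eq_one_of_dvd_coprimes (hgc.pow_right i) ?_ ?_
    · exact (orderOf_map_dvd π _).trans (by rw [Subgroup.orderOf_mk])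
    · rw [h2]; exact (orderOf_map_dvd π _).trans (by rw [Subgroup.orderOf_mk, hi])
  rw [orderOf_eq_one_iff, hπ, QuotientGroup.mk'_apply, QuotientGroup.eq_one_iff] at h3
  exact h3

/-- A `p`-group normalised by `E = O^p(E) = [E, B]` and `B`, and normalising `B`, normalises `E`. -/
theorem normalizes_of_commutator_eq {E B Q : Subgroup G}
    (hgen : Subgroup.closure {g : G | g ∈ E ∧ Nat.Coprime (orderOf g) p} = E) (hEB : ⁅E, B⁆ = E)
    (hB : IsPGroup p B) (hEQ : E ⊔ B ≤ normalizer (Q : Set G)) (hQB : Q ≤ normalizer (B : Set G)) :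
    Q ≤ normalizer (E : Set G) := by
  have hBE : B ≤ normalizer (E : Set G) := by
    have := Subgroup.normalizer_commutator_ge_right E B
    rwa [hEB] at this
  obtain ⟨X, hX⟩ : ∃ X : Subgroup G, X = ⨆ k : E, B.map (MulAut.conj (k : G)).toMonoidHom := ⟨_, rfl⟩
  have hXN : X ≤ E ⊔ B := hX ▸ iSup_le fun k => by
    rintro _ ⟨j, hj, rfl⟩
    exact mul_mem (mul_mem (mem_sup_left k.2) (mem_sup_right hj)) (inv_mem (mem_sup_left k.2))
  have hBX : B ≤ X := fun j hj =>
    hX ▸ mem_iSup_of_mem (1 : E) (mem_map_conj.2 (by simpa using hj))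
  have hEX : E ≤ X := by
    conv_lhs => rw [← hEB]
    rw [commutator_le]
    intro k hk j hj
    have h1 : k * j * k⁻¹ ∈ X := hX ▸ mem_iSup_of_mem (⟨k, hk⟩ : E) ⟨j, hj, rfl⟩
    simpa [commutatorElement_def, mul_assoc] using mul_mem h1 (inv_mem (hBX hj))
  have hQX : ∀ q ∈ Q, X.map (MulAut.conj q).toMonoidHom ≤ X := by
    intro q hq
    rw [hX, Subgroup.map_iSup]
    refine iSup_le fun k => ?_
    rw [map_conj_map_conj, show q * (k : G) = (k : G) * ((k : G)⁻¹ * q * k) by group, ← map_conj_map_conj,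
      map_conj_eq_self_iff_mem_normalizer.2 (hQB (by
        simpa using (mem_normalizer_iff.1 (hEQ (mem_sup_left (inv_mem k.2))) q).1 hq))]
    exact le_iSup (fun k : E => B.map (MulAut.conj (k : G)).toMonoidHom) k
  have hcop : ∀ g ∈ E ⊔ B, Nat.Coprime (orderOf g) p → g ∈ E := fun g hg hgc =>
    mem_of_coprime_sup hB hBE hg hgc
  intro q hq
  refine mem_normalizer_of_forall fun x hx => ?_
  have hle : Subgroup.closure {g : G | g ∈ E ∧ Nat.Coprime (orderOf g) p} ≤
      E.comap (MulAut.conj q).toMonoidHom := by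
    refine (Subgroup.closure_le _).2 ?_
    rintro g ⟨hgE, hgo⟩
    refine hcop _ (hXN (hQX q hq ⟨g, hEX hgE, rfl⟩)) ?_
    rwa [show orderOf ((MulAut.conj q).toMonoidHom g) = orderOf g from orderOf_injective _ (MulEquiv.injective _) g]
  rw [hgen] at hle
  exact hle hx

theorem closure_coprime_eq_of_pResidualOf {E : Subgroup G} (h : pResidualOf p E = E) :
    Subgroup.closure {g : G | g ∈ E ∧ Nat.Coprime (orderOf g) p} = E := by
  refine le_antisymm ((closure_le _).2 fun g hg => hg.1) ?_
  have hle : pResidual p ↥E ≤ (Subgroup.closure {g : G | g ∈ E ∧ Nat.Coprime (orderOf g) p}).subgroupOf E :=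
    CfsgLib.Transfer.pResidual_le_iff.2 fun g hg => mem_subgroupOf.2
      (subset_closure ⟨g.2, by rwa [Subgroup.orderOf_coe]⟩)
  intro x hx
  rw [← h] at hx
  obtain ⟨y, hy, rfl⟩ := hx
  exact mem_subgroupOf.1 (hle hy)

/-- Two Sylow subgroups one of which contains `J` of the other have the same `J`. -/
theorem thompson_eq_of_le {T T' : Sylow p G} (h : thompsonSubgroupOf p (T : Subgroup G) ≤ (T' : Subgroup G)) :
    thompsonSubgroupOf p (T' : Subgroup G) = thompsonSubgroupOf p (T : Subgroup G) := by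
  obtain ⟨g, hg⟩ := MulAction.exists_smul_eq G T' T
  have hmap : (T : Subgroup G) = (T' : Subgroup G).map (MulAut.conj g).toMonoidHom := by
    rw [← hg]; rfl
  symm
  refine eq_of_le_of_card_ge ?_ ?_
  · conv_lhs => rw [CfsgLib.Transfer.thompsonOf_eq_sSup]
    refine sSup_le fun A hA => CfsgLib.Transfer.le_thompsonOf_of_max
      ⟨(CfsgLib.Transfer.le_thompsonOf_of_max hA).trans h, hA.2.1, fun B hB hBel => ?_⟩
    haveI := hBel.1
    have h1 := hA.2.2 (B.map (MulAut.conj g).toMonoidHom) (hmap ▸ map_mono hB)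
      ⟨Subgroup.map_isMulCommutative _ _, by rintro _ ⟨b, hb, rfl⟩; rw [← map_pow, hBel.2 b hb, map_one]⟩
    rwa [card_map_of_injective (MulEquiv.injective _)] at h1
  · rw [hmap, ← CfsgLib.PLocal.thompsonOf_conj, card_map_of_injective (MulEquiv.injective _)]

theorem map_baumann_le (S : Subgroup G) (g : G) :
    (baumannSubgroupOf p S).map (MulAut.conj g).toMonoidHom ≤
      baumannSubgroupOf p (S.map (MulAut.conj g).toMonoidHom) := by
  rintro _ ⟨x, ⟨hx, hxc⟩, rfl⟩
  refine ⟨mem_map_of_mem _ hx, ?_⟩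
  have hle : omegaOne p (centerThompsonOf p (S.map (MulAut.conj g).toMonoidHom)) ≤
      centralizer ({(MulAut.conj g).toMonoidHom x} : Set G) := by
    rw [omegaOne, closure_le]
    rintro z ⟨⟨hz, hzc⟩, hz2⟩
    rw [← CfsgLib.PLocal.thompsonOf_conj] at hz hzc
    obtain ⟨z', hz', rfl⟩ := hz
    refine mem_centralizer_singleton_iff.2 ?_
    have hz'm : z' ∈ omegaOne p (centerThompsonOf p S) := by
      refine CfsgLib.PGroups.mem_omegaOne ⟨hz', mem_centralizer_iff.2 fun y hy => ?_⟩ ?_
      · exact (MulAut.conj g).injective (by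
          simpa using mem_centralizer_iff.1 hzc _ (mem_map_of_mem (MulAut.conj g).toMonoidHom hy))
      · exact (MulAut.conj g).injective (by simpa using hz2)
    exact ((show Commute z' x from mem_centralizer_iff.1 hxc z' hz'm).map (MulAut.conj g).toMonoidHom).eq
  exact mem_centralizer_iff.2 fun z hz => mem_centralizer_singleton_iff.1 (hle hz)

theorem centralizes_thompson_omega (S : Subgroup G) :
    thompsonSubgroupOf p S ≤ baumannSubgroupOf p S := by
  refine le_inf (thompsonSubgroupOf_le S) ?_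
  rw [le_centralizer_iff]
  exact (CfsgLib.PGroups.omegaOne_le _).trans inf_le_right

/-- The Baumann subgroup is the same in all Sylow subgroups containing it. -/
theorem baumann_eq_of_le {T T' : Sylow p G} (h : thompsonSubgroupOf p (T : Subgroup G) ≤ (T' : Subgroup G))
    (hB : baumannSubgroupOf p (T : Subgroup G) ≤ (T' : Subgroup G)) :
    baumannSubgroupOf p (T' : Subgroup G) = baumannSubgroupOf p (T : Subgroup G) := by
  have hJ := thompson_eq_of_le h
  symm
  refine eq_of_le_of_card_ge ?_ ?_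
  · refine le_inf hB ?_
    rw [centerThompsonOf, hJ]
    exact inf_le_right
  · obtain ⟨g, hg⟩ := MulAction.exists_smul_eq G T' T
    have hmap : (T : Subgroup G) = (T' : Subgroup G).map (MulAut.conj g).toMonoidHom := by
      rw [← hg]; rfl
    have := card_dvd_of_le (map_baumann_le (p := p) (T' : Subgroup G) g)
    rw [← hmap, card_map_of_injective (MulEquiv.injective _)] at this
    exact Nat.le_of_dvd Nat.card_pos this

theorem normalizer_le_normalizer_baumann (T : Subgroup G) :
    normalizer (T : Set G) ≤ normalizer (baumannSubgroupOf p T : Set G) := by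
  intro g hg
  refine mem_normalizer_of_forall fun x hx => ?_
  have h1 := map_baumann_le (p := p) T g (mem_map_of_mem _ hx)
  rw [map_conj_eq_self_iff_mem_normalizer.2 hg] at h1
  exact h1

/-- `p`-groups normalised by a block and the Baumann subgroup normalise the block. -/
theorem block_normalized (T : Sylow p G) {E Q : Subgroup G} (hE : IsBaumannBlock p (T : Subgroup G) E)
    (hQ : IsPGroup p Q) (hBQ : baumannSubgroupOf p (T : Subgroup G) ≤ normalizer (Q : Set G))
    (hEQ : E ≤ normalizer (Q : Set G)) : Q ≤ normalizer (E : Set G) := by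
  have hB : IsPGroup p (baumannSubgroupOf p (T : Subgroup G)) := T.2.to_le inf_le_left
  obtain ⟨T', hT'⟩ := (hB.to_sup_of_normal_right' hQ hBQ).exists_le_sylow
  have hBT' : baumannSubgroupOf p (T : Subgroup G) ≤ (T' : Subgroup G) := le_sup_left.trans hT'
  refine normalizes_of_commutator_eq (closure_coprime_eq_of_pResidualOf hE.1) hE.2.1 hB (sup_le hEQ hBQ) ?_
  rw [← baumann_eq_of_le ((centralizes_thompson_omega _).trans hBT') hBT']
  exact (le_sup_right.trans hT').trans (le_normalizer.trans (normalizer_le_normalizer_baumann _))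

end CfsgLib.LocalEvenB
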