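import Cfsg.Agent.S2790
import Cfsg.Agent.Lib.LocalEven.PMinimalCore
import Cfsg.Agent.Lib.LocalEvenB.BaumannBlock
import Cfsg.Agent.Lib.Components.FStar
import Cfsg.Agent.Lib.Core.Coprime
import Cfsg.Agent.Lib.PLocal.Misc
import Cfsg.Agent.Lib.PGroups.Basic

/-!
# Isolated p-minimal subgroups
-/

set_option autoImplicit false
set_option linter.all false

namespace CfsgLib.LocalEvenB.IsoMin

open Subgroup Cfsg
open scoped commutatorElement Pointwise

variable {G : Type*} [Group G] [Finite G] {p : ℕ} [hp : Fact p.Prime]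

/-- The `p`-residual of a subgroup. -/
def res (p : ℕ) {G : Type*} [Group G] (P : Subgroup G) : Subgroup G :=
  (Cfsg.pResidual p ↥P).map P.subtype

/-- An isolated `p`-minimal subgroup. -/
structure Iso (S : Sylow p G) (P L : Subgroup G) : Prop where
  hSP : (S : Subgroup G) ≤ P
  hmin : Cfsg.IsPMinimal p ↥P
  hN : normalizer ((S : Subgroup G) : Set G) ≤ L
  hrest : ∀ P' : Subgroup G, (S : Subgroup G) ≤ P' → Cfsg.IsPMinimal p ↥P' → P' ≠ P → P' ≤ L
  hiso : ¬ (Cfsg.pCore p ↥L).map L.subtype ≤ (Cfsg.pCore p ↥P).map P.subtype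

theorem iso_of_eq (S : Sylow p G) {P L : Subgroup G} (hSP : (S : Subgroup G) ≤ P)
    (hPmin : Cfsg.IsPMinimal p ↥P)
    (hL : L = normalizer ((S : Subgroup G) : Set G) ⊔
      ⨆ P' : {P' : Subgroup G // (S : Subgroup G) ≤ P' ∧ Cfsg.IsPMinimal p ↥P' ∧ P' ≠ P}, (P' : Subgroup G))
    (hiso : ¬ (Cfsg.pCore p ↥L).map L.subtype ≤ (Cfsg.pCore p ↥P).map P.subtype) : Iso S P L :=
  ⟨hSP, hPmin, hL ▸ le_sup_left, fun P' h1 h2 h3 => hL ▸
    (le_iSup (fun Q : {P' : Subgroup G // (S : Subgroup G) ≤ P' ∧ Cfsg.IsPMinimal p ↥P' ∧ P' ≠ P} =>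
      (Q : Subgroup G)) ⟨P', h1, h2, h3⟩).trans le_sup_right, hiso⟩

/-- Overgroups of a Sylow subgroup are generated by its normalizer and `p`-minimal subgroups. -/
theorem gen (S : Sylow p G) {X H : Subgroup G} (hSH : (S : Subgroup G) ≤ H)
    (hN : ∀ g ∈ H, g ∈ normalizer ((S : Subgroup G) : Set G) → g ∈ X)
    (hX : ∀ P' : Subgroup G, (S : Subgroup G) ≤ P' → P' ≤ H → Cfsg.IsPMinimal p ↥P' → P' ≤ X) : H ≤ X := by
  intro g hg
  obtain ⟨h1, h2⟩ := Cfsg.Agent.S2790.result (S.subtype hSH)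
  obtain ⟨x, hx, y, hy, hxy⟩ := h2 ⟨g, hg⟩
  have hy' : (y : G) ∈ normalizer ((S : Subgroup G) : Set G) := by
    refine CfsgLib.LocalEvenB.mem_normalizer_of_forall fun s hs => ?_
    exact mem_subgroupOf.1 ((mem_normalizer_iff.1 hy ⟨s, hSH hs⟩).1 (mem_subgroupOf.2 hs))
  rw [← h1] at hx
  have hle : ((S.subtype hSH : Sylow p ↥H) : Subgroup ↥H) ⊔
      (⨆ P : {P : Subgroup ↥H // ((S.subtype hSH : Sylow p ↥H) : Subgroup ↥H) ≤ P ∧ Cfsg.IsPMinimal p ↥P},
        (P : Subgroup ↥H)) ≤ X.subgroupOf H := by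
    refine sup_le (fun s hs => ?_) (iSup_le fun P => ?_)
    · exact mem_subgroupOf.2 (hN _ s.2 (le_normalizer (mem_subgroupOf.1 hs)))
    · intro s hs
      refine mem_subgroupOf.2 (hX ((P : Subgroup ↥H).map H.subtype) ?_ (map_subtype_le _) ?_ ⟨s, hs, rfl⟩)
      · intro u hu
        exact ⟨⟨u, hSH hu⟩, P.2.1 (mem_subgroupOf.2 hu), rfl⟩
      · exact CfsgLib.LocalEven.isPMinimal_of_mulEquiv
          (equivMapOfInjective (P : Subgroup ↥H) H.subtype H.subtype_injective) P.2.2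
  have := mul_mem (mem_subgroupOf.1 (hle hx)) (hN _ y.2 hy')
  rwa [show g = (x : G) * (y : G) from congrArg Subtype.val hxy]

omit [Finite G] hp in
theorem res_le (P : Subgroup G) : res p P ≤ P := map_subtype_le _

omit [Finite G] hp in
theorem res_closure (P : Subgroup G) : res p P = Subgroup.closure {g | g ∈ P ∧ Nat.Coprime (orderOf g) p} := by
  rw [res, Cfsg.pResidual, MonoidHom.map_closure]
  congr 1
  ext g
  constructor
  · rintro ⟨u, hu, rfl⟩
    exact ⟨u.2, by rw [Set.mem_setOf_eq, ← Subgroup.orderOf_coe] at hu; exact hu⟩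
  · rintro ⟨hg, ho⟩
    exact ⟨⟨g, hg⟩, by rw [Set.mem_setOf_eq, Subgroup.orderOf_mk]; exact ho, rfl⟩

theorem le_res_of_coprime_sup {N A P : Subgroup G} (hA : IsPGroup p A) (hn : A ≤ normalizer (N : Set G))
    (hP : P ≤ N ⊔ A) : res p P ≤ N := by
  rw [res_closure, Subgroup.closure_le]
  rintro g ⟨hg, ho⟩
  exact CfsgLib.LocalEvenB.mem_of_coprime_sup hA hn (hP hg) ho

namespace Iso

variable {S : Sylow p G} {P L : Subgroup G} (I : Iso S P L)
include I

theorem S_le : (S : Subgroup G) ≤ L := le_normalizer.trans I.hN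

theorem res_sup : res p P ⊔ (S : Subgroup G) = P := by
  have h := congrArg (Subgroup.map P.subtype) (CfsgLib.Transfer.pResidual_sup_sylow (S.subtype I.hSP))
  rw [Subgroup.map_sup, ← MonoidHom.range_eq_map, P.range_subtype] at h
  conv_rhs => rw [← h]
  congr 1
  exact (Subgroup.map_subgroupOf_eq_of_le I.hSP).symm

theorem le_or_not (H : Subgroup G) (hSH : (S : Subgroup G) ≤ H) : P ≤ H ∨ H ≤ L := by
  by_cases h : P ≤ H
  · exact Or.inl h
  · exact Or.inr (gen S hSH (fun g _ hg => I.hN hg) fun P' h1 h2 h3 => I.hrest P' h1 h3 fun e => h (e ▸ h2))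

theorem normal_or_le (N : Subgroup G) [N.Normal] : res p P ≤ N ∨ N ≤ L := by
  rcases I.le_or_not (N ⊔ (S : Subgroup G)) le_sup_right with h | h
  · exact Or.inl (le_res_of_coprime_sup S.isPGroup' (by rw [normalizer_eq_top]; exact le_top) h)
  · exact Or.inr (le_sup_left.trans h)

theorem core_le_S : Cfsg.pCore p G ≤ (S : Subgroup G) := CfsgLib.Core.pCore_le_sylow S

theorem Q_le_S : (Cfsg.pCore p ↥L).map L.subtype ≤ (S : Subgroup G) := by
  intro q hq
  obtain ⟨u, hu, rfl⟩ := hq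
  exact mem_subgroupOf.1 (CfsgLib.Core.pCore_le_sylow (S.subtype I.S_le) hu)

theorem core_le_Q : Cfsg.pCore p G ≤ (Cfsg.pCore p ↥L).map L.subtype := fun o ho =>
  ⟨⟨o, I.S_le (I.core_le_S ho)⟩, CfsgLib.Core.pCore_subgroupOf_le L (mem_subgroupOf.2 ho), rfl⟩

theorem L_normalizes_Q : L ≤ normalizer (((Cfsg.pCore p ↥L).map L.subtype : Subgroup G) : Set G) := by
  haveI := CfsgLib.Core.normal_pCore p ↥L
  intro l hl
  refine CfsgLib.LocalEvenB.mem_normalizer_of_forall ?_
  rintro _ ⟨u, hu, rfl⟩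
  exact ⟨⟨l, hl⟩ * u * ⟨l, hl⟩⁻¹, (CfsgLib.Core.normal_pCore p ↥L).conj_mem u hu _, rfl⟩

theorem res_not_normalizes : ¬ res p P ≤ normalizer (((Cfsg.pCore p ↥L).map L.subtype : Subgroup G) : Set G) := by
  intro h
  apply I.hiso
  have hP : P ≤ normalizer (((Cfsg.pCore p ↥L).map L.subtype : Subgroup G) : Set G) :=
    I.res_sup.ge.trans (sup_le h (I.S_le.trans I.L_normalizes_Q))
  exact CfsgLib.LocalEvenB.le_pCoreOf (I.Q_le_S.trans I.hSP) ((CfsgLib.Core.isPGroup_pCore p ↥L).map _) hP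

theorem res_not_le : ¬ res p P ≤ L := fun h => I.res_not_normalizes (h.trans I.L_normalizes_Q)

theorem P_not_le : ¬ P ≤ L := fun h => I.res_not_le ((res_le P).trans h)

theorem res_le_of_normal (X : Subgroup G) [X.Normal]
    (hX : (Cfsg.pCore p ↥L).map L.subtype ≤ X) : res p P ≤ X := by
  obtain ⟨-, M, ⟨hM, hSM⟩, -⟩ := I.hmin (S.subtype I.hSP)
  rcases CfsgLib.LocalEven.PMinimalCore.pResidual_le_or_le_normalCore I.hmin (S.subtype I.hSP) hM hSM (X.subgroupOf P)
    with h | h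
  · rintro _ ⟨u, hu, rfl⟩
    exact mem_subgroupOf.1 (h hu)
  · exfalso
    apply I.hiso
    intro q hq
    have hqP : q ∈ P := I.hSP (I.Q_le_S hq)
    exact ⟨⟨q, hqP⟩, CfsgLib.LocalEven.PMinimalCore.normalCore_inf_sylow_le_pCore I.hmin (S.subtype I.hSP) hM hSM
      (mem_inf.2 ⟨h (mem_subgroupOf.2 (hX hq)), mem_subgroupOf.2 (I.Q_le_S hq)⟩), rfl⟩

/-- A normal subgroup not over the residual commutes with its normal closure modulo the core. -/
theorem commutes (N : Subgroup G) [N.Normal] (h : ¬ res p P ≤ N) :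
    ∀ y ∈ normalClosure (res p P : Set G), ∀ n ∈ N,
      QuotientGroup.mk' (Cfsg.pCore p G) y * QuotientGroup.mk' (Cfsg.pCore p G) n =
        QuotientGroup.mk' (Cfsg.pCore p G) n * QuotientGroup.mk' (Cfsg.pCore p G) y := by
  haveI := CfsgLib.Core.normal_pCore p G
  have hNL := (I.normal_or_le N).resolve_left h
  set π := QuotientGroup.mk' (Cfsg.pCore p G) with hπ
  haveI : (N.map π).Normal := Subgroup.Normal.map inferInstance π (QuotientGroup.mk'_surjective _)
  set X := (centralizer ((N.map π : Subgroup (G ⧸ Cfsg.pCore p G)) : Set (G ⧸ Cfsg.pCore p G))).comap π with hX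
  haveI : X.Normal := inferInstance
  have hQX : (Cfsg.pCore p ↥L).map L.subtype ≤ X := by
    intro q hq
    refine mem_comap.2 (mem_centralizer_iff.2 ?_)
    rintro _ ⟨n, hn, rfl⟩
    have hm : q * n * q⁻¹ * n⁻¹ ∈ N ⊓ (Cfsg.pCore p ↥L).map L.subtype := by
      refine mem_inf.2 ⟨mul_mem ((inferInstance : N.Normal).conj_mem n hn q) (inv_mem hn), ?_⟩
      rw [show q * n * q⁻¹ * n⁻¹ = q * (n * q⁻¹ * n⁻¹) by group]
      exact mul_mem hq ((mem_normalizer_iff.1 (I.L_normalizes_Q (hNL hn)) _).1 (inv_mem hq))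
    have hO : q * n * q⁻¹ * n⁻¹ ∈ Cfsg.pCore p G := by
      have hle : N ⊓ (Cfsg.pCore p ↥L).map L.subtype ≤ (Cfsg.pCore p ↥N).map N.subtype :=
        CfsgLib.LocalEvenB.le_pCoreOf inf_le_left
          (((CfsgLib.Core.isPGroup_pCore p ↥L).map _).to_le inf_le_right)
          ((le_inf le_normalizer (hNL.trans I.L_normalizes_Q)).trans inf_normalizer_le_normalizer_inf)
      exact CfsgLib.Core.map_subtype_pCore_le N (hle hm)
    have h1 : π (q * n * q⁻¹ * n⁻¹) = 1 := (QuotientGroup.eq_one_iff _).2 hO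
    rw [map_mul, map_mul, map_mul, map_inv, map_inv, mul_inv_eq_one, mul_inv_eq_iff_eq_mul] at h1
    exact h1.symm
  have hY := normalClosure_le_normal (N := X) (I.res_le_of_normal X hQX)
  intro y hy n hn
  exact (mem_centralizer_iff.1 (mem_comap.1 (hY hy)) _ ⟨n, hn, rfl⟩).symm

theorem res_le_fitting [(Cfsg.pCore p G).Normal] : res p P ≤
    (Cfsg.generalizedFittingSubgroup (G ⧸ Cfsg.pCore p G)).comap (QuotientGroup.mk' (Cfsg.pCore p G)) := by
  haveI := CfsgLib.Components.gFitting_normal (G := G ⧸ Cfsg.pCore p G)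
  by_contra h
  apply h
  intro r hr
  refine mem_comap.2 (CfsgLib.Components.centralizer_gFitting_le (mem_centralizer_iff.2 fun f hf => ?_))
  obtain ⟨n, rfl⟩ := QuotientGroup.mk'_surjective _ f
  exact (I.commutes _ h r (subset_normalClosure hr) n (mem_comap.2 hf)).symm

theorem sup_eq_top {Y : Subgroup G} (hY : res p P ≤ Y) : Y ⊔ L = ⊤ := by
  refine top_unique (gen S le_top (fun g _ hg => mem_sup_right (I.hN hg)) fun P' h1 _ h3 => ?_)
  by_cases hP : P' = P
  · rw [hP, ← I.res_sup]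
    exact sup_le (hY.trans le_sup_left) (I.S_le.trans le_sup_right)
  · exact (I.hrest P' h1 h3 hP).trans le_sup_right

end Iso

/-- A complement in an elementary abelian group. -/
theorem exists_compl_elementary {V U : Subgroup G} {t : ℕ} (ht : t.Prime) (hV : IsMulCommutative V)
    (hexp : ∀ v ∈ V, v ^ t = 1) (hUV : U ≤ V) : ∃ W : Subgroup G, W ≤ V ∧ U ⊓ W = ⊥ ∧ U ⊔ W = V := by
  obtain ⟨W, ⟨hWV, hUW⟩, hmax⟩ := Set.Finite.exists_maximal
    (Set.toFinite {W : Subgroup G | W ≤ V ∧ U ⊓ W = ⊥}) ⟨⊥, bot_le, inf_bot_eq U⟩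
  refine ⟨W, hWV, hUW, le_antisymm (sup_le hUV hWV) fun v hv => ?_⟩
  by_contra hvn
  have hle : W ⊔ zpowers v ≤ V := sup_le hWV (zpowers_le.2 hv)
  have hb : U ⊓ (W ⊔ zpowers v) = ⊥ := by
    refine (eq_bot_iff_forall _).2 fun u hu => ?_
    obtain ⟨huU, huW⟩ := mem_inf.1 hu
    have hn : zpowers v ≤ normalizer (W : Set G) := by
      rw [zpowers_le]
      refine CfsgLib.LocalEvenB.mem_normalizer_of_forall fun w hw => ?_
      rw [CfsgLib.PLocal.comm_of_mem hV hv (hWV hw), mul_inv_cancel_right]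
      exact hw
    rw [← SetLike.mem_coe, coe_mul_of_right_le_normalizer_left W (zpowers v) hn] at huW
    obtain ⟨w, hw, z, hz, rfl⟩ := huW
    obtain ⟨k, rfl⟩ := mem_zpowers_iff.1 hz
    by_cases hk : (t : ℤ) ∣ k
    · obtain ⟨j, rfl⟩ := hk
      have h1 : w * v ^ ((t : ℤ) * j) = w := by
        rw [zpow_mul, zpow_natCast, hexp v hv, one_zpow, mul_one]
      simp only [h1] at huU ⊢
      exact mem_bot.1 (hUW ▸ mem_inf.2 ⟨huU, hw⟩)
    · exfalso
      apply hvn
      obtain ⟨a, b, hab⟩ := (Nat.prime_iff_prime_int.mp ht).coprime_iff_not_dvd.mpr hk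
      have hk' : v ^ k ∈ U ⊔ W := by
        have := mul_mem (mem_sup_right (inv_mem hw) : w⁻¹ ∈ U ⊔ W) (mem_sup_left huU)
        simpa using this
      have e : v = (v ^ t) ^ a * (v ^ k) ^ b := by
        rw [← zpow_natCast, ← zpow_mul, ← zpow_mul, ← zpow_add, mul_comm (t : ℤ), mul_comm k, hab, zpow_one]
      rw [e, hexp v hv, one_zpow, one_mul]
      exact Subgroup.zpow_mem _ hk' b
  exact hvn (mem_sup_right (hmax ⟨hle, hb⟩ le_sup_left (mem_sup_right (mem_zpowers v))))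

namespace Iso

variable {S : Sylow p G} {P L : Subgroup G} (I : Iso S P L)
include I

/-- The solvable case. -/
theorem solvable_case {Y : Subgroup G} (hY : Y = normalClosure (res p P : Set G)) (hs : Group.IsSolvable ↥Y) :
    res p P = Y ∧ ∃ _ : (Cfsg.pCore p ↥Y).Normal, ∃ t : ℕ, t.Prime ∧ t ≠ p ∧
      IsPGroup t (↥Y ⧸ Cfsg.pCore p ↥Y) ∧
        ∃ _ : Group.IsNilpotent (↥Y ⧸ Cfsg.pCore p ↥Y), Group.nilpotencyClass (↥Y ⧸ Cfsg.pCore p ↥Y) ≤ 2 := by
  haveI := CfsgLib.Core.normal_pCore p G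
  haveI := CfsgLib.Core.normal_pCore p ↥Y
  haveI hYn : Y.Normal := hY ▸ normalClosure_normal
  have hRY : res p P ≤ Y := hY ▸ le_normalClosure
  set π := QuotientGroup.mk' (Cfsg.pCore p G) with hπ
  have hπs : Function.Surjective π := QuotientGroup.mk'_surjective _
  set Q := (Cfsg.pCore p ↥L).map L.subtype with hQdef
  have hQp : IsPGroup p Q := (CfsgLib.Core.isPGroup_pCore p ↥L).map _
  have hYres : ∀ N : Subgroup G, N.Normal → res p P ≤ N → Y ≤ N := fun N hN h =>
    hY ▸ normalClosure_le_normal h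
  -- the derived subgroup is central
  have hYne : Y ≠ ⊥ := fun h => I.res_not_le (((hRY.trans h.le).trans bot_le))
  haveI : ⁅Y, Y⁆.Normal := inferInstance
  have hD : ¬ res p P ≤ ⁅Y, Y⁆ := by
    intro h
    have h1 : ⁅Y, Y⁆ = Y := le_antisymm (commutator_le_self Y) (hYres _ inferInstance h)
    haveI := hs
    haveI : Nontrivial ↥Y := (Subgroup.nontrivial_iff_ne_bot Y).2 hYne
    have h2 := IsSolvable.commutator_lt_top_of_nontrivial ↥Y
    refine h2.ne ?_
    apply Subgroup.map_injective Y.subtype_injective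
    rw [_root_.commutator_def, map_commutator, ← MonoidHom.range_eq_map, Y.range_subtype, h1]
  set W := ↥Y ⧸ Cfsg.pCore p ↥Y with hW
  set ρ := QuotientGroup.mk' (Cfsg.pCore p ↥Y) with hρ
  have hker : ∀ a b : ↥Y, π (a : G) = π (b : G) → ρ a = ρ b := by
    intro a b h
    rw [hρ, QuotientGroup.mk'_apply, QuotientGroup.mk'_apply, QuotientGroup.eq]
    refine CfsgLib.Core.pCore_subgroupOf_le Y (mem_subgroupOf.2 ?_)
    rw [hπ, QuotientGroup.mk'_apply, QuotientGroup.mk'_apply, QuotientGroup.eq] at h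
    exact h
  have hl2 : (⊤ : Subgroup W).lowerCentralSeries 2 = ⊥ := by
    refine Subgroup.lowerCentralSeries_succ_eq_bot ⊤ ?_
    rw [Subgroup.top_lowerCentralSeries_one, _root_.commutator_def, commutator_le]
    intro u _ v _
    obtain ⟨a, rfl⟩ := QuotientGroup.mk'_surjective _ u
    obtain ⟨b, rfl⟩ := QuotientGroup.mk'_surjective _ v
    rw [← map_commutatorElement, mem_center_iff]
    intro w
    obtain ⟨c, rfl⟩ := QuotientGroup.mk'_surjective _ w
    rw [← map_mul, ← map_mul]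
    refine hker _ _ ?_
    simp only [Subgroup.coe_mul, map_mul]
    have hc : ((c : ↥Y) : G) ∈ normalClosure (res p P : Set G) := hY ▸ c.2
    exact I.commutes ⁅Y, Y⁆ hD _ hc _ (by
      have := commutator_mem_commutator a.2 b.2
      simpa [commutatorElement_def] using this)
  haveI hnil : Group.IsNilpotent W := Subgroup.nilpotent_iff_lowerCentralSeries.2 ⟨2, hl2⟩
  have hclass : Group.nilpotencyClass W ≤ 2 := Subgroup.lowerCentralSeries_eq_bot_iff_nilpotencyClass_le.1 hl2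
  -- only one prime
  have hWO : Cfsg.pCore p W = ⊥ := CfsgLib.Core.pCore_quotient_pCore p ↥Y
  have hnormal : ∀ r : ℕ, ∃ N : Subgroup G, N.Normal ∧ N ≤ Y ∧ N.subgroupOf Y = (Cfsg.pCore r W).comap ρ := by
    intro r
    refine ⟨((Cfsg.pCore r W).comap ρ).map Y.subtype, ⟨?_⟩, map_subtype_le _, ?_⟩
    · rintro _ ⟨u, hu, rfl⟩ g
      let φ : ↥Y ≃* ↥Y :=
        (Y.equivMapOfInjective _ (MulAut.conj g).injective).trans (MulEquiv.subgroupCongr
          (CfsgLib.LocalEvenB.map_conj_eq_self_iff_mem_normalizer.2 (by rw [normalizer_eq_top]; exact mem_top g)))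
      have hφ : (Cfsg.pCore p ↥Y).map φ.toMonoidHom = Cfsg.pCore p ↥Y := CfsgLib.Core.map_equiv_pCore φ
      let φ' : W ≃* W := QuotientGroup.congr (Cfsg.pCore p ↥Y) (Cfsg.pCore p ↥Y) φ hφ
      have h1 : ρ (φ u) = φ' (ρ u) := rfl
      refine ⟨φ u, ?_, rfl⟩
      show ρ (φ u) ∈ Cfsg.pCore r W
      rw [h1, ← CfsgLib.Core.map_equiv_pCore φ']
      exact ⟨ρ u, hu, rfl⟩
    · rw [subgroupOf, comap_map_eq_self_of_injective Y.subtype_injective]
  obtain ⟨t, ht, htop⟩ : ∃ t : ℕ, t.Prime ∧ Cfsg.pCore t W = ⊤ := by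
    by_contra hno
    push Not at hno
    apply I.res_not_le
    refine hRY.trans ?_
    have hall : Cfsg.fittingSubgroup W ≤ (L.subgroupOf Y).map ρ := by
      rw [CfsgLib.Core.fittingSubgroup_eq_iSup_pCore]
      refine iSup_le fun r => ?_
      obtain ⟨N, hNn, hNY, hN⟩ := hnormal r
      have hNR : ¬ res p P ≤ N := by
        intro h
        apply hno r r.2
        refine top_unique fun w _ => ?_
        obtain ⟨u, rfl⟩ := QuotientGroup.mk'_surjective _ w
        have : u ∈ N.subgroupOf Y := mem_subgroupOf.2 (hYres N hNn h u.2)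
        rw [hN] at this
        exact this
      have hNL := (I.normal_or_le N).resolve_left hNR
      rw [← Subgroup.map_comap_eq_self_of_surjective (QuotientGroup.mk'_surjective _) (Cfsg.pCore (r : ℕ) W), ← hN]
      exact map_mono (fun u hu => mem_subgroupOf.2 (hNL (mem_subgroupOf.1 hu)))
    rw [CfsgLib.Core.fittingSubgroup_eq_top] at hall
    intro y hy
    obtain ⟨u, hu, he⟩ := hall (mem_top (ρ ⟨y, hy⟩))
    rw [hρ, QuotientGroup.mk'_apply, QuotientGroup.mk'_apply, QuotientGroup.eq] at he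
    have h1 : ((u⁻¹ * ⟨y, hy⟩ : ↥Y) : G) ∈ Cfsg.pCore p G := CfsgLib.Core.map_subtype_pCore_le Y ⟨_, he, rfl⟩
    have := mul_mem (mem_subgroupOf.1 hu) (I.S_le (I.core_le_S h1))
    simpa using this
  have htp : t ≠ p := by
    rintro rfl
    rw [htop] at hWO
    apply I.res_not_le
    refine hRY.trans fun y hy => I.S_le (I.core_le_S (CfsgLib.Core.map_subtype_pCore_le Y ⟨⟨y, hy⟩, ?_, rfl⟩))
    have : ρ ⟨y, hy⟩ ∈ (⊥ : Subgroup W) := hWO ▸ mem_top _
    exact (QuotientGroup.eq_one_iff _).1 (mem_bot.1 this)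
  have hWt : IsPGroup t W := by
    intro w
    obtain ⟨k, hk⟩ := CfsgLib.Core.isPGroup_pCore t W ⟨w, htop ▸ mem_top w⟩
    exact ⟨k, congrArg Subtype.val hk⟩
  refine ⟨?_, inferInstance, t, ht, htp, hWt, hnil, hclass⟩
  -- the group downstairs
  haveI := Fact.mk ht
  set Yb := Y.map π with hYb
  haveI : Yb.Normal := Subgroup.Normal.map hYn π hπs
  have hYt : IsPGroup t Yb := by
    rintro ⟨_, y, hy, rfl⟩
    obtain ⟨k, hk⟩ := hWt (ρ ⟨y, hy⟩)
    refine ⟨k, Subtype.ext ?_⟩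
    rw [← map_pow, hρ, QuotientGroup.mk'_apply, QuotientGroup.eq_one_iff] at hk
    show π y ^ t ^ k = 1
    rw [← map_pow, hπ, QuotientGroup.mk'_apply, QuotientGroup.eq_one_iff]
    exact CfsgLib.Core.map_subtype_pCore_le Y ⟨_, hk, rfl⟩
  have hQY : Q.map π ≤ normalizer (Yb : Set (G ⧸ Cfsg.pCore p G)) := by rw [normalizer_eq_top]; exact le_top
  have hcop : ∀ {G' : Type _} [Group G'] [Finite G'] {A B : Subgroup G'}, IsPGroup p A → IsPGroup t B →
      (Nat.card A).Coprime (Nat.card B) := by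
    intro G' _ _ A B hA hB
    exact IsPGroup.coprime_card_of_ne p t htp.symm A B hA hB
  set Φ := (frattini ↥Yb).map Yb.subtype with hΦ
  haveI hΦn : Φ.Normal := inferInstance
  set K := Φ.comap π ⊓ Y ⊔ Cfsg.pCore p G with hK
  haveI : K.Normal := inferInstance
  have hKπ : K.map π = Φ := by
    rw [hK, Subgroup.map_sup, (Subgroup.map_eq_bot_iff (Cfsg.pCore p G)).2 (by rw [hπ, QuotientGroup.ker_mk']), sup_bot_eq]
    refine le_antisymm ((map_mono inf_le_left).trans (map_comap_le _ _)) ?_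
    intro u hu
    obtain ⟨y, hy, rfl⟩ := map_subtype_le _ hu
    exact mem_map_of_mem π (mem_inf.2 ⟨hu, hy⟩)
  have hresO : ∀ y ∈ res p P, π y ∈ (⊥ : Subgroup (G ⧸ Cfsg.pCore p G)) → y ∈ L := fun y hy h =>
    I.S_le (I.core_le_S ((QuotientGroup.eq_one_iff _).1 (mem_bot.1 h)))
  have hΦlt : ¬ res p P ≤ K := by
    intro h
    have h1 : Yb ≤ Φ := hKπ ▸ map_mono (hYres K inferInstance h)
    have h2 : frattini ↥Yb = ⊤ := top_unique fun u _ => by
      obtain ⟨v, hv, he⟩ := h1 u.2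
      rwa [Subtype.ext he] at hv
    have h3 : (⊥ : Subgroup ↥Yb) = ⊤ := frattini_nongenerating (by rw [bot_sup_eq, h2])
    exact I.res_not_le fun y hy => hresO y hy (by
      have hu : (⟨π y, mem_map_of_mem π (hRY hy)⟩ : ↥Yb) ∈ (⊥ : Subgroup ↥Yb) := h3 ▸ mem_top _
      exact mem_bot.2 (congrArg Subtype.val (mem_bot.1 hu)))
  have hKL : K ≤ L := (I.normal_or_le K).resolve_left hΦlt
  -- the Frattini quotient
  set σ := QuotientGroup.mk' K with hσ
  have hσs : Function.Surjective σ := QuotientGroup.mk'_surjective _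
  have hOK : Cfsg.pCore p G ≤ K := le_sup_right
  set V := Y.map σ with hV
  set Q₂ := Q.map σ with hQ₂
  haveI hVn : V.Normal := Subgroup.Normal.map hYn σ hσs
  have hmemK : ∀ y ∈ Y, π y ∈ Φ → y ∈ K := fun y hy h => mem_sup_left (mem_inf.2 ⟨h, hy⟩)
  have hfr : ∀ a (ha : a ∈ Yb), (⟨a, ha⟩ : ↥Yb) ∈ frattini ↥Yb → a ∈ Φ := fun a ha h => ⟨_, h, rfl⟩
  have hVc : IsMulCommutative V := by
    refine le_centralizer_iff_isMulCommutative.1 ?_
    rintro _ ⟨a, ha, rfl⟩
    refine mem_centralizer_iff.2 ?_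
    rintro _ ⟨b, hb, rfl⟩
    rw [← map_mul, ← map_mul, hσ, QuotientGroup.mk'_apply, QuotientGroup.mk'_apply, QuotientGroup.eq]
    refine hmemK _ (mul_mem (inv_mem (mul_mem hb ha)) (mul_mem ha hb)) ?_
    let a' : ↥Yb := ⟨π a, mem_map_of_mem π ha⟩
    let b' : ↥Yb := ⟨π b, mem_map_of_mem π hb⟩
    have h1 := CfsgLib.PGroups.commutator_le_frattini' hYt
      (show ⁅a'⁻¹, b'⁻¹⁆ ∈ commutator ↥Yb from commutator_mem_commutator (mem_top _) (mem_top _))
    refine ⟨_, h1, ?_⟩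
    simp [commutatorElement_def, a', b', mul_assoc]
  have hVexp : ∀ v ∈ V, v ^ t = 1 := by
    rintro _ ⟨a, ha, rfl⟩
    rw [← map_pow, hσ, QuotientGroup.mk'_apply, QuotientGroup.eq_one_iff]
    refine hmemK _ (pow_mem ha t) ?_
    let a' : ↥Yb := ⟨π a, mem_map_of_mem π ha⟩
    exact ⟨a' ^ t, CfsgLib.PGroups.pow_mem_frattini hYt a', by simp [a']⟩
  have hV2 : IsPGroup t V := fun v => ⟨1, Subtype.ext (by simpa using hVexp v v.2)⟩
  have hcop₂ : (Nat.card Q₂).Coprime (Nat.card V) := hcop (hQp.map σ) hV2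
  have hQV : Q₂ ≤ normalizer (V : Set (G ⧸ K)) := by rw [normalizer_eq_top]; exact le_top
  haveI := hVc
  -- `Q` acts nontrivially on the Frattini quotient
  have hQne : ¬ Q₂ ≤ centralizer (V : Set (G ⧸ K)) := by
    intro hc
    apply I.res_not_normalizes
    have hcb : Q.map π ≤ centralizer (Yb : Set (G ⧸ Cfsg.pCore p G)) := by
      refine CfsgLib.Core.centralizes_of_centralizes_frattini_quotient hQY ?_ ?_
      · obtain ⟨a, ha⟩ := IsPGroup.iff_card.1 (hQp.map π)
        obtain ⟨b, hb⟩ := IsPGroup.iff_card.1 (hYt.to_subgroup (frattini ↥Yb))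
        rw [ha, hb]
        exact Nat.Coprime.pow _ _ ((Nat.coprime_primes hp.out ht).2 htp.symm)
      rintro _ ⟨q, hq, rfl⟩ _ ⟨y, hy, rfl⟩
      rw [← hΦ, ← hKπ, ← map_inv π q, ← map_inv π y, ← map_mul, ← map_mul, ← map_mul]
      refine mem_map_of_mem π ?_
      have h1 := mem_centralizer_iff.1 (hc (mem_map_of_mem σ hq)) _ (mem_map_of_mem σ hy)
      have h2 : σ (q * y * q⁻¹ * y⁻¹) = 1 := by
        rw [map_mul, map_mul, map_mul, map_inv, map_inv, ← h1, mul_inv_cancel_right, mul_inv_cancel]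
      exact (QuotientGroup.eq_one_iff _).1 h2
    intro r hr
    refine CfsgLib.LocalEvenB.mem_normalizer_of_forall fun q hq => ?_
    have h1 := mem_centralizer_iff.1 (hcb (mem_map_of_mem π hq)) _ (mem_map_of_mem π (hRY hr))
    have h2 : π (q⁻¹ * (r * q * r⁻¹)) = 1 := by
      rw [map_mul, map_mul, map_mul, map_inv, map_inv, h1, mul_inv_cancel_right, inv_mul_cancel]
    have := mul_mem hq (I.core_le_Q ((QuotientGroup.eq_one_iff _).1 h2))
    simpa [mul_assoc] using this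
  have htriv : ∀ N : Subgroup G, N ≤ Y → N ≤ L → N.map σ ≤ centralizer (Q₂ : Set (G ⧸ K)) := by
    intro N hNY hNL
    rintro _ ⟨n, hn, rfl⟩
    refine mem_centralizer_iff.2 ?_
    rintro _ ⟨q, hq, rfl⟩
    have hm : q * n * q⁻¹ * n⁻¹ ∈ Y ⊓ Q := by
      refine mem_inf.2 ⟨mul_mem (hYn.conj_mem n (hNY hn) q) (inv_mem (hNY hn)), ?_⟩
      rw [show q * n * q⁻¹ * n⁻¹ = q * (n * q⁻¹ * n⁻¹) by group]
      exact mul_mem hq ((mem_normalizer_iff.1 (I.L_normalizes_Q (hNL hn)) _).1 (inv_mem hq))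
    obtain ⟨hm1, hm2⟩ := mem_inf.1 hm
    -- a `p`-element of the `t`-group is trivial
    have h1 : π (q * n * q⁻¹ * n⁻¹) = 1 := by
      have hb : Yb ⊓ Q.map π = ⊥ :=
        inf_eq_bot_of_coprime ((hcop (hQp.map π) hYt).symm)
      exact mem_bot.1 (hb ▸ mem_inf.2 ⟨mem_map_of_mem π hm1, mem_map_of_mem π hm2⟩)
    have h2 : σ (q * n * q⁻¹ * n⁻¹) = 1 := (QuotientGroup.eq_one_iff _).2 (hOK ((QuotientGroup.eq_one_iff _).1 h1))
    rw [map_mul, map_mul, map_mul, map_inv, map_inv, mul_inv_eq_one, mul_inv_eq_iff_eq_mul] at h2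
    exact h2
  set A := ⁅V, Q₂⁆ with hA
  have hAV : A ≤ V := CfsgLib.Core.commutator_le_of_normalizes hQV
  have hAn : A.Normal := by
    refine normalizer_eq_top_iff.1 (top_unique ?_)
    have htop : Y.map σ ⊔ L.map σ = ⊤ := by
      rw [← Subgroup.map_sup, I.sup_eq_top hRY, ← MonoidHom.range_eq_map, MonoidHom.range_eq_top.2 hσs]
    rw [← htop]
    refine sup_le (normalizer_commutator_ge_left V Q₂) ?_
    rintro _ ⟨l, hl, rfl⟩
    rw [← CfsgLib.LocalEvenB.map_conj_eq_self_iff_mem_normalizer, hA, map_commutator,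
      CfsgLib.LocalEvenB.map_conj_eq_self_iff_mem_normalizer.2 (show σ l ∈ normalizer (V : Set (G ⧸ K)) by
        rw [normalizer_eq_top]; exact mem_top _),
      CfsgLib.LocalEvenB.map_conj_eq_self_iff_mem_normalizer.2 (show σ l ∈ normalizer (Q₂ : Set (G ⧸ K)) from
        le_normalizer_map σ (mem_map_of_mem σ (I.L_normalizes_Q hl)))]
  haveI := hAn
  have hAtop : A = V := by
    set A' := A.comap σ ⊓ Y with hA'
    haveI : A'.Normal := inferInstance
    have hA'σ : A'.map σ = A := by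
      refine le_antisymm ((map_mono inf_le_left).trans (map_comap_le _ _)) fun u hu => ?_
      obtain ⟨y, hy, rfl⟩ := hAV hu
      exact mem_map_of_mem σ (mem_inf.2 ⟨hu, hy⟩)
    rcases I.normal_or_le A' with h | h
    · exact le_antisymm hAV (hA'σ ▸ map_mono (hYres A' inferInstance h))
    · exfalso
      have h1 : A ≤ centralizer (Q₂ : Set (G ⧸ K)) := hA'σ ▸ htriv A' inf_le_right h
      have h2 : A = ⊥ := by
        rw [eq_bot_iff, ← CfsgLib.Core.abelian_inf_eq_bot hQV hcop₂]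
        exact le_inf (le_inf hAV h1) le_rfl
      exact hQne (le_centralizer_iff.1 (commutator_eq_bot_iff_le_centralizer.1 h2))
  have hfix : V ⊓ centralizer (Q₂ : Set (G ⧸ K)) = ⊥ := by
    refine le_bot_iff.1 ((le_inf le_rfl (inf_le_left.trans hAtop.ge)).trans ?_)
    exact (CfsgLib.Core.abelian_inf_eq_bot hQV hcop₂).le
  -- the image of the residual is everything
  set U := (res p P).map σ with hU
  have hUV : U ≤ V := map_mono hRY
  obtain ⟨W₀, hW₀V, hUW₀, hUW₀V⟩ := exists_compl_elementary ht hVc hVexp hUV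
  have hSV : (S : Subgroup G).map σ ≤ normalizer (V : Set (G ⧸ K)) := by rw [normalizer_eq_top]; exact le_top
  have hSR : (S : Subgroup G) ≤ normalizer (res p P : Set G) := by
    intro s hs
    refine CfsgLib.LocalEvenB.mem_normalizer_of_forall fun x hx => ?_
    have hle : res p P ≤ (res p P).comap (MulAut.conj s).toMonoidHom := by
      conv_lhs => rw [res_closure]
      rw [Subgroup.closure_le]
      rintro g ⟨hg, ho⟩
      show s * g * s⁻¹ ∈ res p P
      rw [res_closure]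
      refine Subgroup.subset_closure ⟨mul_mem (mul_mem (I.hSP hs) hg) (inv_mem (I.hSP hs)), ?_⟩
      rwa [show s * g * s⁻¹ = (MulAut.conj s).toMonoidHom g from rfl,
        orderOf_injective (MulAut.conj s).toMonoidHom (MulAut.conj s).injective g]
    exact hle hx
  obtain ⟨W₁, hW₁V, hSW₁, hUW₁, hUW₁V⟩ := CfsgLib.PLocal.exists_invariant_complement hVc hSV
    (hcop (S.isPGroup'.map σ) hV2) hUV ((map_mono hSR).trans (le_normalizer_map σ)) hW₀V hUW₀ hUW₀V
  set W' := W₁.comap σ with hW'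
  have hW'S : (S : Subgroup G) ≤ normalizer (W' : Set G) := fun s hs =>
    CfsgLib.LocalEvenB.mem_normalizer_of_forall fun w hw => by
      show σ (s * w * s⁻¹) ∈ W₁
      rw [map_mul, map_mul, map_inv]
      exact (mem_normalizer_iff.1 (hSW₁ (mem_map_of_mem σ hs)) _).1 hw
  have hUV' : U = V := by
    rcases I.le_or_not (W' ⊔ (S : Subgroup G)) le_sup_right with h | h
    · exfalso
      have hR : res p P ≤ W' := le_res_of_coprime_sup S.isPGroup' hW'S h
      have hU1 : U = ⊥ := le_bot_iff.1 (hUW₁ ▸ le_inf le_rfl (map_le_iff_le_comap.2 hR))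
      exact hΦlt fun r hr => (QuotientGroup.eq_one_iff _).1 (mem_bot.1 (hU1 ▸ mem_map_of_mem σ hr))
    · have hWL : W' ⊓ Y ≤ L := inf_le_left.trans (le_sup_left.trans h)
      have hW1 : W₁ = ⊥ := by
        rw [eq_bot_iff, ← hfix]
        intro w hw
        refine mem_inf.2 ⟨hW₁V hw, ?_⟩
        obtain ⟨y, hy, rfl⟩ := hW₁V hw
        exact htriv (W' ⊓ Y) inf_le_right hWL (mem_map_of_mem σ (mem_inf.2 ⟨hw, hy⟩))
      rw [hW1, sup_bot_eq] at hUW₁V
      exact hUW₁V
  have hRb : (res p P).map π = Yb := by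
    refine le_antisymm (map_mono hRY) ?_
    have h1 : ((res p P).map π).subgroupOf Yb ⊔ frattini ↥Yb = ⊤ := by
      refine top_unique fun u _ => ?_
      obtain ⟨y, hy, he⟩ := u.2
      obtain ⟨r, hr, hre⟩ : σ y ∈ U := hUV' ▸ mem_map_of_mem σ hy
      have hk : r⁻¹ * y ∈ K := by
        rw [hσ, QuotientGroup.mk'_apply, QuotientGroup.mk'_apply, QuotientGroup.eq] at hre
        exact hre
      have hru : π r ∈ Yb := mem_map_of_mem π (hRY hr)
      have : u = ⟨π r, hru⟩ * ((⟨π r, hru⟩ : ↥Yb)⁻¹ * u) := by group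
      rw [this]
      refine mul_mem (mem_sup_left (mem_subgroupOf.2 (mem_map_of_mem π hr))) (mem_sup_right ?_)
      obtain ⟨v, hv, hve⟩ : π (r⁻¹ * y) ∈ Φ := hKπ ▸ mem_map_of_mem π hk
      have hv' : v = (⟨π r, hru⟩ : ↥Yb)⁻¹ * u := Subtype.ext (by
        show (v : G ⧸ Cfsg.pCore p G) = (π r)⁻¹ * (u : G ⧸ Cfsg.pCore p G)
        rw [← he, ← map_inv, ← map_mul, ← hve]
        rfl)
      exact hv' ▸ hv
    have h2 := frattini_nongenerating h1
    exact subgroupOf_eq_top.1 h2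
  have hYRO : Y ≤ res p P ⊔ Cfsg.pCore p G := by
    intro y hy
    obtain ⟨r, hr, he⟩ : π y ∈ (res p P).map π := hRb.ge (mem_map_of_mem π hy)
    rw [hπ, QuotientGroup.mk'_apply, QuotientGroup.mk'_apply, QuotientGroup.eq] at he
    have := mul_mem (mem_sup_left hr : r ∈ res p P ⊔ Cfsg.pCore p G) (mem_sup_right he)
    rwa [mul_inv_cancel_left] at this
  have hORn : Cfsg.pCore p G ≤ normalizer (res p P : Set G) := I.core_le_S.trans hSR
  refine le_antisymm hRY ?_
  conv_lhs => rw [hY, normalClosure]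
  rw [Subgroup.closure_le]
  intro u hu
  obtain ⟨v, hv, hvu⟩ := Group.mem_conjugatesOfSet_iff.1 hu
  obtain ⟨g, rfl⟩ := isConj_iff.1 hvu
  have hle : res p P ≤ (res p P).comap (MulAut.conj g).toMonoidHom := by
    conv_lhs => rw [res_closure]
    rw [Subgroup.closure_le]
    rintro x ⟨hx, ho⟩
    show g * x * g⁻¹ ∈ res p P
    refine CfsgLib.LocalEvenB.mem_of_coprime_sup (CfsgLib.Core.isPGroup_pCore p G) hORn (hYRO ?_) ?_
    · refine hYn.conj_mem x (hRY ?_) g
      rw [res_closure]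
      exact Subgroup.subset_closure ⟨hx, ho⟩
    · rwa [show g * x * g⁻¹ = (MulAut.conj g).toMonoidHom x from rfl,
        orderOf_injective (MulAut.conj g).toMonoidHom (MulAut.conj g).injective x]
  exact hle hv

end Iso

end CfsgLib.LocalEvenB.IsoMin
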