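import Cfsg.Agent.Lib.LocalEvenB.SymOvergroups
import Cfsg.Agent.Lib.ClassSizes.AlternatingAut
import Cfsg.Prelude.Def_LocalEven

/-!
# When a Sylow 3-subgroup of an alternating group lies in a unique maximal subgroup
-/

set_option autoImplicit false
set_option linter.all false

namespace CfsgLib.LocalEvenB.SymOver

open Equiv

variable {α : Type*} [Fintype α] [DecidableEq α]

/-- Even permutations permuting the members of a family. -/
def famStab (F : Finset (Finset α)) : Subgroup (Perm α) where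
  carrier := {g | g ∈ alternatingGroup α ∧ ∀ D, D.image g ∈ F ↔ D ∈ F}
  one_mem' := ⟨one_mem _, fun D => by simp⟩
  mul_mem' := fun {x y} hx hy => ⟨mul_mem hx.1 hy.1, fun D => by
    rw [Perm.coe_mul, ← Finset.image_image, hx.2, hy.2]⟩
  inv_mem' := fun {x} hx => ⟨inv_mem hx.1, fun D => by
    rw [← hx.2 (D.image ⇑x⁻¹), Finset.image_image, ← Perm.coe_mul, mul_inv_cancel, Perm.coe_one, Finset.image_id]⟩

theorem famStab_le_alt (F : Finset (Finset α)) : famStab F ≤ alternatingGroup α := fun g hg => hg.1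

theorem mem_famStab {F : Finset (Finset α)} {g : Perm α} (hg : g ∈ alternatingGroup α) (h : ∀ D ∈ F, D.image g ∈ F) :
    g ∈ famStab F := by
  refine ⟨hg, fun D => ⟨fun hD => ?_, h D⟩⟩
  have hsur : F.image (fun D => D.image g) = F := Finset.eq_of_subset_of_card_le
    (fun y hy => by obtain ⟨x, hx, rfl⟩ := Finset.mem_image.1 hy; exact h x hx)
    (by rw [Finset.card_image_of_injective _ (Finset.image_injective g.injective)])
  rw [← hsur] at hD
  obtain ⟨D', hD', he⟩ := Finset.mem_image.1 hD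
  exact Finset.image_injective g.injective he ▸ hD'

/-- A three-cycle inside a member of a family of disjoint sets permutes the family. -/
theorem cycle_mem_famStab {F : Finset (Finset α)} (hF : ∀ D ∈ F, ∀ D' ∈ F, D ≠ D' → Disjoint D D') {D : Finset α}
    (hD : D ∈ F) {a b c : α} (ha : a ∈ D) (hb : b ∈ D) (hc : c ∈ D) (hab : a ≠ b) (hac : a ≠ c) :
    swap a b * swap a c ∈ famStab F := by
  refine mem_famStab (by
    rw [Perm.mem_alternatingGroup, map_mul, Perm.sign_swap hab, Perm.sign_swap hac]; decide) fun D' hD' => ?_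
  suffices h : D'.image ⇑(swap a b * swap a c) = D' by rwa [h]
  refine Finset.eq_of_subset_of_card_le (fun y hy => ?_) (by rw [Finset.card_image_of_injective _ (Equiv.injective _)])
  obtain ⟨x, hx, rfl⟩ := Finset.mem_image.1 hy
  by_cases h : D' = D
  · subst h
    rw [Perm.mul_apply, swap_apply_def, swap_apply_def]
    split_ifs <;> assumption
  · have hd := hF D' hD' D hD h
    have hne : ∀ z ∈ D, x ≠ z := fun z hz hxz => Finset.disjoint_left.1 hd hx (hxz ▸ hz)
    rwa [Perm.mul_apply, swap_apply_of_ne_of_ne (hne a ha) (hne c hc), swap_apply_of_ne_of_ne (hne a ha) (hne b hb)]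

theorem not_alt_le_famStab {F : Finset (Finset α)} (hF : ∀ D ∈ F, ∀ D' ∈ F, D ≠ D' → Disjoint D D') {D : Finset α}
    (hD : D ∈ F) (h2 : 2 ≤ D.card) (hne : D ≠ Finset.univ) : ¬ alternatingGroup α ≤ famStab F := by
  intro hle
  obtain ⟨a, ha, b, hb, hab⟩ := Finset.one_lt_card.1 h2
  obtain ⟨c, hc⟩ : ∃ c, c ∉ D := by
    by_contra hall
    exact hne (Finset.eq_univ_iff_forall.2 fun c => by_contra fun hc => hall ⟨c, hc⟩)
  have hca : a ≠ c := fun h => hc (h ▸ ha)
  have hcb : b ≠ c := fun h => hc (h ▸ hb)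
  -- the cycle fixes `b` and moves `a` out of `D`, unless there is no room: then use `a ↦ b ↦ c ↦ a`
  have hg : swap a c * swap a b ∈ alternatingGroup α := by
    rw [Perm.mem_alternatingGroup, map_mul, Perm.sign_swap hca, Perm.sign_swap hab]; decide
  have him := ((hle hg).2 D).2 hD
  have m1 : b ∈ D.image ⇑(swap a c * swap a b) := Finset.mem_image.2 ⟨a, ha, by
    rw [Perm.mul_apply, swap_apply_left, swap_apply_of_ne_of_ne hab.symm hcb]⟩
  have m2 : c ∈ D.image ⇑(swap a c * swap a b) := Finset.mem_image.2 ⟨b, hb, by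
    rw [Perm.mul_apply, swap_apply_right, swap_apply_left]⟩
  by_cases h : D.image ⇑(swap a c * swap a b) = D
  · exact hc (h ▸ m2)
  · exact Finset.disjoint_left.1 (hF _ him D hD h) m1 hb

theorem link_of_mem_famStab {J : Subgroup (Perm α)} {F : Finset (Finset α)} (hJ : famStab F ≤ J)
    (hF : ∀ D ∈ F, ∀ D' ∈ F, D ≠ D' → Disjoint D D') {D : Finset α} (hD : D ∈ F) (h3 : 3 ≤ D.card)
    {a b : α} (ha : a ∈ D) (hb : b ∈ D) : b ∈ cls J a := by
  rw [mem_cls]
  by_cases hab : a = b
  · exact Or.inl hab.symm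
  right
  obtain ⟨c, hc, hca, hcb⟩ : ∃ c ∈ D, c ≠ a ∧ c ≠ b := by
    obtain ⟨c, hc⟩ : ((D.erase a).erase b).Nonempty := Finset.card_pos.1 (by
      have := Finset.pred_card_le_card_erase (s := D) (a := a)
      have := Finset.pred_card_le_card_erase (s := D.erase a) (a := b)
      omega)
    simp only [Finset.mem_erase] at hc
    exact ⟨c, hc.2.2, hc.2.1, hc.1⟩
  refine ⟨swap a c * swap a b, hJ (cycle_mem_famStab hF hD ha hc hb hca.symm hab),
    Perm.isThreeCycle_swap_mul_swap_same hca.symm hab hcb, ?_⟩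
  rw [Perm.mul_apply, swap_apply_left, swap_apply_of_ne_of_ne (Ne.symm hab) hcb.symm]

theorem alt_le_of_cls {J : Subgroup (Perm α)} (a : α) (h : ∀ b, b ∈ cls J a) : alternatingGroup α ≤ J := by
  rw [← Perm.closure_three_cycles_eq_alternating, Subgroup.closure_le]
  exact fun g hg => threeCycle_mem_of_subset hg fun x _ => h x

theorem exists_triple_param (T : α → Finset α) (hT1 : ∀ x, x ∈ T x) (hT3 : ∀ x, (T x).card = 3) (x : α) :
    ∃ p : Fin 3 → α, p 0 = x ∧ Finset.univ.image p = T x := by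
  obtain ⟨u, w, huw, hu⟩ := Finset.card_eq_two.1
    (show ((T x).erase x).card = 2 by rw [Finset.card_erase_of_mem (hT1 x), hT3])
  refine ⟨![x, u, w], rfl, ?_⟩
  rw [← Finset.insert_erase (hT1 x), hu]
  ext z
  simp [Fin.exists_fin_succ, eq_comm]

theorem exists_triple_cycle (T : α → Finset α) (hT1 : ∀ x, x ∈ T x) (hT3 : ∀ x, (T x).card = 3)
    (hTeq : ∀ x y, y ∈ T x → T y = T x) (a v d : α) (hva : v ∉ T a) (hda : d ∉ T a) (hdv : d ∉ T v) :
    ∃ g ∈ famStab (Finset.univ.image T), g a = v ∧ ∀ y, y ∉ T a → y ∉ T v → y ∉ T d → g y = y := by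
  let pt : Fin 3 → α := ![a, v, d]
  choose p hp0 hp using fun k : Fin 3 => exists_triple_param T hT1 hT3 (pt k)
  have hmem : ∀ k i, p k i ∈ T (pt k) := fun k i => hp k ▸ Finset.mem_image_of_mem _ (Finset.mem_univ i)
  have hav : a ∉ T v := fun h => hva (hTeq v a h ▸ hT1 v)
  have had : a ∉ T d := fun h => hda (hTeq d a h ▸ hT1 d)
  have hvd : v ∉ T d := fun h => hdv (hTeq d v h ▸ hT1 d)
  have hsep : ∀ k l, k ≠ l → pt k ∉ T (pt l) := by
    intro k l hkl
    fin_cases k <;> fin_cases l <;> first | exact absurd rfl hkl | assumption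
  have hinj : ∀ k l i j, p k i = p l j → k = l ∧ i = j := by
    intro k l i j h
    have hkl : k = l := by
      by_contra hne
      refine hsep k l hne ?_
      have e1 := hTeq _ _ (hmem k i)
      have e2 := hTeq _ _ (hmem l j)
      rw [h, e2] at e1
      exact e1 ▸ hT1 (pt k)
    subst hkl
    refine ⟨rfl, ?_⟩
    have hin : Set.InjOn (p k) (Finset.univ : Finset (Fin 3)) := Finset.card_image_iff.1 (by rw [hp k, hT3]; rfl)
    exact hin (Finset.mem_coe.2 (Finset.mem_univ i)) (Finset.mem_coe.2 (Finset.mem_univ j)) h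
  let f : Fin 3 × Fin 3 ↪ α := ⟨fun q => p q.1 q.2, fun q r h => Prod.ext (hinj _ _ _ _ h).1 (hinj _ _ _ _ h).2⟩
  let σ : Perm (Fin 3 × Fin 3) := Equiv.prodCongr (finRotate 3) (Equiv.refl (Fin 3))
  let g : Perm α := Perm.viaEmbeddingHom f σ
  have himg : ∀ k i, g (p k i) = p (finRotate 3 k) i := fun k i => Perm.viaEmbedding_apply σ f (k, i)
  have hfix : ∀ y, y ∉ T a → y ∉ T v → y ∉ T d → g y = y := fun y h1 h2 h3 => by
    refine Perm.viaEmbedding_apply_of_notMem σ f y ?_
    rintro ⟨⟨k, i⟩, rfl⟩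
    have := hmem k i
    fin_cases k
    · exact h1 this
    · exact h2 this
    · exact h3 this
  have hgv : g a = v := by
    have := himg 0 0
    rwa [hp0, show finRotate 3 (0 : Fin 3) = 1 from rfl, hp0] at this
  refine ⟨g, mem_famStab ?_ (fun D hD => ?_), hgv, hfix⟩
  · have h3 : σ ^ 3 = 1 := by decide
    have hg3 : g ^ 3 = 1 := by rw [← map_pow, h3, map_one]
    rw [Perm.mem_alternatingGroup]
    have h := congrArg Perm.sign hg3
    rw [map_pow, map_one] at h
    rcases Int.units_eq_one_or (Perm.sign g) with hs | hs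
    · exact hs
    · rw [hs] at h
      exact absurd h (by decide)
  obtain ⟨y, -, rfl⟩ := Finset.mem_image.1 hD
  by_cases hy : ∃ k, y ∈ T (pt k)
  · obtain ⟨k, hk⟩ := hy
    rw [hTeq _ _ hk, ← hp k, Finset.image_image]
    have : (Finset.univ.image (⇑g ∘ p k)) = T (pt (finRotate 3 k)) := by
      rw [← hp (finRotate 3 k)]
      exact Finset.image_congr fun i _ => himg k i
    rw [this]
    exact Finset.mem_image_of_mem _ (Finset.mem_univ _)
  · push_neg at hy
    have hid : (T y).image g = T y := by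
      conv_rhs => rw [← Finset.image_id (s := T y)]
      refine Finset.image_congr fun z hz => hfix z ?_ ?_ ?_
      · exact fun h => hy 0 ((hTeq a z h ▸ hTeq y z hz) ▸ hT1 y)
      · exact fun h => hy 1 ((hTeq v z h ▸ hTeq y z hz) ▸ hT1 y)
      · exact fun h => hy 2 ((hTeq d z h ▸ hTeq y z hz) ▸ hT1 y)
    rw [hid]
    exact Finset.mem_image_of_mem _ (Finset.mem_univ _)

/-- **Two proper overgroups of a Sylow 3-subgroup generating the alternating group.** -/
theorem exists_two_overgroups (n : ℕ) (hn : Fintype.card α = n) (h5 : 5 ≤ n) (h6 : n ≠ 6) (h9 : n ≠ 9)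
    (hpow : ∀ a, 2 ≤ a → n ≠ 3 ^ a + 1) (P : Sylow 3 ↥(alternatingGroup α)) :
    ∃ M₁ M₂ : Subgroup (Perm α), M₁ ≤ alternatingGroup α ∧ M₂ ≤ alternatingGroup α ∧
      (P : Subgroup ↥(alternatingGroup α)).map (alternatingGroup α).subtype ≤ M₁ ⊓ M₂ ∧
      ¬ alternatingGroup α ≤ M₁ ∧ ¬ alternatingGroup α ≤ M₂ ∧ alternatingGroup α ≤ M₁ ⊔ M₂ := by
  classical
  haveI : Fact (Nat.Prime 3) := ⟨Nat.prime_three⟩
  set S : Subgroup (Perm α) := (P : Subgroup ↥(alternatingGroup α)).map (alternatingGroup α).subtype with hS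
  have hSA : S ≤ alternatingGroup α := Subgroup.map_subtype_le _
  have hSp : IsPGroup 3 S := P.isPGroup'.map _
  -- the orbits of `S`
  let orb : α → Finset α := fun x => Finset.univ.filter fun y => ∃ s ∈ S, s x = y
  have mem_orb : ∀ x y, y ∈ orb x ↔ ∃ s ∈ S, s x = y := fun x y => by simp [orb]
  have orb_inv : ∀ x, ∀ s ∈ S, (orb x).image s = orb x := fun x s hs => by
    refine Finset.eq_of_subset_of_card_le (fun y hy => ?_) (by rw [Finset.card_image_of_injective _ s.injective])
    obtain ⟨z, hz, rfl⟩ := Finset.mem_image.1 hy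
    obtain ⟨t, ht, rfl⟩ := (mem_orb x z).1 hz
    exact (mem_orb x _).2 ⟨s * t, S.mul_mem hs ht, rfl⟩
  have orb_pow : ∀ x, ∃ k, (orb x).card = 3 ^ k := fun x => by
    obtain ⟨k, hk⟩ := hSp.card_orbit x
    refine ⟨k, ?_⟩
    rw [← hk, ← Nat.card_eq_finsetCard]
    refine Nat.card_congr (Equiv.subtypeEquivRight fun y => ?_)
    rw [mem_orb]
    exact ⟨fun ⟨s, hs, h⟩ => ⟨⟨s, hs⟩, h⟩, fun ⟨⟨s, hs⟩, h⟩ => ⟨s, hs, h⟩⟩
  have self_mem : ∀ x, x ∈ orb x := fun x => (mem_orb x x).2 ⟨1, S.one_mem, rfl⟩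
  have orb_eq : ∀ x y, y ∈ orb x → orb y = orb x := by
    intro x y hy
    obtain ⟨s, hs, rfl⟩ := (mem_orb x y).1 hy
    ext z
    rw [mem_orb, mem_orb]
    constructor
    · rintro ⟨t, ht, rfl⟩; exact ⟨t * s, S.mul_mem ht hs, rfl⟩
    · rintro ⟨t, ht, rfl⟩
      exact ⟨t * s⁻¹, S.mul_mem ht (S.inv_mem hs), by simp⟩
  let Fix : Finset α := Finset.univ.filter fun x => ∀ s ∈ S, s x = x
  have mem_fix : ∀ x, x ∈ Fix ↔ ∀ s ∈ S, s x = x := fun x => by simp [Fix]
  -- at most two fixed points
  have hfix2 : Fix.card ≤ 2 := by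
    by_contra hlt
    obtain ⟨T, hT, hT3⟩ := Finset.exists_subset_card_eq (show 3 ≤ Fix.card by omega)
    obtain ⟨a, b, c, hab, hac, hbc, rfl⟩ := Finset.card_eq_three.1 hT3
    have ha : a ∈ Fix := hT (by simp)
    have hb : b ∈ Fix := hT (by simp)
    have hc : c ∈ Fix := hT (by simp)
    let g : Perm α := swap a b * swap a c
    have hg3 : g.IsThreeCycle := Perm.isThreeCycle_swap_mul_swap_same hab hac hbc
    let g' : ↥(alternatingGroup α) := ⟨g, hg3.mem_alternatingGroup⟩
    have hcomm : ∀ q ∈ (P : Subgroup ↥(alternatingGroup α)), q * g' = g' * q := fun q hq => by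
      refine Subtype.ext (Perm.Disjoint.commute fun x => ?_).eq
      by_cases hx : x = a ∨ x = b ∨ x = c
      · left
        rcases hx with rfl | rfl | rfl
        · exact (mem_fix x).1 ha _ ⟨q, hq, rfl⟩
        · exact (mem_fix x).1 hb _ ⟨q, hq, rfl⟩
        · exact (mem_fix x).1 hc _ ⟨q, hq, rfl⟩
      · right
        push_neg at hx
        show (swap a b * swap a c) x = x
        rw [Perm.mul_apply, swap_apply_of_ne_of_ne hx.1 hx.2.2, swap_apply_of_ne_of_ne hx.1 hx.2.1]
    have hgp : IsPGroup 3 (Subgroup.zpowers g') := IsPGroup.of_card (n := 1) (by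
      rw [Nat.card_zpowers, ← Subgroup.orderOf_coe, hg3.orderOf, pow_one])
    have hle : Subgroup.zpowers g' ≤ Subgroup.normalizer ((P : Subgroup ↥(alternatingGroup α)) : Set _) := by
      rw [Subgroup.zpowers_le, Subgroup.mem_normalizer_iff]
      intro q
      constructor
      · intro hq
        rwa [← hcomm q hq, mul_inv_cancel_right]
      · intro hq
        have h := hcomm _ hq
        rw [inv_mul_cancel_right] at h
        have : g' * q * g'⁻¹ = q := mul_left_cancel (a := g') h.symm
        rwa [this] at hq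
    have hmem : g' ∈ (P : Subgroup ↥(alternatingGroup α)) := by
      have h := P.is_maximal' (P.isPGroup'.to_sup_of_normal_left' hgp hle) le_sup_left
      exact h.le (Subgroup.mem_sup_right (Subgroup.mem_zpowers g'))
    have := (mem_fix a).1 ha g ⟨g', hmem, rfl⟩
    rw [show g a = c by
      show (swap a b * swap a c) a = c
      rw [Perm.mul_apply, swap_apply_left, swap_apply_of_ne_of_ne hac.symm hbc.symm]] at this
    exact hac this.symm
  have hmod : n % 3 = Fix.card % 3 := by
    have h := hSp.card_modEq_card_fixedPoints α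
    have e : Nat.card (MulAction.fixedPoints S α) = Fix.card := by
      rw [← Nat.card_eq_finsetCard]
      exact Nat.card_congr (Equiv.subtypeEquivRight fun x => by
        rw [mem_fix, MulAction.mem_fixedPoints]
        exact ⟨fun h s hs => h ⟨s, hs⟩, fun h s => h s s.2⟩)
    rw [e, Nat.card_eq_fintype_card, hn] at h
    exact h
  have hSfam : ∀ D : Finset α, (∀ s ∈ S, D.image s = D) → S ≤ famStab {D} := fun D hD s hs =>
    mem_famStab (hSA hs) fun D' hD' => by
      rw [Finset.mem_singleton] at hD' ⊢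
      rw [hD']; exact hD s hs
  have hsing : ∀ D : Finset α, ∀ D₁ ∈ ({D} : Finset (Finset α)), ∀ D₂ ∈ ({D} : Finset (Finset α)), D₁ ≠ D₂ → Disjoint D₁ D₂ :=
    fun D D₁ h1 D₂ h2 hne => absurd ((Finset.mem_singleton.1 h1).trans (Finset.mem_singleton.1 h2).symm) hne
  by_cases h30 : Fix.card = 0
  · -- no fixed point: blocks of size three
    have hn3 : n % 3 = 0 := by rw [hmod, h30]
    have h12 : 12 ≤ n := by omega
    have hsplit : ∀ x : α, ∃ K : Subgroup S, MulAction.stabilizer S x ≤ K ∧ (MulAction.stabilizer S x).relIndex K = 3 := by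
      intro x
      obtain ⟨k, hk⟩ := (hSp.to_subgroup (MulAction.stabilizer S x)).exists_card_eq
      have hlt : (MulAction.stabilizer S x) ≠ ⊤ := fun htop => by
        have : x ∈ Fix := (mem_fix x).2 fun s hs => (htop ▸ Subgroup.mem_top (⟨s, hs⟩ : S) : (⟨s, hs⟩ : S) ∈ MulAction.stabilizer S x)
        rw [Finset.card_eq_zero.1 h30] at this
        exact Finset.notMem_empty x this
      obtain ⟨m, hm⟩ := hSp.exists_card_eq
      have hkm : k < m := by
        by_contra hge
        refine hlt (Subgroup.eq_top_of_card_eq _ (le_antisymm (Subgroup.card_le_card_group _) ?_))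
        rw [hk, hm]
        exact Nat.pow_le_pow_right (by norm_num) (by omega)
      obtain ⟨K, hK, hle⟩ := Sylow.exists_subgroup_card_pow_succ (hm ▸ pow_dvd_pow 3 (Nat.succ_le_of_lt hkm)) hk
      refine ⟨K, hle, ?_⟩
      have := Subgroup.relIndex_mul_relIndex ⊥ (MulAction.stabilizer S x) K bot_le hle
      rw [Subgroup.relIndex_bot_left, Subgroup.relIndex_bot_left, hk, hK, pow_succ] at this
      exact Nat.eq_of_mul_eq_mul_left (by positivity) this
    -- a representative in each orbit
    choose K hKle hKidx using hsplit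
    obtain ⟨r, hr1, hr2⟩ : ∃ r : α → α, (∀ x, r x ∈ orb x) ∧ ∀ x y, orb x = orb y → r x = r y := by
      refine ⟨fun x => Classical.epsilon (h := ⟨x⟩) fun z => z ∈ orb x, fun x => Classical.epsilon_spec ⟨x, self_mem x⟩,
        fun x y h => ?_⟩
      simp only [h]
    let B : α → Finset α := fun z => Finset.univ.filter fun y => ∃ k ∈ K z, (k : Perm α) z = y
    have mem_B : ∀ z y, y ∈ B z ↔ ∃ k ∈ K z, (k : Perm α) z = y := fun z y => by simp [B]
    have hBcard : ∀ z, (B z).card = 3 := fun z => by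
      have e1 : Nat.card (MulAction.orbit (K z) z) = 3 := by
        rw [Nat.card_congr (MulAction.orbitEquivQuotientStabilizer (K z) z), ← Subgroup.index]
        have : MulAction.stabilizer (K z) z = (MulAction.stabilizer S z).subgroupOf (K z) := by
          ext k; rfl
        rw [this]
        exact hKidx z
      rw [← e1, ← Nat.card_eq_finsetCard]
      refine Nat.card_congr (Equiv.subtypeEquivRight fun y => ?_)
      rw [mem_B]
      exact ⟨fun ⟨k, hk, h⟩ => ⟨⟨k, hk⟩, h⟩, fun ⟨⟨k, hk⟩, h⟩ => ⟨k, hk, h⟩⟩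
    have hBtrans : ∀ z, ∀ s t : S, (s : Perm α) z = (t : Perm α) z → (B z).image (s : Perm α) = (B z).image (t : Perm α) := by
      intro z s t h
      have hst : t⁻¹ * s ∈ K z := hKle z (show (t⁻¹ * s) • z = z by
        show ((t⁻¹ * s : S) : Perm α) z = z
        rw [Subgroup.coe_mul, Subgroup.coe_inv, Perm.mul_apply, h, Perm.inv_def, Equiv.symm_apply_apply])
      refine Finset.eq_of_subset_of_card_le (fun y hy => ?_) (by
        rw [Finset.card_image_of_injective _ (Equiv.injective _), Finset.card_image_of_injective _ (Equiv.injective _)])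
      obtain ⟨w, hw, rfl⟩ := Finset.mem_image.1 hy
      obtain ⟨k, hk, rfl⟩ := (mem_B z w).1 hw
      refine Finset.mem_image.2 ⟨((t⁻¹ * s * k : S) : Perm α) z, (mem_B z _).2 ⟨_, (K z).mul_mem hst hk, rfl⟩, ?_⟩
      simp [Perm.mul_apply]
    have hreach : ∀ x, ∃ s : S, (s : Perm α) (r x) = x := fun x => by
      obtain ⟨s, hs, h⟩ := (mem_orb x (r x)).1 (hr1 x)
      exact ⟨⟨s, hs⟩⁻¹, by simp [← h]⟩
    choose tr htr using hreach
    let T : α → Finset α := fun x => (B (r x)).image (tr x : Perm α)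
    have hT1 : ∀ x, x ∈ T x := fun x => Finset.mem_image.2 ⟨r x, (mem_B _ _).2 ⟨1, one_mem _, rfl⟩, htr x⟩
    have hT3 : ∀ x, (T x).card = 3 := fun x => by
      show ((B (r x)).image _).card = 3
      rw [Finset.card_image_of_injective _ (Equiv.injective _), hBcard]
    have hTact : ∀ x, ∀ s : S, (T x).image (s : Perm α) = T ((s : Perm α) x) := fun x s => by
      have he : r ((s : Perm α) x) = r x := hr2 _ _ (orb_eq x _ ((mem_orb x _).2 ⟨s, s.2, rfl⟩))
      show ((B (r x)).image _).image _ = (B (r _)).image _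
      rw [Finset.image_image, ← Perm.coe_mul, ← Subgroup.coe_mul, he]
      refine hBtrans _ _ _ ?_
      rw [Subgroup.coe_mul, Perm.mul_apply, htr]
      have := htr ((s : Perm α) x)
      rw [he] at this
      exact this.symm
    have hTeq : ∀ x y, y ∈ T x → T y = T x := fun x y hy => by
      obtain ⟨w, hw, rfl⟩ := Finset.mem_image.1 hy
      obtain ⟨k, hk, rfl⟩ := (mem_B _ w).1 hw
      rw [← hTact]
      have e1 : T ((k : Perm α) (r x)) = B (r x) := by
        rw [← hTact]
        have hrr : r (r x) = r x := hr2 _ _ (orb_eq x _ (hr1 x))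
        have e0 : T (r x) = B (r x) := by
          show (B (r (r x))).image _ = _
          rw [hrr, hBtrans (r x) (tr (r x)) 1 (by
            have := htr (r x)
            rw [hrr] at this
            rw [this]; rfl)]
          simp
        rw [e0]
        refine Finset.eq_of_subset_of_card_le (fun v hv => ?_) (by rw [Finset.card_image_of_injective _ (Equiv.injective _)])
        obtain ⟨u, hu, rfl⟩ := Finset.mem_image.1 hv
        obtain ⟨k', hk', rfl⟩ := (mem_B _ u).1 hu
        exact (mem_B _ _).2 ⟨k * k', (K _).mul_mem hk hk', rfl⟩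
      rw [e1]
    let F₂ : Finset (Finset α) := Finset.univ.image T
    have hF₂ : ∀ D ∈ F₂, ∀ D' ∈ F₂, D ≠ D' → Disjoint D D' := by
      intro D hD D' hD' hne
      obtain ⟨x, -, rfl⟩ := Finset.mem_image.1 hD
      obtain ⟨y, -, rfl⟩ := Finset.mem_image.1 hD'
      rw [Finset.disjoint_left]
      exact fun z hz hz' => hne ((hTeq x z hz).symm.trans (hTeq y z hz'))
    have hTmem : ∀ x, T x ∈ F₂ := fun x => Finset.mem_image_of_mem _ (Finset.mem_univ x)
    have hS2 : S ≤ famStab F₂ := fun s hs => mem_famStab (hSA hs) fun D hD => by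
      obtain ⟨x, -, rfl⟩ := Finset.mem_image.1 hD
      exact (hTact x ⟨s, hs⟩).symm ▸ hTmem _
    -- a larger set
    obtain ⟨Δ, hΔT, hΔ6, hΔn, hΔS⟩ : ∃ Δ : Finset α, (∀ x ∈ Δ, T x ⊆ Δ) ∧ 6 ≤ Δ.card ∧ Δ ≠ Finset.univ ∧
        ∀ s ∈ S, ∀ t ∈ S, Δ.image s = Δ.image t ∨ Disjoint (Δ.image s) (Δ.image t) := by
      have horbT : ∀ x, T x ⊆ orb x := fun x v hv => by
        obtain ⟨u, hu, rfl⟩ := Finset.mem_image.1 hv
        obtain ⟨k, hk, rfl⟩ := (mem_B _ u).1 hu
        obtain ⟨s, hs, hsx⟩ := (mem_orb x (r x)).1 (hr1 x)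
        exact (mem_orb x _).2 ⟨(tr x : Perm α) * (k : Perm α) * s, S.mul_mem (S.mul_mem (tr x).2 (k : S).2) hs, by
          simp [Perm.mul_apply, hsx]⟩
      haveI : Nonempty α := Fintype.card_pos_iff.1 (by omega)
      let x₀ : α := Classical.arbitrary α
      by_cases htop : orb x₀ = Finset.univ
      · obtain ⟨k, hk⟩ := orb_pow x₀
        rw [htop, Finset.card_univ, hn] at hk
        have hk2 : 3 ≤ k := by
          by_contra hlt
          interval_cases k <;> omega
        have hr0 : ∀ x, orb x = Finset.univ := fun x => htop ▸ orb_eq x₀ x (htop ▸ Finset.mem_univ x)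
        obtain ⟨m, hm⟩ := hSp.exists_card_eq
        let z : α := r x₀
        have hidx : (MulAction.stabilizer S z).index = n := by
          rw [Subgroup.index, ← Nat.card_congr (MulAction.orbitEquivQuotientStabilizer S z), ← hn, ← Finset.card_univ,
            ← hr0 z, ← Nat.card_eq_finsetCard]
          refine (Nat.card_congr (Equiv.subtypeEquivRight fun y => ?_)).symm
          rw [mem_orb]
          exact ⟨fun ⟨s, hs, h⟩ => ⟨⟨s, hs⟩, h⟩, fun ⟨⟨s, hs⟩, h⟩ => ⟨s, hs, h⟩⟩
        obtain ⟨j, hj⟩ := (hSp.to_subgroup (MulAction.stabilizer S z)).exists_card_eq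
        have hmj : m = j + k := by
          have h := (MulAction.stabilizer S z).card_mul_index
          rw [hj, hidx, hk, hm, ← pow_add] at h
          exact (Nat.pow_right_injective (by norm_num) h).symm
        obtain ⟨j', hj'⟩ := (hSp.to_subgroup (K z)).exists_card_eq
        have hj1 : j' = j + 1 := by
          have h := Subgroup.relIndex_mul_relIndex ⊥ (MulAction.stabilizer S z) (K z) bot_le (hKle z)
          rw [Subgroup.relIndex_bot_left, Subgroup.relIndex_bot_left, hj, hj', hKidx, ← pow_succ] at h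
          exact (Nat.pow_right_injective (by norm_num) h).symm
        obtain ⟨L, hL, hKL⟩ := Sylow.exists_subgroup_card_pow_prime_le 3
          (hm ▸ pow_dvd_pow 3 (show m - 1 ≤ m by omega)) (K z) hj' (by omega)
        let Δ : Finset α := Finset.univ.filter fun y => ∃ l ∈ L, (l : Perm α) z = y
        have mem_Δ : ∀ y, y ∈ Δ ↔ ∃ l ∈ L, (l : Perm α) z = y := fun y => by simp [Δ]
        have hΔcard : Δ.card = 3 ^ (k - 1) := by
          have e1 : Nat.card (MulAction.orbit L z) = (MulAction.stabilizer S z).relIndex L := by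
            rw [Nat.card_congr (MulAction.orbitEquivQuotientStabilizer L z), ← Subgroup.index]
            have : MulAction.stabilizer L z = (MulAction.stabilizer S z).subgroupOf L := by
              ext l; rfl
            rw [this]
            rfl
          have h := Subgroup.relIndex_mul_relIndex ⊥ (MulAction.stabilizer S z) L bot_le ((hKle z).trans hKL)
          rw [Subgroup.relIndex_bot_left, Subgroup.relIndex_bot_left, hj, hL, ← e1, show m - 1 = j + (k - 1) by omega, pow_add] at h
          rw [← Nat.eq_of_mul_eq_mul_left (by positivity) h, ← Nat.card_eq_finsetCard]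
          refine Nat.card_congr (Equiv.subtypeEquivRight fun y => ?_)
          rw [mem_Δ]
          exact ⟨fun ⟨l, hl, h⟩ => ⟨⟨l, hl⟩, h⟩, fun ⟨⟨l, hl⟩, h⟩ => ⟨l, hl, h⟩⟩
        refine ⟨Δ, fun x hx v hv => ?_, ?_, fun h => ?_, fun s hs t ht => ?_⟩
        · obtain ⟨l, hl, hlz⟩ := (mem_Δ x).1 hx
          have hrr : r z = z := hr2 _ _ (orb_eq x₀ _ (hr1 x₀))
          have hzT : T z = B z := by
            show (B (r z)).image _ = _
            rw [hrr, hBtrans z (tr z) 1 (by
              have := htr z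
              rw [hrr] at this
              rw [this]; rfl)]
            simp
          rw [← hlz, ← hTact, hzT] at hv
          obtain ⟨u, hu, rfl⟩ := Finset.mem_image.1 hv
          obtain ⟨k', hk', rfl⟩ := (mem_B _ u).1 hu
          exact (mem_Δ _).2 ⟨l * k', L.mul_mem hl (hKL hk'), rfl⟩
        · calc 6 ≤ 3 ^ 2 := by norm_num
            _ ≤ 3 ^ (k - 1) := Nat.pow_le_pow_right (by norm_num) (by omega)
            _ = Δ.card := hΔcard.symm
        · rw [h, Finset.card_univ, hn, hk] at hΔcard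
          have := Nat.pow_right_injective (le_refl 2 |>.trans (by norm_num : 2 ≤ 3)) hΔcard
          omega
        · by_cases hd : Disjoint (Δ.image s) (Δ.image t)
          · exact Or.inr hd
          left
          rw [Finset.not_disjoint_iff] at hd
          obtain ⟨y, hy1, hy2⟩ := hd
          obtain ⟨p, hp, hp'⟩ := Finset.mem_image.1 hy1
          obtain ⟨q, hq, hq'⟩ := Finset.mem_image.1 hy2
          obtain ⟨l, hl, rfl⟩ := (mem_Δ p).1 hp
          obtain ⟨l', hl', rfl⟩ := (mem_Δ q).1 hq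
          have hmem : ((l'⁻¹ * (⟨t, ht⟩ : S)⁻¹ * ⟨s, hs⟩ * l : S)) ∈ L := by
            refine hKL (hKle z ?_)
            show ((l'⁻¹ * (⟨t, ht⟩ : S)⁻¹ * ⟨s, hs⟩ * l : S) : Perm α) z = z
            simp [Perm.mul_apply, hp', ← hq']
          have hts : (⟨t, ht⟩ : S)⁻¹ * ⟨s, hs⟩ ∈ L := by
            have := L.mul_mem (L.mul_mem hl' hmem) (L.inv_mem hl)
            simpa [mul_assoc] using this
          refine Finset.eq_of_subset_of_card_le (fun v hv => ?_) (by
            rw [Finset.card_image_of_injective _ s.injective, Finset.card_image_of_injective _ t.injective])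
          obtain ⟨u, hu, rfl⟩ := Finset.mem_image.1 hv
          obtain ⟨l₀, hl₀, rfl⟩ := (mem_Δ u).1 hu
          exact Finset.mem_image.2 ⟨_, (mem_Δ _).2 ⟨_, L.mul_mem hts hl₀, rfl⟩, by simp [Perm.mul_apply]⟩
      · by_cases h6' : 6 ≤ (orb x₀).card
        · exact ⟨orb x₀, fun x hx => (horbT x).trans (orb_eq x₀ x hx).le, h6', htop,
            fun s hs t ht => Or.inl (by rw [orb_inv x₀ s hs, orb_inv x₀ t ht])⟩
        · have hc : ∀ x ∈ (orb x₀)ᶜ, ∀ v ∈ orb x, v ∈ (orb x₀)ᶜ := fun x hx v hv => by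
            rw [Finset.mem_compl] at hx ⊢
            intro hv'
            exact hx (orb_eq x₀ v hv' ▸ (orb_eq x v hv).symm ▸ self_mem x)
          refine ⟨(orb x₀)ᶜ, fun x hx v hv => hc x hx v (horbT x hv), ?_, fun h => ?_, fun s hs t ht => Or.inl ?_⟩
          · rw [Finset.card_compl, hn]
            omega
          · exact Finset.mem_compl.1 (h ▸ Finset.mem_univ x₀) (self_mem x₀)
          · have himg : ∀ u ∈ S, ((orb x₀)ᶜ).image u = (orb x₀)ᶜ := fun u hu => by
              rw [Finset.compl_eq_univ_sdiff, Finset.image_sdiff _ _ u.injective,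
                Finset.image_univ_of_surjective u.surjective, orb_inv x₀ u hu]
            rw [himg s hs, himg t ht]
    let F₁ : Finset (Finset α) := (Finset.univ.filter fun s : Perm α => s ∈ S).image fun s : Perm α => Δ.image ⇑s
    have hΔF : Δ ∈ F₁ := Finset.mem_image.2 ⟨1, by simp, by simp⟩
    have hF₁ : ∀ D ∈ F₁, ∀ D' ∈ F₁, D ≠ D' → Disjoint D D' := by
      intro D hD D' hD' hne
      obtain ⟨s, hs, rfl⟩ := Finset.mem_image.1 hD
      obtain ⟨t, ht, rfl⟩ := Finset.mem_image.1 hD'
      exact (hΔS s (Finset.mem_filter.1 hs).2 t (Finset.mem_filter.1 ht).2).resolve_left hne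
    have hS1 : S ≤ famStab F₁ := fun s hs => mem_famStab (hSA hs) fun D hD => by
      obtain ⟨t, ht, rfl⟩ := Finset.mem_image.1 hD
      exact Finset.mem_image.2 ⟨s * t, by simp [S.mul_mem hs (Finset.mem_filter.1 ht).2],
        by rw [Finset.image_image, Perm.coe_mul]⟩
    refine ⟨famStab F₁, famStab F₂, famStab_le_alt _, famStab_le_alt _, le_inf hS1 hS2,
      not_alt_le_famStab hF₁ hΔF (by omega) hΔn, ?_, ?_⟩
    · obtain ⟨x⟩ : Nonempty α := Fintype.card_pos_iff.1 (by omega)
      refine not_alt_le_famStab hF₂ (hTmem x) (by rw [hT3]; norm_num) fun h => ?_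
      have := hT3 x
      rw [h, Finset.card_univ, hn] at this
      omega
    set J := famStab F₁ ⊔ famStab F₂ with hJ
    obtain ⟨a, ha⟩ : Δ.Nonempty := Finset.card_pos.1 (by omega)
    refine alt_le_of_cls a fun v => ?_
    by_cases hv : v ∈ Δ
    · exact link_of_mem_famStab le_sup_left hF₁ hΔF (by omega) ha hv
    -- a three-cycle crossing into the triple of `v`
    obtain ⟨b, hb⟩ : (Δ \ T a).Nonempty := Finset.card_pos.1 (by
      rw [Finset.card_sdiff_of_subset (hΔT a ha), hT3]; omega)
    rw [Finset.mem_sdiff] at hb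
    obtain ⟨d, hd⟩ : ((T a) ∪ (T b) ∪ (T v))ᶜ.Nonempty := Finset.card_pos.1 (by
      rw [Finset.card_compl, hn]
      have h1 := Finset.card_union_le (T a ∪ T b) (T v)
      have h2 := Finset.card_union_le (T a) (T b)
      rw [hT3] at h1
      rw [hT3, hT3] at h2
      omega)
    simp only [Finset.mem_compl, Finset.mem_union, not_or] at hd
    have hne : ∀ x y, y ∉ T x → Disjoint (T x) (T y) := fun x y hy =>
      hF₂ _ (hTmem x) _ (hTmem y) fun h => hy (h ▸ hT1 y)
    have hva : v ∉ T a := fun h => hv (hΔT a ha h)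
    have hvb : v ∉ T b := fun h => hv (hΔT b hb.1 h)
    obtain ⟨g, hgF, hgv, hgfix⟩ := exists_triple_cycle T hT1 hT3 hTeq a v d hva hd.1.1 hd.2
    have hgb : g b = b := hgfix b hb.2 (fun h => hvb (hTeq v b h ▸ hT1 v)) (fun h => hd.1.2 (hTeq d b h ▸ hT1 d))
    have hab : b ∈ cls J a := link_of_mem_famStab le_sup_left hF₁ hΔF (by omega) ha hb.1
    have hgb' : b ∈ cls J v := by
      have h := Finset.mem_image_of_mem g hab
      rwa [image_cls (Subgroup.mem_sup_right hgF), hgv, hgb] at h
    rw [← cls_eq hab, cls_eq hgb', mem_cls]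
    exact Or.inl rfl
  · -- fixed points
    obtain ⟨f, hf⟩ : Fix.Nonempty := Finset.card_pos.1 (Nat.pos_of_ne_zero h30)
    have hfixs : ∀ x ∈ Fix, ∀ s ∈ S, ({x}ᶜ : Finset α).image s = {x}ᶜ := fun x hx s hs => by
      rw [Finset.compl_eq_univ_sdiff, Finset.image_sdiff _ _ s.injective, Finset.image_univ_of_surjective s.surjective,
        Finset.image_singleton, (mem_fix x).1 hx s hs]
    obtain ⟨Δ, hΔS, hΔ3, hfΔ, hΔn⟩ : ∃ Δ : Finset α, (∀ s ∈ S, Δ.image s = Δ) ∧ 3 ≤ Δ.card ∧ f ∈ Δ ∧ Δ ≠ Finset.univ := by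
      by_cases h2 : Fix.card = 2
      · obtain ⟨f', hf'⟩ : (Fix.erase f).Nonempty := Finset.card_pos.1 (by rw [Finset.card_erase_of_mem hf]; omega)
        rw [Finset.mem_erase] at hf'
        refine ⟨{f'}ᶜ, hfixs f' hf'.2, by rw [Finset.card_compl, hn, Finset.card_singleton]; omega, by simp [hf'.1.symm],
          fun h => ?_⟩
        exact absurd (h ▸ Finset.mem_univ f') (by simp)
      · have h1 : Fix.card = 1 := by omega
        obtain ⟨x, hx⟩ : ({f}ᶜ : Finset α).Nonempty := Finset.card_pos.1 (by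
          rw [Finset.card_compl, hn, Finset.card_singleton]; omega)
        rw [Finset.mem_compl, Finset.mem_singleton] at hx
        have hfo : f ∉ orb x := fun h => by
          have := orb_eq x f h
          have hxo := this ▸ self_mem x
          obtain ⟨s, hs, he⟩ := (mem_orb f x).1 hxo
          exact hx (he ▸ (mem_fix f).1 hf s hs)
        refine ⟨(orb x)ᶜ, fun s hs => ?_, ?_, by simpa using hfo, fun h => Finset.mem_compl.1 (h ▸ Finset.mem_univ x) (self_mem x)⟩
        · rw [Finset.compl_eq_univ_sdiff, Finset.image_sdiff _ _ s.injective,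
            Finset.image_univ_of_surjective s.surjective, orb_inv x s hs]
        by_contra hlt
        rw [Finset.card_compl, hn] at hlt
        obtain ⟨k, hk⟩ := orb_pow x
        have hsub : orb x ⊆ {f}ᶜ := fun y hy => by
          rw [Finset.mem_compl, Finset.mem_singleton]
          exact fun h => hfo (h ▸ hy)
        have hle := Finset.card_le_card hsub
        rw [Finset.card_compl, hn, Finset.card_singleton] at hle
        rcases (show n = (orb x).card + 1 ∨ n = (orb x).card + 2 by omega) with h | h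
        · rw [hk] at h
          rcases (show k = 0 ∨ k = 1 ∨ 2 ≤ k by omega) with rfl | rfl | hk2
          · omega
          · omega
          · exact hpow k hk2 h
        · have hmod' : n % 3 = 1 := by omega
          rw [hk] at h
          rcases k with - | k
          · omega
          · rw [pow_succ] at h; omega
    refine ⟨famStab {({f}ᶜ : Finset α)}, famStab {Δ}, famStab_le_alt _, famStab_le_alt _,
      le_inf (hSfam _ (hfixs f hf)) (hSfam _ hΔS), not_alt_le_famStab (hsing _) (Finset.mem_singleton_self _) (by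
        rw [Finset.card_compl, hn, Finset.card_singleton]; omega) (fun h => absurd (h ▸ Finset.mem_univ f) (by simp)),
      not_alt_le_famStab (hsing _) (Finset.mem_singleton_self _) (by omega) hΔn, ?_⟩
    set J := famStab {({f}ᶜ : Finset α)} ⊔ famStab {Δ} with hJ
    obtain ⟨a, ha⟩ : (Δ.erase f).Nonempty := Finset.card_pos.1 (by rw [Finset.card_erase_of_mem hfΔ]; omega)
    rw [Finset.mem_erase] at ha
    refine alt_le_of_cls a fun v => ?_
    by_cases hv : v = f
    · exact hv ▸ link_of_mem_famStab le_sup_right (hsing Δ) (Finset.mem_singleton_self _) hΔ3 ha.2 hfΔ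
    · exact link_of_mem_famStab le_sup_left (hsing _) (Finset.mem_singleton_self _)
        (by rw [Finset.card_compl, hn, Finset.card_singleton]; omega) (by simp [ha.1]) (by simp [hv])

/-- The three-minimal alternating groups. -/
theorem three_minimal_alternating (n : ℕ) (hn : 5 ≤ n) {X : Type*} [Group X] [Finite X] (hX : Cfsg.IsPMinimal 3 X)
    (e : X ≃* ↥(alternatingGroup (Fin n))) : n = 6 ∨ n = 9 ∨ ∃ a : ℕ, 2 ≤ a ∧ n = 3 ^ a + 1 := by
  haveI : Fact (Nat.Prime 3) := ⟨Nat.prime_three⟩
  by_contra hne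
  push_neg at hne
  obtain ⟨P₀⟩ : Nonempty (Sylow 3 X) := inferInstance
  let P : Sylow 3 ↥(alternatingGroup (Fin n)) := P₀.mapSurjective (f := e.toMonoidHom) e.surjective
  obtain ⟨M₁, M₂, h1, h2, hP, hp1, hp2, hjoin⟩ := exists_two_overgroups (α := Fin n) n (Fintype.card_fin n) hn hne.1 hne.2.1 hne.2.2 P
  let φ : X →* Perm (Fin n) := (alternatingGroup (Fin n)).subtype.comp e.toMonoidHom
  have hφ : φ.range = alternatingGroup (Fin n) := by
    rw [MonoidHom.range_comp, MonoidHom.range_eq_top.2 e.surjective, ← MonoidHom.range_eq_map, Subgroup.range_subtype]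
  obtain ⟨M, ⟨hM, -⟩, huniq⟩ := (hX P₀).2
  have key : ∀ N : Subgroup (Perm (Fin n)), (P : Subgroup ↥(alternatingGroup (Fin n))).map (alternatingGroup (Fin n)).subtype ≤ N →
      ¬ alternatingGroup (Fin n) ≤ N → N.comap φ ≤ M := by
    intro N hPN hN
    have hne' : N.comap φ ≠ ⊤ := fun h => hN (by rw [← hφ, MonoidHom.range_eq_map, Subgroup.map_le_iff_le_comap, h])
    obtain ⟨C, hC, hle⟩ := (eq_top_or_exists_le_coatom (N.comap φ)).resolve_left hne'
    refine hle.trans (huniq C ⟨hC, le_trans (fun x hx => ?_) hle⟩).le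
    exact hPN ⟨e x, ⟨x, hx, rfl⟩, rfl⟩
  refine hM.1 (eq_top_iff.2 ?_)
  have hsup : (M₁ ⊔ M₂).comap φ ≤ M := by
    have hle : M₁ ⊔ M₂ ≤ M.map φ := by
      refine sup_le ?_ ?_
      · calc M₁ = (M₁.comap φ).map φ := (Subgroup.map_comap_eq_self (hφ.symm ▸ h1)).symm
          _ ≤ M.map φ := Subgroup.map_mono (key M₁ (hP.trans inf_le_left) hp1)
      · calc M₂ = (M₂.comap φ).map φ := (Subgroup.map_comap_eq_self (hφ.symm ▸ h2)).symm
          _ ≤ M.map φ := Subgroup.map_mono (key M₂ (hP.trans inf_le_right) hp2)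
    exact (Subgroup.comap_mono hle).trans (Subgroup.comap_map_eq_self_of_injective
      (f := φ) (fun x y h => e.injective (Subtype.ext h)) M).le
  exact fun x _ => hsup (hjoin (hφ ▸ ⟨x, rfl⟩))

end CfsgLib.LocalEvenB.SymOver
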