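import Cfsg.Agent.Lib.TwoGroups.KleinSylow
import Cfsg.Agent.Lib.TwoGroups.OrderThreeSixty
import Cfsg.Agent.Lib.Classical.SevenTwo
import Cfsg.Agent.Lib.LocalEvenB.CoresGenerateOdd
import Cfsg.Agent.Lib.LocalEvenB.Basic
import Cfsg.Agent.Lib.TwoGroups.FourSubgroups
import Cfsg.Agent.Lib.TwoGroups.LocalSylow
import Cfsg.Agent.Lib.ZStar.Main
import Cfsg.Agent.S3864
import Cfsg.Agent.S3278
import Cfsg.Agent.S0848
import Cfsg.Agent.S0495

/-!
# Groups with an involution whose centralizer is dihedral of order 8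
-/

set_option autoImplicit false
set_option linter.all false

namespace CfsgLib.LocalEvenB.DEight

open Subgroup Cfsg
open scoped commutatorElement

variable {G : Type*} [Group G] [Finite G]

/-- The core is trivial when a four-group has three involutions with `2`-groups as centralizers. -/
theorem oddCore_eq_bot {a b : G} (ha : orderOf a = 2) (hb : orderOf b = 2) (hab : a * b = b * a)
    (hne : a ≠ b) (hA : IsPGroup 2 (centralizer ({a} : Set G))) (hB : IsPGroup 2 (centralizer ({b} : Set G)))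
    (hAB : IsPGroup 2 (centralizer ({a * b} : Set G))) : oddCore G = ⊥ := by
  have hn : (oddCore G).Normal := CfsgLib.Core.normal_pPrimeCore 2 G
  have hodd := CfsgLib.ZStar.odd_card_oddCore G
  have key : ∀ u : G, u ^ 2 = 1 → IsPGroup 2 (centralizer ({u} : Set G)) →
      ∀ x ∈ oddCore G, u * x * u⁻¹ = x⁻¹ := by
    intro u hu hp
    refine inverts_of_fixedPointFree hu (by rw [normalizer_eq_top_iff.2 hn]; exact mem_top _) ?_
    refine card_eq_one.1 (Nat.eq_one_of_dvd_coprimes ?_ (card_dvd_of_le inf_le_left) (dvd_refl _))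
    obtain ⟨k, hk⟩ := IsPGroup.iff_card.1 (hp.to_le (inf_le_right : oddCore G ⊓ centralizer ({u} : Set G) ≤ _))
    rw [hk]
    exact (Nat.coprime_two_right.2 hodd).pow_right k
  have ha2 : a ^ 2 = 1 := by rw [← ha]; exact pow_orderOf_eq_one a
  have hb2 : b ^ 2 = 1 := by rw [← hb]; exact pow_orderOf_eq_one b
  have hab2 : (a * b) ^ 2 = 1 := by rw [Commute.mul_pow hab, ha2, hb2, one_mul]
  refine (eq_bot_iff_forall _).2 fun x hx => ?_
  have h1 := key a ha2 hA x⁻¹ (inv_mem hx)
  have h2 := key b hb2 hB x hx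
  have h3 := key (a * b) hab2 hAB x hx
  rw [show a * b * x * (a * b)⁻¹ = a * (b * x * b⁻¹) * a⁻¹ by group, h2, h1, inv_inv] at h3
  have h4 : x * x = 1 := by nth_rewrite 2 [h3]; exact mul_inv_cancel x
  have h5 : orderOf x ∣ 2 := orderOf_dvd_of_pow_eq_one (by rw [pow_two]; exact h4)
  have h6 : orderOf x ∣ Nat.card (oddCore G) := Subgroup.orderOf_dvd_natCard _ hx
  exact orderOf_eq_one_iff.1 (Nat.eq_one_of_dvd_coprimes (Nat.coprime_two_left.2 hodd) h5 h6)

/-- A Sylow four-group whose elements have four-groups as centralizers. -/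
theorem four_core (U : Sylow 2 G) (hU : IsKleinFour (U : Subgroup G))
    (hC : ∀ u ∈ (U : Subgroup G), u ≠ 1 → centralizer ({u} : Set G) = U)
    (hnc : ¬ HasNormalPComplement 2 G) :
    (((U : Subgroup G).Normal ∧ Nat.card G = 12) ∨ Nonempty (G ≃* alternatingGroup (Fin 5))) ∧
      (∀ u ∈ (U : Subgroup G), ∀ v ∈ (U : Subgroup G), u ≠ 1 → v ≠ 1 → ∃ g, g * u * g⁻¹ = v) ∧
      oddCore G = ⊥ ∧ Nat.card (normalizer ((U : Subgroup G) : Set G)) = 12 := by
  classical
  obtain ⟨g, hg, w, hw, hgw⟩ : ∃ g ∈ normalizer ((U : Subgroup G) : Set G),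
      ∃ w ∈ (U : Subgroup G), g * w * g⁻¹ ≠ w := by
    by_contra h
    push Not at h
    exact hnc (CfsgLib.TwoGroups.hasNormalPComplement_of_normalizer_le U fun g hg =>
      mem_centralizer_iff.2 fun w hw => (mul_inv_eq_iff_eq_mul.1 (h g hg w hw)).symm)
  have hgU : g ∉ (U : Subgroup G) := fun h => hgw (by
    rw [CfsgLib.TwoGroups.klein_comm hU h hw, mul_inv_cancel_right])
  have hmove : ∀ u ∈ (U : Subgroup G), u ≠ 1 → g * u * g⁻¹ ≠ u := fun u hu hu1 h => hgU (by
    rw [← hC u hu hu1]; exact mem_centralizer_singleton_iff.2 (mul_inv_eq_iff_eq_mul.1 h))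
  have hgm : ∀ u ∈ (U : Subgroup G), g * u * g⁻¹ ∈ (U : Subgroup G) := fun u hu =>
    (mem_normalizer_iff.1 hg u).1 hu
  have hg1 : ∀ u : G, u ≠ 1 → g * u * g⁻¹ ≠ 1 := fun u hu h => hu (conj_eq_one_iff.1 h)
  have hsqU : ∀ u ∈ (U : Subgroup G), u * u = 1 := fun u hu => CfsgLib.TwoGroups.klein_mul_self hU hu
  have hord : ∀ u ∈ (U : Subgroup G), u ≠ 1 → orderOf u = 2 := fun u hu hu1 =>
    orderOf_eq_prime (by rw [pow_two]; exact hsqU u hu) hu1
  -- `g` cycles the three involutions
  have hcyc : ∀ u ∈ (U : Subgroup G), u ≠ 1 → ∀ v ∈ (U : Subgroup G), v ≠ 1 →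
      v = u ∨ v = g * u * g⁻¹ ∨ v = g * (g * u * g⁻¹) * g⁻¹ := by
    intro u hu hu1 v hv hv1
    set u' := g * u * g⁻¹ with hu'
    have h1 := hmove u hu hu1
    have h2 := hmove u' (hgm u hu) (hg1 u hu1)
    have hall : ∀ x ∈ (U : Subgroup G), x ≠ 1 → x = u ∨ x = u' ∨ x = u * u' := by
      intro x hx hx1
      have h4 := hU.card_four
      by_contra hcon
      push Not at hcon
      have hs : ({1, u, u', u * u', x} : Finset G).card = 5 := by
        have e1 : u * u' ≠ 1 := fun e => h1 (by
          rw [← hu']; exact (mul_left_cancel ((hsqU u hu).trans e.symm)).symm)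
        have e2 : u * u' ≠ u := fun e => hg1 u hu1 (mul_eq_left.1 e)
        have e3 : u * u' ≠ u' := fun e => hu1 (mul_eq_right.1 e)
        have n1 : (1 : G) ≠ u := hu1.symm
        have n2 : (1 : G) ≠ u' := (hg1 u hu1).symm
        have n3 : u ≠ u' := h1.symm
        rw [Finset.card_insert_of_notMem, Finset.card_insert_of_notMem, Finset.card_insert_of_notMem,
          Finset.card_insert_of_notMem, Finset.card_singleton]
        all_goals simp [n1, n2, n3, e1.symm, hx1.symm, e2.symm, e3.symm, hcon.1.symm, hcon.2.1.symm, hcon.2.2.symm]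
      haveI := Fintype.ofFinite ↥(U : Subgroup G)
      have hle : ({1, u, u', u * u', x} : Finset G) ⊆
          (Finset.univ : Finset ↥(U : Subgroup G)).map (Function.Embedding.subtype _) := by
        intro y hy
        simp only [Finset.mem_insert, Finset.mem_singleton] at hy
        simp only [Finset.mem_map, Finset.mem_univ, true_and, Function.Embedding.subtype_apply]
        refine ⟨⟨y, ?_⟩, rfl⟩
        rcases hy with rfl | rfl | rfl | rfl | rfl
        exacts [one_mem _, hu, hgm u hu, mul_mem hu (hgm u hu), hx]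
      have := Finset.card_le_card hle
      rw [hs, Finset.card_map, Finset.card_univ, ← Nat.card_eq_fintype_card, h4] at this
      omega
    have h3 : g * u' * g⁻¹ = u * u' := by
      rcases hall _ (hgm _ (hgm u hu)) (hg1 _ (hg1 u hu1)) with h | h | h
      · exfalso
        refine hmove (u * u') (mul_mem hu (hgm u hu)) (fun e => h1 ?_) ?_
        · exact (mul_left_cancel ((hsqU u hu).trans e.symm)).symm
        · rw [show g * (u * u') * g⁻¹ = (g * u * g⁻¹) * (g * u' * g⁻¹) by group, ← hu', h,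
            CfsgLib.TwoGroups.klein_comm hU (hgm u hu) hu]
      · exact absurd h h2
      · exact h
    rw [h3]
    exact hall v hv hv1
  have hconj : ∀ u ∈ (U : Subgroup G), ∀ v ∈ (U : Subgroup G), u ≠ 1 → v ≠ 1 →
      ∃ h ∈ normalizer ((U : Subgroup G) : Set G), h * u * h⁻¹ = v := by
    intro u hu v hv hu1 hv1
    rcases hcyc u hu hu1 v hv hv1 with rfl | rfl | rfl
    · exact ⟨1, one_mem _, by group⟩
    · exact ⟨g, hg, rfl⟩
    · exact ⟨g * g, mul_mem hg hg, by group⟩
  -- the normalizer
  haveI : Nontrivial ↥(U : Subgroup G) := by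
    rw [← Finite.one_lt_card_iff_nontrivial, hU.card_four]; norm_num
  obtain ⟨⟨z, hz⟩, hz1⟩ := exists_ne (1 : ↥(U : Subgroup G))
  have hz1 : z ≠ 1 := fun h => hz1 (Subtype.ext h)
  have hN12 : Nat.card (normalizer ((U : Subgroup G) : Set G)) = 12 := by
    set N := normalizer ((U : Subgroup G) : Set G) with hN
    let f : ↥N ⧸ (U : Subgroup G).subgroupOf N → {v : G // v ∈ (U : Subgroup G) ∧ v ≠ 1} :=
      Quotient.lift (fun h : ↥N => ⟨(h : G) * z * (h : G)⁻¹, (mem_normalizer_iff.1 h.2 z).1 hz,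
        fun e => hz1 (conj_eq_one_iff.1 e)⟩) (fun a b hab => Subtype.ext (by
          have h1 : (a : G)⁻¹ * b ∈ (U : Subgroup G) := mem_subgroupOf.1 (QuotientGroup.leftRel_apply.1 hab)
          have h2 := CfsgLib.TwoGroups.klein_comm hU h1 hz
          show (a : G) * z * (a : G)⁻¹ = (b : G) * z * (b : G)⁻¹
          calc (a : G) * z * (a : G)⁻¹ = a * (z * (((a : G)⁻¹ * b) * ((a : G)⁻¹ * b)⁻¹)) * (a : G)⁻¹ := by group
            _ = a * (((a : G)⁻¹ * b) * z * ((a : G)⁻¹ * b)⁻¹) * (a : G)⁻¹ := by rw [← mul_assoc z, ← h2]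
            _ = _ := by group))
    have hf : Function.Bijective f := by
      refine ⟨fun x y hxy => ?_, fun v => ?_⟩
      · obtain ⟨a, rfl⟩ := QuotientGroup.mk_surjective x
        obtain ⟨b, rfl⟩ := QuotientGroup.mk_surjective y
        refine QuotientGroup.eq.2 (mem_subgroupOf.2 ?_)
        have h1 : (a : G) * z * (a : G)⁻¹ = (b : G) * z * (b : G)⁻¹ := congrArg Subtype.val hxy
        rw [← hC z hz hz1]
        refine mem_centralizer_singleton_iff.2 ?_
        show (a : G)⁻¹ * b * z = z * ((a : G)⁻¹ * b)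
        calc (a : G)⁻¹ * b * z = (a : G)⁻¹ * (b * z * (b : G)⁻¹) * b := by group
          _ = _ := by rw [← h1]; group
      · obtain ⟨h, hh, e⟩ := hconj z hz v.1 v.2.1 hz1 v.2.2
        exact ⟨QuotientGroup.mk ⟨h, hh⟩, Subtype.ext e⟩
    have h3 : Nat.card {v : G // v ∈ (U : Subgroup G) ∧ v ≠ 1} = 3 := by
      haveI := Fintype.ofFinite ↥(U : Subgroup G)
      have e : {v : G // v ∈ (U : Subgroup G) ∧ v ≠ 1} ≃ {v : ↥(U : Subgroup G) // v ≠ 1} :=
        { toFun := fun v => ⟨⟨v.1, v.2.1⟩, fun h => v.2.2 (congrArg Subtype.val h)⟩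
          invFun := fun v => ⟨v.1.1, v.1.2, fun h => v.2 (Subtype.ext h)⟩
          left_inv := fun v => rfl
          right_inv := fun v => rfl }
      rw [Nat.card_congr e, Nat.card_eq_fintype_card, Fintype.card_subtype_compl, Fintype.card_subtype_eq,
        ← Nat.card_eq_fintype_card, hU.card_four]
    have := ((U : Subgroup G).subgroupOf N).card_mul_index
    rw [Subgroup.index_eq_card, Nat.card_congr (Equiv.ofBijective f hf), h3,
      Nat.card_congr (subgroupOfEquivOfLe (le_normalizer : (U : Subgroup G) ≤ N)).toEquiv, hU.card_four] at this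
    exact this.symm
  -- the core
  have hcore : oddCore G = ⊥ := by
    obtain ⟨h, hh, he⟩ : ∃ h, h ∈ normalizer ((U : Subgroup G) : Set G) ∧ h = g := ⟨g, hg, rfl⟩
    have hb := hgm z hz
    have hb1 := hg1 z hz1
    have hne : z ≠ g * z * g⁻¹ := (hmove z hz hz1).symm
    have hp : ∀ u ∈ (U : Subgroup G), u ≠ 1 → IsPGroup 2 (centralizer ({u} : Set G)) := fun u hu hu1 => by
      rw [hC u hu hu1]; exact U.2
    refine oddCore_eq_bot (hord z hz hz1) (hord _ hb hb1) (CfsgLib.TwoGroups.klein_comm hU hz hb) hne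
      (hp z hz hz1) (hp _ hb hb1) (hp _ (mul_mem hz hb) fun e => hne ?_)
    exact mul_left_cancel ((hsqU z hz).trans e.symm)
  refine ⟨?_, fun u hu v hv hu1 hv1 => (hconj u hu v hv hu1 hv1).imp fun h hh => hh.2, hcore, hN12⟩
  by_cases hUn : (U : Subgroup G).Normal
  · left
    refine ⟨hUn, ?_⟩
    rw [normalizer_eq_top_iff.2 hUn, card_top] at hN12
    exact hN12
  right
  haveI : Fact (Nat.Prime 2) := ⟨Nat.prime_two⟩
  have hsimple : IsSimpleGroup G := by
    haveI : Nontrivial G := ⟨⟨z, 1, hz1⟩⟩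
    refine ⟨fun K hK => ?_⟩
    by_contra hcon
    push Not at hcon
    obtain ⟨hK1, hKtop⟩ := hcon
    -- `K` contains the Sylow subgroup
    have hev : ¬ Odd (Nat.card K) := fun h => hK1 (le_bot_iff.1 ((CfsgLib.ZStar.le_oddCore hK h).trans hcore.le))
    obtain ⟨⟨k, hk⟩, hk2⟩ := exists_prime_orderOf_dvd_card' (G := K) 2 (by
      rwa [Nat.not_odd_iff_even, even_iff_two_dvd] at hev)
    rw [Subgroup.orderOf_mk] at hk2
    obtain ⟨T, hT⟩ := (IsPGroup.of_card (n := 1) (by rw [Nat.card_zpowers, hk2, pow_one]) :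
      IsPGroup 2 (zpowers k)).exists_le_sylow
    obtain ⟨c, hc⟩ := MulAction.exists_smul_eq G U T
    have hkT : k ∈ (T : Subgroup G) := hT (mem_zpowers k)
    rw [← hc, Sylow.coe_subgroup_smul, Subgroup.mem_smul_pointwise_iff_exists] at hkT
    obtain ⟨u, hu, huk⟩ := hkT
    have huK : u ∈ K := by
      have h1 : c * u * c⁻¹ = k := huk
      have := hK.conj_mem k hk c⁻¹
      rw [← h1] at this
      simpa [mul_assoc] using this
    have hu1 : u ≠ 1 := fun e => by
      rw [e] at huk
      have : k = 1 := by simpa using huk.symm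
      rw [this, orderOf_one] at hk2
      norm_num at hk2
    have hUK : (U : Subgroup G) ≤ K := fun v hv => by
      by_cases hv1 : v = 1
      · rw [hv1]; exact one_mem _
      obtain ⟨h, -, he⟩ := hconj u hu v hv hu1 hv1
      exact he ▸ hK.conj_mem u huK h
    have hfr : normalizer ((U : Subgroup G) : Set G) ⊔ K = ⊤ := by
      haveI := hK
      have := Sylow.normalizer_sup_eq_top (U.subtype hUK)
      rwa [Sylow.coe_subtype, Subgroup.map_subgroupOf_eq_of_le hUK] at this
    -- `K` meets the normalizer in more than `U`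
    by_cases hKN : normalizer ((U : Subgroup G) : Set G) ≤ K
    · exact hKtop (by rwa [sup_eq_right.2 hKN] at hfr)
    apply hUn
    have h4 : 4 ∣ Nat.card ↥(K ⊓ normalizer ((U : Subgroup G) : Set G)) := by
      rw [← hU.card_four]; exact card_dvd_of_le (le_inf hUK le_normalizer)
    have h12 : Nat.card ↥(K ⊓ normalizer ((U : Subgroup G) : Set G)) ∣ 12 := hN12 ▸ card_dvd_of_le inf_le_right
    have hlt : Nat.card ↥(K ⊓ normalizer ((U : Subgroup G) : Set G)) ≠ 12 := fun e => hKN
      ((eq_of_le_of_card_ge inf_le_right (by rw [e, hN12])).ge.trans inf_le_left)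
    have hKU : K ⊓ normalizer ((U : Subgroup G) : Set G) = U := by
      refine (eq_of_le_of_card_ge (le_inf hUK le_normalizer) ?_).symm
      rw [hU.card_four]
      have hle := Nat.le_of_dvd (by norm_num) h12
      obtain ⟨r, hr⟩ := h4
      rw [hr] at h12 hlt hle ⊢
      have hr3 : r ≤ 3 := by omega
      interval_cases r <;> simp_all
    haveI := hK
    obtain ⟨P, M, hM, hMP⟩ : HasNormalPComplement 2 K := by
      refine CfsgLib.TwoGroups.hasNormalPComplement_of_normalizer_le (U.subtype hUK) fun x hx => ?_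
      have hxU : (x : G) ∈ (U : Subgroup G) := hKU.le (mem_inf.2 ⟨x.2, mem_normalizer_of_forall fun v hv => by
        have := (mem_normalizer_iff.1 hx ⟨v, hUK hv⟩).1 (by rw [Sylow.coe_subtype, mem_subgroupOf]; exact hv)
        rw [Sylow.coe_subtype, mem_subgroupOf] at this
        exact this⟩)
      refine mem_centralizer_iff.2 fun v hv => Subtype.ext ?_
      rw [Sylow.coe_subtype, SetLike.mem_coe, mem_subgroupOf] at hv
      exact CfsgLib.TwoGroups.klein_comm hU hv hxU
    have hMle : M ≤ oddCore ↥K := CfsgLib.ZStar.le_oddCore hM (Nat.coprime_two_right.1 (by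
      have := P.card_coprime_index
      rw [hMP.index_eq_card] at this
      exact (Nat.Coprime.coprime_dvd_left (dvd_pow_self 2 (n := 2) (by norm_num)) (by
        have h4' : Nat.card (P : Subgroup K) = 4 := by
          rw [Sylow.card_eq_multiplicity P, ← Sylow.card_eq_multiplicity (U.subtype hUK), Sylow.coe_subtype,
            Nat.card_congr (subgroupOfEquivOfLe hUK).toEquiv, hU.card_four]
        rwa [h4', show (4 : ℕ) = 2 ^ 2 by norm_num] at this)).symm))
    have hMbot : M = ⊥ := by
      have hmap : (oddCore ↥K).map K.subtype ≤ oddCore G := by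
        haveI : (oddCore ↥K).Characteristic := CfsgLib.Core.characteristic_pPrimeCore 2 ↥K
        refine CfsgLib.ZStar.le_oddCore inferInstance ?_
        rw [card_map_of_injective K.subtype_injective]
        exact CfsgLib.ZStar.odd_card_oddCore _
      have h0 := (map_mono hMle).trans (hmap.trans hcore.le)
      exact le_bot_iff.1 (fun m hm => Subtype.ext (h0 (mem_map_of_mem _ hm)))
    have hP : (P : Subgroup K) = ⊤ := by
      rw [hMbot] at hMP
      exact isComplement'_bot_left.1 hMP
    have hKc : Nat.card K = 4 := by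
      rw [← card_top (G := K), ← hP, Sylow.card_eq_multiplicity P, ← Sylow.card_eq_multiplicity (U.subtype hUK),
        Sylow.coe_subtype, Nat.card_congr (subgroupOfEquivOfLe hUK).toEquiv, hU.card_four]
    rw [eq_of_le_of_card_ge hUK (by rw [hKc, hU.card_four])]
    exact hK
  haveI := hsimple
  refine Cfsg.Agent.S3278.result z (hord z hz hz1) U (hC z hz hz1).ge hU ?_ ?_
  · rw [hC z hz hz1, relIndex_self]; norm_num
  · rw [hC z hz hz1, subgroupOf_self]; infer_instance

theorem d8_facts : (∀ x : DihedralGroup 4, (∀ y, x * y = y * x) → x = 1 ∨ x = DihedralGroup.r 2) ∧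
    (∀ y : DihedralGroup 4, DihedralGroup.r 2 * y = y * DihedralGroup.r 2) ∧
    ⁅(DihedralGroup.r 1 : DihedralGroup 4), (DihedralGroup.sr 0 : DihedralGroup 4)⁆ = DihedralGroup.r 2 := by
  refine ⟨by decide +kernel, by decide +kernel, ?_⟩
  rw [commutatorElement_def]
  decide +kernel

theorem d8_gen : ∀ x : DihedralGroup 4, ∃ a b : DihedralGroup 4, a * a = 1 ∧ b * b = 1 ∧ x = a * b := by
  decide +kernel

set_option maxHeartbeats 1000000 in
/-- The classification. -/
theorem main (z : G) (hz : orderOf z = 2)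
    (hC : Nonempty (↥(centralizer ({z} : Set G)) ≃* DihedralGroup 4)) :
    centralizer ({z} : Set G) ⊔ oddCore G = ⊤ ∨ Nonempty (G ≃* Equiv.Perm (Fin 4)) ∨
      Nonempty (G ≃* Equiv.Perm (Fin 5)) ∨
      Nonempty (G ≃* Matrix.SpecialLinearGroup (Fin 3) (ZMod 2)) ∨ Nonempty (G ≃* ↥(alternatingGroup (Fin 6))) := by
  classical
  haveI : Fact (Nat.Prime 2) := ⟨Nat.prime_two⟩
  obtain ⟨e⟩ := hC
  obtain ⟨C, hCdef⟩ : ∃ C, C = centralizer ({z} : Set G) := ⟨_, rfl⟩
  have e' : ↥C ≃* DihedralGroup 4 := (MulEquiv.subgroupCongr hCdef).trans e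
  rw [← hCdef]
  have hC8 : Nat.card C = 8 := by
    rw [Nat.card_congr e'.toEquiv, Nat.card_eq_fintype_card]; rfl
  have hC2 : IsPGroup 2 C := IsPGroup.of_card (n := 3) (by rw [hC8]; norm_num)
  have hzC : z ∈ C := hCdef ▸ mem_centralizer_singleton_iff.2 rfl
  have hz1 : z ≠ 1 := fun h => by rw [h, orderOf_one] at hz; norm_num at hz
  have hzc : ∀ x ∈ C, x * z = z * x := fun x hx => mem_centralizer_singleton_iff.1 (hCdef ▸ hx)
  have hcen : ∀ x (hx : x ∈ C), (∀ y ∈ C, x * y = y * x) → x ≠ 1 → e' ⟨x, hx⟩ = DihedralGroup.r 2 := by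
    intro x hx h hx1
    refine (d8_facts.1 _ fun y => ?_).resolve_left fun h1 => hx1 (congrArg Subtype.val (e'.map_eq_one_iff.1 h1))
    obtain ⟨⟨y, hy⟩, rfl⟩ := e'.surjective y
    rw [← map_mul, ← map_mul]
    exact congrArg e' (Subtype.ext (h y hy))
  have hze : e' ⟨z, hzC⟩ = DihedralGroup.r 2 := hcen z hzC (fun y hy => (hzc y hy).symm) hz1
  have hcen' : ∀ x ∈ C, (∀ y ∈ C, x * y = y * x) → x = 1 ∨ x = z := fun x hx h => by
    by_cases hx1 : x = 1
    · exact Or.inl hx1
    · exact Or.inr (congrArg Subtype.val (e'.injective ((hcen x hx h hx1).trans hze.symm)))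
  -- `C` is a Sylow subgroup
  obtain ⟨P, hCP⟩ := hC2.exists_le_sylow
  have hPC : (P : Subgroup G) = C := by
    refine le_antisymm ?_ hCP
    haveI : Nontrivial ↥(P : Subgroup G) := ⟨⟨⟨z, hCP hzC⟩, 1, fun h => hz1 (congrArg Subtype.val h)⟩⟩
    haveI := P.2.center_nontrivial
    obtain ⟨⟨⟨y, hyP⟩, hyc⟩, hy1⟩ := exists_ne (1 : ↥(center ↥(P : Subgroup G)))
    have hy : ∀ x ∈ (P : Subgroup G), x * y = y * x := fun x hx =>
      congrArg Subtype.val (mem_center_iff.1 hyc ⟨x, hx⟩)
    have hyC : y ∈ C := hCdef ▸ mem_centralizer_singleton_iff.2 (hy z (hCP hzC)).symm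
    rcases hcen' y hyC (fun x hx => (hy x (hCP hx)).symm) with rfl | rfl
    · exact absurd (Subtype.ext (Subtype.ext rfl)) hy1
    · exact fun x hx => hCdef ▸ mem_centralizer_singleton_iff.2 (hy x hx)
  have e8 : ↥(P : Subgroup G) ≃* DihedralGroup (2 ^ (3 - 1)) := (MulEquiv.subgroupCongr hPC).trans e'
  -- conjugates of `z`
  have hcz : ∀ h : G, Nat.card (centralizer ({h * z * h⁻¹} : Set G)) = 8 := by
    intro h
    rw [show centralizer ({h * z * h⁻¹} : Set G) = C.map (MulAut.conj h).toMonoidHom by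
      ext x
      rw [mem_map_equiv, MulAut.conj_symm_apply, hCdef, mem_centralizer_singleton_iff, mem_centralizer_singleton_iff]
      refine ⟨fun hx => ?_, fun hx => ?_⟩
      · calc h⁻¹ * x * h * z = h⁻¹ * (x * (h * z * h⁻¹)) * h := by group
          _ = z * (h⁻¹ * x * h) := by rw [hx]; group
      · calc x * (h * z * h⁻¹) = h * (h⁻¹ * x * h * z) * h⁻¹ := by group
          _ = h * z * h⁻¹ * x := by rw [hx]; group, card_map_of_injective (MulEquiv.injective _), hC8]
  have hcz2 : ∀ h : G, IsPGroup 2 (centralizer ({h * z * h⁻¹} : Set G)) := fun h =>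
    IsPGroup.of_card (n := 3) (by rw [hcz h]; norm_num)
  have hcomplement : HasNormalPComplement 2 G → C ⊔ oddCore G = ⊤ := by
    intro h
    obtain ⟨K, hK, hKP⟩ := (CfsgLib.Transfer.exists_complement_iff P).2 h
    refine eq_top_iff.2 ?_
    rw [← hKP.sup_eq_top, hPC, sup_comm]
    refine sup_le_sup_left (CfsgLib.ZStar.le_oddCore hK (Nat.coprime_two_right.1 ?_)) _
    have := P.card_coprime_index
    rw [hKP.index_eq_card, hPC, hC8, show (8 : ℕ) = 2 ^ 3 by norm_num] at this
    exact (Nat.Coprime.coprime_dvd_left (dvd_pow_self 2 (n := 3) (by norm_num)) this).symm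
  rcases Cfsg.Agent.S3864.result P 3 le_rfl ⟨e8⟩ with ⟨h1, -⟩ | ⟨-, ⟨N, hN, hN2⟩, -⟩ | ⟨-, h⟩
  · -- one class
    have hall : ∀ u : G, orderOf u = 2 → ∃ h, h * z * h⁻¹ = u := by
      intro u hu
      obtain ⟨hs, -⟩ := Nat.card_eq_one_iff_unique.1 h1
      have := congrArg Subtype.val (hs.elim ⟨ConjClasses.mk z, z, rfl, hz⟩ ⟨ConjClasses.mk u, u, rfl, hu⟩)
      exact isConj_iff.1 (ConjClasses.mk_eq_mk_iff_isConj.1 this)
    have hu2 : ∀ u : G, orderOf u = 2 → IsPGroup 2 (centralizer ({u} : Set G)) := fun u hu => by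
      obtain ⟨h, rfl⟩ := hall u hu; exact hcz2 h
    have hmemK : ∀ x : DihedralGroup 4, x * x = 1 → x ≠ 1 → orderOf ((e'.symm x : ↥C) : G) = 2 :=
      fun x hx hx1 => by
        rw [Subgroup.orderOf_coe, MulEquiv.orderOf_eq]
        exact orderOf_eq_prime (by rw [pow_two]; exact hx) hx1
    have hcore : oddCore G = ⊥ := by
      set u := ((e'.symm (DihedralGroup.sr 0) : ↥C) : G)
      have hu := hmemK (DihedralGroup.sr 0) (by decide +kernel) (by decide +kernel)
      have huz : u * z = z * u := hzc u (e'.symm _).2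
      have hne : u ≠ z := fun h => by
        have h' := congrArg e' (Subtype.ext h : e'.symm (DihedralGroup.sr 0) = ⟨z, hzC⟩)
        rw [e'.apply_symm_apply, hze] at h'
        exact absurd h' (by decide +kernel)
      refine oddCore_eq_bot hu hz huz hne (hu2 u hu) (hu2 z hz) (hu2 _ (orderOf_eq_prime ?_ ?_))
      · rw [Commute.mul_pow huz, ← hu, pow_orderOf_eq_one, hu, ← hz, pow_orderOf_eq_one, one_mul]
      · intro h
        refine hne (mul_right_cancel (b := z) ?_)
        rw [h, ← pow_two, ← hz, pow_orderOf_eq_one]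
    have hbig : ∀ K : Subgroup G, K.Normal → z ∈ K → K = ⊤ := by
      intro K hK hzK
      have hinv : ∀ u : G, u * u = 1 → u ∈ K := fun u hu => by
        by_cases hu1 : u = 1
        · rw [hu1]; exact one_mem _
        obtain ⟨h, rfl⟩ := hall u (orderOf_eq_prime (by rw [pow_two]; exact hu) hu1)
        exact hK.conj_mem z hzK h
      have hCK : C ≤ K := by
        intro x hx
        obtain ⟨a, b, ha, hb, hab⟩ := d8_gen (e' ⟨x, hx⟩)
        have : (⟨x, hx⟩ : ↥C) = e'.symm a * e'.symm b := by rw [← map_mul, ← hab, e'.symm_apply_apply]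
        rw [show x = ((e'.symm a * e'.symm b : ↥C) : G) from congrArg Subtype.val this]
        refine mul_mem (hinv _ ?_) (hinv _ ?_)
        · exact congrArg Subtype.val (show e'.symm a * e'.symm a = 1 by rw [← map_mul, ha, map_one])
        · exact congrArg Subtype.val (show e'.symm b * e'.symm b = 1 by rw [← map_mul, hb, map_one])
      haveI := hK
      have hfr := Sylow.normalizer_sup_eq_top (P.subtype (hPC.le.trans hCK))
      rw [Sylow.coe_subtype, Subgroup.map_subgroupOf_eq_of_le (hPC.le.trans hCK), hPC] at hfr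
      rw [← hfr, eq_comm, sup_eq_right]
      intro g hg
      refine hCK ?_
      have h2 := (mem_normalizer_iff.1 hg z).1 hzC
      have h3 : g * z * g⁻¹ = 1 ∨ g * z * g⁻¹ = z := hcen' _ h2 fun y hy => by
        have hy' : g⁻¹ * y * g ∈ C := (mem_normalizer_iff''.1 hg y).1 hy
        calc g * z * g⁻¹ * y = g * (z * (g⁻¹ * y * g)) * g⁻¹ := by group
          _ = y * (g * z * g⁻¹) := by rw [← hzc _ hy']; group
      rw [hCdef]
      refine mem_centralizer_singleton_iff.2 (mul_inv_eq_iff_eq_mul.1 (h3.resolve_left ?_))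
      exact fun h => hz1 (conj_eq_one_iff.1 h)
    have hperf : commutator G = ⊤ := hbig _ inferInstance (by
      have h := d8_facts.2.2
      rw [← e'.apply_symm_apply (DihedralGroup.r 1), ← e'.apply_symm_apply (DihedralGroup.sr 0),
        ← map_commutatorElement, ← hze] at h
      rw [← show ((⁅e'.symm (DihedralGroup.r 1), e'.symm (DihedralGroup.sr 0)⁆ : ↥C) : G) = z from
        congrArg Subtype.val (e'.injective h)]
      exact commutator_mem_commutator (mem_top _) (mem_top _))
    haveI : IsSimpleGroup G := by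
      haveI : Nontrivial G := ⟨⟨z, 1, hz1⟩⟩
      refine ⟨fun K hK => ?_⟩
      by_cases hodd : Odd (Nat.card K)
      · exact Or.inl (le_bot_iff.1 ((CfsgLib.ZStar.le_oddCore hK hodd).trans hcore.le))
      · obtain ⟨⟨k, hk⟩, hk2⟩ := exists_prime_orderOf_dvd_card' (G := K) 2 (by
          rwa [Nat.not_odd_iff_even, even_iff_two_dvd] at hodd)
        rw [Subgroup.orderOf_mk] at hk2
        obtain ⟨h, rfl⟩ := hall k hk2
        refine Or.inr (hbig K hK ?_)
        have := hK.conj_mem _ hk h⁻¹
        simpa [mul_assoc] using this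
    rcases Cfsg.Agent.S0848.result hperf z hz (by rw [← hCdef]; exact e') with h | h
    · refine Or.inr (Or.inr (Or.inr (Or.inl ?_)))
      haveI : Fact (Nat.Prime 7) := ⟨by norm_num⟩
      obtain ⟨e7⟩ := Cfsg.Agent.S0495.result h (F := ZMod 7) (by simp)
      obtain ⟨φ⟩ := CfsgLib.Classical.Seven.nonempty_sl_three_equiv
      exact ⟨e7.trans φ.symm⟩
    · exact Or.inr (Or.inr (Or.inr (Or.inr (CfsgLib.TwoGroups.OrderThreeSixty.nonempty_equiv h))))
  swap
  · exact Or.inl (hcomplement h)
  by_cases hcomp : HasNormalPComplement 2 G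
  · exact Or.inl (hcomplement hcomp)
  right
  haveI := hN
  -- the Sylow subgroup of the subgroup of index two
  obtain ⟨U₀, hU₀⟩ : ∃ U₀ : Sylow 2 N, (U₀ : Subgroup N) = (P : Subgroup G).subgroupOf N := by
    obtain ⟨U₀⟩ : Nonempty (Sylow 2 N) := inferInstance
    obtain ⟨T, hT⟩ := (U₀.2.map N.subtype).exists_le_sylow
    obtain ⟨c, hc⟩ := MulAction.exists_smul_eq G T P
    refine ⟨(P.2.comap_of_injective N.subtype N.subtype_injective).toSylow ?_, rfl⟩
    rw [show ((P : Subgroup G).comap N.subtype).index = (P : Subgroup G).relIndex N from rfl]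
    intro h2
    have h3 : (P : Subgroup G).relIndex N ∣ (P : Subgroup G).index := by
      have h4 := relIndex_dvd_index_of_normal N (P : Subgroup G)
      have h5 := (inf_relIndex_left (P : Subgroup G) N)
      have e1 : (P ⊓ N : Subgroup G).index = (P : Subgroup G).relIndex N * N.index := by
        rw [← inf_relIndex_right, relIndex_mul_index inf_le_right]
      have e2 : (P ⊓ N : Subgroup G).index = N.relIndex (P : Subgroup G) * (P : Subgroup G).index := by
        rw [← inf_relIndex_left, relIndex_mul_index inf_le_left]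
      have h6 : N.relIndex (P : Subgroup G) ∣ 2 := h4.trans hN2.dvd
      have h7 : N.relIndex (P : Subgroup G) * (P : Subgroup G).index ∣ N.index * (P : Subgroup G).index :=
        Nat.mul_dvd_mul_right (hN2.symm ▸ h6) _
      rw [← e2, e1, mul_comm N.index] at h7
      exact Nat.dvd_of_mul_dvd_mul_right (by rw [hN2]; norm_num) h7
    exact P.not_dvd_index (h2.trans h3)
  have hU4 : Nat.card (U₀ : Subgroup N) = 4 := by
    have h1 : Nat.card G = Nat.card N * 2 := by rw [← hN2, Subgroup.card_mul_index]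
    have h2 := Sylow.card_eq_multiplicity U₀
    have h3 := Sylow.card_eq_multiplicity P
    rw [hPC, hC8, h1, Nat.factorization_mul Nat.card_pos.ne' two_ne_zero] at h3
    simp only [Finsupp.coe_add, Pi.add_apply, Nat.Prime.factorization_self Nat.prime_two] at h3
    rw [h2]
    have h8 : (Nat.card N).factorization 2 + 1 = 3 :=
      Nat.pow_right_injective le_rfl (show (2:ℕ) ^ ((Nat.card N).factorization 2 + 1) = 2 ^ 3 by rw [← h3])
    rw [show (Nat.card N).factorization 2 = 2 by omega]
    norm_num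
  have hncN : ¬ HasNormalPComplement 2 N := by
    intro h
    obtain ⟨K, hK, hKU⟩ := (CfsgLib.Transfer.exists_complement_iff U₀).2 h
    have hKodd : Odd (Nat.card K) := by
      refine Nat.coprime_two_right.1 ?_
      have := U₀.card_coprime_index
      rw [hKU.index_eq_card, hU4, show (4 : ℕ) = 2 ^ 2 by norm_num] at this
      exact (Nat.Coprime.coprime_dvd_left (dvd_pow_self 2 (n := 2) (by norm_num)) this).symm
    have hKO : K.map N.subtype ≤ oddCore G := by
      refine (map_mono (CfsgLib.ZStar.le_oddCore hK hKodd)).trans ?_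
      haveI : (oddCore ↥N).Characteristic := CfsgLib.Core.characteristic_pPrimeCore 2 ↥N
      refine CfsgLib.ZStar.le_oddCore inferInstance ?_
      rw [card_map_of_injective N.subtype_injective]
      exact CfsgLib.ZStar.odd_card_oddCore _
    apply hcomp
    refine ⟨P, oddCore G, CfsgLib.Core.normal_pPrimeCore 2 G, ?_⟩
    have hodd := CfsgLib.ZStar.odd_card_oddCore G
    refine isComplement'_of_coprime ?_ ?_
    · have h1 : Nat.card (oddCore G) * Nat.card (P : Subgroup G) ∣ Nat.card G :=
        (Nat.Coprime.mul_dvd_of_dvd_of_dvd (by rw [hPC, hC8]; exact (Nat.coprime_two_right.2 hodd).pow_right 3)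
          (card_subgroup_dvd_card _) (card_subgroup_dvd_card _))
      refine le_antisymm (Nat.le_of_dvd Nat.card_pos h1) ?_
      rw [← Subgroup.card_mul_index N, hN2, ← hKU.card_mul, hU4, hPC, hC8]
      have := Nat.le_of_dvd Nat.card_pos (card_dvd_of_le hKO)
      rw [card_map_of_injective N.subtype_injective] at this
      omega
    · rw [hPC, hC8]; exact (Nat.coprime_two_right.2 hodd).pow_right 3
  have hzN : z ∈ N ∧ ∀ x ∈ (U₀ : Subgroup N), (x : G) * z = z * x := by
    refine ⟨?_, fun x hx => hzc _ (hPC ▸ (mem_subgroupOf.1 (hU₀ ▸ hx)))⟩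
    have hker : ∀ x : G, x * x ∈ N := fun x => by
      have := Subgroup.pow_index_mem N x
      rwa [hN2, pow_two] at this
    have h : e' ⟨z, hzC⟩ = DihedralGroup.r 1 * DihedralGroup.r 1 := by rw [hze]; decide +kernel
    rw [← e'.apply_symm_apply (DihedralGroup.r 1), ← map_mul] at h
    rw [show z = ((e'.symm (DihedralGroup.r 1) : ↥C) : G) * ((e'.symm (DihedralGroup.r 1) : ↥C) : G) from
      congrArg Subtype.val (e'.injective h)]
    exact hker _
  obtain ⟨hzN1, hzN2⟩ := hzN
  have hzU : (⟨z, hzN1⟩ : N) ∈ (U₀ : Subgroup N) := by rw [hU₀, mem_subgroupOf, hPC]; exact hzC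
  have hz1N : (⟨z, hzN1⟩ : N) ≠ 1 := fun h => hz1 (congrArg Subtype.val h)
  have hCz : centralizer ({⟨z, hzN1⟩} : Set N) = U₀ := by
    ext x
    refine ⟨fun h => ?_, fun h => mem_centralizer_singleton_iff.2 (Subtype.ext (hzN2 x h))⟩
    rw [hU₀, mem_subgroupOf, hPC, hCdef]
    exact mem_centralizer_singleton_iff.2 (congrArg Subtype.val (mem_centralizer_singleton_iff.1 h) :)
  have hKlein : IsKleinFour (U₀ : Subgroup N) := by
    refine ⟨hU4, ?_⟩
    have hnc : ¬ IsCyclic ↥(U₀ : Subgroup N) := fun h => hncN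
      (CfsgLib.TwoGroups.hasNormalPComplement_of_normalizer_le U₀ (IsCyclic.normalizer_le_centralizer (P := U₀)
        ((Nat.minFac_eq_two_iff _).2 ((dvd_pow_self 2 (n := 2) (by norm_num)).trans
          ((show (2 : ℕ) ^ 2 = Nat.card (U₀ : Subgroup N) by rw [hU4]; norm_num).dvd.trans (card_subgroup_dvd_card _)))) h))
    refine ((Nat.dvd_prime Nat.prime_two).1 (Monoid.exponent_dvd_of_forall_pow_eq_one fun x => ?_)).resolve_left ?_
    · have h4 : orderOf x ∣ 4 := hU4 ▸ orderOf_dvd_natCard x
      have hne : orderOf x ≠ 4 := fun h => hnc (isCyclic_of_orderOf_eq_card x (h.trans hU4.symm))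
      obtain ⟨k, hk, hk'⟩ := (Nat.dvd_prime_pow Nat.prime_two).1 (show orderOf x ∣ 2 ^ 2 from h4)
      apply orderOf_dvd_iff_pow_eq_one.1
      rw [hk'] at hne ⊢
      interval_cases k <;> simp_all
    · intro h
      rw [Monoid.exp_eq_one_iff] at h
      rw [Nat.card_of_subsingleton (1 : ↥(U₀ : Subgroup N))] at hU4
      norm_num at hU4
  have hcomm4 : ∀ u ∈ (U₀ : Subgroup N), ∀ v ∈ (U₀ : Subgroup N), u * v = v * u := fun u hu v hv =>
    CfsgLib.TwoGroups.klein_comm hKlein hu hv
  -- the four-group is moved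
  obtain ⟨g, hg, w, hw, hgw⟩ : ∃ g ∈ normalizer ((U₀ : Subgroup N) : Set N),
      ∃ w ∈ (U₀ : Subgroup N), g * w * g⁻¹ ≠ w := by
    by_contra h
    push Not at h
    exact hncN (CfsgLib.TwoGroups.hasNormalPComplement_of_normalizer_le U₀ fun g hg =>
      mem_centralizer_iff.2 fun w hw => (mul_inv_eq_iff_eq_mul.1 (h g hg w hw)).symm)
  set zz : N := ⟨z, hzN1⟩ with hzz
  have hgU : g ∉ (U₀ : Subgroup N) := fun h => hgw (by rw [hcomm4 g h w hw, mul_inv_cancel_right])
  have hgm : ∀ u ∈ (U₀ : Subgroup N), g * u * g⁻¹ ∈ (U₀ : Subgroup N) := fun u hu => (mem_normalizer_iff.1 hg u).1 hu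
  have hgz : g * zz * g⁻¹ ≠ zz := fun h => hgU (hCz ▸ mem_centralizer_singleton_iff.2 (mul_inv_eq_iff_eq_mul.1 h))
  have hcU : ∀ u ∈ (U₀ : Subgroup N), u ≠ 1 → ∃ h : N, h * zz * h⁻¹ = u := by
    intro u hu hu1
    set u₁ := g * zz * g⁻¹ with hu₁
    set u₂ := g * u₁ * g⁻¹ with hu₂
    have hsq := fun {v : N} (hv : v ∈ (U₀ : Subgroup N)) => CfsgLib.TwoGroups.klein_mul_self hKlein hv
    have h21 : u₂ ≠ zz := by
      intro h
      have hg2 : g * g ∈ (U₀ : Subgroup N) := by
        rw [← hCz]
        refine mem_centralizer_singleton_iff.2 ?_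
        calc g * g * zz = u₂ * (g * g) := by rw [hu₂, hu₁]; group
          _ = zz * (g * g) := by rw [h]
      refine hgU (CfsgLib.TwoGroups.mem_sylow_of_mem_normalizer U₀ hg ⟨2, ?_⟩)
      rw [show (2 : ℕ) ^ 2 = 2 + 2 by norm_num, pow_add, pow_two]
      exact hsq hg2
    have h3 : u = zz ∨ u = u₁ ∨ u = u₂ := by
      by_contra hcon
      push Not at hcon
      have h1 : u₁ ≠ 1 := fun h => hz1N (conj_eq_one_iff.1 h)
      have h2 : u₂ ≠ 1 := fun h => h1 (conj_eq_one_iff.1 h)
      have h12 : u₂ ≠ u₁ := fun h => hgz (by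
        have := congrArg (fun t => g⁻¹ * t * g) h
        simpa [hu₂, hu₁, mul_assoc] using this)
      haveI := Fintype.ofFinite ↥(U₀ : Subgroup N)
      have hs : ({1, zz, u₁, u₂, u} : Finset N).card = 5 := by
        simp [hz1N.symm, h1.symm, h2.symm, hu1.symm, hgz.symm, h21.symm, h12.symm, hcon.1.symm, hcon.2.1.symm, hcon.2.2.symm]
      have hle : ({1, zz, u₁, u₂, u} : Finset N) ⊆
          (Finset.univ : Finset ↥(U₀ : Subgroup N)).map (Function.Embedding.subtype _) := by
        intro y hy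
        simp only [Finset.mem_insert, Finset.mem_singleton] at hy
        simp only [Finset.mem_map, Finset.mem_univ, true_and, Function.Embedding.subtype_apply]
        refine ⟨⟨y, ?_⟩, rfl⟩
        rcases hy with rfl | rfl | rfl | rfl | rfl
        exacts [one_mem _, hzU, hgm _ hzU, hgm _ (hgm _ hzU), hu]
      have := Finset.card_le_card hle
      rw [hs, Finset.card_map, Finset.card_univ, ← Nat.card_eq_fintype_card, hU4] at this
      omega
    rcases h3 with rfl | rfl | rfl
    · exact ⟨1, by group⟩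
    · exact ⟨g, rfl⟩
    · exact ⟨g * g, by rw [hu₂, hu₁]; group⟩
  have hCU : ∀ u ∈ (U₀ : Subgroup N), u ≠ 1 → centralizer ({u} : Set N) = U₀ := by
    intro u hu hu1
    refine (eq_of_le_of_card_ge (fun v hv => mem_centralizer_singleton_iff.2 (hcomm4 v hv u hu)) ?_).symm
    obtain ⟨h, rfl⟩ := hcU u hu hu1
    rw [show centralizer ({h * zz * h⁻¹} : Set N) = (U₀ : Subgroup N).map (MulAut.conj h).toMonoidHom by
      rw [← hCz]
      ext x
      rw [mem_map_equiv, MulAut.conj_symm_apply, mem_centralizer_singleton_iff, mem_centralizer_singleton_iff]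
      refine ⟨fun hx => ?_, fun hx => ?_⟩
      · calc h⁻¹ * x * h * zz = h⁻¹ * (x * (h * zz * h⁻¹)) * h := by group
          _ = zz * (h⁻¹ * x * h) := by rw [hx]; group
      · calc x * (h * zz * h⁻¹) = h * (h⁻¹ * x * h * zz) * h⁻¹ := by group
          _ = h * zz * h⁻¹ * x := by rw [hx]; group, card_map_of_injective (MulEquiv.injective _)]
  obtain ⟨hcase, -, -, hN12⟩ := four_core U₀ hKlein hCU hncN
  have hGN : Nat.card G = 2 * Nat.card N := by rw [mul_comm, ← hN2, Subgroup.card_mul_index]
  -- the four-group in `G`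
  obtain ⟨U, hU⟩ : ∃ U, U = (U₀ : Subgroup N).map N.subtype := ⟨_, rfl⟩
  have hUN : U ≤ N := hU ▸ map_subtype_le _
  have hU4' : Nat.card U = 4 := by rw [hU, card_map_of_injective N.subtype_injective, hU4]
  have hUC : centralizer (U : Set G) ≤ U := by
    intro x hx
    have hxC : x ∈ C := hCdef ▸ mem_centralizer_singleton_iff.2
      (mem_centralizer_iff.1 hx z (hU ▸ ⟨zz, hzU, rfl⟩)).symm
    have hUC' : U ≤ C := by rw [hU, hU₀, ← hPC]; exact (map_comap_le _ _)
    by_contra hxU
    have hcomm : ∀ a ∈ U, ∀ b ∈ U, a * b = b * a := by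
      rw [hU]; rintro _ ⟨a, ha, rfl⟩ _ ⟨b, hb, rfl⟩
      exact congrArg Subtype.val (hcomm4 a ha b hb)
    have hlt : U < U ⊔ zpowers x := left_lt_sup.2 fun h => hxU (h (mem_zpowers x))
    have hle : U ⊔ zpowers x ≤ C := sup_le hUC' (zpowers_le.2 hxC)
    have h8 : U ⊔ zpowers x = C := by
      refine eq_of_le_of_card_ge hle ?_
      have h1 := card_dvd_of_le hle
      have h2 := card_dvd_of_le hlt.le
      have h3 : Nat.card ↥(U ⊔ zpowers x) ≠ 4 := fun h => hlt.ne (eq_of_le_of_card_ge hlt.le (by rw [h, hU4']))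
      rw [hC8] at h1 ⊢
      rw [hU4'] at h2
      obtain ⟨r, hr⟩ := h2
      have h4 := Nat.le_of_dvd (by norm_num) h1
      rw [hr] at h1 h3 h4 ⊢
      have hr2 : r ≤ 2 := by omega
      interval_cases r <;> simp_all
    have hab : IsMulCommutative ↥C := by
      rw [← h8, ← le_centralizer_iff_isMulCommutative, centralizer_sup]
      have h1 : U ≤ centralizer ({x} : Set G) := fun u hu =>
        mem_centralizer_singleton_iff.2 (mem_centralizer_iff.1 hx u hu)
      refine sup_le (le_inf (fun u hu => mem_centralizer_iff.2 fun v hv => hcomm v hv u hu) ?_) (le_inf ?_ ?_)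
      · rw [le_centralizer_iff, zpowers_le]
        exact hx
      · rw [zpowers_le]; exact hx
      · exact le_centralizer_iff_isMulCommutative.2 inferInstance
    have := congrArg e' (hab.is_comm.comm (e'.symm (DihedralGroup.r 1)) (e'.symm (DihedralGroup.sr 0)))
    rw [map_mul, map_mul, e'.apply_symm_apply, e'.apply_symm_apply] at this
    exact absurd this (by decide +kernel)
  rcases hcase with ⟨hUn, h12⟩ | hA5'
  · -- `S₄`
    left
    rw [h12] at hGN
    have hUchar : ∀ h : G, ∀ x ∈ U, h * x * h⁻¹ ∈ U := by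
      haveI : (U₀ : Subgroup N).Characteristic := by
        haveI := Sylow.unique_of_normal U₀ hUn
        exact U₀.characteristic_of_subsingleton
      have : U.Normal := hU ▸ inferInstance
      exact fun h x hx => this.conj_mem x hx h
    haveI : Fact (Nat.Prime 3) := ⟨Nat.prime_three⟩
    have hconjU : ∀ u ∈ U, u ≠ 1 → ∀ v ∈ U, v ≠ 1 → ∀ K : Subgroup G, K.Normal → u ∈ K → v ∈ K := by
      rw [hU]; rintro _ ⟨u, hu, rfl⟩ hu1 _ ⟨v, hv, rfl⟩ hv1 K hK huK
      obtain ⟨h, he⟩ := hcU u hu (fun e => hu1 (by rw [e]; rfl))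
      obtain ⟨h', he'⟩ := hcU v hv (fun e => hv1 (by rw [e]; rfl))
      rw [show v = (h' * h⁻¹) * u * (h' * h⁻¹)⁻¹ by rw [← he, ← he']; group]
      exact hK.conj_mem _ huK _
    let T : Sylow 3 G := default
    have hT3 : Nat.card (T : Subgroup G) = 3 := by
      rw [Sylow.card_eq_multiplicity T, hGN]
      rw [show (2 * 12 : ℕ) = 3 * 8 by norm_num, Nat.factorization_mul (by norm_num) (by norm_num)]
      simp [Nat.Prime.factorization_self Nat.prime_three, Nat.factorization_eq_zero_of_not_dvd (show ¬ 3 ∣ 8 by norm_num)]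
    have hnotU : ∀ K : Subgroup G, K.Normal → (∀ R : Sylow 3 G, K ≤ normalizer ((R : Subgroup G) : Set G)) →
        Disjoint K U := by
      intro K hK hKN
      rw [disjoint_iff]
      refine (eq_bot_iff_forall _).2 fun u hu => ?_
      by_contra hu1
      have hUK : U ≤ K := fun v hv => by
        by_cases hv1 : v = 1
        · rw [hv1]; exact one_mem _
        · exact hconjU u hu.2 hu1 v hv hv1 K hK hu.1
      have hdis : Disjoint U (T : Subgroup G) := disjoint_iff.2 (card_eq_one.1 (Nat.eq_one_of_dvd_coprimes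
        (show Nat.Coprime 4 3 by norm_num) ((card_dvd_of_le inf_le_left).trans hU4'.dvd) ((card_dvd_of_le inf_le_right).trans hT3.dvd)))
      have hTC : (T : Subgroup G) ≤ centralizer (U : Set G) := fun r hr => mem_centralizer_iff.2 fun v hv => by
        have h1 : v * r * v⁻¹ * r⁻¹ ∈ U ⊓ (T : Subgroup G) := by
          refine mem_inf.2 ⟨?_, mul_mem ((mem_normalizer_iff.1 (hKN T (hUK hv)) r).1 hr) (inv_mem hr)⟩
          rw [show v * r * v⁻¹ * r⁻¹ = v * (r * v⁻¹ * r⁻¹) by group]
          exact mul_mem hv (hUchar r _ (inv_mem hv))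
        rw [hdis.eq_bot, mem_bot, mul_inv_eq_one, mul_inv_eq_iff_eq_mul] at h1
        exact h1
      have := card_dvd_of_le (hTC.trans hUC)
      rw [hT3, hU4'] at this
      norm_num at this
    have hn4 : Nat.card (Sylow 3 G) = 4 := by
      have hd := T.card_dvd_index
      have hidx : (T : Subgroup G).index = 8 := by
        have := (T : Subgroup G).card_mul_index
        rw [hT3, hGN] at this
        omega
      rw [hidx] at hd
      have hmod : Nat.card (Sylow 3 G) % 3 = 1 := card_sylow_modEq_one 3 G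
      have hle := Nat.le_of_dvd (by norm_num) hd
      have hne : Nat.card (Sylow 3 G) ≠ 1 := fun h1 => by
        have hTn : (T : Subgroup G).Normal := by
          haveI := (Nat.card_eq_one_iff_unique.1 h1).1
          exact Sylow.normal_of_subsingleton T
        have := hnotU ⊤ inferInstance (fun R => by
          haveI := (Nat.card_eq_one_iff_unique.1 h1).1
          rw [Subsingleton.elim R T, normalizer_eq_top_iff.2 hTn])
        rw [disjoint_iff, top_inf_eq] at this
        rw [this, card_bot] at hU4'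
        norm_num at hU4'
      interval_cases (Nat.card (Sylow 3 G)) <;> omega
    let φ := MulAction.toPermHom G (Sylow 3 G)
    have hker : φ.ker = ⊥ := by
      have hle : ∀ R : Sylow 3 G, φ.ker ≤ normalizer ((R : Subgroup G) : Set G) := fun R k hk =>
        Sylow.smul_eq_iff_mem_normalizer.1 (Equiv.ext_iff.1 (MonoidHom.mem_ker.1 hk) R)
      have hd := hnotU φ.ker inferInstance hle
      refine le_bot_iff.1 (fun k hk => ?_)
      have hkU : k ∈ U := hUC (mem_centralizer_iff.2 fun v hv =>
        (Subgroup.commute_of_normal_of_disjoint φ.ker U inferInstance ⟨fun x hx h => hUchar h x hx⟩ hd k v hk hv).eq.symm)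
      exact hd.eq_bot.le ⟨hk, hkU⟩
    let i : Sylow 3 G ≃ Fin 4 := Finite.equivFinOfCardEq hn4
    refine ⟨MulEquiv.ofBijective ((i.permCongrHom : _ →* _).comp φ) ((Nat.bijective_iff_injective_and_card _).2
      ⟨i.permCongrHom.injective.comp ((MonoidHom.ker_eq_bot_iff φ).1 hker), ?_⟩)⟩
    rw [hGN, Nat.card_perm, Nat.card_fin]; rfl
  · -- `S₅`
    obtain ⟨hA5⟩ := hA5'
    right; left
    have h60 : Nat.card N = 60 := by
      rw [Nat.card_congr hA5.toEquiv, Nat.card_eq_fintype_card]; decide +kernel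
    haveI : IsSimpleGroup ↥N := by
      haveI : IsSimpleGroup (alternatingGroup (Fin 5)) := alternatingGroup.isSimpleGroup_five
      haveI : Nontrivial ↥N := hA5.toEquiv.nontrivial
      exact IsSimpleGroup.isSimpleGroup_of_surjective hA5.symm.toMonoidHom hA5.symm.surjective
    let M := normalizer (U : Set G)
    have hMN : M ⊓ N = (normalizer ((U₀ : Subgroup N) : Set N)).map N.subtype := by
      ext x
      constructor
      · rintro ⟨hxM, hxN⟩
        refine ⟨⟨x, hxN⟩, mem_normalizer_iff.2 fun v => ?_, rfl⟩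
        have e1 : ∀ w : N, w ∈ (U₀ : Subgroup N) ↔ (w : G) ∈ U := fun w => by
          rw [hU]; exact (mem_map_iff_mem N.subtype_injective).symm
        rw [e1, e1]
        exact mem_normalizer_iff.1 hxM v
      · rintro ⟨y, hy, rfl⟩
        refine ⟨mem_normalizer_of_forall fun v hv => ?_, y.2⟩
        rw [hU] at hv ⊢
        obtain ⟨v', hv', rfl⟩ := hv
        exact ⟨y * v' * y⁻¹, (mem_normalizer_iff.1 hy v').1 hv', rfl⟩
    have hPM : (P : Subgroup G) ≤ M := by
      intro x hx
      refine mem_normalizer_of_forall fun v hv => ?_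
      rw [hU, hU₀, Subgroup.subgroupOf_map_subtype] at hv ⊢
      exact mem_inf.2 ⟨mul_mem (mul_mem hx (mem_inf.1 hv).1) (inv_mem hx), hN.conj_mem v (mem_inf.1 hv).2 x⟩
    have hidx : M.index = 5 := by
      have h1 := relIndex_dvd_index_of_normal N M
      have h3 : Nat.card ↥(M ⊓ N) = 12 := by rw [hMN, card_map_of_injective N.subtype_injective, hN12]
      have h4 : N.relIndex M * 12 = Nat.card M := by
        have := (N.subgroupOf M).card_mul_index
        rw [← card_map_of_injective M.subtype_injective (K := N.subgroupOf M), Subgroup.subgroupOf_map_subtype, inf_comm, h3, mul_comm] at this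
        exact this
      have h5 : 8 ∣ Nat.card M := by rw [← hC8, ← hPC]; exact card_dvd_of_le hPM
      have h6 := M.card_mul_index
      rw [hN2] at h1
      rcases (Nat.dvd_prime Nat.prime_two).1 h1 with h | h <;> rw [h] at h4
      · omega
      · rw [← h4, hGN, h60] at h6
        omega
    let φ := MulAction.toPermHom G (G ⧸ M)
    have hker : φ.ker = ⊥ := by
      have hle : φ.ker ≤ M := fun k hk => by
        have := Equiv.ext_iff.1 (MonoidHom.mem_ker.1 hk) ((1 : G) : G ⧸ M)
        simpa [φ, MulAction.Quotient.smul_coe, QuotientGroup.eq] using this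
      haveI : (φ.ker.subgroupOf N).Normal := inferInstance
      have hb : φ.ker.subgroupOf N = ⊥ := by
        refine (Subgroup.Normal.eq_bot_or_eq_top inferInstance).resolve_right fun h => ?_
        have h1 : N ≤ M := (subgroupOf_eq_top.1 h).trans hle
        have := index_dvd_of_le h1
        rw [hidx, hN2] at this
        norm_num at this
      rw [subgroupOf_eq_bot] at hb
      refine le_bot_iff.1 fun k hk => ?_
      have hkc : k ∈ centralizer (U : Set G) := mem_centralizer_iff.2 fun v hv =>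
        (Subgroup.commute_of_normal_of_disjoint φ.ker N inferInstance hN hb k v hk (hUN hv)).eq.symm
      exact hb.eq_bot.le ⟨hk, hUN (hUC hkc)⟩
    let i : G ⧸ M ≃ Fin 5 := Finite.equivFinOfCardEq (by rw [← Subgroup.index_eq_card, hidx])
    refine ⟨MulEquiv.ofBijective ((i.permCongrHom : _ →* _).comp φ) ((Nat.bijective_iff_injective_and_card _).2
      ⟨i.permCongrHom.injective.comp ((MonoidHom.ker_eq_bot_iff φ).1 hker), ?_⟩)⟩
    rw [hGN, h60, Nat.card_perm, Nat.card_fin]; rfl

end CfsgLib.LocalEvenB.DEight
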