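import Cfsg.Agent.Lib.LocalEvenB.CentrallyLarge
import Cfsg.Agent.Lib.LocalEvenB.BaumannBlock

/-!
# A minimal centrally large subgroup normalised by all of them

Replacement: if the centre `D` of a minimal centrally large subgroup is not normalised by an abelian
subgroup `X` with `DX = XD`, another such centre meets the upper central series in larger subgroups.
-/

set_option autoImplicit false
set_option linter.all false

open Cfsg
open scoped Pointwise

namespace CfsgLib.LocalEvenB.CLNormal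

open Subgroup

variable {G : Type*} [Group G] [Finite G]

/-- Centres of minimal centrally large subgroups. -/
def IsTop (D : Subgroup G) : Prop :=
  ∃ Q : Subgroup G, IsMinimalCentrallyLarge Q ∧ D = centralizer (Q : Set G)

theorem top_props {D : Subgroup G} (hD : IsTop D) :
    IsCentralizerLarge D ∧ D ≤ centralizer (D : Set G) ∧
      (∀ X : Subgroup G, IsCentralizerLarge X → X ≤ centralizer (X : Set G) → D ≤ X → X = D) := by
  obtain ⟨Q, hQ, rfl⟩ := hD
  obtain ⟨hQl, hQc⟩ := (isCentrallyLarge_iff Q).1 hQ.1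
  obtain ⟨hDl, hQDD⟩ := cd_centralizer hQl
  refine ⟨hDl, hQc.trans hQDD.le, fun X hX hXab hle => ?_⟩
  obtain ⟨hCl, hXCC⟩ := cd_centralizer hX
  have hcl : IsCentrallyLarge (centralizer (X : Set G)) :=
    (isCentrallyLarge_iff _).2 ⟨hCl, hXCC.ge.trans hXab⟩
  have he := hQ.2 _ (le_of_le_of_eq (centralizer_le (SetLike.coe_subset_coe.2 hle)) hQDD.symm) hcl
  rw [hXCC, he]

theorem top_of_card {D E : Subgroup G} (hD : IsTop D) (hE : IsCentralizerLarge E)
    (hEab : E ≤ centralizer (E : Set G)) (hcard : Nat.card D ≤ Nat.card E) : IsTop E := by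
  obtain ⟨Q, hQ, rfl⟩ := hD
  obtain ⟨hCl, hECC⟩ := cd_centralizer hE
  have hcl : IsCentrallyLarge (centralizer (E : Set G)) :=
    (isCentrallyLarge_iff _).2 ⟨hCl, hECC.ge.trans hEab⟩
  obtain ⟨X, hX, hXm⟩ := exists_isMinimalCentrallyLarge_le hcl
  refine ⟨X, hXm, eq_of_le_of_card_ge (le_of_eq_of_le hECC (centralizer_le (SetLike.coe_subset_coe.2 hX))) ?_⟩
  rw [← (mcl_data hQ hXm).2.2]
  exact hcard

omit [Finite G] in
/-- Commutators commute in a product of two abelian subgroups. -/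
theorem comm_comm_aux {D X : Subgroup G} (hD : ∀ a ∈ D, ∀ b ∈ D, a * b = b * a)
    (hX : ∀ a ∈ X, ∀ b ∈ X, a * b = b * a)
    (hW : ((D ⊔ X : Subgroup G) : Set G) = (D : Set G) * (X : Set G)) {a b x y : G} (ha : a ∈ D) (hb : b ∈ D)
    (hx : x ∈ X) (hy : y ∈ X) :
    (a * x * a⁻¹ * x⁻¹) * (b⁻¹ * y⁻¹ * b * y) = (b⁻¹ * y⁻¹ * b * y) * (a * x * a⁻¹ * x⁻¹) := by
  set c := a * x * a⁻¹ * x⁻¹ with hc
  have h1' : (b * x * b⁻¹)⁻¹ ∈ ((D ⊔ X : Subgroup G) : Set G) :=
    inv_mem (mul_mem (mul_mem (mem_sup_left hb) (mem_sup_right hx)) (inv_mem (mem_sup_left hb)))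
  have h2 : y * a * y⁻¹ ∈ ((D ⊔ X : Subgroup G) : Set G) :=
    mul_mem (mul_mem (mem_sup_right hy) (mem_sup_left ha)) (inv_mem (mem_sup_right hy))
  rw [hW] at h1' h2
  obtain ⟨d₁, hd₁, x₁, hx₁, he₁⟩ := Set.mem_mul.1 h1'
  obtain ⟨a₂, ha₂, x₂, hx₂, he₂⟩ := Set.mem_mul.1 h2
  have e₁ : b * x * b⁻¹ = x₁⁻¹ * d₁⁻¹ := by rw [← mul_inv_rev, he₁, inv_inv]
  have hb' : ∀ v ∈ D, b * (v * x * v⁻¹ * x⁻¹) * b⁻¹ = v * x₁⁻¹ * v⁻¹ * x₁ := by
    intro v hv
    have e0 : b * (v * x * v⁻¹ * x⁻¹) * b⁻¹ = v * (b * x * b⁻¹) * v⁻¹ * (b * x * b⁻¹)⁻¹ := by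
      calc b * (v * x * v⁻¹ * x⁻¹) * b⁻¹ = (b * v) * x * v⁻¹ * x⁻¹ * b⁻¹ := by group
        _ = (v * b) * x * (b⁻¹ * (b * v⁻¹)) * x⁻¹ * b⁻¹ := by rw [hD b hb v hv]; group
        _ = (v * b) * x * (b⁻¹ * (v⁻¹ * b)) * x⁻¹ * b⁻¹ := by rw [hD b hb _ (inv_mem hv)]
        _ = _ := by group
    rw [e0, e₁]
    calc v * (x₁⁻¹ * d₁⁻¹) * v⁻¹ * (x₁⁻¹ * d₁⁻¹)⁻¹ = v * x₁⁻¹ * (d₁⁻¹ * v⁻¹) * d₁ * x₁ := by group
      _ = v * x₁⁻¹ * (v⁻¹ * d₁⁻¹) * d₁ * x₁ := by rw [hD _ (inv_mem hd₁) _ (inv_mem hv)]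
      _ = _ := by group
  have hy' : ∀ w ∈ X, y * (a * w * a⁻¹ * w⁻¹) * y⁻¹ = a₂ * w * a₂⁻¹ * w⁻¹ := by
    intro w hw
    calc y * (a * w * a⁻¹ * w⁻¹) * y⁻¹ = (y * a * y⁻¹) * (y * w * y⁻¹) * (y * a * y⁻¹)⁻¹ * (y * w * y⁻¹)⁻¹ := by group
      _ = (a₂ * x₂) * w * (a₂ * x₂)⁻¹ * w⁻¹ := by rw [he₂, hX y hy w hw, mul_inv_cancel_right]
      _ = a₂ * (x₂ * w) * x₂⁻¹ * a₂⁻¹ * w⁻¹ := by group
      _ = a₂ * (w * x₂) * x₂⁻¹ * a₂⁻¹ * w⁻¹ := by rw [hX x₂ hx₂ w hw]
      _ = _ := by group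
  have key : b * (y * c * y⁻¹) * b⁻¹ = y * (b * c * b⁻¹) * y⁻¹ := by
    rw [hc, hy' x hx, hb' a₂ ha₂, hb' a ha]
    have := hy' x₁⁻¹ (inv_mem hx₁)
    rw [inv_inv] at this
    exact this.symm
  have k2 : (b⁻¹ * y⁻¹ * b * y) * c * (b⁻¹ * y⁻¹ * b * y)⁻¹ = c := by
    calc (b⁻¹ * y⁻¹ * b * y) * c * (b⁻¹ * y⁻¹ * b * y)⁻¹
        = (y * b)⁻¹ * (b * (y * c * y⁻¹) * b⁻¹) * (y * b) := by group
      _ = (y * b)⁻¹ * (y * (b * c * b⁻¹) * y⁻¹) * (y * b) := by rw [key]
      _ = c := by group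
  rw [mul_inv_eq_iff_eq_mul] at k2
  exact k2.symm

omit [Finite G] in
/-- Two commutators with a fixed element commute in a product of two abelian subgroups. -/
theorem comm_comm {D X : Subgroup G} (hD : ∀ a ∈ D, ∀ b ∈ D, a * b = b * a)
    (hX : ∀ a ∈ X, ∀ b ∈ X, a * b = b * a)
    (hW : ((D ⊔ X : Subgroup G) : Set G) = (D : Set G) * (X : Set G)) {a b x : G} (ha : a ∈ D) (hb : b ∈ D)
    (hx : x ∈ X) :
    (a * x * a⁻¹ * x⁻¹) * (b * x * b⁻¹ * x⁻¹) = (b * x * b⁻¹ * x⁻¹) * (a * x * a⁻¹ * x⁻¹) := by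
  have := comm_comm_aux hD hX hW ha (inv_mem hb) hx (inv_mem hx)
  rwa [inv_inv, inv_inv] at this

theorem exists_replacement (hG : Group.IsNilpotent G) {D X : Subgroup G} (hD : IsTop D)
    (hX : X ≤ centralizer (X : Set G))
    (hW : ((D ⊔ X : Subgroup G) : Set G) = (D : Set G) * (X : Set G)) (hne : ¬ X ≤ normalizer (D : Set G)) :
    ∃ E : Subgroup G, IsTop E ∧ (∀ i, Nat.card ↥(D ⊓ Subgroup.upperCentralSeries G i) ≤ Nat.card ↥(E ⊓ Subgroup.upperCentralSeries G i)) ∧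
      ∃ i < Group.nilpotencyClass G, Nat.card ↥(D ⊓ Subgroup.upperCentralSeries G i) < Nat.card ↥(E ⊓ Subgroup.upperCentralSeries G i) := by
  obtain ⟨hDl, hDab, hDmax⟩ := top_props hD
  have hDc : ∀ a ∈ D, ∀ b ∈ D, a * b = b * a := fun a ha b hb => (mem_centralizer_iff.1 (hDab hb) a ha)
  have hXc : ∀ a ∈ X, ∀ b ∈ X, a * b = b * a := fun a ha b hb => (mem_centralizer_iff.1 (hX hb) a ha)
  obtain ⟨Q, hQm, hDQ⟩ := hD
  obtain ⟨hQl, hQc⟩ := (isCentrallyLarge_iff Q).1 hQm.1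
  have hQCD : Q = centralizer (D : Set G) := hDQ ▸ (cd_centralizer hQl).2
  -- a moving element normalising the normalizer
  set W := D ⊔ X with hWd
  set N := W ⊓ normalizer (D : Set G) with hN
  have hlt : N.subgroupOf W < ⊤ := by
    rw [lt_top_iff_ne_top, Ne, subgroupOf_eq_top]
    exact fun h => hne ((le_sup_right.trans h).trans inf_le_right)
  haveI : Group.IsNilpotent G := hG
  obtain ⟨n, hn, hnN⟩ := SetLike.exists_of_lt (normalizerCondition_of_isNilpotent _ hlt)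
  have hn2 : (n : G) ∈ ((D ⊔ X : Subgroup G) : Set G) := n.2
  rw [hW] at hn2
  obtain ⟨d₀, hd₀, x, hx, hdx⟩ := Set.mem_mul.1 hn2
  have hDN : D ≤ N := le_inf le_sup_left le_normalizer
  have hxn : ∀ v ∈ N, x * v * x⁻¹ ∈ N := by
    intro v hv
    have h1 : (n : G) * v * (n : G)⁻¹ ∈ N :=
      mem_subgroupOf.1 ((mem_normalizer_iff.1 hn ⟨v, inf_le_left (α := Subgroup G) hv⟩).1 (mem_subgroupOf.2 hv))
    rw [← hdx] at h1
    have h2 := mul_mem (mul_mem (inv_mem (hDN hd₀)) h1) (hDN hd₀)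
    rwa [show d₀⁻¹ * (d₀ * x * v * (d₀ * x)⁻¹) * d₀ = x * v * x⁻¹ by group] at h2
  have hxD : x ∉ normalizer (D : Set G) := fun h => hnN (mem_subgroupOf.2 (mem_inf.2 ⟨n.2,
    hdx ▸ mul_mem (le_normalizer hd₀) h⟩))
  set D' := D.map (MulAut.conj x).toMonoidHom with hD'
  have hD'mem : ∀ v, v ∈ D' ↔ ∃ d ∈ D, x * d * x⁻¹ = v := fun v => Iff.rfl
  have hD'N : D' ≤ normalizer (D : Set G) := by
    rintro v ⟨d, hd, rfl⟩
    exact (mem_inf.1 (hxn d (hDN hd))).2
  have hDD' : D ≤ normalizer (D' : Set G) := by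
    intro e he
    refine CfsgLib.LocalEvenB.mem_normalizer_of_forall ?_
    rintro _ ⟨d, hd, rfl⟩
    -- `x⁻¹ e x` lies in the normalizer, as the set map is onto
    have hsurj : N.map (MulAut.conj x).toMonoidHom = N := by
      refine eq_of_le_of_card_ge ?_ ?_
      · rintro _ ⟨v, hv, rfl⟩; exact hxn v hv
      · rw [card_map_of_injective (f := (MulAut.conj x).toMonoidHom) (MulAut.conj x).injective]
    obtain ⟨e', he', hee⟩ := hsurj.ge (hDN he)
    refine ⟨e' * d * e'⁻¹, (mem_normalizer_iff.1 he'.2 d).1 hd, ?_⟩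
    rw [map_mul, map_mul, map_inv, hee]
  -- facts on the two centres
  have hD'l : IsCentralizerLarge D' := cd_map (MulAut.conj x) hDl
  have hD'ab : D' ≤ centralizer (D' : Set G) := by
    rintro _ ⟨d, hd, rfl⟩
    refine mem_centralizer_iff.2 ?_
    rintro _ ⟨e, he, rfl⟩
    show (MulAut.conj x).toMonoidHom e * _ = _ * _
    rw [← map_mul, ← map_mul, hDc e he d hd]
  set Q' := centralizer (D' : Set G) with hQ'
  have hmax' : ∀ Y : Subgroup G, IsCentralizerLarge Y → Y ≤ centralizer (Y : Set G) → D' ≤ Y → Y = D' := by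
    intro Y hY hYab hle
    have h1 : D ≤ Y.map (MulAut.conj x⁻¹).toMonoidHom := fun d hd =>
      ⟨x * d * x⁻¹, hle ⟨d, hd, rfl⟩, show x⁻¹ * (x * d * x⁻¹) * x⁻¹⁻¹ = d by group⟩
    have h2 := hDmax _ (cd_map (MulAut.conj x⁻¹) hY) (by
      rintro _ ⟨u, hu, rfl⟩
      refine mem_centralizer_iff.2 ?_
      rintro _ ⟨v, hv, rfl⟩
      show (MulAut.conj x⁻¹).toMonoidHom v * _ = _ * _
      rw [← map_mul, ← map_mul, mem_centralizer_iff.1 (hYab hu) v hv]) h1
    refine le_antisymm (fun u hu => ?_) hle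
    have h3 : x⁻¹ * u * x⁻¹⁻¹ ∈ D := h2 ▸ ⟨u, hu, rfl⟩
    exact ⟨_, h3, show x * (x⁻¹ * u * x⁻¹⁻¹) * x⁻¹ = u by group⟩
  have hinter : ∀ {A B : Subgroup G}, IsCentralizerLarge A → A ≤ centralizer (A : Set G) → IsCentralizerLarge B →
      B ≤ centralizer (B : Set G) →
      (∀ Y : Subgroup G, IsCentralizerLarge Y → Y ≤ centralizer (Y : Set G) → B ≤ Y → Y = B) →
      A ⊓ centralizer (B : Set G) ≤ B := by
    intro A B hA hAab hB hBab hBmax
    obtain ⟨hCB, -⟩ := cd_centralizer hB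
    obtain ⟨-, -, hI, -, -⟩ := cd_sup hA hCB
    obtain ⟨-, hJ, -, -, -⟩ := cd_sup hI hB
    have he := hBmax _ hJ (by
      rw [centralizer_sup]
      refine sup_le (le_inf ?_ inf_le_right) (le_inf ?_ hBab)
      · exact inf_le_left.trans (hAab.trans (centralizer_le (SetLike.coe_subset_coe.2 inf_le_left)))
      · exact le_centralizer_iff.1 inf_le_right) le_sup_right
    exact le_sup_left.trans he.le
  have hDQ' : D ⊓ Q' ≤ D' := hinter hDl hDab hD'l hD'ab hmax'
  have hD'Q : D' ⊓ centralizer (D : Set G) ≤ D := hinter hD'l hD'ab hDl hDab hDmax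
  -- the commutators
  set T := {c | ∃ d ∈ D, c = d * x * d⁻¹ * x⁻¹} with hT
  set M := closure T with hM
  have hMle : M ≤ D ⊔ D' := by
    rw [hM, closure_le]
    rintro _ ⟨d, hd, rfl⟩
    rw [show d * x * d⁻¹ * x⁻¹ = d * (x * d⁻¹ * x⁻¹) by group]
    exact mul_mem_sup hd ⟨d⁻¹, inv_mem hd, rfl⟩
  have hMab : M ≤ centralizer (M : Set G) := by
    rw [hM, centralizer_closure, closure_le]
    rintro _ ⟨a, ha, rfl⟩
    refine mem_centralizer_iff.2 ?_
    rintro _ ⟨b, hb, rfl⟩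
    exact comm_comm hDc hXc hW hb ha hx
  have hMn : M ≤ normalizer (D : Set G) := hMle.trans (sup_le le_normalizer hD'N)
  have hsup : D ⊔ M = D ⊔ D' := by
    refine le_antisymm (sup_le le_sup_left hMle) (sup_le le_sup_left ?_)
    rintro _ ⟨d, hd, rfl⟩
    show x * d * x⁻¹ ∈ D ⊔ M
    rw [show x * d * x⁻¹ = d * (d⁻¹ * x * d⁻¹⁻¹ * x⁻¹) by group]
    exact mul_mem_sup hd (subset_closure ⟨d⁻¹, inv_mem hd, rfl⟩)
  set Z := D ⊓ D' with hZ
  have hZM : ∀ z ∈ Z, ∀ m ∈ D ⊔ D', z * m = m * z := by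
    intro z hz m hm
    have hle : D ⊔ D' ≤ centralizer (Z : Set G) :=
      sup_le (hDab.trans (centralizer_le (SetLike.coe_subset_coe.2 inf_le_left)))
        (hD'ab.trans (centralizer_le (SetLike.coe_subset_coe.2 inf_le_right)))
    exact mem_centralizer_iff.1 (hle hm) z hz
  have hDM : D ⊓ M ≤ Z := by
    intro m hm
    obtain ⟨hmD, hmM⟩ := mem_inf.1 hm
    refine mem_inf.2 ⟨hmD, hDQ' (mem_inf.2 ⟨hmD, ?_⟩)⟩
    have hle : D ⊔ M ≤ centralizer ({m} : Set G) := sup_le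
      (hDab.trans (centralizer_le (Set.singleton_subset_iff.2 hmD)))
      (hMab.trans (centralizer_le (Set.singleton_subset_iff.2 hmM)))
    refine mem_centralizer_iff.2 fun v hv => ?_
    exact (mem_centralizer_iff.1 (hle (hsup.ge (mem_sup_right hv))) m rfl).symm
  set E := Z ⊔ M with hE
  have hEle : E ≤ D ⊔ D' := sup_le (inf_le_left.trans le_sup_left) hMle
  have hEab : E ≤ centralizer (E : Set G) := by
    rw [hE, centralizer_sup]
    refine sup_le (le_inf (inf_le_left.trans (hDab.trans (centralizer_le (SetLike.coe_subset_coe.2 inf_le_left)))) ?_)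
      (le_inf ?_ hMab)
    · exact fun z hz => mem_centralizer_iff.2 fun m hm => (hZM z hz m (hMle hm)).symm
    · exact fun m hm => mem_centralizer_iff.2 fun z hz => hZM z hz m (hMle hm)
  -- orders
  have hset : ∀ {A B : Subgroup G}, B ≤ normalizer (A : Set G) →
      Nat.card ↥(A ⊔ B) * Nat.card ↥(A ⊓ B) = Nat.card A * Nat.card B := by
    intro A B h
    rw [← card_mul_set_eq A B, ← coe_mul_of_right_le_normalizer_left A B h]
    rfl
  have c1 := hset (A := D) (B := D') hD'N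
  have c2 := hset (A := D) (B := M) hMn
  rw [hsup] at c2
  have hZn : M ≤ normalizer (Z : Set G) := fun m hm => CfsgLib.LocalEvenB.mem_normalizer_of_forall fun z hz => by
    rw [← hZM z hz m (hMle hm), mul_inv_cancel_right]; exact hz
  have c3 := hset (A := Z) (B := M) hZn
  rw [← hE] at c3
  have hcD' : Nat.card D' = Nat.card D :=
    card_map_of_injective (f := (MulAut.conj x).toMonoidHom) (MulAut.conj x).injective
  rw [hcD', ← hZ] at c1
  have hZMle : Nat.card ↥(Z ⊓ M) = Nat.card ↥(D ⊓ M) :=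
    le_antisymm (card_le_of_le (inf_le_inf_right M inf_le_left)) (card_le_of_le (le_inf hDM inf_le_right))
  rw [hZMle] at c3
  have hcE : Nat.card E = Nat.card D := by
    have hp : 0 < Nat.card ↥(D ⊓ M) := Nat.card_pos
    have hq : 0 < Nat.card ↥(D ⊔ D') := Nat.card_pos
    refine Nat.eq_of_mul_eq_mul_right hp (Nat.eq_of_mul_eq_mul_left hq ?_)
    calc Nat.card ↥(D ⊔ D') * (Nat.card E * Nat.card ↥(D ⊓ M))
        = (Nat.card ↥(D ⊔ D') * Nat.card Z) * Nat.card M := by rw [c3]; ring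
      _ = (Nat.card D * Nat.card D) * Nat.card M := by rw [c1]
      _ = Nat.card D * (Nat.card ↥(D ⊔ D') * Nat.card ↥(D ⊓ M)) := by rw [c2]; ring
      _ = _ := by ring
  -- largeness
  obtain ⟨-, hJl, -, -, -⟩ := cd_sup hDl hD'l
  set C := centralizer ((D ⊔ D' : Subgroup G) : Set G) with hC
  have hCle : C ≤ centralizer (D : Set G) ⊓ Q' := by rw [hC, centralizer_sup]
  have hCE : C ⊓ E ≤ Z := by
    intro u hu
    obtain ⟨huC, huE⟩ := mem_inf.1 hu
    have huJ : u ∈ ((D ⊔ D' : Subgroup G) : Set G) := hEle huE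
    rw [coe_mul_of_right_le_normalizer_left D D' hD'N] at huJ
    obtain ⟨d, hd, d', hd', rfl⟩ := Set.mem_mul.1 huJ
    obtain ⟨h1, h2⟩ := mem_inf.1 (hCle huC)
    have h3 : d' ∈ D := hD'Q (mem_inf.2 ⟨hd', by
      have := mul_mem (inv_mem (hDab hd)) h1; rwa [inv_mul_cancel_left] at this⟩)
    exact mem_inf.2 ⟨mul_mem hd h3, hDQ' (mem_inf.2 ⟨mul_mem hd h3, h2⟩)⟩
  have hCEle : C ⊔ E ≤ centralizer (E : Set G) :=
    sup_le (centralizer_le (SetLike.coe_subset_coe.2 hEle)) hEab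
  have hEl : IsCentralizerLarge E := by
    refine (isCentralizerLarge_iff E).2 ?_
    have hn : E ≤ normalizer (C : Set G) := fun u hu => CfsgLib.LocalEvenB.mem_normalizer_of_forall fun w hw => by
      rw [mem_centralizer_iff.1 hw u (hEle hu), mul_inv_cancel_right]
      exact hw
    have c4 := hset (A := C) (B := E) hn
    have hp : 0 < Nat.card Z := Nat.card_pos
    refine Nat.le_of_mul_le_mul_right ?_ hp
    show maxCentralizerProduct G * Nat.card Z ≤ Nat.card E * Nat.card _ * Nat.card Z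
    calc maxCentralizerProduct G * Nat.card Z = Nat.card ↥(D ⊔ D') * Nat.card C * Nat.card Z := by
          rw [show maxCentralizerProduct G = Nat.card ↥(D ⊔ D') * Nat.card C from hJl.symm]
      _ = (Nat.card D * Nat.card D) * Nat.card C := by rw [← c1]; ring
      _ = Nat.card E * (Nat.card C * Nat.card E) := by rw [hcE]; ring
      _ = Nat.card E * (Nat.card ↥(C ⊔ E) * Nat.card ↥(C ⊓ E)) := by rw [c4]
      _ ≤ Nat.card E * (Nat.card (centralizer (E : Set G)) * Nat.card Z) :=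
          Nat.mul_le_mul_left _ (Nat.mul_le_mul (card_le_of_le hCEle) (card_le_of_le hCE))
      _ = _ := by ring
  have hEtop : IsTop E := top_of_card ⟨Q, hQm, hDQ⟩ hEl hEab hcE.ge
  -- intersections with the series
  have hcount : ∀ i j, (∀ h ∈ D ⊓ Subgroup.upperCentralSeries G i, h * x * h⁻¹ * x⁻¹ ∈ Subgroup.upperCentralSeries G j) →
      Nat.card ↥(D ⊓ Subgroup.upperCentralSeries G i) * Nat.card ↥(Z ⊓ Subgroup.upperCentralSeries G j) ≤
        Nat.card ↥(E ⊓ Subgroup.upperCentralSeries G j) * Nat.card ↥(D ⊓ (D ⊓ Subgroup.upperCentralSeries G i).map (MulAut.conj x).toMonoidHom) := by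
    intro i j hcomm
    set H' := (D ⊓ Subgroup.upperCentralSeries G i).map (MulAut.conj x).toMonoidHom with hH'
    set F := E ⊓ Subgroup.upperCentralSeries G j with hF
    have hsub : (D : Set G) * (H' : Set G) ⊆ (D : Set G) * (F : Set G) := by
      rintro _ ⟨d, hd, _, ⟨h, hh, rfl⟩, rfl⟩
      refine Set.mem_mul.2 ⟨d * h, mul_mem hd hh.1, h⁻¹ * x * h⁻¹⁻¹ * x⁻¹, ?_, ?_⟩
      · exact mem_inf.2 ⟨mem_sup_right (subset_closure ⟨h⁻¹, inv_mem hh.1, rfl⟩), hcomm _ (inv_mem hh)⟩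
      · show d * h * (h⁻¹ * x * h⁻¹⁻¹ * x⁻¹) = d * (x * h * x⁻¹)
        group
    have e1 := card_mul_set_eq D H'
    have e2 := card_mul_set_eq D F
    have hH : Nat.card H' = Nat.card ↥(D ⊓ Subgroup.upperCentralSeries G i) :=
      card_map_of_injective (f := (MulAut.conj x).toMonoidHom) (MulAut.conj x).injective
    rw [hH] at e1
    have hle : Nat.card ↥(Z ⊓ Subgroup.upperCentralSeries G j) ≤ Nat.card ↥(D ⊓ F) :=
      card_le_of_le fun z hz => mem_inf.2 ⟨hz.1.1, mem_inf.2 ⟨mem_sup_left hz.1, hz.2⟩⟩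
    have hmono := Nat.card_mono (Set.toFinite _) hsub
    refine Nat.le_of_mul_le_mul_left ?_ (Nat.card_pos (α := D))
    calc Nat.card D * (Nat.card ↥(D ⊓ Subgroup.upperCentralSeries G i) * Nat.card ↥(Z ⊓ Subgroup.upperCentralSeries G j))
        ≤ Nat.card D * (Nat.card ↥(D ⊓ Subgroup.upperCentralSeries G i) * Nat.card ↥(D ⊓ F)) :=
          Nat.mul_le_mul_left _ (Nat.mul_le_mul_left _ hle)
      _ = Nat.card ((D : Set G) * (H' : Set G) : Set G) * Nat.card ↥(D ⊓ H') * Nat.card ↥(D ⊓ F) := by rw [e1]; ring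
      _ ≤ Nat.card ((D : Set G) * (F : Set G) : Set G) * Nat.card ↥(D ⊓ H') * Nat.card ↥(D ⊓ F) :=
          Nat.mul_le_mul_right _ (Nat.mul_le_mul_right _ hmono)
      _ = (Nat.card ((D : Set G) * (F : Set G) : Set G) * Nat.card ↥(D ⊓ F)) * Nat.card ↥(D ⊓ H') := by ring
      _ = _ := by rw [e2]; ring
  have hcom : ∀ i, ∀ h ∈ D ⊓ Subgroup.upperCentralSeries G i, h * x * h⁻¹ * x⁻¹ ∈ Subgroup.upperCentralSeries G i := by
    intro i h hh
    rw [show h * x * h⁻¹ * x⁻¹ = h * (x * h⁻¹ * x⁻¹) by group]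
    exact mul_mem hh.2 ((inferInstance : (Subgroup.upperCentralSeries G i).Normal).conj_mem _ (inv_mem hh.2) x)
  refine ⟨E, hEtop, fun i => ?_, ?_⟩
  · have h1 := hcount i i (hcom i)
    have h2 : Nat.card ↥(D ⊓ (D ⊓ Subgroup.upperCentralSeries G i).map (MulAut.conj x).toMonoidHom) ≤
        Nat.card ↥(Z ⊓ Subgroup.upperCentralSeries G i) := by
      refine card_le_of_le ?_
      rintro _ ⟨hv, h, hh, rfl⟩
      exact mem_inf.2 ⟨mem_inf.2 ⟨hv, h, hh.1, rfl⟩, (inferInstance : (Subgroup.upperCentralSeries G i).Normal).conj_mem _ hh.2 x⟩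
    exact Nat.le_of_mul_le_mul_right (h1.trans (Nat.mul_le_mul_left _ h2)) Nat.card_pos
  · have hex : ∃ i, (D ⊓ Subgroup.upperCentralSeries G i).map (MulAut.conj x).toMonoidHom ≠ D ⊓ Subgroup.upperCentralSeries G i := by
      refine ⟨Group.nilpotencyClass G, fun h => hxD ?_⟩
      rw [Subgroup.upperCentralSeries_nilpotencyClass, inf_top_eq] at h
      exact map_conj_eq_self_iff_mem_normalizer.1 h
    classical
    have hspec := Nat.find_spec hex
    have hmin : Nat.find hex ≤ Group.nilpotencyClass G := Nat.find_min' hex (fun h => hxD (by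
      rw [Subgroup.upperCentralSeries_nilpotencyClass, inf_top_eq] at h
      exact map_conj_eq_self_iff_mem_normalizer.1 h))
    obtain ⟨j, hj⟩ : ∃ j, Nat.find hex = j + 1 := by
      refine Nat.exists_eq_succ_of_ne_zero fun h => hspec ?_
      rw [h, Subgroup.upperCentralSeries_zero, inf_bot_eq, Subgroup.map_bot]
    rw [hj] at hspec hmin
    have hfix : (D ⊓ Subgroup.upperCentralSeries G j).map (MulAut.conj x).toMonoidHom = D ⊓ Subgroup.upperCentralSeries G j := by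
      by_contra h
      exact Nat.find_min hex (by omega : j < Nat.find hex) h
    refine ⟨j, by omega, ?_⟩
    have h1 := hcount (j + 1) j fun h hh => Subgroup.mem_upperCentralSeries_succ_iff.1 hh.2 x
    set H' := (D ⊓ Subgroup.upperCentralSeries G (j + 1)).map (MulAut.conj x).toMonoidHom with hH'
    have hH : Nat.card H' = Nat.card ↥(D ⊓ Subgroup.upperCentralSeries G (j + 1)) :=
      card_map_of_injective (f := (MulAut.conj x).toMonoidHom) (MulAut.conj x).injective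
    have hlt : Nat.card ↥(D ⊓ H') < Nat.card ↥(D ⊓ Subgroup.upperCentralSeries G (j + 1)) := by
      by_contra hge
      push Not at hge
      apply hspec
      have hHD : D ⊓ H' = H' := eq_of_le_of_card_ge inf_le_right (hH ▸ hge)
      refine eq_of_le_of_card_ge (fun v hv => ?_) hH.ge
      refine mem_inf.2 ⟨(hHD.ge hv).1, ?_⟩
      obtain ⟨h, hh, rfl⟩ := hv
      exact (inferInstance : (Subgroup.upperCentralSeries G (j + 1)).Normal).conj_mem _ hh.2 x
    have hZj : Nat.card ↥(D ⊓ Subgroup.upperCentralSeries G j) ≤ Nat.card ↥(Z ⊓ Subgroup.upperCentralSeries G j) := by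
      refine card_le_of_le fun v hv => ?_
      obtain ⟨h, hh, rfl⟩ := hfix.ge hv
      exact mem_inf.2 ⟨mem_inf.2 ⟨hv.1, h, hh.1, rfl⟩, hv.2⟩
    have hpos : 0 < Nat.card ↥(D ⊓ Subgroup.upperCentralSeries G (j + 1)) := Nat.card_pos
    by_contra hle
    push Not at hle
    have hpos' : 0 < Nat.card ↥(D ⊓ Subgroup.upperCentralSeries G j) := Nat.card_pos
    have : Nat.card ↥(D ⊓ Subgroup.upperCentralSeries G (j + 1)) * Nat.card ↥(D ⊓ Subgroup.upperCentralSeries G j) <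
        Nat.card ↥(D ⊓ Subgroup.upperCentralSeries G (j + 1)) * Nat.card ↥(D ⊓ Subgroup.upperCentralSeries G j) :=
      calc _ ≤ Nat.card ↥(D ⊓ Subgroup.upperCentralSeries G (j + 1)) * Nat.card ↥(Z ⊓ Subgroup.upperCentralSeries G j) :=
            Nat.mul_le_mul_left _ hZj
        _ ≤ Nat.card ↥(E ⊓ Subgroup.upperCentralSeries G j) * Nat.card ↥(D ⊓ H') := h1
        _ ≤ Nat.card ↥(D ⊓ Subgroup.upperCentralSeries G j) * Nat.card ↥(D ⊓ H') := Nat.mul_le_mul_right _ hle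
        _ < Nat.card ↥(D ⊓ Subgroup.upperCentralSeries G j) * Nat.card ↥(D ⊓ Subgroup.upperCentralSeries G (j + 1)) :=
            Nat.mul_lt_mul_of_pos_left hlt hpos'
        _ = _ := mul_comm _ _
    exact lt_irrefl _ this

/-- Some minimal centrally large subgroup is normalised by all of them and by the Thompson subgroup. -/
theorem exists_normalised (hG : Group.IsNilpotent G) :
    ∃ Q : Subgroup G, IsMinimalCentrallyLarge Q ∧ thompsonSubgroupA G ≤ normalizer (Q : Set G) ∧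
      minimalCentrallyLargeJoin G ≤ normalizer (Q : Set G) := by
  haveI : Group.IsNilpotent G := hG
  let score : Subgroup G → ℕ := fun D =>
    ∑ i ∈ Finset.range (Group.nilpotencyClass G), Nat.card ↥(D ⊓ Subgroup.upperCentralSeries G i)
  obtain ⟨Q₀, hQ₀⟩ := exists_isCentrallyLarge (G := G)
  obtain ⟨X₀, -, hX₀⟩ := exists_isMinimalCentrallyLarge_le hQ₀
  obtain ⟨D, hD, hmax⟩ := Set.exists_max_image {D : Subgroup G | IsTop D} score (Set.toFinite _)
    ⟨_, X₀, hX₀, rfl⟩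
  have hnorm : ∀ X : Subgroup G, X ≤ centralizer (X : Set G) →
      ((D ⊔ X : Subgroup G) : Set G) = (D : Set G) * (X : Set G) → X ≤ normalizer (D : Set G) := by
    intro X hX hW
    by_contra hne
    obtain ⟨E, hE, hmono, i, hi, hlt⟩ := exists_replacement hG hD hX hW hne
    exact absurd (hmax E hE) (not_le_of_gt (Finset.sum_lt_sum (fun k _ => hmono k)
      ⟨i, Finset.mem_range.2 hi, hlt⟩))
  obtain ⟨Q, hQ, rfl⟩ := hD
  obtain ⟨hQl, hQc⟩ := (isCentrallyLarge_iff Q).1 hQ.1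
  have hQDD := (cd_centralizer hQl).2
  have hn : normalizer ((centralizer (Q : Set G) : Subgroup G) : Set G) ≤ normalizer (Q : Set G) := fun g hg => by
    refine CfsgLib.LocalEvenB.mem_normalizer_of_forall fun q hq => ?_
    rw [hQDD] at hq ⊢
    refine mem_centralizer_iff.2 fun d hd => ?_
    have h1 : g⁻¹ * d * g ∈ centralizer (Q : Set G) := by
      have := (mem_normalizer_iff.1 (inv_mem hg) d).1 hd
      rwa [inv_inv] at this
    have h2 := congrArg (fun w => g * w * g⁻¹) (mem_centralizer_iff.1 hq _ h1)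
    simpa [mul_assoc] using h2
  refine ⟨Q, hQ, sSup_le fun A hA => ?_, sSup_le fun R hR => ?_⟩
  · refine (hnorm A (le_centralizer_iff_isMulCommutative.1 hA.1) ?_).trans hn
    exact (cl_maxAbelian hQ.1 hA).2.2.2
  · obtain ⟨hRl, hRc⟩ := (isCentrallyLarge_iff R).1 hR.1
    have h1 : centralizer (R : Set G) ≤ normalizer ((centralizer (Q : Set G) : Subgroup G) : Set G) := by
      refine hnorm _ (hRc.trans (le_centralizer_iff.1 le_rfl)) ?_
      exact (cd_sup hQl hRl).2.2.2.2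
    rw [← mcl_eq hR hQ.1]
    exact sup_le (inf_le_right.trans le_normalizer) (h1.trans hn)

/-- The final two conclusions. -/
theorem abelian_of_eq (hJ : thompsonSubgroupA G = ⊤)
    (hcard : ∀ A ∈ maxAbelianSubgroups G, Nat.card ↥A ^ 2 = Nat.card G * Nat.card ↥(center G))
    {Q : Subgroup G} (hQ : IsMinimalCentrallyLarge Q) : IsMulCommutative Q := by
  obtain ⟨Q₀, hQ₀⟩ := exists_isCentrallyLarge (G := G)
  have hT := (cl_sup_thompsonA hQ₀).1
  rw [hJ, sup_top_eq] at hT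
  obtain ⟨hTl, -⟩ := (isCentrallyLarge_iff _).1 hT
  obtain ⟨A, hA⟩ := maxAbelian_nonempty (G := G)
  have hAl : IsCentrallyLarge A := (isCentrallyLarge_iff A).2 ⟨by
    show Nat.card A * Nat.card _ = _
    rw [centralizer_eq_of_maxAbelian hA, ← pow_two, hcard A hA, ← show _ = maxCentralizerProduct G from hTl,
      card_top, coe_top, centralizer_univ], (centralizer_eq_of_maxAbelian hA).le⟩
  obtain ⟨X, hX, hXm⟩ := exists_isMinimalCentrallyLarge_le hAl
  have hXab : IsMulCommutative X := le_centralizer_iff_isMulCommutative.2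
    (hX.trans ((le_centralizer_iff_isMulCommutative.1 hA.1).trans (centralizer_le (SetLike.coe_subset_coe.2 hX))))
  exact ((mcl_iff_maxAbelian hXab hXm Q).1 hQ).1

theorem centralizer_center_eq (h : ∀ Q : Subgroup G, IsMinimalCentrallyLarge Q → IsMulCommutative ↥Q) :
    centralizer ((thompsonSubgroupA G ⊓ centralizer (thompsonSubgroupA G : Set G) : Subgroup G) : Set G) =
      thompsonSubgroupA G := by
  refine le_antisymm ?_ ?_
  · obtain ⟨Q₀, hQ₀⟩ := exists_isCentrallyLarge (G := G)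
    obtain ⟨X, -, hX⟩ := exists_isMinimalCentrallyLarge_le hQ₀
    have hXJ : X ≤ thompsonSubgroupA G := le_sSup ((mcl_iff_maxAbelian (h X hX) hX X).1 hX)
    exact (cl_sup_thompsonA hX.1).2.trans (sup_le hXJ le_rfl)
  · exact le_centralizer_iff.1 inf_le_right

end CfsgLib.LocalEvenB.CLNormal
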