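import Cfsg.Prelude.Def_Local
import Cfsg.Agent.Lib.Core.Cores
import Mathlib.GroupTheory.Transfer

/-!
Centric radical subgroups: a normal `p`-subgroup `H` with `C = C(H)`.
-/

set_option autoImplicit false

open Cfsg

namespace CfsgLib.LocalEvenB

variable {X : Type*} [Group X] [Finite X] {p : ℕ} [Fact p.Prime]

theorem centric_radical_iff (H C : Subgroup X) [H.Normal] [C.Normal]
    (hC : C = Subgroup.centralizer (H : Set X)) (Q : Sylow p X) (hH : IsPGroup p H) :
    (H ≤ (pCore p (X ⧸ C)).comap (QuotientGroup.mk' C) ∧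
      ¬ p ∣ H.relIndex ((pCore p (X ⧸ C)).comap (QuotientGroup.mk' C))) ↔
    ((Q : Subgroup X) ⊓ C ≤ H ∧ pPrimePCore p X = H ⊔ C) := by
  have hpr : p.Prime := Fact.out
  set N := (pCore p (X ⧸ C)).comap (QuotientGroup.mk' C) with hN
  set K := pPrimeCore p X with hK
  have hCN : C ≤ N := fun x hx => by
    rw [hN, Subgroup.mem_comap, QuotientGroup.mk'_apply, (QuotientGroup.eq_one_iff x).2 hx]
    exact one_mem _
  have hHN : H ≤ N := by
    rw [hN, ← Subgroup.map_le_iff_le_comap]
    haveI := (inferInstance : H.Normal).map _ (QuotientGroup.mk'_surjective C)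
    exact CfsgLib.Core.le_pCore (hH.map _)
  have hKC : K ≤ C := by
    rw [hC]
    intro k hk
    refine Subgroup.mem_centralizer_iff.2 fun h hh => ?_
    have hdis : Disjoint H K := by
      rw [disjoint_iff]
      obtain ⟨n, hn⟩ := IsPGroup.iff_card.mp hH
      refine Subgroup.inf_eq_bot_of_coprime ?_
      rw [hn]
      exact (CfsgLib.Core.coprime_card_pPrimeCore p X).symm.pow_left n
    exact (Subgroup.commute_of_normal_of_disjoint H K inferInstance inferInstance hdis h k hh hk).eq
  -- `O_{p',p}` always lies in `N`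
  let f : X ⧸ K →* X ⧸ C := QuotientGroup.map K C (MonoidHom.id X) (by simpa using hKC)
  have hf : ∀ x : X, f (QuotientGroup.mk' K x) = QuotientGroup.mk' C x := fun x => rfl
  have hfs : Function.Surjective f := fun y => by
    obtain ⟨x, rfl⟩ := QuotientGroup.mk'_surjective C y
    exact ⟨QuotientGroup.mk' K x, rfl⟩
  have hle : pPrimePCore p X ≤ N := fun x hx => by
    rw [hN, Subgroup.mem_comap, ← hf]
    exact CfsgLib.Core.map_pCore_le f hfs (Subgroup.mem_map_of_mem f hx)
  -- consequences of `Q ⊓ C ≤ H`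
  have main : (Q : Subgroup X) ⊓ C ≤ H → H ⊔ C ≤ pPrimePCore p X ∧ N ≤ pPrimePCore p X ∧ ¬ p ∣ H.relIndex C := by
    intro hQC
    obtain ⟨R⟩ := (inferInstance : Nonempty (Sylow p C))
    have hRH : (R : Subgroup C).map C.subtype ≤ H := by
      obtain ⟨T, hT⟩ := (R.2.map C.subtype).exists_le_sylow
      obtain ⟨g, rfl⟩ := MulAction.exists_smul_eq X Q T
      intro x hx
      have hxT := hT hx
      have hxC : x ∈ C := Subgroup.map_subtype_le _ hx
      rw [Sylow.smul_def, Sylow.pointwise_smul_def] at hxT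
      have h1 : g⁻¹ * x * g ∈ (Q : Subgroup X) := by
        simpa [MulAut.inv_apply, MulAut.smul_def] using Subgroup.mem_pointwise_smul_iff_inv_smul_mem.1 hxT
      have h2 : g⁻¹ * x * g ∈ C := by simpa using (inferInstance : C.Normal).conj_mem x hxC g⁻¹
      have h3 := (inferInstance : H.Normal).conj_mem _ (hQC ⟨h1, h2⟩) g
      simpa [mul_assoc] using h3
    have hRc : Subgroup.normalizer ((R : Subgroup C) : Set C) ≤ Subgroup.centralizer ((R : Subgroup C) : Set C) := by
      intro c _
      refine Subgroup.mem_centralizer_iff.2 fun r hr => ?_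
      have h1 : (c : X) ∈ Subgroup.centralizer (H : Set X) := hC ▸ c.2
      exact Subtype.ext (Subgroup.mem_centralizer_iff.1 h1 _ (hRH ⟨r, hr, rfl⟩))
    have hc := MonoidHom.ker_transferSylow_isComplement' R hRc
    set L := (MonoidHom.transferSylow R hRc).ker
    have hLK : L.map C.subtype ≤ K := by
      refine le_trans (Subgroup.map_mono ?_) (CfsgLib.Core.map_subtype_pPrimeCore_le C)
      refine CfsgLib.Core.le_pPrimeCore ?_
      rw [← hc.index_eq_card]
      exact (hpr.coprime_iff_not_dvd.2 R.not_dvd_index).symm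
    have hCle : C ≤ H ⊔ K := by
      calc C = (⊤ : Subgroup C).map C.subtype := by rw [← MonoidHom.range_eq_map, Subgroup.range_subtype]
        _ = ((R : Subgroup C) ⊔ L).map C.subtype := by rw [hc.symm.sup_eq_top]
        _ ≤ H ⊔ K := by rw [Subgroup.map_sup]; exact sup_le_sup hRH hLK
    have hHK : (H ⊔ K).map (QuotientGroup.mk' K) = H.map (QuotientGroup.mk' K) := by
      rw [Subgroup.map_sup, QuotientGroup.map_mk'_self, sup_bot_eq]
    have hHK' : H ⊔ K ≤ pPrimePCore p X := by
      rw [pPrimePCore, ← Subgroup.map_le_iff_le_comap, hHK]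
      haveI := (inferInstance : H.Normal).map _ (QuotientGroup.mk'_surjective K)
      exact CfsgLib.Core.le_pCore (hH.map _)
    refine ⟨sup_le (le_sup_left.trans hHK') (hCle.trans hHK'), ?_, ?_⟩
    · intro x hx
      rw [pPrimePCore, Subgroup.mem_comap]
      have hker : IsPGroup p f.ker := by
        refine IsPGroup.to_le (hH.map (QuotientGroup.mk' K)) ?_
        intro y hy
        obtain ⟨x, rfl⟩ := QuotientGroup.mk'_surjective K y
        rw [MonoidHom.mem_ker, hf, QuotientGroup.mk'_apply, QuotientGroup.eq_one_iff] at hy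
        rw [← hHK]
        exact Subgroup.mem_map_of_mem _ (hCle hy)
      exact CfsgLib.Core.le_pCore ((CfsgLib.Core.isPGroup_pCore p (X ⧸ C)).comap_of_ker_isPGroup f hker) hx
    · intro hd
      apply R.not_dvd_index
      refine hd.trans ?_
      have h1 : ((R : Subgroup C).map C.subtype).subgroupOf C = (R : Subgroup C) :=
        Subgroup.comap_map_eq_self_of_injective C.subtype_injective _
      rw [← h1]
      exact Subgroup.relIndex_dvd_of_le_left C hRH
  constructor
  · rintro ⟨-, hnd⟩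
    have hT : ∀ T : Subgroup X, H ≤ T → T ≤ N → IsPGroup p T → T ≤ H := by
      intro T hHT hTN hT
      obtain ⟨n, hn⟩ := IsPGroup.iff_card.mp hT
      have h1 : H.relIndex T ∣ p ^ n := hn ▸ Subgroup.index_dvd_card (H.subgroupOf T)
      have h2 : H.relIndex T ∣ H.relIndex N :=
        Dvd.intro _ (Subgroup.relIndex_mul_relIndex H T N hHT hTN)
      obtain ⟨i, -, hi⟩ := (Nat.dvd_prime_pow hpr).1 h1
      rcases Nat.eq_zero_or_pos i with hi0 | hi0
      · exact Subgroup.relIndex_eq_one.1 (by rw [hi, hi0, pow_zero])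
      · exact absurd ((dvd_pow_self p hi0.ne').trans (hi ▸ h2)) hnd
    have hQC : (Q : Subgroup X) ⊓ C ≤ H :=
      le_sup_right.trans (hT (H ⊔ (Q : Subgroup X) ⊓ C) le_sup_left (sup_le hHN (inf_le_right.trans hCN))
        (hH.to_sup_of_normal_left (Q.2.to_le inf_le_left)))
    obtain ⟨h1, h2, -⟩ := main hQC
    refine ⟨hQC, le_antisymm ?_ h1⟩
    refine hle.trans (Subgroup.relIndex_eq_one.1 ?_)
    have hd1 : (H ⊔ C).relIndex N ∣ H.relIndex N := Subgroup.relIndex_dvd_of_le_left N le_sup_left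
    have hd2 : (H ⊔ C).relIndex N ∣ Nat.card (pCore p (X ⧸ C)) := by
      refine (Subgroup.relIndex_dvd_of_le_left N (le_sup_right : C ≤ H ⊔ C)).trans (dvd_of_eq ?_)
      have h := Subgroup.relIndex_ker (K := N) (QuotientGroup.mk' C)
      rw [QuotientGroup.ker_mk', hN, Subgroup.map_comap_eq_self_of_surjective (QuotientGroup.mk'_surjective C)] at h
      exact h
    obtain ⟨n, hn⟩ := IsPGroup.iff_card.mp (CfsgLib.Core.isPGroup_pCore p (X ⧸ C))
    rw [hn] at hd2
    obtain ⟨i, -, hi⟩ := (Nat.dvd_prime_pow hpr).1 hd2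
    rcases Nat.eq_zero_or_pos i with hi0 | hi0
    · rw [hi, hi0, pow_zero]
    · exact absurd ((dvd_pow_self p hi0.ne').trans (hi ▸ hd1)) hnd
  · rintro ⟨hQC, heq⟩
    obtain ⟨-, h2, h3⟩ := main hQC
    refine ⟨hHN, ?_⟩
    have hN' : N = C ⊔ H := le_antisymm (h2.trans (heq.le.trans (sup_comm H C).le)) (sup_le hCN hHN)
    rw [hN']
    rwa [Subgroup.relIndex_sup_right]

end CfsgLib.LocalEvenB
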