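import Cfsg.Prelude.Def_BaumannBlocks
import Cfsg.Agent.Lib.LocalEvenB.Basic

/-!
The Chermak–Delgado lattice.
-/

set_option autoImplicit false

open Cfsg
open scoped Pointwise

namespace CfsgLib.LocalEvenB

variable {G : Type*} [Group G]

/-- The Chermak–Delgado measure. -/
noncomputable def cdMeasure (R : Subgroup G) : ℕ :=
  Nat.card R * Nat.card (Subgroup.centralizer (R : Set G))

theorem card_mul_set_eq (H K : Subgroup G) [Finite G] :
    Nat.card ((H : Set G) * (K : Set G) : Set G) * Nat.card ↥(H ⊓ K) = Nat.card H * Nat.card K := by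
  have h1 := Subgroup.card_mul_eq_card_subgroup_mul_card_quotient H (K : Set G)
  have hsk : Nat.card ((H : Set G) * (K : Set G) : Set G) = Nat.card ((K : Set G) * (H : Set G) : Set G) := by
    have : ((H : Set G) * (K : Set G))⁻¹ = (K : Set G) * (H : Set G) := by
      rw [mul_inv_rev, inv_coe_set, inv_coe_set]
    rw [← this, Set.natCard_inv]
  rw [hsk, h1]
  have h2 : Nat.card (((↑) : G → G ⧸ H) '' (K : Set G)) = H.relIndex K := by
    rw [Subgroup.relIndex, Subgroup.index]
    refine (Nat.card_congr (Equiv.ofBijective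
      (fun q : ↥K ⧸ H.subgroupOf K => Quotient.liftOn' q (fun k => (⟨((k : G) : G ⧸ H), ⟨k, k.2, rfl⟩⟩ :
        (((↑) : G → G ⧸ H) '' (K : Set G)))) ?_) ⟨?_, ?_⟩)).symm
    · intro a b hab
      rw [QuotientGroup.leftRel_apply, Subgroup.mem_subgroupOf] at hab
      exact Subtype.ext (QuotientGroup.eq.2 (by simpa using hab))
    · rintro ⟨a⟩ ⟨b⟩ hab
      apply Quotient.sound'
      rw [QuotientGroup.leftRel_apply, Subgroup.mem_subgroupOf]
      simpa using QuotientGroup.eq.1 (congrArg Subtype.val hab)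
    · rintro ⟨_, k, hk, rfl⟩
      exact ⟨Quotient.mk'' ⟨k, hk⟩, rfl⟩
  rw [h2]
  have h3 : Nat.card ↥(H ⊓ K) * H.relIndex K = Nat.card K := by
    rw [← Subgroup.inf_relIndex_right, ← Subgroup.relIndex_bot_left (H ⊓ K),
      Subgroup.relIndex_mul_relIndex ⊥ (H ⊓ K) K bot_le inf_le_right, Subgroup.relIndex_bot_left]
  calc Nat.card H * H.relIndex K * Nat.card ↥(H ⊓ K) = Nat.card H * (Nat.card ↥(H ⊓ K) * H.relIndex K) := by ring
    _ = Nat.card H * Nat.card K := by rw [h3]

theorem bddAbove_centralizerProduct [Finite G] :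
    BddAbove {k : ℕ | ∃ R : Subgroup G, Nat.card ↥R * Nat.card ↥(Subgroup.centralizer (R : Set G)) = k} :=
  (Set.finite_range fun R : Subgroup G => cdMeasure R).bddAbove.mono (by
    rintro k ⟨R, rfl⟩; exact ⟨R, rfl⟩)

theorem cdMeasure_le [Finite G] (R : Subgroup G) : cdMeasure R ≤ maxCentralizerProduct G :=
  le_csSup bddAbove_centralizerProduct ⟨R, rfl⟩

theorem isCentralizerLarge_iff [Finite G] (R : Subgroup G) :
    IsCentralizerLarge R ↔ maxCentralizerProduct G ≤ cdMeasure R :=
  ⟨fun h => h.ge, fun h => le_antisymm (cdMeasure_le R) h⟩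

theorem exists_isCentralizerLarge [Finite G] : ∃ R : Subgroup G, IsCentralizerLarge R := by
  obtain ⟨R, hR⟩ := Nat.sSup_mem (s := {k : ℕ | ∃ R : Subgroup G, Nat.card ↥R *
    Nat.card ↥(Subgroup.centralizer (R : Set G)) = k}) ⟨_, ⊥, rfl⟩ bddAbove_centralizerProduct
  exact ⟨R, hR⟩

theorem maxCentralizerProduct_pos [Finite G] : 0 < maxCentralizerProduct G :=
  lt_of_lt_of_le (Nat.mul_pos Nat.card_pos Nat.card_pos) (cdMeasure_le (⊥ : Subgroup G))

theorem cd_sup [Finite G] {Q R : Subgroup G} (hQ : IsCentralizerLarge Q) (hR : IsCentralizerLarge R) :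
    ((Q ⊔ R : Subgroup G) : Set G) = (Q : Set G) * (R : Set G) ∧ IsCentralizerLarge (Q ⊔ R) ∧
      IsCentralizerLarge (Q ⊓ R) ∧
      Subgroup.centralizer ((Q ⊓ R : Subgroup G) : Set G) =
        Subgroup.centralizer (Q : Set G) ⊔ Subgroup.centralizer (R : Set G) ∧
      ((Subgroup.centralizer (Q : Set G) ⊔ Subgroup.centralizer (R : Set G) : Subgroup G) : Set G) =
        (Subgroup.centralizer (Q : Set G) : Set G) * (Subgroup.centralizer (R : Set G) : Set G) := by
  set CQ := Subgroup.centralizer (Q : Set G) with hCQ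
  set CR := Subgroup.centralizer (R : Set G) with hCR
  set I := Subgroup.centralizer ((Q ⊓ R : Subgroup G) : Set G) with hI
  set m := maxCentralizerProduct G with hm
  have h1 := card_mul_set_eq Q R
  have h2 := card_mul_set_eq CQ CR
  rw [show CQ ⊓ CR = Subgroup.centralizer ((Q ⊔ R : Subgroup G) : Set G) from (centralizer_sup Q R).symm] at h2
  have hsub1 : ((Q : Set G) * (R : Set G)) ⊆ ((Q ⊔ R : Subgroup G) : Set G) :=
    Set.mul_subset_iff.2 fun a ha b hb => Subgroup.mul_mem_sup ha hb
  have hle : CQ ⊔ CR ≤ I :=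
    sup_le (Subgroup.centralizer_le (SetLike.coe_subset_coe.2 inf_le_left))
      (Subgroup.centralizer_le (SetLike.coe_subset_coe.2 inf_le_right))
  have hsub2 : ((CQ : Set G) * (CR : Set G)) ⊆ (I : Set G) :=
    Set.mul_subset_iff.2 fun a ha b hb => hle (Subgroup.mul_mem_sup ha hb)
  set J := Q ⊔ R with hJ
  set a := Nat.card ((Q : Set G) * (R : Set G) : Set G) with ha
  set b := Nat.card ((CQ : Set G) * (CR : Set G) : Set G) with hb
  have hale : a ≤ Nat.card J := Nat.card_mono (Set.toFinite _) hsub1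
  have hble : b ≤ Nat.card I := Nat.card_mono (Set.toFinite _) hsub2
  have hj := cdMeasure_le J
  have hi := cdMeasure_le (Q ⊓ R)
  rw [← hm] at hj hi
  unfold cdMeasure at hj hi
  rw [← hI] at hi
  set cJ := Nat.card (Subgroup.centralizer (J : Set G)) with hcJ
  set cD := Nat.card ↥(Q ⊓ R) with hcD
  have hprod : (a * cJ) * (cD * b) = m * m := by
    calc (a * cJ) * (cD * b) = (a * cD) * (b * cJ) := by ring
      _ = (Nat.card Q * Nat.card R) * (Nat.card CQ * Nat.card CR) := by rw [h1, h2]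
      _ = (Nat.card Q * Nat.card CQ) * (Nat.card R * Nat.card CR) := by ring
      _ = m * m := by rw [show Nat.card Q * Nat.card CQ = m from hQ, show Nat.card R * Nat.card CR = m from hR]
  have hm0 : 0 < m := maxCentralizerProduct_pos
  have e1 : a * cJ ≤ m := (Nat.mul_le_mul_right _ hale).trans hj
  have e2 : cD * b ≤ m := (Nat.mul_le_mul_left _ hble).trans hi
  have f1 : a * cJ = m := le_antisymm e1 (Nat.le_of_mul_le_mul_right
    (hprod ▸ Nat.mul_le_mul_left (a * cJ) e2) hm0)
  have f2 : cD * b = m := by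
    have := hprod
    rw [f1] at this
    exact Nat.eq_of_mul_eq_mul_left hm0 this
  have g1 : a = Nat.card J := le_antisymm hale (Nat.le_of_mul_le_mul_right (f1 ▸ hj : Nat.card J * cJ ≤ a * cJ) Nat.card_pos)
  have g2 : b = Nat.card I := le_antisymm hble (Nat.le_of_mul_le_mul_left (f2 ▸ hi : cD * Nat.card I ≤ cD * b) Nat.card_pos)
  have s1 : (J : Set G) = (Q : Set G) * (R : Set G) :=
    (Set.Finite.eq_of_subset_of_card_le (Set.toFinite _) hsub1 g1.ge).symm
  have s2 : (I : Set G) = (CQ : Set G) * (CR : Set G) :=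
    (Set.Finite.eq_of_subset_of_card_le (Set.toFinite _) hsub2 g2.ge).symm
  have s3 : I = CQ ⊔ CR := le_antisymm (fun x hx => by
    rw [← SetLike.mem_coe, s2] at hx
    obtain ⟨u, hu, v, hv, rfl⟩ := Set.mem_mul.1 hx
    exact Subgroup.mul_mem_sup hu hv) hle
  exact ⟨s1, (g1 ▸ f1 : Nat.card J * cJ = m), (g2 ▸ f2 : cD * Nat.card I = m), s3, s3 ▸ s2⟩

theorem cd_centralizer [Finite G] {Q : Subgroup G} (hQ : IsCentralizerLarge Q) :
    IsCentralizerLarge (Subgroup.centralizer (Q : Set G)) ∧
      Q = Subgroup.centralizer ((Subgroup.centralizer (Q : Set G) : Subgroup G) : Set G) := by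
  have h1 : Q ≤ Subgroup.centralizer ((Subgroup.centralizer (Q : Set G) : Subgroup G) : Set G) :=
    Subgroup.le_centralizer_iff.1 le_rfl
  have h2 := cdMeasure_le (Subgroup.centralizer (Q : Set G))
  have hQ' : Nat.card Q * Nat.card (Subgroup.centralizer (Q : Set G)) = maxCentralizerProduct G := hQ
  have h3 : Nat.card (Subgroup.centralizer ((Subgroup.centralizer (Q : Set G) : Subgroup G) : Set G)) ≤ Nat.card Q := by
    refine Nat.le_of_mul_le_mul_left ?_ (Nat.card_pos (α := Subgroup.centralizer (Q : Set G)))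
    refine h2.trans ?_
    rw [← hQ', mul_comm]
  have h4 := Subgroup.eq_of_le_of_card_ge h1 h3
  refine ⟨(isCentralizerLarge_iff _).2 ?_, h4⟩
  show _ ≤ Nat.card _ * Nat.card _
  rw [← h4, mul_comm, hQ']

theorem cd_map [Finite G] (e : G ≃* G) {Q : Subgroup G} (hQ : IsCentralizerLarge Q) :
    IsCentralizerLarge (Q.map e.toMonoidHom) := by
  refine (isCentralizerLarge_iff _).2 (le_of_eq ?_)
  have hcard : ∀ B : Subgroup G, Nat.card ↥(B.map e.toMonoidHom) = Nat.card B := fun B =>
    (Nat.card_congr (B.equivMapOfInjective _ e.injective).toEquiv).symm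
  show _ = Nat.card _ * Nat.card _
  rw [← map_centralizer_equiv, hcard, hcard]
  exact hQ.symm

/-- In a finite simple non-abelian group `|A| |C(A)| < |G|` for every proper nontrivial `A`. -/
theorem cd_simple [Finite G] [IsSimpleGroup G] (hG : ¬ IsMulCommutative G) (A : Subgroup G)
    (hA1 : A ≠ ⊥) (hA2 : A ≠ ⊤) : cdMeasure A < Nat.card G := by
  have hZ : Subgroup.center G = ⊥ := by
    rcases IsSimpleGroup.eq_bot_or_eq_top_of_normal _ (inferInstance : (Subgroup.center G).Normal) with h | h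
    · exact h
    · exact absurd ⟨⟨fun a b => (Subgroup.mem_center_iff.1 (h ▸ Subgroup.mem_top b) a)⟩⟩ hG
  have htop : Nat.card G ≤ cdMeasure (⊤ : Subgroup G) := by
    have : Nat.card (⊤ : Subgroup G) = Nat.card G := Subgroup.card_top
    unfold cdMeasure
    rw [this]
    exact Nat.le_mul_of_pos_right _ Nat.card_pos
  have key : ∀ Q : Subgroup G, IsCentralizerLarge Q → Q = ⊥ ∨ Q = ⊤ := by
    by_contra hcon
    push Not at hcon
    obtain ⟨Q, hQ, hQ1, hQ2⟩ := hcon
    obtain ⟨M, hM⟩ := (Set.toFinite {R : Subgroup G | IsCentralizerLarge R ∧ R ≠ ⊥ ∧ R ≠ ⊤}).exists_maximal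
      ⟨Q, hQ, hQ1, hQ2⟩
    obtain ⟨hMl, hM1, hM2⟩ := hM.1
    have hinv : ∀ g : G, M.map (MulAut.conj g).toMonoidHom = M := by
      intro g
      obtain ⟨hset, hlarge, -⟩ := cd_sup hMl (cd_map (MulAut.conj g) hMl)
      by_cases hT : M ⊔ M.map (MulAut.conj g).toMonoidHom = ⊤
      · exfalso
        have hg : g⁻¹ ∈ ((M : Set G) * ((M.map (MulAut.conj g).toMonoidHom : Subgroup G) : Set G)) := by
          rw [← hset, hT]; trivial
        obtain ⟨u, hu, _, ⟨v, hv, rfl⟩, huv⟩ := Set.mem_mul.1 hg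
        have huv' : u * (g * v * g⁻¹) = g⁻¹ := huv
        have hgM : g ∈ M := by
          have h' : u * g * v = 1 := by
            calc u * g * v = u * (g * v * g⁻¹) * g := by group
              _ = 1 := by rw [huv', inv_mul_cancel]
          have e : g = u⁻¹ * v⁻¹ := by
            calc g = u⁻¹ * (u * g * v) * v⁻¹ := by group
              _ = u⁻¹ * v⁻¹ := by rw [h', mul_one]
          rw [e]; exact M.mul_mem (M.inv_mem hu) (M.inv_mem hv)
        rw [map_conj_eq_self_iff_mem_normalizer.2 (Subgroup.le_normalizer hgM), sup_idem] at hT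
        exact hM2 hT
      · refine Subgroup.eq_of_le_of_card_ge (le_trans (le_sup_right : _ ≤ M ⊔ M.map (MulAut.conj g).toMonoidHom) ?_) (Nat.card_congr
          (M.equivMapOfInjective _ (MulAut.conj g).injective).toEquiv).le
        refine hM.2 ⟨hlarge, fun h => hM1 (le_bot_iff.1 (le_sup_left.trans h.le)), hT⟩ le_sup_left
    have hn : M.Normal := Subgroup.normalizer_eq_top_iff.1
      (eq_top_iff.2 fun g _ => map_conj_eq_self_iff_mem_normalizer.1 (hinv g))
    exact (IsSimpleGroup.eq_bot_or_eq_top_of_normal M hn).elim hM1 hM2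
  by_contra hle
  push Not at hle
  have hmax : maxCentralizerProduct G ≤ Nat.card G := by
    obtain ⟨R, hR⟩ := exists_isCentralizerLarge (G := G)
    rw [show maxCentralizerProduct G = cdMeasure R from hR.symm]
    rcases key R hR with rfl | rfl
    · unfold cdMeasure
      simp [Subgroup.card_le_card_group]
    · unfold cdMeasure
      rw [show Subgroup.centralizer ((⊤ : Subgroup G) : Set G) = Subgroup.center G by
        simp [Subgroup.centralizer_univ], hZ]
      simp
  exact (key A ((isCentralizerLarge_iff A).2 (hmax.trans hle))).elim hA1 hA2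

end CfsgLib.LocalEvenB
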