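import Cfsg.Agent.Lib.LocalEvenB.Basic
import Mathlib.GroupTheory.Transfer
import Mathlib.GroupTheory.SpecificGroups.Cyclic
import Mathlib.Dynamics.PeriodicPts.Defs

/-!
A transfer criterion: `M ∩ gMg⁻¹ ≤ H` outside `M` makes an abelian quotient `M / H` lift to `G`.
-/

set_option autoImplicit false

open scoped commutatorElement

namespace CfsgLib.LocalEvenB

variable {G : Type*} [Group G] [Finite G]

theorem transfer_eq_of_inf_le {M H : Subgroup G} {A : Type*} [CommGroup A] (φ : M →* A)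
    (hφ : ∀ x : M, (x : G) ∈ H → φ x = 1)
    (hint : ∀ g : G, g ∉ M → ∀ x ∈ M, g⁻¹ * x * g ∈ M → x ∈ H) (m : M) :
    MonoidHom.transfer φ (m : G) = φ m := by
  classical
  haveI := Fintype.ofFinite (Quotient (MulAction.orbitRel (Subgroup.zpowers (m : G)) (G ⧸ M)))
  rw [MonoidHom.transfer_eq_prod_quotient_orbitRel_zpowers_quot]
  set q₀ : Quotient (MulAction.orbitRel (Subgroup.zpowers (m : G)) (G ⧸ M)) :=
    Quotient.mk'' ((1 : G) : G ⧸ M) with hq₀
  have hfix : ∀ z ∈ Subgroup.zpowers (m : G), z • (((1 : G)) : G ⧸ M) = ((1 : G) : G ⧸ M) := by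
    intro z hz
    rw [MulAction.Quotient.smul_coe, smul_eq_mul, mul_one, QuotientGroup.eq]
    simpa using Subgroup.zpowers_le.2 m.2 hz
  have hout : q₀.out = ((1 : G) : G ⧸ M) := by
    obtain ⟨z, hz⟩ : q₀.out ∈ MulAction.orbit (Subgroup.zpowers (m : G)) (((1 : G)) : G ⧸ M) :=
      MulAction.orbitRel_apply.1 (Quotient.exact' (Quotient.out_eq q₀))
    rw [← hz]
    exact hfix _ z.2
  rw [Finset.prod_eq_single q₀]
  · set t := q₀.out.out with ht
    have htM : t ∈ M := by
      have h1 : ((t : G) : G ⧸ M) = ((1 : G) : G ⧸ M) := by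
        rw [ht, QuotientGroup.out_eq', hout]
      simpa using (QuotientGroup.eq.1 h1.symm)
    have hper : Function.minimalPeriod ((m : G) • ·) q₀.out = 1 := by
      rw [Function.minimalPeriod_eq_one_iff_isFixedPt, hout]
      exact hfix _ (Subgroup.mem_zpowers _)
    calc φ ⟨_, _⟩ = φ (⟨t, htM⟩⁻¹ * m * ⟨t, htM⟩) := by
          congr 1
          apply Subtype.ext
          show t⁻¹ * (m : G) ^ Function.minimalPeriod ((m : G) • ·) q₀.out * t = _
          rw [hper, pow_one]; rfl
      _ = φ m := by rw [map_mul, map_mul, map_inv, mul_comm (φ _)⁻¹, inv_mul_cancel_right]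
  · intro q _ hne
    apply hφ
    set t := q.out.out with ht
    have htM : t ∉ M := by
      intro htM
      apply hne
      have h1 : q.out = ((1 : G) : G ⧸ M) := by
        rw [← QuotientGroup.out_eq' q.out, QuotientGroup.eq]
        simpa [← ht] using M.inv_mem htM
      rw [hq₀, ← h1]
      exact (Quotient.out_eq q).symm
    refine hint t⁻¹ (fun h => htM (by simpa using M.inv_mem h)) _
      (QuotientGroup.out_conj_pow_minimalPeriod_mem M (m : G) q.out) ?_
    simp only [inv_inv, ← mul_assoc, mul_inv_cancel, one_mul, mul_inv_cancel_right, ← ht]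
    exact M.pow_mem m.2 _
  · intro h; exact absurd (Finset.mem_univ _) h

/-- The kernel of an abelian quotient of `M` extends to a normal subgroup of `G`. -/
theorem exists_normal_inf_eq {M H : Subgroup G} (hHM : H ≤ M) [(H.subgroupOf M).Normal]
    (hab : ∀ a b : M, ⁅(a : G), (b : G)⁆ ∈ H)
    (hint : ∀ g : G, g ∉ M → ∀ x ∈ M, g⁻¹ * x * g ∈ M → x ∈ H) :
    ∃ K : Subgroup G, K.Normal ∧ K ⊓ M = H := by
  have hc : ∀ a b : M ⧸ H.subgroupOf M, a * b = b * a := by
    intro a b
    obtain ⟨a, rfl⟩ := QuotientGroup.mk_surjective a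
    obtain ⟨b, rfl⟩ := QuotientGroup.mk_surjective b
    rw [← QuotientGroup.mk_mul, ← QuotientGroup.mk_mul, QuotientGroup.eq, Subgroup.mem_subgroupOf]
    have := hab b⁻¹ a⁻¹
    simpa [commutatorElement_def, mul_assoc] using this
  letI : CommGroup (M ⧸ H.subgroupOf M) := { (inferInstance : Group (M ⧸ H.subgroupOf M)) with mul_comm := hc }
  let φ : M →* M ⧸ H.subgroupOf M := QuotientGroup.mk' _
  have hφ : ∀ x : M, (x : G) ∈ H → φ x = 1 := fun x hx => (QuotientGroup.eq_one_iff x).2 hx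
  refine ⟨(MonoidHom.transfer φ).ker, inferInstance, le_antisymm ?_ ?_⟩
  · rintro x ⟨hx, hxM⟩
    have h := transfer_eq_of_inf_le φ hφ hint ⟨x, hxM⟩
    rw [show MonoidHom.transfer φ x = 1 from hx] at h
    exact (QuotientGroup.eq_one_iff (⟨x, hxM⟩ : M)).1 h.symm
  · intro x hx
    refine ⟨?_, hHM hx⟩
    show MonoidHom.transfer φ x = 1
    rw [show x = ((⟨x, hHM hx⟩ : M) : G) from rfl, transfer_eq_of_inf_le φ hφ hint]
    exact hφ _ hx

theorem commutator_mem_of_isCoatom_normal {M H : Subgroup G} (hmax : IsCoatom (H.subgroupOf M))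
    [(H.subgroupOf M).Normal] (a b : M) : ⁅(a : G), (b : G)⁆ ∈ H := by
  have h : ∀ a b : M, ⁅a, b⁆ ∈ H.subgroupOf M := by
    intro a b
    by_cases ha : a ∈ H.subgroupOf M
    · rw [commutatorElement_def, mul_assoc, mul_assoc, ← mul_assoc b]
      exact Subgroup.mul_mem _ ha ((inferInstance : (H.subgroupOf M).Normal).conj_mem _ (Subgroup.inv_mem _ ha) b)
    · have htop : H.subgroupOf M ⊔ Subgroup.zpowers a = ⊤ :=
        hmax.2 _ (lt_of_le_of_ne le_sup_left fun h => ha (h.symm ▸ Subgroup.mem_sup_right (Subgroup.mem_zpowers a)))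
      have hb : b ∈ ((H.subgroupOf M ⊔ Subgroup.zpowers a : Subgroup M) : Set M) := htop ▸ Subgroup.mem_top b
      rw [Subgroup.normal_mul] at hb
      obtain ⟨n, hn, z, hz, rfl⟩ := Set.mem_mul.1 hb
      obtain ⟨i, rfl⟩ := Subgroup.mem_zpowers_iff.1 hz
      have : ⁅a, n * a ^ i⁆ = (a * n * a⁻¹) * n⁻¹ := by
        rw [commutatorElement_def]; group
      rw [this]
      exact Subgroup.mul_mem _ ((inferInstance : (H.subgroupOf M).Normal).conj_mem _ hn a) (Subgroup.inv_mem _ hn)
  exact h a b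

end CfsgLib.LocalEvenB
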