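import Cfsg.Agent.Lib.SolvStruct.Supersolvable
import Cfsg.Agent.Lib.Core.MinNormal
import Cfsg.Agent.Lib.Transfer.Fusion
import Cfsg.Agent.Lib.Transfer.PResidual
import Cfsg.Agent.Lib.PGroups.Basic

/-!
# Supersolvability from the orders of subgroups generated by two conjugate prime-power elements
-/

set_option autoImplicit false
set_option linter.all false

universe w

namespace CfsgLib.LocalEvenB

open Subgroup Cfsg
open scoped commutatorElement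

/-- `q ^ 2` does not divide the order of the group generated by a `p`-element and a conjugate of it
by a `q`-element. -/
def ConjPairCond (G : Type w) [Group G] : Prop :=
  ∀ (p q : ℕ), p.Prime → q.Prime → p ≠ q → ∀ (x g : G), (∃ a : ℕ, orderOf x = p ^ a) →
    (∃ b : ℕ, orderOf g = q ^ b) → ¬ q ^ 2 ∣ Nat.card ↥(zpowers x ⊔ zpowers (g * x * g⁻¹))

variable {G : Type w} [Group G] [Finite G]

/-- A primary preimage of a primary element. -/
theorem exists_primary_lift {H : Type*} [Group H] (f : G →* H) (g : G) {r a : ℕ} (hr : r.Prime)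
    (hg : orderOf (f g) = r ^ a) :
    ∃ x : G, x ∈ zpowers g ∧ (∃ b : ℕ, orderOf x = r ^ b) ∧ f x = f g := by
  obtain ⟨k, m, hm, hkm⟩ :=
    Nat.exists_eq_pow_mul_and_not_dvd (orderOf_pos g).ne' r hr.ne_one
  obtain ⟨j, hj⟩ := exists_pow_eq_self_of_coprime (x := f g) (n := m)
    (by rw [hg]; exact ((hr.coprime_iff_not_dvd.2 hm).pow_left a).symm)
  refine ⟨(g ^ m) ^ j, pow_mem (pow_mem (mem_zpowers g) _) _, ?_, by rw [map_pow, map_pow, hj]⟩
  have h1 : orderOf (g ^ m) ∣ r ^ k := by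
    refine orderOf_dvd_of_pow_eq_one ?_
    rw [← pow_mul, mul_comm, ← hkm, pow_orderOf_eq_one]
  obtain ⟨b, -, hb⟩ := (Nat.dvd_prime_pow hr).1 ((orderOf_pow_dvd j).trans h1)
  exact ⟨b, hb⟩

theorem ConjPairCond.subgroup (h : ConjPairCond G) (K : Subgroup G) : ConjPairCond K := by
  intro p q hp hq hpq x g hx hg hd
  refine h p q hp hq hpq x g (by rwa [Subgroup.orderOf_coe]) (by rwa [Subgroup.orderOf_coe]) ?_
  have e : (zpowers x ⊔ zpowers (g * x * g⁻¹)).map K.subtype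
      = zpowers (x : G) ⊔ zpowers ((g : G) * x * (g : G)⁻¹) := by
    rw [Subgroup.map_sup, MonoidHom.map_zpowers, MonoidHom.map_zpowers]; rfl
  rwa [← e, Subgroup.card_map_of_injective K.subtype_injective]

theorem ConjPairCond.quotient (h : ConjPairCond G) (N : Subgroup G) [N.Normal] :
    ConjPairCond (G ⧸ N) := by
  intro p q hp hq hpq x g ⟨a, ha⟩ ⟨b, hb⟩ hd
  obtain ⟨x₀, rfl⟩ := QuotientGroup.mk'_surjective N x
  obtain ⟨g₀, rfl⟩ := QuotientGroup.mk'_surjective N g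
  obtain ⟨x₁, -, hx, hxe⟩ := exists_primary_lift (QuotientGroup.mk' N) x₀ hp ha
  obtain ⟨g₁, -, hg, hge⟩ := exists_primary_lift (QuotientGroup.mk' N) g₀ hq hb
  refine h p q hp hq hpq x₁ g₁ hx hg (hd.trans ?_)
  have e : (zpowers x₁ ⊔ zpowers (g₁ * x₁ * g₁⁻¹)).map (QuotientGroup.mk' N)
      = zpowers (QuotientGroup.mk' N x₀)
        ⊔ zpowers (QuotientGroup.mk' N g₀ * QuotientGroup.mk' N x₀ * (QuotientGroup.mk' N g₀)⁻¹) := by
    rw [Subgroup.map_sup, MonoidHom.map_zpowers, MonoidHom.map_zpowers, map_mul, map_mul, map_inv, hxe, hge]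
  rw [← e]
  exact Subgroup.card_map_dvd _ _

/-- The commutator of a `p`-element with a normalizing primary element spans a group of order at most `p`. -/
theorem ConjPairCond.commutator_step (h : ConjPairCond G) {p r a : ℕ} [hp : Fact p.Prime] (hr : r.Prime)
    (hrp : r ≠ p) {x : G} (hx : orderOf x = r ^ a) {H : Subgroup G} (hH : IsPGroup p H)
    (hxH : x ∈ normalizer (H : Set G)) {v : G} (hv : v ∈ H) :
    (x * v * x⁻¹ * v⁻¹) ^ p = 1 ∧
      x * (x * v * x⁻¹ * v⁻¹) * x⁻¹ ∈ zpowers (x * v * x⁻¹ * v⁻¹) := by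
  obtain ⟨b, hb⟩ : ∃ b, orderOf v = p ^ b := by
    obtain ⟨k, hk⟩ := IsPGroup.iff_orderOf.1 hH ⟨v, hv⟩
    exact ⟨k, by rwa [Subgroup.orderOf_mk] at hk⟩
  have hnd := h r p hr hp.out hrp x v ⟨a, hx⟩ ⟨b, hb⟩
  set d := x * v * x⁻¹ * v⁻¹ with hd
  set J := zpowers x ⊔ zpowers (v * x * v⁻¹) with hJ
  have hdJ : d ∈ J := by
    have : d = x * (v * x * v⁻¹)⁻¹ := by rw [hd]; group
    rw [this]
    exact mul_mem_sup (mem_zpowers x) (inv_mem (mem_zpowers _))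
  have hdH : d ∈ H := H.mul_mem ((mem_normalizer_iff.1 hxH v).1 hv) (H.inv_mem hv)
  have hdJ' : x * d * x⁻¹ ∈ J :=
    J.mul_mem (J.mul_mem (mem_sup_left (mem_zpowers x)) hdJ) (J.inv_mem (mem_sup_left (mem_zpowers x)))
  set D := zpowers d ⊔ zpowers (x * d * x⁻¹) with hD
  have hDJ : D ≤ J := sup_le (zpowers_le.2 hdJ) (zpowers_le.2 hdJ')
  have hDp : IsPGroup p D :=
    hH.to_le (sup_le (zpowers_le.2 hdH) (zpowers_le.2 ((mem_normalizer_iff.1 hxH d).1 hdH)))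
  obtain ⟨k, hk⟩ := IsPGroup.iff_card.1 hDp
  have hk1 : k ≤ 1 := by
    by_contra hk1
    exact hnd ((pow_dvd_pow p (by omega : 2 ≤ k)).trans (hk ▸ Subgroup.card_dvd_of_le hDJ))
  have hdp : d ^ p = 1 := by
    have hdvd : orderOf d ∣ p := by
      refine ((D.orderOf_dvd_natCard (mem_sup_left (mem_zpowers d))).trans ?_)
      rw [hk]
      exact (pow_dvd_pow p hk1).trans (pow_one p).dvd
    exact orderOf_dvd_iff_pow_eq_one.1 hdvd
  refine ⟨hdp, ?_⟩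
  rcases eq_or_ne d 1 with hd1 | hd1
  · rw [hd1]; simp
  have heq : zpowers d = D := by
    refine eq_of_le_of_card_ge le_sup_left ?_
    rw [hk, Nat.card_zpowers, orderOf_eq_prime hdp hd1]
    calc p ^ k ≤ p ^ 1 := Nat.pow_le_pow_right hp.out.pos hk1
      _ = p := pow_one p
  rw [heq]
  exact mem_sup_right (mem_zpowers _)

/-- Powers of a translating element. -/
theorem conj_pow_of_fixed {x v d : G} (hv : x * v * x⁻¹ = d * v) (hd : x * d * x⁻¹ = d) (n : ℕ) :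
    x ^ n * v * (x ^ n)⁻¹ = d ^ n * v := by
  induction n with
  | zero => simp
  | succ n ih =>
    have hdn : x * d ^ n * x⁻¹ = d ^ n := by rw [← conj_pow, hd]
    calc x ^ (n + 1) * v * (x ^ (n + 1))⁻¹ = x * (x ^ n * v * (x ^ n)⁻¹) * x⁻¹ := by rw [pow_succ']; group
      _ = x * (d ^ n * v) * x⁻¹ := by rw [ih]
      _ = (x * d ^ n * x⁻¹) * (x * v * x⁻¹) := by group
      _ = d ^ (n + 1) * v := by rw [hdn, hv, pow_succ, mul_assoc]

/-- An element membership is decided by its primary parts. -/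
theorem mem_of_primary_parts {K : Subgroup G} {g : G}
    (h : ∀ r : ℕ, r.Prime → ∀ x ∈ zpowers g, (∃ a, orderOf x = r ^ a) → x ∈ K) : g ∈ K := by
  suffices (K.subgroupOf (zpowers g)).index = 1 from
    subgroupOf_eq_top.1 (index_eq_one.1 this) (mem_zpowers g)
  by_contra hne
  obtain ⟨r, hr, hrd⟩ := Nat.exists_prime_and_dvd hne
  haveI := Fact.mk hr
  obtain ⟨S⟩ : Nonempty (Sylow r ↥(zpowers g)) := inferInstance
  refine S.not_dvd_index (hrd.trans (index_dvd_of_le fun y hy => h r hr y y.2 ?_))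
  obtain ⟨k, hk⟩ := IsPGroup.iff_orderOf.1 S.2 ⟨y, hy⟩
  exact ⟨k, by rwa [Subgroup.orderOf_mk, ← Subgroup.orderOf_coe] at hk⟩

/-- For the smallest prime `p`, elements of order prime to `p` centralize the `p`-subgroups they normalize. -/
theorem ConjPairCond.hasNormalPComplement (h : ConjPairCond G) {p : ℕ} [hp : Fact p.Prime]
    (hmin : ∀ r : ℕ, r.Prime → r ∣ Nat.card G → p ≤ r) : HasNormalPComplement p G := by
  obtain ⟨P⟩ : Nonempty (Sylow p G) := inferInstance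
  refine (CfsgLib.Transfer.hasNormalPComplement_iff_centralizes P).mpr fun Q hQP g hg hco => ?_
  have hQ : IsPGroup p Q := P.2.to_le hQP
  refine mem_of_primary_parts (K := centralizer (Q : Set G)) fun r hr x hx ⟨a, ha⟩ => ?_
  rcases Nat.eq_zero_or_pos a with rfl | ha0
  · rw [pow_zero, orderOf_eq_one_iff] at ha; rw [ha]; exact one_mem _
  have hdx : orderOf x ∣ orderOf g := by
    obtain ⟨k, rfl⟩ := mem_zpowers_iff.1 hx
    exact orderOf_dvd_of_mem_zpowers (zpow_mem_zpowers g k)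
  have hrd : r ∣ orderOf x := ha ▸ dvd_pow_self r ha0.ne'
  have hrp : r ≠ p := by
    rintro rfl
    exact hr.not_dvd_one (hco ▸ Nat.dvd_gcd (hrd.trans hdx) dvd_rfl)
  have hlt : p < r := lt_of_le_of_ne (hmin r hr (hrd.trans (orderOf_dvd_natCard x))) (Ne.symm hrp)
  have hxN : x ∈ normalizer (Q : Set G) := by
    obtain ⟨k, rfl⟩ := mem_zpowers_iff.1 hx
    exact zpow_mem hg k
  refine mem_centralizer_iff.2 fun v hv => ?_
  obtain ⟨hdp, hdz⟩ := h.commutator_step hr hrp ha hQ hxN hv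
  obtain ⟨d, hd⟩ : ∃ d, d = x * v * x⁻¹ * v⁻¹ := ⟨_, rfl⟩
  rw [← hd] at hdp hdz
  have hone : d = 1 := by
    by_contra hd1
    have hdo : orderOf d = p := orderOf_eq_prime hdp hd1
    obtain ⟨k, hk⟩ := mem_zpowers_iff.1 hdz
    have hiter : ∀ n : ℕ, x ^ n * d * (x ^ n)⁻¹ = d ^ (k ^ n) := by
      intro n
      induction n with
      | zero => simp
      | succ n ih =>
        calc x ^ (n + 1) * d * (x ^ (n + 1))⁻¹ = x * (x ^ n * d * (x ^ n)⁻¹) * x⁻¹ := by rw [pow_succ']; group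
          _ = x * d ^ (k ^ n) * x⁻¹ := by rw [ih]
          _ = (x * d * x⁻¹) ^ (k ^ n) := by rw [conj_zpow]
          _ = d ^ (k ^ (n + 1)) := by rw [← hk, ← zpow_mul, pow_succ']
    have hfix : x * d * x⁻¹ = d := by
      have h1 : d ^ (k ^ (r ^ a) - 1) = 1 := by
        rw [zpow_sub_one, ← hiter, ← ha, pow_orderOf_eq_one]; simp
      have h1' : (p : ℤ) ∣ k ^ (r ^ a) - 1 := hdo ▸ orderOf_dvd_iff_zpow_eq_one.2 h1
      have h2 : ((k : ZMod p)) ^ (r ^ a) = 1 := by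
        have := (ZMod.intCast_zmod_eq_zero_iff_dvd _ p).2 h1'
        push_cast at this
        exact sub_eq_zero.1 this
      have h3 : (k : ZMod p) ^ (p - 1) = 1 :=
        ZMod.pow_card_sub_one_eq_one fun h0 => by
          rw [h0, zero_pow (pow_pos hr.pos a).ne'] at h2; exact zero_ne_one h2
      have hcop : Nat.Coprime (r ^ a) (p - 1) := by
        refine Nat.Coprime.pow_left a ((hr.coprime_iff_not_dvd).2 fun hd' => ?_)
        have := hp.out.two_le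
        have := Nat.le_of_dvd (by omega) hd'
        omega
      have h4 : orderOf (k : ZMod p) ∣ 1 := hcop ▸ Nat.dvd_gcd (orderOf_dvd_of_pow_eq_one h2) (orderOf_dvd_of_pow_eq_one h3)
      have h5 : (k : ZMod p) = 1 := orderOf_eq_one_iff.1 (Nat.dvd_one.1 h4)
      have h6 : (p : ℤ) ∣ k - 1 := (ZMod.intCast_zmod_eq_zero_iff_dvd _ p).1 (by push_cast; rw [h5, sub_self])
      have h7 : d ^ (k - 1) = 1 := orderOf_dvd_iff_zpow_eq_one.1 (hdo.symm ▸ h6)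
      rw [← hk]
      rw [zpow_sub_one, mul_inv_eq_one] at h7
      exact h7
    have h8 := conj_pow_of_fixed (v := v) (d := d) (by rw [hd]; group) hfix (r ^ a)
    rw [← ha, pow_orderOf_eq_one, one_mul, inv_one, mul_one, ha] at h8
    have h9 : orderOf d ∣ r ^ a := orderOf_dvd_of_pow_eq_one (mul_eq_right.1 h8.symm)
    rw [hdo] at h9
    exact hrp (((Nat.prime_dvd_prime_iff_eq hp.out hr).1 (hp.out.dvd_of_dvd_pow h9)).symm)
  rw [hone, eq_comm, mul_inv_eq_one, mul_inv_eq_iff_eq_mul] at hd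
  exact hd.symm

/-- A normal Sylow subgroup of a normal complement is normal. -/
theorem exists_normal_sylow_largest (hsub : ∀ M : Subgroup G, M ≠ ⊤ → Cfsg.IsSupersolvable M)
    (h : ConjPairCond G) {p q : ℕ} [Fact p.Prime] [Fact q.Prime] (hpq : p ≠ q) (hpG : p ∣ Nat.card G)
    (hmin : ∀ r : ℕ, r.Prime → r ∣ Nat.card G → p ≤ r)
    (hmax : ∀ r : ℕ, r.Prime → r ∣ Nat.card G → r ≤ q) :
    Group.IsSolvable G ∧ ∃ Q : Sylow q G, (Q : Subgroup G).Normal := by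
  obtain ⟨M, hMn, hMc, hMp⟩ :=
    CfsgLib.Transfer.hasNormalPComplement_iff_exists.mp (h.hasNormalPComplement hmin)
  haveI := hMn
  have hMne : M ≠ ⊤ := by
    intro hM
    rw [hM, Subgroup.card_top] at hMc
    exact (Fact.out : p.Prime).not_dvd_one (hMc ▸ Nat.dvd_gcd hpG dvd_rfl)
  have hMs := hsub M hMne
  refine ⟨?_, ?_⟩
  · haveI := CfsgLib.SolvStruct.isSolvable_of_isSupersolvable hMs
    haveI : Group.IsNilpotent (G ⧸ M) := hMp.isNilpotent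
    exact Group.isSolvable_of_ker_le_range M.subtype (QuotientGroup.mk' M) (by simp)
  · obtain ⟨S⟩ : Nonempty (Sylow q M) := inferInstance
    have hSn := CfsgLib.SolvStruct.sylow_normal_of_largest_prime hMs
      (fun r hr hd => hmax r hr (hd.trans (Subgroup.card_subgroup_dvd_card M))) S
    haveI := S.characteristic_of_normal hSn
    have hn : ((S : Subgroup M).map M.subtype).Normal := inferInstance
    have hidx : ¬ q ∣ ((S : Subgroup M).map M.subtype).index := by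
      rw [Subgroup.index_map_subtype]
      intro hd
      rcases (Fact.out : q.Prime).dvd_mul.1 hd with h1 | h1
      · exact S.not_dvd_index h1
      · obtain ⟨k, hk⟩ := IsPGroup.iff_card.1 hMp
        rw [index_eq_card, hk] at h1
        exact hpq ((Nat.prime_dvd_prime_iff_eq (Fact.out : q.Prime) (Fact.out : p.Prime)).1
          ((Fact.out : q.Prime).dvd_of_dvd_pow h1)).symm
    exact ⟨(S.2.map M.subtype).toSylow hidx, hn⟩

theorem zmod_of_zpow_eq {p : ℕ} [Fact p.Prime] {v : G} (hv : v ^ p = 1) (hv1 : v ≠ 1) {i j : ℤ}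
    (h : v ^ i = v ^ j) : (i : ZMod p) = j := by
  rw [ZMod.intCast_eq_intCast_iff_dvd_sub, ← orderOf_eq_prime hv hv1, orderOf_dvd_iff_zpow_eq_one,
    zpow_sub, h, mul_inv_cancel]

/-- Elements acting on `N` as a power map form a subgroup. -/
def scalarSubgroup (N : Subgroup G) : Subgroup G :=
  let K : Submonoid G :=
    { carrier := {g | ∃ k : ℤ, ∀ v ∈ N, g * v * g⁻¹ = v ^ k}
      one_mem' := ⟨1, fun v _ => by simp⟩
      mul_mem' := fun {a b} ⟨k, hk⟩ ⟨l, hl⟩ => ⟨k * l, fun v hv => by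
        calc a * b * v * (a * b)⁻¹ = a * (b * v * b⁻¹) * a⁻¹ := by group
          _ = a * v ^ l * a⁻¹ := by rw [hl v hv]
          _ = (a * v * a⁻¹) ^ l := by rw [conj_zpow]
          _ = v ^ (k * l) := by rw [hk v hv, zpow_mul]⟩ }
  { K with
    inv_mem' := fun {g} hg => by
      have h : g⁻¹ ∈ Submonoid.powers g := mem_powers_iff_mem_zpowers.2 (inv_mem (mem_zpowers g))
      exact Submonoid.powers_le.2 hg h }

theorem mem_scalarSubgroup {N : Subgroup G} {g : G} :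
    g ∈ scalarSubgroup N ↔ ∃ k : ℤ, ∀ v ∈ N, g * v * g⁻¹ = v ^ k := Iff.rfl

instance scalarSubgroup_normal (N : Subgroup G) [hN : N.Normal] : (scalarSubgroup N).Normal := by
  refine ⟨fun g hg t => ?_⟩
  obtain ⟨k, hk⟩ := mem_scalarSubgroup.1 hg
  refine mem_scalarSubgroup.2 ⟨k, fun v hv => ?_⟩
  have h1 := hk (t⁻¹ * v * t) (by simpa using hN.conj_mem v hv t⁻¹)
  calc t * g * t⁻¹ * v * (t * g * t⁻¹)⁻¹ = t * (g * (t⁻¹ * v * t) * g⁻¹) * t⁻¹ := by group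
    _ = t * (t⁻¹ * v * t) ^ k * t⁻¹ := by rw [h1]
    _ = v ^ k := by rw [← conj_zpow]; group

theorem le_scalarSubgroup_of_centralizes {N : Subgroup G} {g : G} (h : ∀ v ∈ N, g * v * g⁻¹ = v) :
    g ∈ scalarSubgroup N :=
  mem_scalarSubgroup.2 ⟨1, fun v hv => by rw [h v hv, zpow_one]⟩

/-- The action of a primary element: one eigenvalue on the commutators. -/
theorem ConjPairCond.exists_eigen (h : ConjPairCond G) {p r a : ℕ} [hp : Fact p.Prime] (hr : r.Prime)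
    (hrp : r ≠ p) {x : G} (hx : orderOf x = r ^ a) {N : Subgroup G} [hN : N.Normal]
    (hNc : IsMulCommutative N) (hNp : ∀ v ∈ N, v ^ p = 1) :
    ∃ k : ℤ, (∀ v ∈ N, x * (x * v * x⁻¹ * v⁻¹) * x⁻¹ = (x * v * x⁻¹ * v⁻¹) ^ k) ∧
      ((∀ v ∈ N, x * v * x⁻¹ = v) ∨ (k : ZMod p) ≠ 1) := by
  have hcm : ∀ u ∈ N, ∀ w ∈ N, u * w = w * u := fun u hu w hw =>
    congrArg Subtype.val (hNc.is_comm.comm ⟨u, hu⟩ ⟨w, hw⟩)
  have hxN : x ∈ normalizer (N : Set G) := by rw [normalizer_eq_top_iff.2 hN]; trivial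
  have hNpg : IsPGroup p N := fun v => ⟨1, Subtype.ext (by simp [hNp v v.2])⟩
  have hstep := fun (v : G) (hv : v ∈ N) => h.commutator_step hr hrp hx hNpg hxN hv
  by_cases htriv : ∀ v ∈ N, x * v * x⁻¹ = v
  · exact ⟨1, fun v hv => by rw [htriv v hv, mul_inv_cancel]; simp, Or.inl htriv⟩
  push Not at htriv
  obtain ⟨v₀, hv₀, hne⟩ := htriv
  obtain ⟨d₀, hd₀⟩ : ∃ d₀, d₀ = x * v₀ * x⁻¹ * v₀⁻¹ := ⟨_, rfl⟩
  have hd₀1 : d₀ ≠ 1 := fun h1 => hne (mul_inv_eq_one.1 (hd₀ ▸ h1))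
  have hd₀N : d₀ ∈ N := hd₀ ▸ N.mul_mem (hN.conj_mem v₀ hv₀ x) (N.inv_mem hv₀)
  obtain ⟨k, hk⟩ := mem_zpowers_iff.1 (hstep v₀ hv₀).2
  rw [← hd₀] at hk
  refine ⟨k, fun v hv => ?_, Or.inr fun hk1 => ?_⟩
  · obtain ⟨d, hd⟩ : ∃ d, d = x * v * x⁻¹ * v⁻¹ := ⟨_, rfl⟩
    rw [← hd]
    have hdN : d ∈ N := hd ▸ N.mul_mem (hN.conj_mem v hv x) (N.inv_mem hv)
    obtain ⟨l, hl⟩ := mem_zpowers_iff.1 (hstep v hv).2
    rw [← hd] at hl
    rcases eq_or_ne d 1 with hd1 | hd1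
    · rw [hd1]; simp
    by_cases hin : d ∈ zpowers d₀
    · obtain ⟨i, rfl⟩ := mem_zpowers_iff.1 hin
      rw [← conj_zpow, ← hk, ← zpow_mul, ← zpow_mul, mul_comm]
    -- the commutator of the product
    have hc : d * d₀ = x * (v * v₀) * x⁻¹ * (v * v₀)⁻¹ := by
      have h1 : d₀ * v⁻¹ = v⁻¹ * d₀ := hcm d₀ hd₀N v⁻¹ (N.inv_mem hv)
      calc d * d₀ = x * v * x⁻¹ * (v⁻¹ * d₀) := by rw [hd]; group
        _ = x * v * x⁻¹ * (d₀ * v⁻¹) := by rw [h1]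
        _ = x * (v * v₀) * x⁻¹ * (v * v₀)⁻¹ := by rw [hd₀]; group
    obtain ⟨m, hm⟩ := mem_zpowers_iff.1 (hstep (v * v₀) (N.mul_mem hv hv₀)).2
    rw [← hc] at hm
    have hcd : Commute d d₀ := hcm d hdN d₀ hd₀N
    have h2 : d ^ m * d₀ ^ m = d ^ l * d₀ ^ k := by
      rw [← hcd.mul_zpow, hm, hl, hk]; group
    have h3 : d ^ (m - l) = d₀ ^ (k - m) := by
      have h3' : d ^ m = d ^ l * d₀ ^ k * (d₀ ^ m)⁻¹ := by rw [← h2, mul_inv_cancel_right]
      rw [sub_eq_add_neg m, add_comm, zpow_add, h3', zpow_neg, ← mul_assoc, ← mul_assoc,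
        inv_mul_cancel, one_mul, zpow_sub]
    have hdo : orderOf d = p := orderOf_eq_prime (hNp d hdN) hd1
    have hlm : d ^ (m - l) = 1 := by
      by_contra hne1
      apply hin
      have heq : zpowers (d ^ (m - l)) = zpowers d := by
        refine eq_of_le_of_card_ge (zpowers_le.2 (zpow_mem_zpowers d _)) ?_
        rw [Nat.card_zpowers, Nat.card_zpowers, hdo,
          orderOf_eq_prime (hNp _ (N.zpow_mem hdN _)) hne1]
      exact zpowers_le.2 (h3 ▸ zpow_mem_zpowers d₀ _) (heq.ge (mem_zpowers d))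
    have e1 : (m : ZMod p) = l := zmod_of_zpow_eq (hNp d hdN) hd1 (by
      rwa [zpow_sub, mul_inv_eq_one] at hlm)
    have e2 : (k : ZMod p) = m := zmod_of_zpow_eq (hNp d₀ hd₀N) hd₀1 (by
      rw [hlm, zpow_sub, eq_comm, mul_inv_eq_one] at h3; exact h3)
    have e3 : (p : ℤ) ∣ l - k := (ZMod.intCast_eq_intCast_iff_dvd_sub _ _ p).1 (e2.trans e1)
    rw [← hl, ← mul_inv_eq_one, ← zpow_sub]
    exact orderOf_dvd_iff_zpow_eq_one.1 (hdo ▸ e3)
  · have hfix : x * d₀ * x⁻¹ = d₀ := by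
      have e3 : (p : ℤ) ∣ 1 - k :=
        (ZMod.intCast_eq_intCast_iff_dvd_sub _ _ p).1 (by rw [hk1, Int.cast_one])
      have := orderOf_dvd_iff_zpow_eq_one.1 ((orderOf_eq_prime (hNp d₀ hd₀N) hd₀1).symm ▸ e3)
      rw [zpow_sub, zpow_one, mul_inv_eq_one] at this
      rw [← hk, ← this]
    have h8 := conj_pow_of_fixed (v := v₀) (d := d₀) (by rw [hd₀]; group) hfix (r ^ a)
    rw [← hx, pow_orderOf_eq_one, one_mul, inv_one, mul_one, hx] at h8
    have h9 : orderOf d₀ ∣ r ^ a := orderOf_dvd_of_pow_eq_one (mul_eq_right.1 h8.symm)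
    rw [orderOf_eq_prime (hNp d₀ hd₀N) hd₀1] at h9
    exact hrp (((Nat.prime_dvd_prime_iff_eq hp.out hr).1 (hp.out.dvd_of_dvd_pow h9)).symm)


/-- The exponent congruences behind the two-eigenvalue analysis. -/
theorem zpow_eq_of_cast {p : ℕ} [Fact p.Prime] {v : G} (hv : v ^ p = 1) {i j : ℤ}
    (h : (i : ZMod p) = j) : v ^ i = v ^ j := by
  have h1 : (p : ℤ) ∣ j - i := (ZMod.intCast_eq_intCast_iff_dvd_sub _ _ p).1 h
  obtain ⟨c, hc⟩ := h1
  have : j = i + p * c := by omega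
  rw [this, zpow_add, zpow_mul, zpow_natCast, hv, one_zpow, mul_one]

/-- An irreducible elementary abelian normal subgroup of the quotient configuration is cyclic. -/
theorem ConjPairCond.isCyclic_of_minimal (h : ConjPairCond G) {q : ℕ} [hq : Fact q.Prime] (Q : Sylow q G)
    (hQn : (Q : Subgroup G).Normal) {N : Subgroup G} [hN : N.Normal] (hN1 : N ≠ ⊥)
    (hNQ : N ≤ (Q : Subgroup G))
    (hmin : ∀ K : Subgroup G, K.Normal → K ≤ N → K = ⊥ ∨ K = N)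
    (hNc : IsMulCommutative N) (hNp : ∀ v ∈ N, v ^ q = 1)
    (hss : ∀ (S : Subgroup G) (_ : S.Normal), S ≠ ⊥ → Cfsg.IsSupersolvable (G ⧸ S)) :
    IsCyclic N := by
  by_contra hcyc
  have hcm : ∀ u ∈ N, ∀ w ∈ N, u * w = w * u := fun u hu w hw =>
    congrArg Subtype.val (hNc.is_comm.comm ⟨u, hu⟩ ⟨w, hw⟩)
  have hord : ∀ v ∈ N, v ≠ 1 → orderOf v = q := fun v hv hv1 => orderOf_eq_prime (hNp v hv) hv1
  -- `Q` centralizes `N`
  have hQC : (Q : Subgroup G) ≤ centralizer (N : Set G) := by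
    rw [le_centralizer_iff]
    have hne : N ⊓ centralizer ((Q : Subgroup G) : Set G) ≠ ⊥ := by
      intro hb
      have h0 : N.subgroupOf (Q : Subgroup G) ≠ ⊥ := by
        rw [Ne, subgroupOf_eq_bot, disjoint_iff, inf_eq_left.2 hNQ]; exact hN1
      obtain ⟨z, hz, hz1⟩ := (Subgroup.bot_or_exists_ne_one _).resolve_left
        (CfsgLib.PGroups.inf_center_ne_bot Q.2 h0)
      refine hz1 (Subtype.ext (mem_bot.1 (hb.le ⟨hz.1, mem_centralizer_iff.2 fun y hy => ?_⟩)))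
      exact congrArg Subtype.val (mem_center_iff.1 hz.2 ⟨y, hy⟩)
    haveI := hQn
    rcases hmin (N ⊓ centralizer ((Q : Subgroup G) : Set G)) inferInstance inf_le_left with h0 | h0
    · exact absurd h0 hne
    · exact inf_eq_left.1 h0
  have hQfix : ∀ g ∈ (Q : Subgroup G), ∀ v ∈ N, g * v * g⁻¹ = v := fun g hg v hv => by
    rw [← mem_centralizer_iff.1 (hQC hg) v hv, mul_inv_cancel_right]
  have hqelem : ∀ (x : G) (a : ℕ), orderOf x = q ^ a → x ∈ (Q : Subgroup G) := by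
    intro x a ha
    have hxp : IsPGroup q ↥(zpowers x) := IsPGroup.of_card (n := a) (by rw [Nat.card_zpowers, ha])
    obtain ⟨T, hT⟩ := hxp.exists_le_sylow
    have hTQ : T = Q := @Subsingleton.elim _
      (Sylow.unique_of_normal Q hQn).instSubsingleton _ _
    exact hTQ ▸ hT (mem_zpowers x)
  obtain ⟨S, hS⟩ : ∃ S, S = scalarSubgroup N := ⟨_, rfl⟩
  haveI hSn : S.Normal := hS ▸ inferInstance
  have hQS : (Q : Subgroup G) ≤ S := fun g hg => hS ▸ le_scalarSubgroup_of_centralizes (hQfix g hg)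
  have hStop : S ≠ ⊤ := by
    intro htop
    obtain ⟨v, hv, hv1⟩ := (Subgroup.bot_or_exists_ne_one _).resolve_left hN1
    have hn : (zpowers v).Normal := by
      refine ⟨fun x hx g => ?_⟩
      obtain ⟨k, hk⟩ := mem_scalarSubgroup.1 (hS ▸ htop.ge (mem_top g) : g ∈ scalarSubgroup N)
      rw [hk x (zpowers_le.2 hv hx)]
      exact zpow_mem hx k
    rcases hmin (zpowers v) hn (zpowers_le.2 hv) with h0 | h0
    · exact hv1 (zpowers_eq_bot.1 h0)
    · exact hcyc (h0 ▸ inferInstance)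
  have hSb : S ≠ ⊥ := fun hb => hN1 (le_bot_iff.1 (hb ▸ hNQ.trans hQS))
  haveI : Nontrivial (G ⧸ S) := by
    obtain ⟨g, hg⟩ : ∃ g, g ∉ S := by
      by_contra h0
      push Not at h0
      exact hStop (eq_top_iff.2 fun g _ => h0 g)
    exact ⟨⟨QuotientGroup.mk g, 1, fun h0 => hg ((QuotientGroup.eq_one_iff g).1 h0)⟩⟩
  obtain ⟨Mb, hMbn, -, hMbp⟩ := CfsgLib.SolvStruct.exists_prime_normal_le (hss S hSn hSb)
    (inferInstance : (⊤ : Subgroup (G ⧸ S)).Normal) top_ne_bot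
  obtain ⟨r, hrdef⟩ : ∃ r, r = Nat.card Mb := ⟨_, rfl⟩
  have hr : r.Prime := hrdef ▸ hMbp
  haveI : Fact r.Prime := ⟨hr⟩
  obtain ⟨⟨mb, hmbM⟩, hmbo⟩ := exists_prime_orderOf_dvd_card' (G := Mb) r (hrdef ▸ dvd_rfl)
  rw [Subgroup.orderOf_mk] at hmbo
  obtain ⟨g₁, hg₁⟩ := QuotientGroup.mk'_surjective S mb
  obtain ⟨m, hm, ⟨a, ha⟩, hme⟩ := exists_primary_lift (QuotientGroup.mk' S) g₁ hr (a := 1)
    (by rw [hg₁, hmbo, pow_one])
  rw [hg₁] at hme
  have hMgen : Mb = zpowers mb := (eq_of_le_of_card_ge (zpowers_le.2 hmbM)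
    (by rw [Nat.card_zpowers, hmbo, hrdef])).symm
  have hmb1 : mb ≠ 1 := fun h0 => hr.ne_one (by rw [← hmbo, h0, orderOf_one])
  have hmS : m ∉ S := fun h0 => hmb1 (by
    rw [← hme]; exact (QuotientGroup.eq_one_iff m).2 h0)
  have hrq : r ≠ q := by
    rintro rfl
    exact hmS (hQS (hqelem m a ha))
  -- conjugates of `m`
  have hconj : ∀ g : G, ∃ i : ℕ, ∃ κ : ℤ, ∀ v ∈ N,
      g⁻¹ * m * g * v * (g⁻¹ * m * g)⁻¹ = (m ^ i * v * (m ^ i)⁻¹) ^ κ := by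
    intro g
    have hmem : QuotientGroup.mk' S (g⁻¹ * m * g) ∈ Mb := by
      rw [map_mul, map_mul, hme]
      have := hMbn.conj_mem mb hmbM (QuotientGroup.mk' S g⁻¹)
      rwa [map_inv, inv_inv, ← map_inv] at this
    rw [hMgen] at hmem
    obtain ⟨i, hi⟩ := (Submonoid.mem_powers_iff _ _).1 (mem_powers_iff_mem_zpowers.2 hmem)
    obtain ⟨σ, hσ⟩ : ∃ σ, σ = (m ^ i)⁻¹ * (g⁻¹ * m * g) := ⟨_, rfl⟩
    have hσS : σ ∈ S := by
      rw [← QuotientGroup.eq_one_iff]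
      show QuotientGroup.mk' S σ = 1
      rw [hσ, map_mul, map_inv, map_pow, hme, hi, inv_mul_cancel]
    obtain ⟨κ, hκ⟩ := mem_scalarSubgroup.1 (hS ▸ hσS : σ ∈ scalarSubgroup N)
    refine ⟨i, κ, fun v hv => ?_⟩
    have e : g⁻¹ * m * g = m ^ i * σ := by rw [hσ, mul_inv_cancel_left]
    rw [e, conj_zpow, ← hκ v hv]
    group
  -- the two eigenspaces of `m`
  obtain ⟨k, hk, hk'⟩ := h.exists_eigen hr hrq ha hNc hNp
  have hk1 : (k : ZMod q) ≠ 1 := hk'.resolve_left fun h0 =>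
    hmS (hS ▸ le_scalarSubgroup_of_centralizes h0)
  let U : Subgroup G :=
    { carrier := {v | v ∈ N ∧ m * v * m⁻¹ = v}
      one_mem' := ⟨one_mem _, by simp⟩
      mul_mem' := fun {x y} hx hy => ⟨mul_mem hx.1 hy.1, by
        calc m * (x * y) * m⁻¹ = (m * x * m⁻¹) * (m * y * m⁻¹) := by group
          _ = x * y := by rw [hx.2, hy.2]⟩
      inv_mem' := fun {x} hx => ⟨inv_mem hx.1, by rw [← conj_inv, hx.2]⟩ }
  let W : Subgroup G :=
    { carrier := {v | v ∈ N ∧ m * v * m⁻¹ = v ^ k}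
      one_mem' := ⟨one_mem _, by simp⟩
      mul_mem' := fun {x y} hx hy => ⟨mul_mem hx.1 hy.1, by
        calc m * (x * y) * m⁻¹ = (m * x * m⁻¹) * (m * y * m⁻¹) := by group
          _ = (x * y) ^ k := by rw [hx.2, hy.2, (show Commute x y from hcm x hx.1 y hy.1).mul_zpow]⟩
      inv_mem' := fun {x} hx => ⟨inv_mem hx.1, by rw [← conj_inv, hx.2, inv_zpow]⟩ }
  have hUW : ∀ x ∈ U, x ∈ W → x = 1 := by
    intro x hxU hxW
    by_contra hx1
    have h1 : x ^ (1 : ℤ) = x ^ k := by rw [zpow_one]; exact hxU.2.symm.trans hxW.2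
    have h2 := zmod_of_zpow_eq (hNp x hxU.1) hx1 h1
    exact hk1 (by rw [← h2, Int.cast_one])
  have hfull : ∀ x ∈ N, ∀ c : ℤ, (c : ZMod q) ≠ 0 → x ∈ zpowers (x ^ c) := by
    intro x hx c hc
    rcases eq_or_ne x 1 with rfl | hx1
    · exact one_mem _
    have hne : x ^ c ≠ 1 := fun h0 => hc (by
      have := zmod_of_zpow_eq (hNp x hx) hx1 (h0.trans (zpow_zero x).symm)
      rw [this, Int.cast_zero])
    have := eq_of_le_of_card_ge (zpowers_le.2 (zpow_mem_zpowers x c))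
      (by rw [Nat.card_zpowers, Nat.card_zpowers, hord x hx hx1, hord _ (N.zpow_mem hx c) hne])
    exact this.ge (mem_zpowers x)
  have hkne : ((k - 1 : ℤ) : ZMod q) ≠ 0 := by
    rw [Int.cast_sub, Int.cast_one, sub_ne_zero]; exact hk1
  have hsplit : ∀ v ∈ N, ∃ x ∈ U, ∃ y ∈ W, v = x * y := by
    intro v hv
    have hle : U ⊔ W ≤ N := sup_le (fun x hx => hx.1) (fun x hx => hx.1)
    obtain ⟨d, hd⟩ : ∃ d, d = m * v * m⁻¹ * v⁻¹ := ⟨_, rfl⟩
    have hdN : d ∈ N := hd ▸ N.mul_mem (hN.conj_mem v hv m) (N.inv_mem hv)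
    have hdW : d ∈ W := ⟨hdN, hd ▸ hk v hv⟩
    have hU : v ^ (k - 1) * d⁻¹ ∈ U := by
      refine ⟨N.mul_mem (N.zpow_mem hv _) (N.inv_mem hdN), ?_⟩
      have h1 : m * v * m⁻¹ = d * v := by rw [hd]; group
      have hc : Commute d v := hcm d hdN v hv
      calc m * (v ^ (k - 1) * d⁻¹) * m⁻¹
          = (m * v * m⁻¹) ^ (k - 1) * (m * d * m⁻¹)⁻¹ := by rw [conj_zpow]; group
        _ = (d * v) ^ (k - 1) * (d ^ k)⁻¹ := by rw [h1, hdW.2]
        _ = v ^ (k - 1) * d ^ (k - 1) * (d ^ k)⁻¹ := by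
          rw [hc.mul_zpow, (hc.zpow_zpow (k - 1) (k - 1)).eq]
        _ = v ^ (k - 1) * d⁻¹ := by
          rw [mul_assoc, ← zpow_neg, ← zpow_add, show k - 1 + -k = -1 by ring, zpow_neg_one]
    have h2 : v ^ (k - 1) ∈ U ⊔ W := by
      have := mul_mem_sup hU hdW
      rwa [inv_mul_cancel_right] at this
    have h3 : v ∈ U ⊔ W := zpowers_le.2 h2 (hfull v hv _ hkne)
    have hUnW : U ≤ normalizer (W : Set G) := le_normalizer_iff.2 fun x hx y hy => by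
      rw [hcm x hx.1 y hy.1, mul_inv_cancel_right]; exact hy
    rw [← SetLike.mem_coe, coe_mul_of_left_le_normalizer_right U W hUnW] at h3
    obtain ⟨x, hx, y, hy, hxy⟩ := h3
    exact ⟨x, hx, y, hy, hxy.symm⟩
  obtain ⟨u₀, hu₀, hu₀1⟩ : ∃ x ∈ U, x ≠ 1 := by
    by_contra h0
    push Not at h0
    refine hmS (hS ▸ mem_scalarSubgroup.2 ⟨k, fun v hv => ?_⟩)
    obtain ⟨x, hx, y, hy, rfl⟩ := hsplit v hv
    rw [h0 x hx, one_mul]
    exact hy.2
  obtain ⟨w₀, hw₀, hw₀1⟩ : ∃ x ∈ W, x ≠ 1 := by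
    by_contra h0
    push Not at h0
    refine hmS (hS ▸ le_scalarSubgroup_of_centralizes fun v hv => ?_)
    obtain ⟨x, hx, y, hy, rfl⟩ := hsplit v hv
    rw [h0 y hy, mul_one]
    exact hx.2
  -- a set of vectors with a common eigenvalue lies in one of the spaces
  have heig : ∀ κ : ℤ, ∀ v ∈ N, m * v * m⁻¹ = v ^ κ →
      ((κ : ZMod q) = 1 → v ∈ U) ∧ ((κ : ZMod q) ≠ 1 → v ∈ W) := by
    intro κ v hv hκ
    obtain ⟨x, hx, y, hy, rfl⟩ := hsplit v hv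
    have h1 : x * y ^ k = x ^ κ * y ^ κ := by
      rw [← (show Commute x y from hcm x hx.1 y hy.1).mul_zpow, ← hκ]
      calc x * y ^ k = (m * x * m⁻¹) * (m * y * m⁻¹) := by rw [hx.2, hy.2]
        _ = m * (x * y) * m⁻¹ := by group
    have h2 : y ^ (k - κ) = x ^ (κ - 1) := by
      have h3 : y ^ k = x⁻¹ * (x ^ κ * y ^ κ) := by rw [← h1, inv_mul_cancel_left]
      rw [zpow_sub, h3, mul_assoc, mul_inv_cancel_right, ← zpow_neg_one, ← zpow_add, neg_add_eq_sub]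
    have h4 : x ^ (κ - 1) = 1 := hUW _ (U.zpow_mem hx _) (h2 ▸ W.zpow_mem hy _)
    have h5 : y ^ (k - κ) = 1 := h2.trans h4
    constructor
    · intro hκ1
      suffices hy1 : y = 1 by rw [hy1, mul_one]; exact hx
      have hne : ((k - κ : ℤ) : ZMod q) ≠ 0 := by
        rw [Int.cast_sub, hκ1, sub_ne_zero]; exact hk1
      have := hfull y hy.1 _ hne
      rwa [h5, zpowers_one_eq_bot, mem_bot] at this
    · intro hκ1
      suffices hx1 : x = 1 by rw [hx1, one_mul]; exact hy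
      have hne : ((κ - 1 : ℤ) : ZMod q) ≠ 0 := by
        rw [Int.cast_sub, Int.cast_one, sub_ne_zero]; exact hκ1
      have := hfull x hx.1 _ hne
      rwa [h4, zpowers_one_eq_bot, mem_bot] at this
  have hmpow : ∀ (i : ℕ), (∀ u ∈ U, m ^ i * u * (m ^ i)⁻¹ = u) ∧
      (∀ w ∈ W, m ^ i * w * (m ^ i)⁻¹ = w ^ (k ^ i)) := by
    intro i
    induction i with
    | zero => simp
    | succ i ih =>
      constructor
      · intro u hu
        calc m ^ (i + 1) * u * (m ^ (i + 1))⁻¹ = m * (m ^ i * u * (m ^ i)⁻¹) * m⁻¹ := by rw [pow_succ']; group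
          _ = u := by rw [ih.1 u hu, hu.2]
      · intro w hw
        calc m ^ (i + 1) * w * (m ^ (i + 1))⁻¹ = m * (m ^ i * w * (m ^ i)⁻¹) * m⁻¹ := by rw [pow_succ']; group
          _ = (m * w * m⁻¹) ^ (k ^ i) := by rw [ih.2 w hw, conj_zpow]
          _ = w ^ (k ^ (i + 1)) := by rw [hw.2, ← zpow_mul, pow_succ']
  -- conjugates of each space lie in one of them
  have hblock : ∀ g : G, ((∀ u ∈ U, g * u * g⁻¹ ∈ U) ∨ (∀ u ∈ U, g * u * g⁻¹ ∈ W)) ∧
      ((∀ w ∈ W, g * w * g⁻¹ ∈ U) ∨ (∀ w ∈ W, g * w * g⁻¹ ∈ W)) := by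
    intro g
    obtain ⟨i, κ, hκ⟩ := hconj g
    have hU' : ∀ u ∈ U, m * (g * u * g⁻¹) * m⁻¹ = (g * u * g⁻¹) ^ κ := by
      intro u hu
      calc m * (g * u * g⁻¹) * m⁻¹ = g * (g⁻¹ * m * g * u * (g⁻¹ * m * g)⁻¹) * g⁻¹ := by group
        _ = g * u ^ κ * g⁻¹ := by rw [hκ u hu.1, (hmpow i).1 u hu]
        _ = (g * u * g⁻¹) ^ κ := by rw [conj_zpow]
    have hW' : ∀ w ∈ W, m * (g * w * g⁻¹) * m⁻¹ = (g * w * g⁻¹) ^ (k ^ i * κ) := by
      intro w hw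
      calc m * (g * w * g⁻¹) * m⁻¹ = g * (g⁻¹ * m * g * w * (g⁻¹ * m * g)⁻¹) * g⁻¹ := by group
        _ = g * w ^ (k ^ i * κ) * g⁻¹ := by rw [hκ w hw.1, (hmpow i).2 w hw, ← zpow_mul]
        _ = (g * w * g⁻¹) ^ (k ^ i * κ) := by rw [conj_zpow]
    constructor
    · by_cases hκ1 : (κ : ZMod q) = 1
      · exact Or.inl fun u hu => (heig _ _ (hN.conj_mem u hu.1 g) (hU' u hu)).1 hκ1
      · exact Or.inr fun u hu => (heig _ _ (hN.conj_mem u hu.1 g) (hU' u hu)).2 hκ1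
    · by_cases hκ1 : ((k ^ i * κ : ℤ) : ZMod q) = 1
      · exact Or.inl fun w hw => (heig _ _ (hN.conj_mem w hw.1 g) (hW' w hw)).1 hκ1
      · exact Or.inr fun w hw => (heig _ _ (hN.conj_mem w hw.1 g) (hW' w hw)).2 hκ1
  obtain ⟨g₀, hg₀⟩ : ∃ g₀ : G, ∀ u ∈ U, g₀ * u * g₀⁻¹ ∈ W := by
    by_contra h0
    push Not at h0
    have hUn : U.Normal := ⟨fun u hu g => (hblock g).1.elim (fun h1 => h1 u hu) (fun h1 => by
      obtain ⟨u', hu', hnot⟩ := h0 g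
      exact absurd (h1 u' hu') hnot)⟩
    rcases hmin U hUn (fun x hx => hx.1) with h1 | h1
    · exact hu₀1 (mem_bot.1 (h1.le hu₀))
    · exact hw₀1 (hUW w₀ (h1.ge hw₀.1) hw₀)
  have hg₀W : ∀ w ∈ W, g₀ * w * g₀⁻¹ ∈ U := (hblock g₀).2.resolve_right fun h1 => by
    obtain ⟨x, hx, y, hy, hxy⟩ := hsplit (g₀⁻¹ * u₀ * g₀) (by simpa using hN.conj_mem u₀ hu₀.1 g₀⁻¹)
    refine hu₀1 (hUW u₀ hu₀ ?_)
    have e : u₀ = (g₀ * x * g₀⁻¹) * (g₀ * y * g₀⁻¹) := by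
      calc u₀ = g₀ * (g₀⁻¹ * u₀ * g₀) * g₀⁻¹ := by group
        _ = g₀ * (x * y) * g₀⁻¹ := by rw [hxy]
        _ = _ := by group
    rw [e]
    exact mul_mem (hg₀ x hx) (h1 y hy)
  -- a `2`-element interchanging the spaces
  obtain ⟨g, hgU, hgW, e, he⟩ : ∃ g : G, (∀ u ∈ U, g * u * g⁻¹ ∈ W) ∧ (∀ w ∈ W, g * w * g⁻¹ ∈ U) ∧
      ∃ e : ℕ, orderOf g = 2 ^ e := by
    have hsq : ∀ j : ℕ, (∀ u ∈ U, (g₀ ^ (2 * j + 1)) * u * (g₀ ^ (2 * j + 1))⁻¹ ∈ W) ∧
        (∀ w ∈ W, (g₀ ^ (2 * j + 1)) * w * (g₀ ^ (2 * j + 1))⁻¹ ∈ U) := by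
      intro j
      induction j with
      | zero => simpa using And.intro hg₀ hg₀W
      | succ j ih =>
        have e : g₀ ^ (2 * (j + 1) + 1) = g₀ * g₀ * g₀ ^ (2 * j + 1) := by
          rw [show 2 * (j + 1) + 1 = 2 + (2 * j + 1) by ring, pow_add, pow_two]
        constructor
        · intro u hu
          have := hg₀ _ (hg₀W _ (ih.1 u hu))
          rw [e]
          convert this using 1
          group
        · intro w hw
          have := hg₀W _ (hg₀ _ (ih.2 w hw))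
          rw [e]
          convert this using 1
          group
    obtain ⟨e, n, hn, hen⟩ := Nat.exists_eq_pow_mul_and_not_dvd (orderOf_pos g₀).ne' 2 (by norm_num)
    obtain ⟨j, hj⟩ : ∃ j, n = 2 * j + 1 := ⟨n / 2, by omega⟩
    refine ⟨g₀ ^ n, hj ▸ (hsq j).1, hj ▸ (hsq j).2, ?_⟩
    have hdvd : orderOf (g₀ ^ n) ∣ 2 ^ e := orderOf_dvd_of_pow_eq_one (by
      rw [← pow_mul, mul_comm, ← hen, pow_orderOf_eq_one])
    obtain ⟨e', -, he'⟩ := (Nat.dvd_prime_pow Nat.prime_two).1 hdvd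
    exact ⟨e', he'⟩
  have h2q : (2 : ℕ) ≠ q := by
    rintro rfl
    have h1 := hgU u₀ hu₀
    rw [hQfix g (hqelem g e he) u₀ hu₀.1] at h1
    exact hu₀1 (hUW u₀ hu₀ h1)
  obtain ⟨μ, hμ, -⟩ := h.exists_eigen Nat.prime_two h2q he hNc hNp
  have hswap : ∀ v ∈ N, ∀ (X Y : Subgroup G), (∀ x ∈ X, g * x * g⁻¹ ∈ Y) → (∀ x ∈ Y, g * x * g⁻¹ ∈ X) →
      (∀ x ∈ X, x ∈ Y → x = 1) → v ∈ X → v ≠ 1 → g * (g * v * g⁻¹) * g⁻¹ = v := by
    intro v hv X Y hXY hYX hd hvX hv1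
    obtain ⟨b, hb⟩ : ∃ b, b = g * v * g⁻¹ := ⟨_, rfl⟩
    have hbN : b ∈ N := hb ▸ hN.conj_mem v hv g
    have hbY : b ∈ Y := hb ▸ hXY v hvX
    have hb1 : b ≠ 1 := fun h0 => hv1 (conj_eq_one_iff.1 (hb ▸ h0))
    have h1 := hμ v hv
    rw [← hb] at h1 ⊢
    have hcv : Commute b v⁻¹ := hcm b hbN v⁻¹ (N.inv_mem hv)
    have h2 : (g * b * g⁻¹) * v ^ μ = b ^ (μ + 1) := by
      have h3 : g * b * g⁻¹ * b⁻¹ = b ^ μ * (v⁻¹) ^ μ := by
        rw [← hcv.mul_zpow, ← h1, hb]; group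
      have h4 : g * b * g⁻¹ = b ^ μ * (v ^ μ)⁻¹ * b := by rw [← inv_zpow, ← h3, inv_mul_cancel_right]
      rw [h4, mul_assoc (b ^ μ * (v ^ μ)⁻¹), hcm b hbN (v ^ μ) (N.zpow_mem hv μ), ← mul_assoc,
        inv_mul_cancel_right, ← zpow_add_one]
    have h5 : b ^ (μ + 1) = 1 :=
      hd _ (h2 ▸ X.mul_mem (hYX b hbY) (X.zpow_mem hvX μ)) (Y.zpow_mem hbY _)
    have h6 : g * b * g⁻¹ = v ^ (-μ) := by
      rw [h5, mul_eq_one_iff_eq_inv] at h2
      rw [h2, zpow_neg]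
    rw [h6]
    have h7 := zmod_of_zpow_eq (hNp b hbN) hb1 (h5.trans (zpow_zero b).symm)
    have h8 : v ^ (-μ) = v ^ (1 : ℤ) := zpow_eq_of_cast (p := q) (hNp v hv) (by
      push_cast at h7 ⊢
      exact neg_eq_of_add_eq_zero_right h7)
    rwa [zpow_one] at h8
  have hgU2 : ∀ u ∈ U, g * (g * u * g⁻¹) * g⁻¹ = u := fun u hu => by
    rcases eq_or_ne u 1 with rfl | hu1
    · simp
    exact hswap u hu.1 U W hgU hgW hUW hu hu1
  have hgW2 : ∀ w ∈ W, g * (g * w * g⁻¹) * g⁻¹ = w := fun w hw => by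
    rcases eq_or_ne w 1 with rfl | hw1
    · simp
    exact hswap w hw.1 W U hgW hgU (fun x h1 h2 => hUW x h2 h1) hw hw1
  -- the conjugate of `m` with interchanged eigenvalues times `m⁻¹`
  obtain ⟨L, hL⟩ : ∃ L : ℕ, L = r ^ a := ⟨_, rfl⟩
  have hmL : m ^ L = 1 := by rw [hL, ← ha, pow_orderOf_eq_one]
  have hkL : (k : ZMod q) ^ L = 1 := by
    have h1 := (hmpow L).2 w₀ hw₀
    rw [hmL] at h1
    have h2 : w₀ ^ (k ^ L) = w₀ ^ (1 : ℤ) := by rw [zpow_one, ← h1]; simp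
    have h3 := zmod_of_zpow_eq (hNp w₀ hw₀.1) hw₀1 h2
    push_cast at h3
    exact h3
  have hL0 : 0 < L := hL ▸ pow_pos hr.pos a
  obtain ⟨y, hy⟩ : ∃ y, y = g * m * g⁻¹ * m ^ (L - 1) := ⟨_, rfl⟩
  have hyU : ∀ u ∈ U, y * u * y⁻¹ = u ^ k := by
    intro u hu
    have h1 : g⁻¹ * u * g = g * u * g⁻¹ := by
      have h2 := hgU2 u hu
      calc g⁻¹ * u * g = g⁻¹ * (g * (g * u * g⁻¹) * g⁻¹) * g := by rw [h2]
        _ = g * u * g⁻¹ := by group
    calc y * u * y⁻¹ = g * (m * (g⁻¹ * (m ^ (L - 1) * u * (m ^ (L - 1))⁻¹) * g) * m⁻¹) * g⁻¹ := by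
          rw [hy]; group
      _ = g * (m * (g * u * g⁻¹) * m⁻¹) * g⁻¹ := by rw [(hmpow (L - 1)).1 u hu, h1]
      _ = g * (g * u * g⁻¹) ^ k * g⁻¹ := by rw [(hgU u hu).2]
      _ = u ^ k := by rw [← conj_zpow, hgU2 u hu]
  have hyW : ∀ w ∈ W, y * w * y⁻¹ = w ^ (k ^ (L - 1)) := by
    intro w hw
    have h1 : g⁻¹ * w * g = g * w * g⁻¹ := by
      have h2 := hgW2 w hw
      calc g⁻¹ * w * g = g⁻¹ * (g * (g * w * g⁻¹) * g⁻¹) * g := by rw [h2]
        _ = g * w * g⁻¹ := by group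
    have h3 : g⁻¹ * w ^ (k ^ (L - 1)) * g = (g * w * g⁻¹) ^ (k ^ (L - 1)) := by
      rw [← h1]
      have := conj_zpow (a := g⁻¹) (b := w) (i := k ^ (L - 1))
      rw [inv_inv] at this
      exact this.symm
    calc y * w * y⁻¹ = g * (m * (g⁻¹ * (m ^ (L - 1) * w * (m ^ (L - 1))⁻¹) * g) * m⁻¹) * g⁻¹ := by
          rw [hy]; group
      _ = g * (m * (g * w * g⁻¹) ^ (k ^ (L - 1)) * m⁻¹) * g⁻¹ := by rw [(hmpow (L - 1)).2 w hw, h3]
      _ = g * (g * w * g⁻¹) ^ (k ^ (L - 1)) * g⁻¹ := by rw [← conj_zpow, (hgW w hw).2]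
      _ = w ^ (k ^ (L - 1)) := by rw [← conj_zpow, hgW2 w hw]
  have hypow : ∀ (c : ℤ) (v : G), y * v * y⁻¹ = v ^ c → ∀ t : ℕ,
      y ^ t * v * (y ^ t)⁻¹ = v ^ (c ^ t) := by
    intro c v hv t
    induction t with
    | zero => simp
    | succ t ih =>
      calc y ^ (t + 1) * v * (y ^ (t + 1))⁻¹ = y * (y ^ t * v * (y ^ t)⁻¹) * y⁻¹ := by rw [pow_succ']; group
        _ = (y * v * y⁻¹) ^ (c ^ t) := by rw [ih, conj_zpow]
        _ = v ^ (c ^ (t + 1)) := by rw [hv, ← zpow_mul, pow_succ']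
  obtain ⟨y₁, ⟨b₁, hb₁⟩, hy₁U, hy₁W⟩ : ∃ y₁ : G, (∃ b : ℕ, orderOf y₁ = r ^ b) ∧
      (∀ u ∈ U, y₁ * u * y₁⁻¹ = u ^ k) ∧ (∀ w ∈ W, y₁ * w * y₁⁻¹ = w ^ (k ^ (L - 1))) := by
    obtain ⟨b, n, hn, hbn⟩ := Nat.exists_eq_pow_mul_and_not_dvd (orderOf_pos y).ne' r hr.ne_one
    have hcop : Nat.Coprime n L := hL ▸ ((hr.coprime_iff_not_dvd.2 hn).symm.pow_right a)
    obtain ⟨t, ht0, ht1⟩ := Nat.chineseRemainder hcop 0 1
    refine ⟨y ^ t, ?_, fun u hu => ?_, fun w hw => ?_⟩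
    · have hdvd : orderOf (y ^ t) ∣ r ^ b := by
        obtain ⟨c, hc⟩ := (Nat.modEq_zero_iff_dvd).1 ht0
        refine orderOf_dvd_of_pow_eq_one ?_
        rw [← pow_mul, hc, show n * c * r ^ b = r ^ b * n * c by ring, pow_mul, ← hbn,
          pow_orderOf_eq_one, one_pow]
      obtain ⟨b', -, hb'⟩ := (Nat.dvd_prime_pow hr).1 hdvd
      exact ⟨b', hb'⟩
    all_goals
      have hpow : ∀ z : ZMod q, z ^ L = 1 → z ^ t = z := fun z hz => by
        rw [pow_eq_pow_mod t hz, ht1, ← pow_eq_pow_mod 1 hz, pow_one]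
    · rw [hypow k u (hyU u hu) t]
      refine zpow_eq_of_cast (p := q) (hNp u hu.1) ?_
      push_cast
      exact hpow _ hkL
    · rw [hypow _ w (hyW w hw) t]
      refine zpow_eq_of_cast (p := q) (hNp w hw.1) ?_
      push_cast
      refine hpow _ ?_
      rw [← pow_mul, mul_comm, pow_mul, hkL, one_pow]
  obtain ⟨κ, hκ, -⟩ := h.exists_eigen hr hrq hb₁ hNc hNp
  have heq : ∀ (v : G), v ∈ N → v ≠ 1 → ∀ c : ℤ, y₁ * v * y₁⁻¹ = v ^ c → (c : ZMod q) ≠ 1 →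
      (c : ZMod q) = κ := by
    intro v hv hv1 c hc hc1
    have h1 := hκ v hv
    rw [hc] at h1
    have e1 : v ^ c * v⁻¹ = v ^ (c - 1) := by rw [zpow_sub_one]
    rw [e1, ← conj_zpow, hc, ← zpow_mul, ← zpow_mul] at h1
    have h2 := zmod_of_zpow_eq (hNp v hv) hv1 h1
    push_cast at h2
    rw [mul_comm ((c : ZMod q) - 1)] at h2
    exact mul_right_cancel₀ (sub_ne_zero.2 hc1) h2
  have hk'1 : (k : ZMod q) * (k : ZMod q) ^ (L - 1) = 1 := by
    rw [← pow_succ', Nat.sub_add_cancel hL0, hkL]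
  have hk'ne : ((k ^ (L - 1) : ℤ) : ZMod q) ≠ 1 := by
    push_cast
    intro h0
    rw [h0, mul_one] at hk'1
    exact hk1 hk'1
  have hkk : (k : ZMod q) * k = 1 := by
    have e1 := heq u₀ hu₀.1 hu₀1 k (hy₁U u₀ hu₀) hk1
    have e2 := heq w₀ hw₀.1 hw₀1 (k ^ (L - 1)) (hy₁W w₀ hw₀) hk'ne
    rw [← e1] at e2
    push_cast at e2
    rw [e2] at hk'1
    exact hk'1
  -- hence `m` is a `2`-element
  have hr2 : r = 2 := by
    have h1 : orderOf (k : ZMod q) ∣ 2 := orderOf_dvd_of_pow_eq_one (by rw [pow_two]; exact hkk)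
    have h2 : orderOf (k : ZMod q) ∣ r ^ a := hL ▸ orderOf_dvd_of_pow_eq_one hkL
    rcases (Nat.dvd_prime Nat.prime_two).1 h1 with h3 | h3
    · exact absurd (orderOf_eq_one_iff.1 h3) hk1
    · rw [h3] at h2
      exact ((Nat.prime_dvd_prime_iff_eq Nat.prime_two hr).1 (Nat.prime_two.dvd_of_dvd_pow h2)).symm
  -- the product `g m`
  obtain ⟨z, hz⟩ : ∃ z, z = g * m := ⟨_, rfl⟩
  have hzU : ∀ u ∈ U, z * u * z⁻¹ = g * u * g⁻¹ := fun u hu => by
    calc z * u * z⁻¹ = g * (m * u * m⁻¹) * g⁻¹ := by rw [hz]; group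
      _ = g * u * g⁻¹ := by rw [hu.2]
  have hzW : ∀ w ∈ W, z * w * z⁻¹ = (g * w * g⁻¹) ^ k := fun w hw => by
    calc z * w * z⁻¹ = g * (m * w * m⁻¹) * g⁻¹ := by rw [hz]; group
      _ = (g * w * g⁻¹) ^ k := by rw [hw.2, conj_zpow]
  have hz4 : ∀ u ∈ U, z ^ 4 * u * (z ^ 4)⁻¹ = u := by
    intro u hu
    have h2 : ∀ x ∈ U, z * (z * x * z⁻¹) * z⁻¹ = x ^ k := fun x hx => by
      rw [hzU x hx, hzW _ (hgU x hx), hgU2 x hx]
    calc z ^ 4 * u * (z ^ 4)⁻¹ = z * (z * (z * (z * u * z⁻¹) * z⁻¹) * z⁻¹) * z⁻¹ := by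
          rw [show z ^ 4 = z * z * z * z by simp [pow_succ]]; group
      _ = (u ^ k) ^ k := by rw [h2 u hu, h2 _ (U.zpow_mem hu k)]
      _ = u := by
        rw [← zpow_mul]
        conv_rhs => rw [← zpow_one u]
        exact zpow_eq_of_cast (p := q) (hNp u hu.1) (by push_cast; exact hkk)
  have hzt : ∀ (u : G), u ∈ U → ∀ c : ℕ, z ^ (4 * c) * u * (z ^ (4 * c))⁻¹ = u := by
    intro u hu c
    induction c with
    | zero => simp
    | succ c ih =>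
      calc z ^ (4 * (c + 1)) * u * (z ^ (4 * (c + 1)))⁻¹
          = z ^ (4 * c) * (z ^ 4 * u * (z ^ 4)⁻¹) * (z ^ (4 * c))⁻¹ := by
            rw [mul_add, mul_one, pow_add]; group
        _ = u := by rw [hz4 u hu, ih]
  obtain ⟨z₁, ⟨b₂, hb₂⟩, hz₁a, hz₁b⟩ : ∃ z₁ : G, (∃ b : ℕ, orderOf z₁ = 2 ^ b) ∧
      z₁ * u₀ * z₁⁻¹ = g * u₀ * g⁻¹ ∧
      z₁ * (g * u₀ * g⁻¹) * z₁⁻¹ = u₀ ^ k := by
    obtain ⟨b, n, hn, hbn⟩ := Nat.exists_eq_pow_mul_and_not_dvd (orderOf_pos z).ne' 2 (by norm_num)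
    have hcop : Nat.Coprime n 4 := by
      have := (Nat.prime_two.coprime_iff_not_dvd.2 hn).symm.pow_right 2
      simpa using this
    obtain ⟨t, ht0, ht1⟩ := Nat.chineseRemainder hcop 0 1
    have ht : t = 1 + 4 * (t / 4) := by
      have h1 : t % 4 = 1 := ht1
      omega
    refine ⟨z ^ t, ?_, ?_, ?_⟩
    · have hdvd : orderOf (z ^ t) ∣ 2 ^ b := by
        obtain ⟨c, hc⟩ := (Nat.modEq_zero_iff_dvd).1 ht0
        refine orderOf_dvd_of_pow_eq_one ?_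
        rw [← pow_mul, hc, show n * c * 2 ^ b = 2 ^ b * n * c by ring, pow_mul, ← hbn,
          pow_orderOf_eq_one, one_pow]
      obtain ⟨b', -, hb'⟩ := (Nat.dvd_prime_pow Nat.prime_two).1 hdvd
      exact ⟨b', hb'⟩
    · calc z ^ t * u₀ * (z ^ t)⁻¹
          = z * (z ^ (4 * (t / 4)) * u₀ * (z ^ (4 * (t / 4)))⁻¹) * z⁻¹ := by
            conv_lhs => rw [ht, pow_add, pow_one]
            group
        _ = g * u₀ * g⁻¹ := by rw [hzt u₀ hu₀, hzU u₀ hu₀]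
    · have hU' : g * (g * u₀ * g⁻¹) * g⁻¹ ∈ U := hgW _ (hgU u₀ hu₀)
      calc z ^ t * (g * u₀ * g⁻¹) * (z ^ t)⁻¹
          = z ^ (4 * (t / 4)) * (z * (g * u₀ * g⁻¹) * z⁻¹) * (z ^ (4 * (t / 4)))⁻¹ := by
            conv_lhs => rw [ht, add_comm, pow_add, pow_one]
            group
        _ = u₀ ^ k := by rw [hzW _ (hgU u₀ hu₀), hgU2 u₀ hu₀, hzt _ (U.zpow_mem hu₀ k)]
  have h2q' : (2 : ℕ) ≠ q := h2q
  obtain ⟨ν, hν, -⟩ := h.exists_eigen Nat.prime_two h2q' hb₂ hNc hNp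
  have h1 := hν u₀ hu₀.1
  obtain ⟨b, hb⟩ : ∃ b, b = g * u₀ * g⁻¹ := ⟨_, rfl⟩
  rw [← hb] at hz₁a hz₁b
  rw [hz₁a] at h1
  have hbN : b ∈ N := hb ▸ hN.conj_mem u₀ hu₀.1 g
  have hbW : b ∈ W := hb ▸ hgU u₀ hu₀
  have hb1 : b ≠ 1 := fun h0 => hu₀1 (conj_eq_one_iff.1 (hb ▸ h0))
  have hcu : Commute b u₀⁻¹ := hcm b hbN u₀⁻¹ (N.inv_mem hu₀.1)
  have h2 : z₁ * (b * u₀⁻¹) * z₁⁻¹ = u₀ ^ k * b⁻¹ := by
    rw [← hz₁b]
    conv_rhs => arg 2; rw [← hz₁a]
    group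
  rw [h2, hcu.mul_zpow, inv_zpow'] at h1
  have h3 : u₀ ^ (k + ν) = b ^ (ν + 1) := by
    have e1 : u₀ ^ k = b ^ ν * u₀ ^ (-ν) * b := by rw [← h1, inv_mul_cancel_right]
    rw [zpow_add, e1, mul_assoc (b ^ ν * u₀ ^ (-ν)), hcm b hbN (u₀ ^ ν) (N.zpow_mem hu₀.1 ν),
      ← mul_assoc, mul_assoc (b ^ ν), ← zpow_add, neg_add_cancel, zpow_zero, mul_one, ← zpow_add_one]
  have h4 : u₀ ^ (k + ν) = 1 := hUW _ (U.zpow_mem hu₀ _) (h3 ▸ W.zpow_mem hbW _)
  have h5 : b ^ (ν + 1) = 1 := h3.symm.trans h4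
  have e4 := zmod_of_zpow_eq (hNp u₀ hu₀.1) hu₀1 (h4.trans (zpow_zero _).symm)
  have e5 := zmod_of_zpow_eq (hNp b hbN) hb1 (h5.trans (zpow_zero _).symm)
  push_cast at e4 e5
  rw [eq_neg_of_add_eq_zero_left e5] at e4
  exact hk1 (sub_eq_zero.1 (by rw [sub_eq_add_neg]; exact e4))

/-- A finite group with the conjugate-pair order condition is supersolvable. -/
theorem isSupersolvable_of_conjPairCond :
    ∀ (n : ℕ) (G : Type w) [Group G] [Finite G], Nat.card G = n → ConjPairCond G →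
      Cfsg.IsSupersolvable G := by
  intro n
  induction n using Nat.strong_induction_on with
  | _ n ih =>
  intro G _ _ hn h
  rcases subsingleton_or_nontrivial G with hs | hs
  · exact CfsgLib.SolvStruct.isSupersolvable_of_subsingleton
  have h1 : 1 < Nat.card G := Finite.one_lt_card
  have hne := Nat.nonempty_primeFactors.mpr h1
  obtain ⟨p, hpmem, hpmin⟩ := (Nat.card G).primeFactors.exists_min_image id hne
  obtain ⟨q, hqmem, hqmax⟩ := (Nat.card G).primeFactors.exists_max_image id hne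
  haveI := Fact.mk (Nat.mem_primeFactors.mp hpmem).1
  haveI := Fact.mk (Nat.mem_primeFactors.mp hqmem).1
  have hmin : ∀ r : ℕ, r.Prime → r ∣ Nat.card G → p ≤ r := fun r hr hd =>
    hpmin r (Nat.mem_primeFactors.mpr ⟨hr, hd, Nat.card_pos.ne'⟩)
  have hmax : ∀ r : ℕ, r.Prime → r ∣ Nat.card G → r ≤ q := fun r hr hd =>
    hqmax r (Nat.mem_primeFactors.mpr ⟨hr, hd, Nat.card_pos.ne'⟩)
  by_cases hpq : p = q
  · subst hpq
    have hp : IsPGroup p G := IsPGroup.of_card (n := (Nat.card G).factorization p) (by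
      have h2 := Nat.eq_prime_pow_of_unique_prime_dvd (n := Nat.card G) (p := p) Nat.card_pos.ne'
        (fun {r} hr hd => le_antisymm (hmax r hr hd) (hmin r hr hd))
      rw [h2, (Fact.out : p.Prime).factorization_pow, Finsupp.single_eq_same])
    haveI := hp.isNilpotent
    exact CfsgLib.SolvStruct.isSupersolvable_of_isNilpotent
  have hsub : ∀ M : Subgroup G, M ≠ ⊤ → Cfsg.IsSupersolvable M := fun M hM =>
    ih _ (hn ▸ CfsgLib.Core.card_subgroup_lt M hM) M rfl (h.subgroup M)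
  obtain ⟨hsolv, Q, hQn⟩ := exists_normal_sylow_largest hsub h hpq (Nat.mem_primeFactors.mp hpmem).2.1 hmin hmax
  have hQb : (Q : Subgroup G) ≠ ⊥ := Q.ne_bot_of_dvd_card (Nat.mem_primeFactors.mp hqmem).2.1
  haveI := hQn
  obtain ⟨N, hNn, hNb, hNQ, hNmin⟩ := CfsgLib.Core.exists_minimal_normal_le' (Q : Subgroup G) hQb
  haveI := hNn
  haveI : Group.IsSolvable G := hsolv
  have hNc := CfsgLib.Core.commutative_of_minimal_normal N inferInstance hNb hNmin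
  obtain ⟨s, hs', hNp⟩ := CfsgLib.Core.exists_prime_pow_eq_one_of_minimal_normal N hNc hNb hNmin
  have hsq : s = q := by
    obtain ⟨v, hv, hv1⟩ := (Subgroup.bot_or_exists_ne_one _).resolve_left hNb
    haveI := Fact.mk hs'
    obtain ⟨k, hk⟩ := IsPGroup.iff_orderOf.1 Q.2 ⟨v, hNQ hv⟩
    rw [Subgroup.orderOf_mk, orderOf_eq_prime (hNp v hv) hv1] at hk
    exact (Nat.prime_dvd_prime_iff_eq hs' (Fact.out : q.Prime)).1 (hs'.dvd_of_dvd_pow hk.dvd)
  subst hsq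
  have hss : ∀ (S : Subgroup G) (_ : S.Normal), S ≠ ⊥ → Cfsg.IsSupersolvable (G ⧸ S) := fun S hS hSb =>
    ih _ (hn ▸ CfsgLib.Core.card_quotient_lt S hSb) _ rfl (h.quotient S)
  haveI := h.isCyclic_of_minimal Q hQn hNb hNQ hNmin hNc hNp hss
  exact CfsgLib.SolvStruct.isSupersolvable_of_quotient_cyclic N (hss N hNn hNb)

end CfsgLib.LocalEvenB
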