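import Cfsg.Agent.Lib.LocalEvenB.TwoPointCount
import Cfsg.Agent.Lib.PGroups.Extraspecial

/-!
# Automizers of the maximal abelian subgroups of a Sylow subgroup of order `p³`
-/

set_option autoImplicit false
set_option linter.all false

namespace CfsgLib.LocalEvenB

open Subgroup Cfsg
open scoped commutatorElement LinearAlgebra.Projectivization

variable {G : Type*} [Group G] [Finite G] {p : ℕ} [hp : Fact p.Prime]

section pair

variable {z a : G}

/-- `z ^ i * a ^ j` with exponents mod `p`. -/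
def pairPow (z a : G) (w : ZMod p × ZMod p) : G := z ^ w.1.val * a ^ w.2.val

omit [Finite G] in
theorem pow_zmod_val {x : G} (hx : x ^ p = 1) (n : ℕ) : x ^ (n : ZMod p).val = x ^ n := by
  rw [ZMod.val_natCast, ← pow_eq_pow_mod _ hx]

/-- Conjugation by `g` induces `f` in these exponents. -/
def ActsPair (z a g : G) (f : ZMod p × ZMod p → ZMod p × ZMod p) : Prop :=
  ∀ w, g * pairPow z a w * g⁻¹ = pairPow z a (f w)

theorem ActsPair.mul {g h : G} {f f' : ZMod p × ZMod p → ZMod p × ZMod p} (hg : ActsPair z a g f)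
    (hh : ActsPair z a h f') : ActsPair z a (g * h) (f ∘ f') := fun w => by
  rw [Function.comp, ← hg, ← hh]; group

theorem ActsPair.inv {g : G} {f f' : ZMod p × ZMod p → ZMod p × ZMod p} (hg : ActsPair z a g f)
    (hf : ∀ w, f (f' w) = w) : ActsPair z a g⁻¹ f' := fun w => by
  conv_lhs => rw [← hf w, ← hg]
  group

theorem ActsPair.one : ActsPair (p := p) z a 1 id := fun w => by simp

/-- Determining the action from the two generators. -/
theorem actsPair_of_gens (hz : z ^ p = 1) (ha : a ^ p = 1) (hc : Commute z a) {g : G} (i j k l : ℕ)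
    (hgz : g * z * g⁻¹ = z ^ i * a ^ j) (hga : g * a * g⁻¹ = z ^ k * a ^ l) :
    ActsPair (p := p) z a g
      (fun w => ((i : ZMod p) * w.1 + (k : ZMod p) * w.2, (j : ZMod p) * w.1 + (l : ZMod p) * w.2)) := by
  intro w
  show g * (z ^ w.1.val * a ^ w.2.val) * g⁻¹ = z ^ ZMod.val _ * a ^ ZMod.val _
  have h1 : ((i * w.1.val + k * w.2.val : ℕ) : ZMod p) = (i : ZMod p) * w.1 + (k : ZMod p) * w.2 := by
    push_cast [ZMod.natCast_zmod_val]; rfl
  have h2 : ((j * w.1.val + l * w.2.val : ℕ) : ZMod p) = (j : ZMod p) * w.1 + (l : ZMod p) * w.2 := by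
    push_cast [ZMod.natCast_zmod_val]; rfl
  dsimp only
  rw [← h1, ← h2, pow_zmod_val hz, pow_zmod_val ha, conj_mul.symm, ← conj_pow, ← conj_pow, hgz, hga,
    (hc.pow_pow _ _).mul_pow, (hc.pow_pow _ _).mul_pow, ← pow_mul, ← pow_mul, ← pow_mul, ← pow_mul, pow_add, pow_add,
    mul_assoc, mul_assoc, ← mul_assoc (a ^ (j * w.1.val)), ((hc.pow_pow _ _).symm).eq, mul_assoc]

theorem ActsPair.pow {g : G} {F : ZMod p → ZMod p × ZMod p → ZMod p × ZMod p}
    (h0 : F 0 = id) (hadd : ∀ s t, F s ∘ F t = F (s + t)) (hg : ActsPair z a g (F 1)) (t : ZMod p) :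
    ActsPair z a (g ^ t.val) (F t) := by
  have : ∀ n : ℕ, ActsPair z a (g ^ n) (F n) := by
    intro n
    induction n with
    | zero => rw [Nat.cast_zero, h0, pow_zero]; exact ActsPair.one
    | succ n ih => rw [pow_succ, Nat.cast_succ, ← hadd]; exact ih.mul hg
  simpa using this t.val

end pair

/-- The centre of a Sylow subgroup of order `p³` moved inside a maximal abelian subgroup gives a
normaliser element inducing a torus. -/
theorem exists_torus (P : Sylow p G) (hE : IsExtraspecial p ↥P) (hcard : Nat.card P = p ^ 3)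
    {z a : ↥P} (hz : z ∈ center ↥P) (hz1 : z ≠ 1) (ha : a ∉ center ↥P)
    (v : G) (hvz : v * z * v⁻¹ = z * a) (hva : v * a * v⁻¹ = (a : G)) (t : ZMod p) (ht : t ≠ 0) :
    ∃ n ∈ normalizer ((P : Subgroup G) : Set G), n * z * n⁻¹ = (z : G) ^ t.val ∧
      ∃ s : ℕ, n * a * n⁻¹ = (z : G) ^ s * (a : G) ^ (t⁻¹).val := by
  have hzp : (z : G) ^ p = 1 := by
    rw [← Subgroup.coe_pow, CfsgLib.PGroups.IsExtraspecial.center_pow hE hz, Subgroup.coe_one]
  have hc : Commute (z : G) a := by
    show (z : G) * a = a * z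
    exact_mod_cast congrArg Subtype.val (mem_center_iff.1 hz a).symm
  have hap : (a : G) ^ p = 1 := by
    have h1 : (v * z * v⁻¹) ^ p = 1 := by rw [conj_pow, hzp, mul_one, mul_inv_cancel]
    rwa [hvz, hc.mul_pow, hzp, one_mul] at h1
  have hzord : orderOf z = p := orderOf_eq_prime (CfsgLib.PGroups.IsExtraspecial.center_pow hE hz) hz1
  have hzgen : ∀ x ∈ center ↥P, ∃ k : ℕ, z ^ k = x := by
    intro x hx
    have h1 : zpowers z = center ↥P := eq_of_le_of_card_ge (zpowers_le.2 hz)
      (by rw [Nat.card_zpowers, hzord, CfsgLib.PGroups.IsExtraspecial.card_center hE])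
    exact mem_powers_iff_mem_zpowers.2 (h1 ▸ hx)
  -- an element of `P` moving `a`
  obtain ⟨b, hb⟩ : ∃ b : ↥P, b * a ≠ a * b := by
    by_contra h
    push Not at h
    exact ha (mem_center_iff.2 h)
  obtain ⟨c, hcb⟩ := hzgen _ (CfsgLib.PGroups.IsExtraspecial.comm_mem hE b a)
  have hc0 : (c : ZMod p) ≠ 0 := by
    rw [Ne, ZMod.natCast_eq_zero_iff]
    intro hd
    rw [← hzord, orderOf_dvd_iff_pow_eq_one, hcb, commutatorElement_eq_one_iff_mul_comm] at hd
    exact hb hd
  let U : ZMod p → ZMod p × ZMod p → ZMod p × ZMod p := fun s w => (w.1 + s * w.2, w.2)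
  let V : ZMod p → ZMod p × ZMod p → ZMod p × ZMod p := fun s w => (w.1, s * w.1 + w.2)
  have hU0 : U 0 = id := funext fun w => by simp [U]
  have hUadd : ∀ s r, U s ∘ U r = U (s + r) := fun s r => funext fun w => Prod.ext (by simp [U]; ring) rfl
  have hV0 : V 0 = id := funext fun w => by simp [V]
  have hVadd : ∀ s r, V s ∘ V r = V (s + r) := fun s r => funext fun w => Prod.ext rfl (by simp [V]; ring)
  have hP : ∀ x : ↥P, ∃ s : ZMod p, ActsPair (z : G) a (x : G) (U s) := by
    intro x
    obtain ⟨k, hk⟩ := hzgen _ (CfsgLib.PGroups.IsExtraspecial.comm_mem hE x a)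
    refine ⟨k, ?_⟩
    have := actsPair_of_gens (p := p) hzp hap hc (g := (x : G)) 1 0 k 1 ?_ ?_
    · intro w; rw [this w]; congr 1; simp [U]
    · rw [pow_one, pow_zero, mul_one, mul_inv_eq_iff_eq_mul]
      exact_mod_cast congrArg Subtype.val (mem_center_iff.1 hz x)
    · rw [pow_one, ← Subgroup.coe_pow, hk, commutatorElement_def]
      simp
  have hu : ∀ s : ZMod p, ∃ u : G, ActsPair (z : G) a u (U s) := by
    obtain ⟨g, hg⟩ : ∃ g, g = (b : G) := ⟨_, rfl⟩
    have hbc : ActsPair (z : G) a g (U c) := by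
      have := actsPair_of_gens (p := p) hzp hap hc (g := g) 1 0 c 1 ?_ ?_
      · intro w; rw [this w]; congr 1; simp [U]
      · rw [hg, pow_one, pow_zero, mul_one, mul_inv_eq_iff_eq_mul]
        exact_mod_cast congrArg Subtype.val (mem_center_iff.1 hz b)
      · rw [hg, pow_one, ← Subgroup.coe_pow, hcb, commutatorElement_def]
        simp
    intro s
    refine ⟨g ^ (s * (c : ZMod p)⁻¹).val, ?_⟩
    have := ActsPair.pow (F := fun r => U (r * c)) (by rw [zero_mul, hU0])
      (fun x y => by rw [hUadd, add_mul]) (by rw [one_mul]; exact hbc) (s * (c : ZMod p)⁻¹)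
    simpa [mul_assoc, hc0] using this
  have hv : ∀ s : ZMod p, ∃ u : G, ActsPair (z : G) a u (V s) := fun s => by
    refine ⟨v ^ s.val, ActsPair.pow hV0 hVadd ?_ s⟩
    have := actsPair_of_gens (p := p) hzp hap hc (g := v) 1 1 0 1 (by simpa using hvz) (by simpa using hva)
    intro w; rw [this w]; congr 1; simp [V]
  let D : ZMod p → ZMod p × ZMod p → ZMod p × ZMod p := fun r w => (r * w.1, r⁻¹ * w.2)
  obtain ⟨h, hh⟩ : ∃ h : G, ActsPair (z : G) a h (D t) := by
    obtain ⟨u1, hu1⟩ := hu t
    obtain ⟨v1, hv1⟩ := hv (-t⁻¹)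
    obtain ⟨u2, hu2⟩ := hu (-1)
    obtain ⟨v2, hv2⟩ := hv 1
    refine ⟨u1 * v1 * u1 * (u2 * v2 * u2), fun w => ?_⟩
    rw [((hu1.mul hv1).mul hu1).mul ((hu2.mul hv2).mul hu2) w]
    congr 1
    simp only [U, V, D, Function.comp]
    refine Prod.ext ?_ ?_ <;> field_simp <;> ring
  have hDinv : ∀ w, D t (D t⁻¹ w) = w := fun w => by
    simp only [D]
    refine Prod.ext ?_ ?_ <;> field_simp
  -- the unipotent group
  let X : Subgroup G :=
    { carrier := {g | ∃ s, ActsPair (z : G) a g (U s)}
      one_mem' := ⟨0, hU0 ▸ ActsPair.one⟩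
      mul_mem' := fun {g g'} ⟨s, hs⟩ ⟨r, hr⟩ => ⟨s + r, hUadd s r ▸ hs.mul hr⟩
      inv_mem' := fun {g} ⟨s, hs⟩ => ⟨-s, hs.inv fun w => by simp [U]⟩ }
  have hPX : (P : Subgroup G) ≤ X := fun x hx => hP ⟨x, hx⟩
  have hPX' : ((h • P : Sylow p G) : Subgroup G) ≤ X := by
    rintro _ ⟨x, hx, rfl⟩
    obtain ⟨s, hs⟩ := hP ⟨x, hx⟩
    refine ⟨t * s * t, fun w => ?_⟩
    show h * x * h⁻¹ * _ * (h * x * h⁻¹)⁻¹ = _
    rw [((hh.mul hs).mul (hh.inv hDinv)) w]
    congr 1
    simp only [U, D, Function.comp]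
    refine Prod.ext ?_ ?_ <;> field_simp
  obtain ⟨g, hg⟩ := MulAction.exists_smul_eq ↥X (P.subtype hPX) ((h • P).subtype hPX')
  rw [Sylow.smul_subtype] at hg
  have hgP : (g : G) • P = h • P := Sylow.subtype_injective hg
  obtain ⟨s, hs⟩ := g.2
  refine ⟨(g : G)⁻¹ * h, ?_, ?_, (-s * t⁻¹).val, ?_⟩
  · refine Sylow.smul_eq_iff_mem_normalizer.1 ?_
    rw [mul_smul, ← hgP, inv_smul_smul]
  · have := ((hs.inv (f' := U (-s)) fun w => by simp [U]).mul hh) (1, 0)
    simpa [pairPow, U, D, ZMod.val_one, Nat.cast_one] using this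
  · have := ((hs.inv (f' := U (-s)) fun w => by simp [U]).mul hh) (0, 1)
    simpa [pairPow, U, D, ZMod.val_one, Nat.cast_one] using this

/-- Coordinates modulo the centre. -/
theorem exists_coord (hp2 : IsExtraspecial p G) (hcard : Nat.card G = p ^ 3) :
    ∃ φ : G →* Multiplicative (Fin 2 → ZMod p), Function.Surjective φ ∧ φ.ker = center G := by
  obtain ⟨a, ha⟩ : ∃ a : G, a ∉ center G := by
    by_contra h
    push Not at h
    have h1 : center G = ⊤ := eq_top_iff.2 fun x _ => h x
    have h2 := CfsgLib.PGroups.IsExtraspecial.card_center hp2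
    rw [h1, card_top, hcard] at h2
    exact absurd h2 (by nlinarith [hp.out.two_le, Nat.mul_le_mul hp.out.two_le hp.out.two_le])
  obtain ⟨b, hb⟩ : ∃ b : G, b * a ≠ a * b := by
    by_contra h
    push Not at h
    exact ha (mem_center_iff.2 h)
  have hc := CfsgLib.PGroups.IsExtraspecial.comm_mem hp2
  have hsq : ∀ x : G ⧸ center G, x ^ p = 1 := by
    intro x
    induction x using QuotientGroup.induction_on with
    | H x => exact (QuotientGroup.eq_one_iff _).2 (CfsgLib.PGroups.IsExtraspecial.pow_mem_center hp2 x)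
  have hcomm : ∀ x y : G ⧸ center G, x * y = y * x := by
    intro x y
    induction x using QuotientGroup.induction_on with
    | H x =>
      induction y using QuotientGroup.induction_on with
      | H y =>
        rw [← commutatorElement_eq_one_iff_mul_comm]
        exact (QuotientGroup.eq_one_iff _).2 (hc x y)
  let θ : Multiplicative (Fin 2 → ZMod p) →* G ⧸ center G :=
    { toFun := fun w => (a : G ⧸ center G) ^ (Multiplicative.toAdd w 0).val * (b : G ⧸ center G) ^ (Multiplicative.toAdd w 1).val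
      map_one' := by simp
      map_mul' := fun w w' => by
        simp only [toAdd_mul, Pi.add_apply, ZMod.val_add]
        rw [← pow_eq_pow_mod _ (hsq _), ← pow_eq_pow_mod _ (hsq _), pow_add, pow_add]
        exact (Commute.mul_mul_mul_comm (hcomm _ _) _ _) }
  have hinj : Function.Injective θ := by
    rw [injective_iff_map_eq_one]
    intro w hw
    obtain ⟨i, hi⟩ : ∃ i, i = (Multiplicative.toAdd w 0).val := ⟨_, rfl⟩
    obtain ⟨j, hj⟩ : ∃ j, j = (Multiplicative.toAdd w 1).val := ⟨_, rfl⟩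
    have hw' : a ^ i * b ^ j ∈ center G := by
      rw [← QuotientGroup.eq_one_iff, QuotientGroup.mk_mul, QuotientGroup.mk_pow, QuotientGroup.mk_pow, hi, hj]
      exact hw
    have hab : ⁅a, b⁆ ≠ 1 := fun h => hb (commutatorElement_eq_one_iff_mul_comm.1 h).symm
    have hba : ⁅b, a⁆ ≠ 1 := fun h => hb (commutatorElement_eq_one_iff_mul_comm.1 h)
    have hzero : ∀ {x : G} {n : ℕ}, n < p → x ^ p = 1 → x ≠ 1 → x ^ n = 1 → n = 0 := by
      intro x n hn hxp hx hxn
      exact Nat.eq_zero_of_dvd_of_lt ((orderOf_eq_prime hxp hx) ▸ orderOf_dvd_of_pow_eq_one hxn) hn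
    have hkey : ∀ x : G, ⁅a ^ i * b ^ j, x⁆ = ⁅a, x⁆ ^ i * ⁅b, x⁆ ^ j := fun x => by
      have := map_mul (CfsgLib.PGroups.commHom hc x) (a ^ i) (b ^ j)
      rw [map_pow, map_pow] at this
      exact this
    have hone : ∀ x : G, ⁅a ^ i * b ^ j, x⁆ = 1 := fun x =>
      commutatorElement_eq_one_iff_mul_comm.2 ((mem_center_iff.1 hw' x).symm)
    have h1 : i = 0 := hzero (hi ▸ ZMod.val_lt _) (CfsgLib.PGroups.IsExtraspecial.comm_pow hp2 a b) hab
      (by simpa [hkey] using hone b)
    have h2 : j = 0 := hzero (hj ▸ ZMod.val_lt _) (CfsgLib.PGroups.IsExtraspecial.comm_pow hp2 b a) hba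
      (by simpa [hkey] using hone a)
    refine Multiplicative.toAdd.injective (funext fun r => ?_)
    fin_cases r
    · simpa using (ZMod.val_eq_zero _).1 (hi ▸ h1)
    · simpa using (ZMod.val_eq_zero _).1 (hj ▸ h2)
  have hbij : Function.Bijective θ := by
    refine (Nat.bijective_iff_injective_and_card θ).2 ⟨hinj, ?_⟩
    have := (center G).card_mul_index
    rw [CfsgLib.PGroups.IsExtraspecial.card_center hp2, hcard, index_eq_card] at this
    rw [Nat.card_congr Multiplicative.toAdd, Nat.card_fun, Nat.card_zmod, Nat.card_eq_fintype_card, Fintype.card_fin]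
    exact (Nat.eq_of_mul_eq_mul_left hp.out.pos (by rw [this]; ring)).symm
  refine ⟨(MulEquiv.ofBijective θ hbij).symm.toMonoidHom.comp (QuotientGroup.mk' _),
    (MulEquiv.ofBijective θ hbij).symm.surjective.comp (QuotientGroup.mk'_surjective _), ?_⟩
  ext x
  rw [MonoidHom.mem_ker, MonoidHom.comp_apply, MulEquiv.toMonoidHom_eq_coe, MonoidHom.coe_coe,
    MulEquiv.map_eq_one_iff, QuotientGroup.mk'_apply, QuotientGroup.eq_one_iff]

/-- A linear map of finite order prime to the characteristic is scalar or fixes exactly two lines. -/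
theorem fixed_lines {K : Type*} [Field K] [IsAlgClosed K] (f : (Fin 2 → K) →ₗ[K] (Fin 2 → K))
    {n : ℕ} (hn : (n : K) ≠ 0) (hfn : f ^ n = 1) (hinj : Function.Injective f) :
    (∀ x, Projectivization.map f hinj x = x) ∨
      ∃ x y, x ≠ y ∧ ∀ w, Projectivization.map f hinj w = w ↔ w = x ∨ w = y := by
  obtain ⟨c, hc⟩ := Module.End.exists_eigenvalue f
  obtain ⟨u, hu⟩ := hc.exists_hasEigenvector
  have hu0 : u ≠ 0 := hu.2
  have hfu : f u = c • u := hu.apply_eq_smul
  obtain ⟨w, hw⟩ : ∃ w, w ∉ Submodule.span K {u} := by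
    by_contra h
    push Not at h
    have h1 := finrank_span_singleton (K := K) hu0
    rw [Submodule.eq_top_iff'.2 h, finrank_top, Module.finrank_fin_fun] at h1
    omega
  have hli : LinearIndependent K ![u, w] :=
    (LinearIndependent.pair_iff' hu0).2 fun r hr => hw (Submodule.mem_span_singleton.2 ⟨r, hr⟩)
  have hspan : ∀ x, ∃ α β : K, α • u + β • w = x := fun x => by
    have h1 := hli.span_eq_top_of_card_eq_finrank (by simp)
    have h2 : x ∈ Submodule.span K {u, w} := by
      rw [show ({u, w} : Set (Fin 2 → K)) = Set.range ![u, w] by simp [Matrix.range_cons, Matrix.range_empty, Set.pair_comm], h1]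
      trivial
    exact Submodule.mem_span_pair.1 h2
  obtain ⟨d, e, hde⟩ := hspan (f w)
  have huniq : ∀ α β α' β' : K, α • u + β • w = α' • u + β' • w → α = α' ∧ β = β' := by
    intro α β α' β' h
    have h1 := LinearIndependent.pair_iff.1 hli (α - α') (β - β') (by
      rw [sub_smul, sub_smul, sub_add_sub_comm, h, sub_self])
    exact ⟨sub_eq_zero.1 h1.1, sub_eq_zero.1 h1.2⟩
  have hmk : ∀ (x : Fin 2 → K) (hx : x ≠ 0), Projectivization.map f hinj (.mk K x hx) = .mk K x hx ↔ ∃ r : K, r • x = f x := by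
    intro x hx
    rw [Projectivization.map_mk, Projectivization.mk_eq_mk_iff']
  by_cases hec : e = c
  · left
    subst hec
    have hc0 : e ≠ 0 := fun h => hu0 (hinj (by rw [hfu, h, zero_smul, map_zero]))
    have hpow : ∀ m : ℕ, (f ^ (m + 1)) w = ((m + 1 : ℕ) * e ^ m * d) • u + e ^ (m + 1) • w ∧
        (f ^ (m + 1)) u = e ^ (m + 1) • u := by
      intro m
      induction m with
      | zero => simp [hfu, ← hde]
      | succ m ih =>
        constructor
        · rw [pow_succ' f, Module.End.mul_apply, ih.1, map_add, map_smul, map_smul, hfu, ← hde, smul_smul, smul_add, smul_smul,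
            smul_smul, ← add_assoc, ← add_smul]
          congr 1 <;> congr 1 <;> push_cast <;> ring
        · rw [pow_succ' f, Module.End.mul_apply, ih.2, map_smul, hfu, smul_smul, pow_succ e (m + 1)]
    obtain ⟨m, rfl⟩ : ∃ m, n = m + 1 := Nat.exists_eq_succ_of_ne_zero (by rintro rfl; simp at hn)
    have h1 := (hpow m).1
    rw [hfn, Module.End.one_apply] at h1
    have h2 := huniq 0 1 _ _ ((show (0 : K) • u + (1 : K) • w = w by rw [zero_smul, zero_add, one_smul]).trans h1)
    have hd : d = 0 := by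
      rcases mul_eq_zero.1 h2.1.symm with h3 | h3
      · rcases mul_eq_zero.1 h3 with h4 | h4
        · exact absurd h4 hn
        · exact absurd h4 (pow_ne_zero _ hc0)
      · exact h3
    subst hd
    rw [zero_smul, zero_add] at hde
    intro x
    induction x using Projectivization.ind with
    | h x hx =>
      obtain ⟨α, β, rfl⟩ := hspan x
      exact (hmk _ hx).2 ⟨e, by rw [map_add, map_smul, map_smul, hfu, ← hde, smul_add, smul_smul, smul_smul, smul_smul, smul_smul, mul_comm, mul_comm e]⟩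
  · right
    obtain ⟨r, hr⟩ : ∃ r, r = d / (e - c) := ⟨_, rfl⟩
    have hec' : e - c ≠ 0 := sub_ne_zero.2 hec
    have hv0 : r • u + w ≠ 0 := fun h => by
      have := (huniq r 1 0 0 (by simpa using h)).2
      exact one_ne_zero this
    have hfv : f (r • u + w) = e • (r • u + w) := by
      rw [map_add, map_smul, hfu, ← hde, smul_smul, ← add_assoc, ← add_smul, smul_add, smul_smul]
      congr 2
      rw [hr]; field_simp; ring
    refine ⟨.mk K u hu0, .mk K _ hv0, fun h => ?_, fun x => ?_⟩
    · obtain ⟨q, hq⟩ := (Projectivization.mk_eq_mk_iff' _ _ _ _ _).1 h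
      have := huniq (q * r) q 1 0 (by rw [one_smul, zero_smul, add_zero, ← smul_smul, ← smul_add]; exact hq)
      rw [this.2, zero_mul] at this
      exact zero_ne_one this.1
    constructor
    · induction x using Projectivization.ind with
      | h x hx =>
        intro h
        obtain ⟨q, hq⟩ := (hmk x hx).1 h
        obtain ⟨α, β, rfl⟩ := hspan x
        rw [map_add, map_smul, map_smul, hfu, ← hde, smul_add, smul_smul, smul_smul, smul_smul, smul_add, smul_smul, smul_smul, ← add_assoc, ← add_smul] at hq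
        obtain ⟨h1, h2⟩ := huniq _ _ _ _ hq
        rcases eq_or_ne β 0 with hb | hb
        · left
          subst hb
          exact (Projectivization.mk_eq_mk_iff' _ _ _ _ _).2 ⟨α, by simp⟩
        · right
          have hqe : q = e := mul_right_cancel₀ hb (h2.trans (mul_comm _ _))
          subst hqe
          refine (Projectivization.mk_eq_mk_iff' _ _ _ _ _).2 ⟨β, ?_⟩
          rw [smul_add, smul_smul]
          congr 2
          rw [hr]; field_simp; linear_combination (-1 : K) * h1
    · rintro (rfl | rfl)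
      · exact (hmk _ _).2 ⟨c, hfu.symm⟩
      · exact (hmk _ _).2 ⟨e, hfv.symm⟩

end CfsgLib.LocalEvenB
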