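import Cfsg.Agent.Lib.LocalEvenB.CubeAutomizer

/-!
# How many maximal abelian subgroups of `p^(1+2)` can have a large automizer
-/

set_option autoImplicit false
set_option linter.all false
set_option maxHeartbeats 1000000

namespace CfsgLib.LocalEvenB

open Subgroup Cfsg
open scoped commutatorElement LinearAlgebra.Projectivization

variable {G : Type*} [Group G] [Finite G] {p : ℕ} [hp : Fact p.Prime]

/-- Few pairwise non-commuting elements can have automizers containing `SL₂(p)`. -/
theorem cube_lines_bound (P : Sylow p G) (hE : IsExtraspecial p ↥P) (hcard : Nat.card P = p ^ 3)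
    {k : ℕ} (f : Fin k → ↥P) (hf : ∀ i, f i ∉ center ↥P) (hdist : ∀ i j, i ≠ j → f i * f j ≠ f j * f i)
    (hrad : ∀ i, ∃ z ∈ center ↥P, z ≠ 1 ∧ ∃ v : G, v * z * v⁻¹ = z * f i ∧ v * f i * v⁻¹ = (f i : G)) :
    (17 ≤ p ∨ p = 11 → k ≤ 2) ∧ (p = 13 → k ≤ 6) := by
  classical
  obtain ⟨φ, hφs, hφk⟩ := exists_coord hE hcard
  let K := AlgebraicClosure (ZMod p)
  let N : Subgroup G := normalizer ((P : Subgroup G) : Set G)
  let c : ↥N →* MulAut ↥(P : Subgroup G) := normalizerMonoidHom (P : Subgroup G)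
  have hc : ∀ (n : ↥N) (x : ↥P), ((c n x : ↥P) : G) = n * x * (n : G)⁻¹ := fun n x => rfl
  let sec : (Fin 2 → ZMod p) → ↥P := fun w => Function.surjInv hφs (Multiplicative.ofAdd w)
  have hsec : ∀ w, φ (sec w) = Multiplicative.ofAdd w := fun w => Function.surjInv_eq hφs _
  have hker : ∀ {x y : ↥P}, φ x = φ y ↔ x⁻¹ * y ∈ center ↥P := fun {x y} => by
    rw [← hφk, MonoidHom.mem_ker, map_mul, map_inv, inv_mul_eq_one]
  have hcz : ∀ (e : MulAut ↥P) {x : ↥P}, x ∈ center ↥P → e x ∈ center ↥P := fun e x hx =>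
    mem_center_iff.2 fun y => by
      obtain ⟨y, rfl⟩ := e.surjective y
      rw [← map_mul, ← map_mul, mem_center_iff.1 hx y]
  have hresp : ∀ (e : MulAut ↥P) {x y : ↥P}, φ x = φ y → φ (e x) = φ (e y) := fun e x y h => by
    rw [hker] at h ⊢
    rw [← map_inv, ← map_mul]
    exact hcz e h
  let M0 : ↥N → ((Fin 2 → ZMod p) →+ (Fin 2 → ZMod p)) := fun n =>
    AddMonoidHom.mk' (fun w => Multiplicative.toAdd (φ (c n (sec w)))) fun w w' => by
      rw [← toAdd_mul, ← map_mul, ← map_mul]
      exact congrArg _ (hresp _ (by rw [map_mul, hsec, hsec, hsec]; rfl))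
  have hM : ∀ n x, M0 n (Multiplicative.toAdd (φ x)) = Multiplicative.toAdd (φ (c n x)) := fun n x => by
    show Multiplicative.toAdd (φ (c n (sec _))) = _
    exact congrArg _ (hresp _ (by rw [hsec]; rfl))
  let M : ↥N →* Module.End (ZMod p) (Fin 2 → ZMod p) :=
    { toFun := fun n => (M0 n).toZModLinearMap p
      map_one' := LinearMap.ext fun w => by
        show Multiplicative.toAdd (φ (c 1 (sec w))) = w
        rw [map_one, MulAut.one_apply, hsec]
        rfl
      map_mul' := fun n m => LinearMap.ext fun w => by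
        show Multiplicative.toAdd (φ (c (n * m) (sec w))) = M0 n (M0 m w)
        rw [map_mul, MulAut.mul_apply, ← hM n]
        rfl }
  have hMf : ∀ n x, M n (Multiplicative.toAdd (φ x)) = Multiplicative.toAdd (φ (c n x)) := hM
  let Φ : Module.End (ZMod p) (Fin 2 → ZMod p) →+* Module.End K (Fin 2 → K) :=
    (Matrix.toLinAlgEquiv' (R := K) (n := Fin 2)).toRingEquiv.toRingHom.comp
      ((algebraMap (ZMod p) K).mapMatrix.comp (LinearMap.toMatrixAlgEquiv' (R := ZMod p) (n := Fin 2)).toRingEquiv.toRingHom)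
  let ι : (Fin 2 → ZMod p) → (Fin 2 → K) := fun w => algebraMap (ZMod p) K ∘ w
  have hι : ∀ (g : Module.End (ZMod p) (Fin 2 → ZMod p)) w, Φ g (ι w) = ι (g w) := fun g w => by
    funext i
    show Matrix.toLinAlgEquiv' ((LinearMap.toMatrixAlgEquiv' g).map (algebraMap (ZMod p) K)) (ι w) i = _
    rw [Matrix.toLinAlgEquiv'_apply, ← RingHom.map_mulVec]
    congr 1
    rw [← Matrix.toLinAlgEquiv'_apply, ← LinearMap.toMatrixAlgEquiv'_symm, AlgEquiv.symm_apply_apply]
  have hι0 : ∀ {w}, w ≠ 0 → ι w ≠ 0 := fun {w} hw h => hw (funext fun i =>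
    (algebraMap (ZMod p) K).injective (by simpa [ι] using congrFun h i))
  have hdesc : ∀ {x y : Fin 2 → ZMod p}, x ≠ 0 → ∀ r : K, r • ι x = ι y → ∃ r0 : ZMod p, r0 • x = y := by
    intro x y hx r hr
    obtain ⟨q, hq⟩ := Function.ne_iff.1 hx
    refine ⟨y q / x q, funext fun i => (algebraMap (ZMod p) K).injective ?_⟩
    have h1 : r * algebraMap (ZMod p) K (x q) = algebraMap (ZMod p) K (y q) := congrFun hr q
    have h2 : r * algebraMap (ZMod p) K (x i) = algebraMap (ZMod p) K (y i) := congrFun hr i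
    have hq' : algebraMap (ZMod p) K (x q) ≠ 0 := (map_ne_zero _).2 hq
    rw [Pi.smul_apply, smul_eq_mul, map_mul, map_div₀, ← h1, mul_div_assoc, div_self hq', mul_one, h2]
  let F : ↥N →* Module.End K (Fin 2 → K) := Φ.toMonoidHom.comp M
  have hFinj : ∀ n, Function.Injective (F n) := fun n => Function.LeftInverse.injective (g := F n⁻¹) fun x => by
    rw [← Module.End.mul_apply, ← map_mul, inv_mul_cancel, map_one, Module.End.one_apply]
  have hmap_mul : ∀ n m x, Projectivization.map (F (n * m)) (hFinj _) x =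
      Projectivization.map (F n) (hFinj _) (Projectivization.map (F m) (hFinj _) x) := fun n m x => by
    induction x using Projectivization.ind with
    | h x hx =>
      simp only [Projectivization.map_mk]
      congr 1
      rw [map_mul]; rfl
  have hmap_one : ∀ x, Projectivization.map (F 1) (hFinj _) x = x := fun x => by
    induction x using Projectivization.ind with
    | h x hx =>
      simp only [Projectivization.map_mk]
      congr 1
      rw [map_one]; rfl
  let ρ : ↥N →* Equiv.Perm (ℙ K (Fin 2 → K)) :=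
    { toFun := fun n =>
        { toFun := Projectivization.map (F n) (hFinj _)
          invFun := Projectivization.map (F n⁻¹) (hFinj _)
          left_inv := fun x => by rw [← hmap_mul]; simp only [inv_mul_cancel]; exact hmap_one x
          right_inv := fun x => by rw [← hmap_mul]; simp only [mul_inv_cancel]; exact hmap_one x }
      map_one' := Equiv.ext hmap_one
      map_mul' := fun n m => Equiv.ext (hmap_mul n m) }
  haveI : Finite ↥ρ.range := Finite.of_surjective _ ρ.rangeRestrict_surjective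
  obtain ⟨e0, he0⟩ : ∃ e0, e0 = ((P : Subgroup G).subgroupOf N).index := ⟨_, rfl⟩
  have he0p : (e0 : K) ≠ 0 := by
    rw [Ne, CharP.cast_eq_zero_iff K p, he0]
    exact fun h => P.not_dvd_index (h.trans (relIndex_dvd_index_of_le (le_normalizer)))
  haveI : ((P : Subgroup G).subgroupOf N).Normal := normal_in_normalizer
  have hpow : ∀ n, F n ^ e0 = 1 := fun n => by
    rw [← map_pow]
    have hmem : ((n ^ e0 : ↥N) : G) ∈ (P : Subgroup G) := by
      have h1 := pow_index_mem ((P : Subgroup G).subgroupOf N) n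
      rw [← he0] at h1
      exact h1
    have h1 : M (n ^ e0) = 1 := LinearMap.ext fun w => by
      obtain ⟨x, hx⟩ : ∃ x : ↥P, (x : G) = ((n ^ e0 : ↥N) : G) := ⟨⟨_, hmem⟩, rfl⟩
      show Multiplicative.toAdd (φ (c (n ^ e0) (sec w))) = w
      rw [show c (n ^ e0) (sec w) = x * sec w * x⁻¹ from Subtype.ext (by rw [hc, ← hx]; rfl),
        show φ (x * sec w * x⁻¹) = φ (sec w) by rw [map_mul φ, map_mul φ, map_inv φ, mul_inv_cancel_comm], hsec]
      rfl
    show Φ (M (n ^ e0)) = 1
    rw [h1, map_one]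
  have hfix : ∀ g : ↥ρ.range, g ≠ 1 → ∃ x y : ℙ K (Fin 2 → K), x ≠ y ∧ ∀ ω : ℙ K (Fin 2 → K), g • ω = ω ↔ ω = x ∨ ω = y := by
    rintro ⟨_, n, rfl⟩ hg
    rcases fixed_lines (F n) he0p (hpow n) (hFinj n) with h | h
    · exact absurd (Subtype.ext (Equiv.ext h)) hg
    · exact h
  have hne : ∀ i, Multiplicative.toAdd (φ (f i)) ≠ 0 := fun i h => hf i (by
    rw [← hφk, MonoidHom.mem_ker]; exact h)
  let pt : Fin k → ℙ K (Fin 2 → K) := fun i => Projectivization.mk K _ (hι0 (hne i))
  have hsmul : ∀ (r : ZMod p) (x : ↥P), r • Multiplicative.toAdd (φ x) = Multiplicative.toAdd (φ (x ^ r.val)) := fun r x => by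
    rw [map_pow, toAdd_pow, ← Nat.cast_smul_eq_nsmul (ZMod p), ZMod.natCast_zmod_val]
  have hcommute : ∀ {x y : ↥P} {r : ZMod p}, r • Multiplicative.toAdd (φ y) = Multiplicative.toAdd (φ x) → x * y = y * x := by
    intro x y r h
    rw [hsmul] at h
    have h1 := mem_center_iff.1 (hker.1 (Multiplicative.toAdd.injective h)) y
    have h2 : x = y ^ r.val * ((y ^ r.val)⁻¹ * x) := (mul_inv_cancel_left _ _).symm
    rw [h2, mul_assoc, ← h1, ← mul_assoc, (Commute.pow_self y r.val).eq, mul_assoc]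
  have hpt : Function.Injective pt := by
    intro i j h
    by_contra hij
    obtain ⟨r, hr⟩ := (Projectivization.mk_eq_mk_iff' _ _ _ _ _).1 h
    obtain ⟨r0, hr0⟩ := hdesc (hne j) r hr
    exact hdist i j hij (hcommute hr0)
  obtain ⟨u, hu⟩ := IsCyclic.exists_generator (α := (ZMod p)ˣ)
  have hordu : orderOf u = p - 1 := by
    rw [orderOf_eq_card_of_forall_mem_zpowers hu, Nat.card_eq_fintype_card, ZMod.card_units]
  have hstab : ∀ i, ∃ o, p - 1 ∣ 3 * o ∧ o ∣ Nat.card (MulAction.stabilizer ↥ρ.range (pt i)) := by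
    intro i
    obtain ⟨z, hz, hz1, v, hvz, hva⟩ := hrad i
    obtain ⟨n, hn, hnz, s, hna⟩ := exists_torus P hE hcard hz hz1 (hf i) v hvz hva (u : ZMod p) u.ne_zero
    obtain ⟨t, ht⟩ : ∃ t, t = (u : ZMod p) := ⟨_, rfl⟩
    rw [← ht] at hnz hna
    obtain ⟨w, hw⟩ : ∃ w : ↥N, (w : G) = n := ⟨⟨n, hn⟩, rfl⟩
    have hcw : c w z = z ^ t.val := Subtype.ext (by rw [hc, hw, hnz, SubmonoidClass.coe_pow])
    have hca : c w (f i) = z ^ s * f i ^ (t⁻¹).val :=
      Subtype.ext (by rw [hc, hw, hna, Subgroup.coe_mul, SubmonoidClass.coe_pow, SubmonoidClass.coe_pow])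
    have hφz : φ z = 1 := MonoidHom.mem_ker.1 (hφk.symm ▸ hz)
    obtain ⟨b, hb⟩ : ∃ b : ↥P, b * f i ≠ f i * b := by
      by_contra h
      push Not at h
      exact hf i (mem_center_iff.2 h)
    obtain ⟨X, hX⟩ : ∃ X, X = Multiplicative.toAdd (φ (f i)) := ⟨_, rfl⟩
    obtain ⟨Y, hY⟩ : ∃ Y, Y = Multiplicative.toAdd (φ b) := ⟨_, rfl⟩
    have hMX : M w X = t⁻¹ • X := by
      rw [hX, hMf, hca, map_mul, map_pow φ z, hφz, one_pow, one_mul, hsmul]
    have hXne : X ≠ 0 := hX ▸ hne i
    have hind : LinearIndependent (ZMod p) ![X, Y] :=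
      (LinearIndependent.pair_iff' hXne).2 fun r hr => hb (hcommute (r := r) (by rw [← hX, ← hY]; exact hr))
    have huniq : ∀ α β α' β' : ZMod p, α • X + β • Y = α' • X + β' • Y → α = α' ∧ β = β' := by
      intro α β α' β' h
      have h1 := LinearIndependent.pair_iff.1 hind (α - α') (β - β') (by
        rw [sub_smul, sub_smul, sub_add_sub_comm, h, sub_self])
      exact ⟨sub_eq_zero.1 h1.1, sub_eq_zero.1 h1.2⟩
    obtain ⟨d, m, hdm⟩ : ∃ d m : ZMod p, d • X + m • Y = M w Y := by
      have h1 := hind.span_eq_top_of_card_eq_finrank (by simp)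
      exact Submodule.mem_span_pair.1 (show M w Y ∈ Submodule.span (ZMod p) {X, Y} by
        rw [show ({X, Y} : Set (Fin 2 → ZMod p)) = Set.range ![X, Y] by simp [Matrix.range_cons, Matrix.range_empty, Set.pair_comm], h1]
        trivial)
    have hm : m = t * t := by
      obtain ⟨ζ, hζ, hcb⟩ : ∃ ζ ∈ center ↥P, c w b = f i ^ d.val * b ^ m.val * ζ := by
        refine ⟨(f i ^ d.val * b ^ m.val)⁻¹ * c w b, hker.1 (Multiplicative.toAdd.injective ?_), (mul_inv_cancel_left _ _).symm⟩
        rw [← hMf, ← hY, ← hdm, map_mul, toAdd_mul, hX, hY, hsmul, hsmul]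
      have hcm := CfsgLib.PGroups.IsExtraspecial.comm_mem hE
      obtain ⟨C, hC⟩ : ∃ C, C = ⁅b, f i⁆ := ⟨_, rfl⟩
      have hCp : C ^ p = 1 := hC ▸ CfsgLib.PGroups.IsExtraspecial.comm_pow hE b (f i)
      have hC1 : C ≠ 1 := fun h => hb (commutatorElement_eq_one_iff_mul_comm.1 (hC ▸ h))
      have hordC : orderOf C = p := orderOf_eq_prime hCp hC1
      have hzgen : zpowers z = center ↥P := eq_of_le_of_card_ge (zpowers_le.2 hz)
        (by rw [Nat.card_zpowers, orderOf_eq_prime (CfsgLib.PGroups.IsExtraspecial.center_pow hE hz) hz1,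
          CfsgLib.PGroups.IsExtraspecial.card_center hE])
      obtain ⟨j, hj⟩ := mem_powers_iff_mem_zpowers.2 (hzgen.ge (hcm b (f i)))
      have h1 : c w C = C ^ t.val := by
        rw [hC, ← hj]
        show c w (z ^ j) = (z ^ j) ^ t.val
        rw [map_pow, hcw, pow_right_comm]
      have h2 : c w C = C ^ (m.val * (t⁻¹).val) := by
        have e1 : ⁅c w b, f i⁆ = C ^ m.val := by
          show CfsgLib.PGroups.commHom hcm (f i) (c w b) = _
          rw [hcb, map_mul, map_mul, map_pow, map_pow]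
          show ⁅f i, f i⁆ ^ d.val * ⁅b, f i⁆ ^ m.val * ⁅ζ, f i⁆ = _
          rw [commutatorElement_self, one_pow, one_mul, commutatorElement_eq_one_iff_mul_comm.2 ((mem_center_iff.1 hζ (f i)).symm),
            mul_one, hC]
        rw [hC, map_commutatorElement, hca, ← commutatorElement_inv,
          show ⁅z ^ s * f i ^ (t⁻¹).val, c w b⁆ = CfsgLib.PGroups.commHom hcm (c w b) (z ^ s * f i ^ (t⁻¹).val) from rfl,
          map_mul, map_pow, map_pow]
        show (⁅z, c w b⁆ ^ s * ⁅f i, c w b⁆ ^ (t⁻¹).val)⁻¹ = _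
        rw [commutatorElement_eq_one_iff_mul_comm.2 ((mem_center_iff.1 hz (c w b)).symm), one_pow, one_mul,
          ← commutatorElement_inv (c w b), inv_pow, inv_inv, e1, ← pow_mul, hC]
      have h3 := pow_eq_pow_iff_modEq.1 (h2.symm.trans h1)
      rw [hordC, ← ZMod.natCast_eq_natCast_iff, Nat.cast_mul, ZMod.natCast_zmod_val, ZMod.natCast_zmod_val, ZMod.natCast_zmod_val] at h3
      have ht0 : t ≠ 0 := ht ▸ u.ne_zero
      calc m = (m * t⁻¹) * t := by field_simp
        _ = t * t := by rw [h3]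
    have hiter : ∀ j : ℕ, M (w ^ j) X = (t⁻¹) ^ j • X ∧ ∃ d' : ZMod p, M (w ^ j) Y = d' • X + (t * t) ^ j • Y := by
      intro j
      induction j with
      | zero =>
        rw [pow_zero, map_one]
        exact ⟨by simp, 0, by simp⟩
      | succ j ih =>
        obtain ⟨h1, d', h2⟩ := ih
        rw [pow_succ', map_mul, Module.End.mul_apply, Module.End.mul_apply, h1, h2, map_smul, map_add,
          map_smul, map_smul, hMX, ← hdm, hm]
        refine ⟨by rw [smul_smul, pow_succ], d' * t⁻¹ + (t * t) ^ j * d, ?_⟩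
        rw [smul_smul, smul_add, smul_smul, smul_smul, ← add_assoc, ← add_smul, pow_succ]
    refine ⟨orderOf (ρ w), ?_, ?_⟩
    · obtain ⟨o, ho⟩ : ∃ o, o = orderOf (ρ w) := ⟨_, rfl⟩
      rw [← ho]
      have h1 : ρ (w ^ o) = 1 := by rw [map_pow, ho, pow_orderOf_eq_one]
      have hline : ∀ x : Fin 2 → ZMod p, x ≠ 0 → ∃ r : ZMod p, r • x = M (w ^ o) x := by
        intro x hx
        have h2 : Projectivization.map (F (w ^ o)) (hFinj _) (.mk K (ι x) (hι0 hx)) = .mk K (ι x) (hι0 hx) :=
          Equiv.congr_fun h1 (Projectivization.mk K (ι x) (hι0 hx))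
        rw [Projectivization.map_mk, Projectivization.mk_eq_mk_iff'] at h2
        obtain ⟨r, hr⟩ := h2
        exact hdesc hx r (hr.trans (hι _ _))
      obtain ⟨g1, d', g2⟩ := hiter o
      obtain ⟨r2, hr2⟩ := hline Y (fun h => by
        have := huniq 0 1 0 0 (by rw [h, smul_zero, smul_zero]); exact one_ne_zero this.2)
      obtain ⟨e1, e2⟩ := huniq 0 r2 d' ((t * t) ^ o) (by rw [zero_smul, zero_add, hr2, g2])
      obtain ⟨r3, hr3⟩ := hline (X + Y) (fun h => by
        have := huniq 1 1 0 0 (by rw [one_smul, one_smul, zero_smul, zero_smul, add_zero, h]); exact one_ne_zero this.1)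
      rw [map_add, g1, g2, ← e1, zero_smul, zero_add, smul_add] at hr3
      obtain ⟨e3, e4⟩ := huniq _ _ _ _ hr3
      rw [← hordu]
      refine orderOf_dvd_of_pow_eq_one (Units.ext ?_)
      rw [Units.val_pow_eq_pow_val, Units.val_one, ← ht, show 3 * o = o * 3 by ring, pow_mul]
      have ht0 : t ≠ 0 := ht ▸ u.ne_zero
      have h5 : (t⁻¹) ^ o = (t * t) ^ o := e3.symm.trans e4
      rw [inv_pow, mul_pow] at h5
      field_simp at h5
      linear_combination -h5
    · have hmem : (⟨ρ w, w, rfl⟩ : ↥ρ.range) ∈ MulAction.stabilizer ↥ρ.range (pt i) := by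
        rw [MulAction.mem_stabilizer_iff]
        show Projectivization.map (F w) (hFinj _) (pt i) = pt i
        refine (Projectivization.map_mk _ _ _ _).trans ((Projectivization.mk_eq_mk_iff' _ _ _ _ _).2 ⟨algebraMap (ZMod p) K t⁻¹, ?_⟩)
        show _ = Φ (M w) (ι _)
        rw [hι, ← hX, hMX]
        funext q
        simp [ι]
      have := Subgroup.orderOf_dvd_natCard _ hmem
      rwa [← Subgroup.orderOf_coe] at this
  obtain ⟨h2, h6⟩ := two_point_count hfix (Finset.univ.image pt)
  rw [Finset.card_image_of_injective _ hpt, Finset.card_univ, Fintype.card_fin] at h2 h6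
  constructor
  · intro hp17
    refine h2 fun ω hω => ?_
    obtain ⟨i, -, rfl⟩ := Finset.mem_image.1 hω
    obtain ⟨o, ho3, hodvd⟩ := hstab i
    refine le_trans ?_ (Nat.le_of_dvd Nat.card_pos hodvd)
    have hopos : 0 < o := Nat.pos_of_dvd_of_pos hodvd Nat.card_pos
    rcases hp17 with h | h
    · have := Nat.le_of_dvd (by omega) ho3
      omega
    · subst h
      have := Nat.le_of_dvd hopos ((by norm_num : Nat.Coprime (11 - 1) 3).dvd_of_dvd_mul_left ho3)
      omega
  · intro hp13
    refine h6 fun ω hω => ?_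
    obtain ⟨i, -, rfl⟩ := Finset.mem_image.1 hω
    obtain ⟨o, ho3, hodvd⟩ := hstab i
    subst hp13
    exact ((Nat.Coprime.dvd_of_dvd_mul_left (by norm_num : Nat.Coprime 4 3) ((by norm_num : 4 ∣ 13 - 1).trans ho3))).trans hodvd

end CfsgLib.LocalEvenB
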