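import Cfsg.Agent.Lib.LocalEvenB.CubeLines

/-!
# The maximal abelian subgroup `⟨z, a⟩` of `p^(1+2)`
-/

set_option autoImplicit false
set_option linter.all false

namespace CfsgLib.LocalEvenB

open Subgroup Cfsg
open scoped commutatorElement

variable {P : Type*} [Group P] [Finite P] {p : ℕ} [hp : Fact p.Prime]

/-- `w ↦ z ^ w.1 * a ^ w.2` as a homomorphism. -/
def pairHom {z a : P} (hz : z ^ p = 1) (ha : a ^ p = 1) (hc : Commute z a) :
    Multiplicative (ZMod p × ZMod p) →* P where
  toFun w := pairPow z a (Multiplicative.toAdd w)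
  map_one' := by simp [pairPow]
  map_mul' w w' := by
    simp only [pairPow, toAdd_mul, Prod.fst_add, Prod.snd_add, ZMod.val_add]
    rw [← pow_eq_pow_mod _ hz, ← pow_eq_pow_mod _ ha, pow_add, pow_add]
    exact (hc.pow_pow _ _).mul_mul_mul_comm _ _

omit [Finite P] in
theorem pairHom_injective {z a : P} (hz : z ^ p = 1) (ha : a ^ p = 1) (hzc : z ∈ center P) (hz1 : z ≠ 1)
    (hac : a ∉ center P) : Function.Injective (pairHom hz ha (mem_center_iff.1 hzc a).symm) := by
  rw [injective_iff_map_eq_one]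
  intro w hw
  have hw' : z ^ (Multiplicative.toAdd w).1.val * a ^ (Multiplicative.toAdd w).2.val = 1 := hw
  have h2 : (Multiplicative.toAdd w).2.val = 0 := by
    by_contra hne
    refine hac ?_
    have hmem : a ^ (Multiplicative.toAdd w).2.val ∈ center P := by
      rw [eq_inv_of_mul_eq_one_right hw']
      exact inv_mem (pow_mem hzc _)
    have hcop : Nat.Coprime (Multiplicative.toAdd w).2.val (orderOf a) := by
      rw [orderOf_eq_prime ha (fun h => hac (h ▸ one_mem _))]
      exact (hp.out.coprime_iff_not_dvd.2 fun h =>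
        hne (Nat.eq_zero_of_dvd_of_lt h (ZMod.val_lt _))).symm
    obtain ⟨m, hm⟩ := exists_pow_eq_self_of_coprime hcop
    exact hm ▸ pow_mem hmem m
  rw [h2, pow_zero, mul_one] at hw'
  have h0 := orderOf_dvd_of_pow_eq_one hw'
  rw [orderOf_eq_prime hz hz1] at h0
  have h1 : (Multiplicative.toAdd w).1.val = 0 := Nat.eq_zero_of_dvd_of_lt h0 (ZMod.val_lt _)
  exact Multiplicative.toAdd.injective (Prod.ext ((ZMod.val_eq_zero _).1 h1) ((ZMod.val_eq_zero _).1 h2))

theorem exists_central_generator (hE : IsExtraspecial p P) : ∃ z ∈ center P, z ≠ 1 := by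
  by_contra h
  push Not at h
  have h1 : center P = ⊥ := (eq_bot_iff_forall _).2 h
  have h2 := CfsgLib.PGroups.IsExtraspecial.card_center hE
  rw [h1, Subgroup.card_bot] at h2
  exact hp.out.ne_one h2.symm

theorem exists_noncommuting (hE : IsExtraspecial p P) : ∃ a b : P, a * b ≠ b * a := by
  by_contra h
  push Not at h
  exact CfsgLib.PGroups.IsExtraspecial.not_comm hE ⟨⟨h⟩⟩

end CfsgLib.LocalEvenB
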