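import Cfsg.Agent.Lib.LocalEvenB.DStar
import Cfsg.Agent.Lib.LocalEvenB.CentrallyLarge
import Cfsg.Agent.Lib.PLocal.Offender

/-!
`D*(S)` centralizes every abelian subgroup of largest order.
-/

set_option autoImplicit false

open Cfsg
open scoped Pointwise commutatorElement

namespace CfsgLib.LocalEvenB

variable {S : Type*} [Group S] [Finite S] [Group.IsNilpotent S]

theorem dStar_le_centralizer_maxAbelian {A : Subgroup S} (hA : A ∈ maxAbelianSubgroups S) :
    dStar S ≤ Subgroup.centralizer (A : Set S) := by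
  set D := dStar S with hDdef
  haveI : D.Characteristic := dStar_characteristic
  have hDn : D.Normal := inferInstance
  obtain ⟨hDab, hDfam⟩ := dStar_mem_dStarFamily (S := S)
  have hDC : D ≤ Subgroup.centralizer (D : Set S) := dStar_le_centralizer_self
  have hAC : Subgroup.centralizer (A : Set S) = A := centralizer_eq_of_maxAbelian hA
  have hAA := le_centralizer_iff_isMulCommutative.1 hA.1
  have hAn : A ≤ Subgroup.normalizer (D : Set S) := by
    intro a _
    rw [Subgroup.normalizer_eq_top_iff.2 hDn]; trivial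
  have hab : ⁅A, A⁆ ≤ Subgroup.centralizer (D : Set S) := by
    rw [Subgroup.commutator_eq_bot_iff_le_centralizer.2 hAA]; exact bot_le
  have hsub : ∀ (B X : Subgroup S), B ≤ A → X ≤ D → B ≤ Subgroup.centralizer (X : Set S) →
      Nat.card B * Nat.card X ≤ Nat.card A * Nat.card ↥(B ⊓ X) := by
    intro B X hBA hXD hBX
    have hXX : X ≤ Subgroup.centralizer (X : Set S) :=
      hXD.trans (hDC.trans (Subgroup.centralizer_le (SetLike.coe_subset_coe.2 hXD)))
    have hBB : B ≤ Subgroup.centralizer (B : Set S) :=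
      hBA.trans (hAA.trans (Subgroup.centralizer_le (SetLike.coe_subset_coe.2 hBA)))
    have hm : IsMulCommutative ↥(B ⊔ X) := by
      refine le_centralizer_iff_isMulCommutative.2 ?_
      rw [centralizer_sup]
      exact sup_le (le_inf hBB hBX) (le_inf (Subgroup.le_centralizer_iff.1 hBX) hXX)
    rw [← card_mul_set_eq B X]
    exact Nat.mul_le_mul_right _ ((Nat.card_mono (Set.toFinite _)
      (Set.mul_subset_iff.2 fun b hb x hx => Subgroup.mul_mem_sup hb hx)).trans (hA.2 _ hm))
  have hbest : ∀ B : Subgroup S, B ≤ A → CfsgLib.PLocal.offMeasure D B ≤ CfsgLib.PLocal.offMeasure D A := by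
    intro B hBA
    unfold CfsgLib.PLocal.offMeasure
    refine (hsub B _ hBA inf_le_left (Subgroup.le_centralizer_iff.1 inf_le_right)).trans ?_
    refine Nat.mul_le_mul_left _ (Subgroup.card_le_of_le ?_)
    rw [hAC]
    exact le_inf (inf_le_right.trans inf_le_left) (inf_le_left.trans hBA)
  obtain ⟨h1, h2⟩ := CfsgLib.PLocal.thompson_replacement hDab hAn hab hbest D le_rfl
  set W := ⁅D, A⁆ with hW
  set B := A ⊓ Subgroup.centralizer (W : Set S) with hB
  have hWD : W ≤ D := Subgroup.commutator_le_left D A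
  set X := W ⊔ (D ⊓ Subgroup.centralizer (A : Set S)) with hX
  have hXD : X ≤ D := sup_le hWD inf_le_left
  have hBX : B ≤ Subgroup.centralizer (X : Set S) := by
    rw [hX, centralizer_sup]
    exact le_inf inf_le_right (inf_le_left.trans (Subgroup.le_centralizer_iff.1 inf_le_right))
  -- the replacement `A* = B ⊔ X`
  set As := B ⊔ X with hAs
  have hAsab : IsMulCommutative ↥As := by
    refine le_centralizer_iff_isMulCommutative.2 ?_
    rw [hAs, centralizer_sup]
    exact sup_le (le_inf (inf_le_left.trans (hAA.trans (Subgroup.centralizer_le (SetLike.coe_subset_coe.2 inf_le_left)))) hBX)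
      (le_inf (Subgroup.le_centralizer_iff.1 hBX) (hXD.trans (hDC.trans (Subgroup.centralizer_le (SetLike.coe_subset_coe.2 hXD)))))
  have hAsmax : As ∈ maxAbelianSubgroups S := by
    refine ⟨hAsab, fun C hC => (hA.2 C hC).trans ?_⟩
    have e : Nat.card A * Nat.card ↥(D ⊓ A) = Nat.card B * Nat.card X := by
      have e1 := h1
      unfold CfsgLib.PLocal.offMeasure at e1
      rw [h2] at e1
      rw [hAC] at e1
      exact e1.symm
    rw [← card_mul_set_eq B X] at e
    have h3 : Nat.card A * Nat.card ↥(D ⊓ A) ≤ Nat.card ↥As * Nat.card ↥(D ⊓ A) := by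
      rw [e]
      exact Nat.mul_le_mul (Nat.card_mono (Set.toFinite _)
        (Set.mul_subset_iff.2 fun b hb x hx => Subgroup.mul_mem_sup hb hx))
        (Subgroup.card_le_of_le (le_inf (inf_le_right.trans hXD) (inf_le_left.trans inf_le_left)))
    exact Nat.le_of_mul_le_mul_right h3 Nat.card_pos
  have hAsC := le_centralizer_iff_isMulCommutative.1 hAsab
  -- `[D, A*] ≤ A*`
  have hcomm : ∀ d ∈ D, ∀ a ∈ As, ⁅d, a⁆ ∈ As := by
    have hle : As ≤ A ⊔ D := sup_le_sup inf_le_left hXD
    intro d hd a ha
    have h3 : a ∈ ((A ⊔ D : Subgroup S) : Set S) := hle ha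
    rw [Subgroup.mul_normal] at h3
    obtain ⟨u, hu, v, hv, rfl⟩ := Set.mem_mul.1 h3
    have e : ⁅d, u * v⁆ = ⁅d, u⁆ * (u * ⁅d, v⁆ * u⁻¹) := by
      simp [commutatorElement_def, mul_assoc]
    rw [e, show ⁅d, v⁆ = 1 from commutatorElement_eq_one_iff_mul_comm.2
      (Subgroup.mem_centralizer_iff.1 (hDC hv) d hd), mul_one, mul_inv_cancel, mul_one]
    exact Subgroup.mem_sup_right (Subgroup.mem_sup_left (Subgroup.commutator_mem_commutator hd hu))
  -- hence `D` centralizes `A*`
  have hDAs : D ≤ Subgroup.centralizer (As : Set S) := by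
    intro d hd
    refine Subgroup.mem_centralizer_iff.2 fun a ha => ?_
    refine (hDfam a ?_ d hd).symm
    set s : Set S := (D : Set S) ∪ {a} with hs
    have hclo : D ⊔ Subgroup.zpowers a = Subgroup.closure s := by
      rw [hs, Subgroup.closure_union, Subgroup.closure_eq, Subgroup.zpowers_eq_closure]
    rw [hclo]
    refine triple_commutator_eq_bot (Subgroup.closure s) s Subgroup.subset_closure fun x hx y hy => ?_
    have hz : ∀ d ∈ D, ⁅d, a⁆ ∈ Subgroup.centralizer (Subgroup.closure s : Set S) := by
      intro d' hd'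
      have hmem : ⁅d', a⁆ ∈ D := by
        rw [commutatorElement_def, mul_assoc, mul_assoc, ← mul_assoc a]
        exact D.mul_mem hd' (hDn.conj_mem _ (D.inv_mem hd') a)
      have hle : Subgroup.closure s ≤ Subgroup.centralizer ({⁅d', a⁆} : Set S) := by
        refine (Subgroup.closure_le _).2 ?_
        rintro z (hz | hz)
        · exact Subgroup.mem_centralizer_singleton_iff.2 (Subgroup.mem_centralizer_iff.1 (hDC hmem) z hz)
        · rw [Set.mem_singleton_iff.1 hz]
          exact Subgroup.mem_centralizer_singleton_iff.2 (Subgroup.mem_centralizer_iff.1 (hAsC (hcomm d' hd' a ha)) a ha)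
      exact Subgroup.mem_centralizer_iff.2 fun z hz => Subgroup.mem_centralizer_singleton_iff.1 (hle hz)
    rcases hx with hx | hx <;> rcases hy with hy | hy
    · rw [commutatorElement_eq_one_iff_mul_comm.2 (Subgroup.mem_centralizer_iff.1 (hDC hy) x hx)]
      exact one_mem _
    · rw [Set.mem_singleton_iff.1 hy]; exact hz x hx
    · rw [Set.mem_singleton_iff.1 hx, ← commutatorElement_inv]
      exact Subgroup.inv_mem _ (hz y hy)
    · rw [Set.mem_singleton_iff.1 hx, Set.mem_singleton_iff.1 hy, commutatorElement_self]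
      exact one_mem _
  have hDX : D ≤ X := by
    rw [← h2]
    exact le_inf le_rfl (hDAs.trans (Subgroup.centralizer_le (SetLike.coe_subset_coe.2 le_sup_left)))
  -- so `W = [W, A]` vanishes by nilpotency
  have hWA : W ≤ ⁅W, A⁆ := by
    refine Subgroup.commutator_le.2 fun d hd a ha => ?_
    have h3 : d ∈ ((W ⊔ (D ⊓ Subgroup.centralizer (A : Set S)) : Subgroup S) : Set S) := hDX hd
    have hn : D ⊓ Subgroup.centralizer (A : Set S) ≤ Subgroup.normalizer (W : Set S) :=
      inf_le_left.trans ((hDC.trans (Subgroup.centralizer_le (SetLike.coe_subset_coe.2 hWD))).trans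
        (Subgroup.centralizer_le_normalizer _))
    rw [Subgroup.coe_mul_of_right_le_normalizer_left _ _ hn] at h3
    obtain ⟨w, hw, c, hc, rfl⟩ := Set.mem_mul.1 h3
    have e : ⁅w * c, a⁆ = (w * ⁅c, a⁆ * w⁻¹) * ⁅w, a⁆ := by
      simp [commutatorElement_def, mul_assoc]
    rw [e, show ⁅c, a⁆ = 1 from commutatorElement_eq_one_iff_mul_comm.2
      (Subgroup.mem_centralizer_iff.1 hc.2 a ha).symm, mul_one, mul_inv_cancel, one_mul]
    exact Subgroup.commutator_mem_commutator hw ha
  have hlcs : ∀ i, W ≤ (⊤ : Subgroup S).lowerCentralSeries i := by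
    intro i
    induction i with
    | zero => exact le_top
    | succ i ih => exact hWA.trans (Subgroup.commutator_mono ih le_top)
  obtain ⟨m, hm⟩ := Subgroup.nilpotent_iff_lowerCentralSeries.1 (inferInstance : Group.IsNilpotent S)
  exact Subgroup.commutator_eq_bot_iff_le_centralizer.1 (le_bot_iff.1 ((hlcs m).trans hm.le))

theorem dStar_le_center_thompsonA :
    dStar S ≤ thompsonSubgroupA S ⊓ Subgroup.centralizer (thompsonSubgroupA S : Set S) := by
  refine le_inf ?_ ?_
  · obtain ⟨A, hA⟩ := maxAbelian_nonempty (G := S)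
    exact ((dStar_le_centralizer_maxAbelian hA).trans (centralizer_eq_of_maxAbelian hA).le).trans (le_sSup hA)
  · rw [Subgroup.le_centralizer_iff]
    exact sSup_le fun A hA => Subgroup.le_centralizer_iff.1 (dStar_le_centralizer_maxAbelian hA)

end CfsgLib.LocalEvenB
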