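import Mathlib

/-!
# Sylow 2-subgroups through actions on eight objects
-/

set_option autoImplicit false
set_option linter.all false

namespace CfsgLib.LocalEvenB.EightPoints

open Equiv

variable {m : ℕ}

/-- The ordered product of the chosen generators. -/
def el (g : Fin m → Perm (Fin 8)) (b : Fin m → Bool) : Perm (Fin 8) :=
  ((List.finRange m).map fun i => if b i then g i else 1).prod

theorem el_mem (g : Fin m → Perm (Fin 8)) (b : Fin m → Bool) (K : Subgroup (Perm (Fin 8)))
    (h : ∀ i, b i = true → g i ∈ K) : el g b ∈ K := by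
  refine Subgroup.list_prod_mem _ fun x hx => ?_
  obtain ⟨i, -, rfl⟩ := List.mem_map.1 hx
  by_cases hb : b i = true
  · rw [if_pos hb]; exact h i hb
  · rw [if_neg hb]; exact K.one_mem

theorem isPGroup_closure_range (g : Fin m → Perm (Fin 8)) (h4 : ∀ i, g i ^ 4 = 1)
    (hn : ∀ j, ∀ i < j, ∃ b : Fin m → Bool, (∀ k, j ≤ k → b k = false) ∧ g j * g i * (g j)⁻¹ = el g b) :
    IsPGroup 2 ↥(Subgroup.closure (Set.range g)) := by
  have key : ∀ k, k ≤ m → IsPGroup 2 ↥(Subgroup.closure (g '' {i | (i : ℕ) < k})) := by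
    intro k
    induction k with
    | zero =>
      intro _
      rw [show {i : Fin m | (i : ℕ) < 0} = ∅ by ext i; simp, Set.image_empty, Subgroup.closure_empty]
      exact IsPGroup.of_bot
    | succ k ih =>
      intro hk
      set K := Subgroup.closure (g '' {i | (i : ℕ) < k}) with hKdef
      obtain ⟨j, hj⟩ : ∃ j : Fin m, j = ⟨k, hk⟩ := ⟨_, rfl⟩
      have hset : g '' {i | (i : ℕ) < k + 1} = g '' {i | (i : ℕ) < k} ∪ {g j} := by
        have : {i : Fin m | (i : ℕ) < k + 1} = {i : Fin m | (i : ℕ) < k} ∪ {j} := by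
          ext i; simp [hj, Fin.ext_iff]; omega
        rw [this, Set.image_union, Set.image_singleton]
      rw [hset, Subgroup.closure_union, ← Subgroup.zpowers_eq_closure]
      have hp : IsPGroup 2 ↥(Subgroup.zpowers (g j)) := by
        obtain ⟨e, -, he⟩ := (Nat.dvd_prime_pow Nat.prime_two).1
          (show orderOf (g j) ∣ 2 ^ 2 from orderOf_dvd_of_pow_eq_one (h4 j))
        exact IsPGroup.of_card (n := e) (by rw [Nat.card_zpowers, he])
      have hle : K.map (MulAut.conj (g j)).toMonoidHom ≤ K := by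
        rw [hKdef, MonoidHom.map_closure, Subgroup.closure_le]
        rintro _ ⟨_, ⟨i, hi, rfl⟩, rfl⟩
        obtain ⟨b, hb, he⟩ := hn j i (by rw [hj]; exact hi)
        show g j * g i * (g j)⁻¹ ∈ K
        rw [he]
        refine el_mem g b _ fun l hl => Subgroup.subset_closure ⟨l, ?_, rfl⟩
        by_contra hlk
        rw [hb l (by rw [hj]; exact Fin.mk_le_of_le_val (not_lt.1 hlk))] at hl
        exact Bool.noConfusion hl
      have heq : K.map (MulAut.conj (g j)).toMonoidHom = K :=
        Subgroup.eq_of_le_of_card_ge hle (Subgroup.card_map_of_injective (MulAut.conj (g j)).injective).ge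
      refine (ih (Nat.le_of_succ_le hk)).to_sup_of_normal_left' hp ?_
      rw [Subgroup.zpowers_le, Subgroup.mem_normalizer_iff]
      intro x
      constructor
      · exact fun hx => hle ⟨x, hx, rfl⟩
      · intro hx
        rw [← heq] at hx
        obtain ⟨y, hy, he⟩ := hx
        rwa [← (MulAut.conj (g j)).injective he]
  have h := key m le_rfl
  rwa [show g '' {i : Fin m | (i : ℕ) < m} = Set.range g by
    rw [← Set.image_univ]; congr 1; ext i; simp] at h

/-- A code for injectivity checks. -/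
def code (σ : Perm (Fin 8)) : ℕ := (List.finRange 8).foldl (fun a i => a * 8 + (σ i : ℕ)) 0

theorem card_closure_range (g : Fin m → Perm (Fin 8)) (hp : IsPGroup 2 ↥(Subgroup.closure (Set.range g)))
    (bs : List (Fin m → Bool)) (hlen : bs.length = 2 ^ m) (hnd : (bs.map fun b => code (el g b)).Nodup)
    (hle : ∀ k, 2 ^ k ∣ Nat.card ↥(Subgroup.closure (Set.range g)) → k ≤ m) :
    Nat.card ↥(Subgroup.closure (Set.range g)) = 2 ^ m := by
  obtain ⟨k, hk⟩ := hp.exists_card_eq
  have hkm := hle k (hk ▸ dvd_rfl)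
  let f : Fin bs.length → ↥(Subgroup.closure (Set.range g)) := fun i =>
    ⟨el g (bs.get i), el_mem g _ _ fun j _ => Subgroup.subset_closure ⟨j, rfl⟩⟩
  have hf : Function.Injective f := fun i j h => by
    have h' := congrArg (fun x : ↥(Subgroup.closure (Set.range g)) => code (x : Perm (Fin 8))) h
    have hnd' := List.nodup_iff_injective_get.1 hnd
    have := @hnd' ⟨i, by simp⟩ ⟨j, by simp⟩ (by simpa [f] using h')
    exact Fin.ext (Fin.mk.injEq _ _ _ _ ▸ this)
  have hc := Nat.card_le_card_of_injective f hf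
  rw [Nat.card_fin, hlen, hk] at hc
  rw [hk]
  exact le_antisymm (Nat.pow_le_pow_right (by norm_num) hkm) hc

/-- **The comparison.** A group acting with the given permutations on eight objects has a Sylow
2-subgroup isomorphic to the group they generate, modulo what acts trivially. -/
theorem nonempty_equiv_sylow {G G' V : Type*} [Group G] [Finite G] [Group G'] [Finite G'] (f : G →* G')
    (hf : Function.Surjective f) (act : G → V → V) (hact : ∀ g h v, act (g * h) v = act g (act h v))
    (hact1 : ∀ v, act 1 v = v) (u : Fin 8 → V) (hu : Function.Injective u)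
    (g : Fin m → Perm (Fin 8)) (hgen : ∀ i, ∃ x : G, ∀ k, act x (u k) = u (g i k))
    (hker : ∀ x : G, (∀ k, act x (u k) = u k) ↔ f x = 1)
    (hcard : Nat.card ↥(Subgroup.closure (Set.range g)) = 2 ^ (Nat.card G').factorization 2) (P : Sylow 2 G') :
    Nonempty (↥(Subgroup.closure (Set.range g)) ≃* ↥(P : Subgroup G')) := by
  haveI : Fact (Nat.Prime 2) := ⟨Nat.prime_two⟩
  set X := Subgroup.closure (Set.range g) with hX
  let R : Subgroup G :=
    { carrier := {x | ∃ σ ∈ X, ∀ k, act x (u k) = u (σ k)}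
      one_mem' := ⟨1, X.one_mem, fun k => hact1 _⟩
      mul_mem' := by
        rintro x y ⟨σ, hσ, hx⟩ ⟨τ, hτ, hy⟩
        exact ⟨σ * τ, X.mul_mem hσ hτ, fun k => by rw [hact, hy, hx]; rfl⟩
      inv_mem' := by
        rintro x ⟨σ, hσ, hx⟩
        refine ⟨σ⁻¹, X.inv_mem hσ, fun k => ?_⟩
        conv_lhs => rw [show u k = act x (u (σ⁻¹ k)) by rw [hx]; simp]
        rw [← hact, inv_mul_cancel, hact1] }
  choose s hsX hs using fun x : R => x.2
  let ψ : R →* X := MonoidHom.mk' (fun x => ⟨s x, hsX x⟩) fun x y => Subtype.ext (Perm.ext fun k => hu (by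
    show u (s (x * y) k) = u (s x (s y k))
    rw [← hs, ← hs, ← hs, Subgroup.coe_mul, hact]))
  have hψs : Function.Surjective ψ := by
    rw [← MonoidHom.range_eq_top, eq_top_iff]
    have : X ≤ ψ.range.map X.subtype := by
      refine (Subgroup.closure_le _).2 ?_
      rintro _ ⟨i, rfl⟩
      obtain ⟨x, hx⟩ := hgen i
      have hxR : x ∈ R := ⟨g i, Subgroup.subset_closure ⟨i, rfl⟩, hx⟩
      exact ⟨ψ ⟨x, hxR⟩, ⟨_, rfl⟩, Perm.ext fun k => hu ((hs ⟨x, hxR⟩ k).symm.trans (hx k))⟩
    intro z _
    obtain ⟨w, hw, hwz⟩ := this z.2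
    exact (Subtype.ext hwz : w = z) ▸ hw
  let φ : R →* G' := f.comp R.subtype
  have hkeq : ψ.ker = φ.ker := by
    ext x
    rw [MonoidHom.mem_ker, MonoidHom.mem_ker]
    show _ ↔ f x = 1
    rw [← hker]
    constructor
    · intro h k
      rw [hs x k, show s x = 1 from congrArg Subtype.val h]; rfl
    · intro h
      exact Subtype.ext (Perm.ext fun k => hu ((hs x k).symm.trans (h k)))
  have e : ↥φ.range ≃* ↥X := ((QuotientGroup.quotientKerEquivRange φ).symm.trans
    (QuotientGroup.quotientMulEquivOfEq hkeq.symm)).trans (QuotientGroup.quotientKerEquivOfSurjective ψ hψs)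
  let S : Sylow 2 G' := Sylow.ofCard φ.range (by rw [Nat.card_congr e.toEquiv, hcard])
  exact ⟨e.symm.trans (Sylow.equiv S P)⟩

end CfsgLib.LocalEvenB.EightPoints
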