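import Cfsg.Agent.Lib.LocalEvenB.MonomialExtraspecial
import Cfsg.Agent.S3763

/-!
# The automorphism group of `2₊^(1+2n)` does not split over the inner automorphisms, `n ≥ 3`
-/

set_option autoImplicit false
set_option linter.all false
set_option maxHeartbeats 800000

namespace CfsgLib.LocalEvenB.Monomial

variable {n : ℕ}

/-- The model of the extraspecial group of plus type. -/
@[ext] structure Heis (n : ℕ) where
  u : U2 n
  a : ZMod 2

namespace Heis

/-- Coordinates. -/
def equivProd (n : ℕ) : Heis n ≃ U2 n × ZMod 2 where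
  toFun g := (g.u, g.a)
  invFun p := ⟨p.1, p.2⟩
  left_inv _ := rfl
  right_inv _ := rfl

instance : Finite (Heis n) := Finite.of_equiv _ (equivProd n).symm

instance : Mul (Heis n) := ⟨fun g h => ⟨g.u + h.u, g.a + h.a + beta g.u h.u⟩⟩
instance : One (Heis n) := ⟨⟨0, 0⟩⟩
instance : Inv (Heis n) := ⟨fun g => ⟨g.u, g.a + beta g.u g.u⟩⟩

theorem mul_def (g h : Heis n) : g * h = ⟨g.u + h.u, g.a + h.a + beta g.u h.u⟩ := rfl
theorem one_def : (1 : Heis n) = ⟨0, 0⟩ := rfl
theorem inv_def (g : Heis n) : g⁻¹ = ⟨g.u, g.a + beta g.u g.u⟩ := rfl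

theorem beta_zero_left (u : U2 n) : beta 0 u = 0 := by simp [beta]
theorem beta_zero_right (u : U2 n) : beta u 0 = 0 := by simp [beta]

instance : Group (Heis n) where
  mul_assoc a b c := by
    simp only [mul_def, beta_add_left, beta_add_right]
    refine Heis.ext (add_assoc _ _ _) (by simp only; ring)
  one_mul a := by simp [mul_def, one_def, beta_zero_left]
  mul_one a := by simp [mul_def, one_def, beta_zero_right]
  inv_mul_cancel a := by
    simp only [mul_def, one_def, inv_def]
    refine Heis.ext (two_self a.u) ?_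
    linear_combination CharTwo.add_self_eq_zero a.a + CharTwo.add_self_eq_zero (beta a.u a.u)

theorem conj_apply (g h : Heis n) : g * h * g⁻¹ = ⟨h.u, h.a + beta g.u h.u + beta h.u g.u⟩ := by
  simp only [mul_def, inv_def, beta_add_left]
  refine Heis.ext ?_ ?_
  · rw [add_comm g.u, add_assoc, two_self, add_zero]
  · linear_combination CharTwo.add_self_eq_zero g.a + CharTwo.add_self_eq_zero (beta g.u g.u)

theorem card_heis : Nat.card (Heis n) = 2 ^ (2 * n + 1) := by
  rw [Nat.card_congr (equivProd n), Nat.card_prod, Nat.card_prod, Nat.card_fun, Nat.card_zmod, Nat.card_fin,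
    pow_succ, two_mul, pow_add]

/-- Coordinates of a linear functional as a commutator. -/
theorem exists_rep (G : U2 n → ZMod 2) (hG : ∀ u v, G (u + v) = G u + G v) :
    ∃ w : U2 n, ∀ u, G u = beta w u + beta u w := by
  let Gl := (AddMonoidHom.mk' G hG).toZModLinearMap 2
  refine ⟨((fun i => Gl (0, Pi.single i 1)), (fun i => Gl (Pi.single i 1, 0))), fun u => ?_⟩
  show Gl u = _
  have e1 : Gl (u.1, 0) = u.1 ⬝ᵥ fun i => Gl (Pi.single i 1, 0) := by
    show (Gl ∘ₗ LinearMap.inl (ZMod 2) (W2 n) (W2 n)) u.1 = _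
    conv_lhs => rw [pi_eq_sum_univ' u.1]
    simp [map_sum, dotProduct]
  have e2 : Gl (0, u.2) = u.2 ⬝ᵥ fun i => Gl (0, Pi.single i 1) := by
    show (Gl ∘ₗ LinearMap.inr (ZMod 2) (W2 n) (W2 n)) u.2 = _
    conv_lhs => rw [pi_eq_sum_univ' u.2]
    simp [map_sum, dotProduct]
  conv_lhs => rw [show u = (u.1, 0) + (0, u.2) by simp, map_add, e1, e2]
  simp only [beta]
  rw [dotProduct_comm u.2, add_comm]

theorem center_mem (g : Heis n) : g ∈ Subgroup.center (Heis n) ↔ g.u = 0 := by
  rw [Subgroup.mem_center_iff]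
  constructor
  · intro h
    have hb : ∀ v : U2 n, beta v g.u = beta g.u v := fun v => by
      have := congrArg Heis.a (h ⟨v, 0⟩)
      simp only [mul_def, zero_add, add_zero] at this
      exact add_left_cancel this
    refine Prod.ext (funext fun i => ?_) (funext fun i => ?_)
    · have := hb (0, Pi.single i 1)
      simp [beta] at this
      exact this
    · have := hb (Pi.single i 1, 0)
      simp [beta] at this
      exact this.symm
  · intro h k
    simp only [mul_def, h, beta_zero_left, beta_zero_right, add_zero, zero_add, add_comm]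

theorem isExtraspecial (hn : 1 ≤ n) : Cfsg.IsExtraspecial 2 (Heis n) := by
  haveI : Fact (Nat.Prime 2) := ⟨Nat.prime_two⟩
  refine CfsgLib.PGroups.isExtraspecial_of (IsPGroup.of_card card_heis) ?_ ?_ ?_ ?_
  · intro hcm
    have h : (⟨(Pi.single ⟨0, hn⟩ 1, 0), 0⟩ : Heis n) ∈ Subgroup.center (Heis n) :=
      Subgroup.mem_center_iff.2 fun k => hcm.is_comm.comm _ _
    rw [center_mem] at h
    have := congrFun (congrArg Prod.fst h) ⟨0, hn⟩
    simp at this
  · have e : Subgroup.center (Heis n) ≃ ZMod 2 :=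
      { toFun := fun g => (g : Heis n).a
        invFun := fun a => ⟨⟨0, a⟩, (center_mem _).2 rfl⟩
        left_inv := fun g => Subtype.ext (Heis.ext ((center_mem _).1 g.2).symm rfl)
        right_inv := fun a => rfl }
    rw [Nat.card_congr e, Nat.card_zmod]
  · rw [commutator_def, Subgroup.commutator_le]
    intro g _ h _
    rw [center_mem, commutatorElement_def, conj_apply]
    simp only [mul_def, inv_def, two_self]
  · intro x
    rw [center_mem, pow_two]
    exact two_self x.u

/-- The standard maximal elementary abelian subgroup. -/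
def maxElem (n : ℕ) : Subgroup (Heis n) where
  carrier := {g | g.u.2 = 0}
  one_mem' := rfl
  mul_mem' := fun {g h} (hg : g.u.2 = 0) (hh : h.u.2 = 0) => by
    show g.u.2 + h.u.2 = 0
    rw [hg, hh, add_zero]
  inv_mem' := fun {g} hg => hg

theorem maxElem_props : IsMulCommutative (maxElem n) ∧ (∀ g ∈ maxElem n, g ^ 2 = 1) ∧
    Nat.card (maxElem n) = 2 ^ (n + 1) := by
  refine ⟨⟨⟨fun g h => Subtype.ext ?_⟩⟩, fun g (hg : g.u.2 = 0) => ?_, ?_⟩
  · show (g : Heis n) * h = h * g
    simp only [mul_def, beta, show (g : Heis n).u.2 = 0 from g.2, show (h : Heis n).u.2 = 0 from h.2, dotProduct_zero]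
    exact Heis.ext (add_comm _ _) (by simp only; ring)
  · rw [pow_two, mul_def, beta, hg, dotProduct_zero, add_zero]
    exact Heis.ext (two_self _) (CharTwo.add_self_eq_zero _)
  · have e : maxElem n ≃ W2 n × ZMod 2 :=
      { toFun := fun g => ((g : Heis n).u.1, (g : Heis n).a)
        invFun := fun p => ⟨⟨(p.1, 0), p.2⟩, rfl⟩
        left_inv := fun g => Subtype.ext (Heis.ext (Prod.ext rfl (g.2 : (g : Heis n).u.2 = 0).symm) rfl)
        right_inv := fun p => rfl }
    rw [Nat.card_congr e, Nat.card_prod, Nat.card_fun, Nat.card_zmod, Nat.card_fin, pow_succ]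

/-- No subgroup meets the inner automorphisms trivially and covers them. -/
theorem no_complement (hn : 3 ≤ n) (L : Subgroup (MulAut (Heis n)))
    (hex : ∀ α : MulAut (Heis n), ∃ g : Heis n, ∃ l ∈ L, MulAut.conj g * l = α)
    (hdis : ∀ g : Heis n, MulAut.conj g ∈ L → MulAut.conj g = 1) : False := by
  classical
  -- elements of `L` above a given isometry
  have lift : ∀ (k : U2 n → U2 n) (φ : U2 n → ZMod 2), (∀ u v, k (u + v) = k u + k v) →
      (∀ u, k (k u) = u) → (∀ u v, φ (u + v) = φ u + φ v + (beta (k u) (k v) + beta u v)) →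
      ∃ l ∈ L, ∃ F : U2 n → ZMod 2, (∀ g : Heis n, l g = ⟨k g.u, g.a + F g.u⟩) ∧
        ∀ u v, F (u + v) = F u + F v + (beta (k u) (k v) + beta u v) := by
    intro k φ hk hk2 hφ
    have hbij : Function.Bijective fun g : Heis n => (⟨k g.u, g.a + φ g.u⟩ : Heis n) := by
      refine Finite.injective_iff_bijective.1 fun g h e => ?_
      have e1 : g.u = h.u := by
        rw [← hk2 g.u, ← hk2 h.u]
        exact congrArg k (congrArg Heis.u e)
      refine Heis.ext e1 ?_
      have e2 := congrArg Heis.a e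
      simp only [e1] at e2
      exact add_right_cancel e2
    let α : MulAut (Heis n) :=
      { toEquiv := Equiv.ofBijective _ hbij
        map_mul' := fun g h => by
          refine Heis.ext (hk g.u h.u) ?_
          show g.a + h.a + beta g.u h.u + φ (g.u + h.u) = g.a + φ g.u + (h.a + φ h.u) + beta (k g.u) (k h.u)
          rw [hφ]
          linear_combination CharTwo.add_self_eq_zero (beta g.u h.u) }
    obtain ⟨w, l, hl, he⟩ := hex α
    refine ⟨l, hl, fun u => φ u + beta w.u (k u) + beta (k u) w.u, fun g => ?_, fun u v => ?_⟩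
    · have h1 : MulAut.conj w (l g) = ⟨k g.u, g.a + φ g.u⟩ := by
        rw [← MulAut.mul_apply, he]; rfl
      rw [MulAut.conj_apply, conj_apply] at h1
      have h2 : (l g).u = k g.u := congrArg Heis.u h1
      have h3 : (l g).a + beta w.u (l g).u + beta (l g).u w.u = g.a + φ g.u := congrArg Heis.a h1
      refine Heis.ext h2 ?_
      show (l g).a = g.a + (φ g.u + beta w.u (k g.u) + beta (k g.u) w.u)
      rw [← h2]
      linear_combination h3 - CharTwo.add_self_eq_zero (beta w.u (l g).u) - CharTwo.add_self_eq_zero (beta (l g).u w.u)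
    · simp only [hφ, hk, beta_add_left, beta_add_right]
      ring
  -- uniqueness
  have uniq : ∀ l ∈ L, ∀ l' ∈ L, (∀ g, (l g).u = (l' g).u) → l = l' := by
    intro l hl l' hl' h
    obtain ⟨δ, hδ⟩ : ∃ δ, δ = l⁻¹ * l' := ⟨_, rfl⟩
    have hδu : ∀ g, (δ g).u = g.u := fun g => by
      have h1 : l (δ g) = l' g := by rw [← MulAut.mul_apply, hδ, mul_inv_cancel_left]
      by_contra hne
      -- `l` induces an injection on the first coordinate
      have h2 : (l (δ g)).u = (l g).u := by rw [h1, h]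
      have h3 : δ g * g⁻¹ ∈ Subgroup.center (Heis n) := by
        have h4 : l (δ g * g⁻¹) ∈ Subgroup.center (Heis n) := by
          rw [center_mem, map_mul, map_inv]
          show (l (δ g)).u + (l g).u = 0
          rw [h2, two_self]
        rw [Subgroup.mem_center_iff] at h4 ⊢
        intro k
        exact l.injective (by rw [map_mul l k, map_mul l (δ g * g⁻¹) k]; exact h4 (l k))
      rw [center_mem] at h3
      refine hne ?_
      calc (δ g).u = (δ g).u + (g.u + g.u) := by rw [two_self, add_zero]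
        _ = ((δ g).u + g.u) + g.u := by abel
        _ = g.u := by rw [show (δ g).u + g.u = 0 from h3, zero_add]
    have hδc : ∀ a, δ ⟨0, a⟩ = ⟨0, a⟩ := by
      intro a
      refine Heis.ext (hδu _) ?_
      fin_cases a
      · show (δ 1).a = 0
        rw [map_one]; rfl
      · by_contra hne
        have h5 : (δ ⟨0, 1⟩).a = 0 := (by decide : ∀ x : ZMod 2, x ≠ 1 → x = 0) _ hne
        have : δ ⟨0, 1⟩ = δ 1 := by rw [map_one]; exact Heis.ext (hδu _) h5
        exact absurd (congrArg Heis.a (δ.injective this)) (by decide : (1 : ZMod 2) ≠ 0)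
    obtain ⟨Gf, hGf⟩ : ∃ Gf : U2 n → ZMod 2, ∀ u, Gf u = (δ ⟨u, 0⟩).a := ⟨_, fun _ => rfl⟩
    have hδeq : ∀ g, δ g = ⟨g.u, g.a + Gf g.u⟩ := fun g => by
      have e : g = ⟨g.u, 0⟩ * ⟨0, g.a⟩ := by simp [mul_def, beta_zero_right]
      conv_lhs => rw [e, map_mul, hδc]
      rw [mul_def, hδu, beta_zero_right, hGf]
      exact Heis.ext (add_zero _) (by simp only; ring)
    have hGadd : ∀ u v, Gf (u + v) = Gf u + Gf v := fun u v => by
      have := congrArg Heis.a (map_mul δ ⟨u, 0⟩ ⟨v, 0⟩)
      rw [hδeq, hδeq ⟨u, 0⟩, hδeq ⟨v, 0⟩] at this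
      simp only [mul_def, zero_add] at this
      linear_combination this
    obtain ⟨w, hw⟩ := exists_rep Gf hGadd
    have hδconj : δ = MulAut.conj (⟨w, 0⟩ : Heis n) := MulEquiv.ext fun g => by
      rw [hδeq, MulAut.conj_apply, conj_apply, hw]
      exact Heis.ext rfl (by simp only; ring)
    have h1 := hdis _ (hδconj ▸ hδ ▸ L.mul_mem (L.inv_mem hl) hl')
    rw [← hδconj, hδ, inv_mul_eq_one] at h1
    exact h1
  -- three isometries
  obtain ⟨i₀, i₁, i₂, h01, h02, h12⟩ : ∃ a b c : Fin n, a ≠ b ∧ a ≠ c ∧ b ≠ c :=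
    ⟨⟨0, by omega⟩, ⟨1, by omega⟩, ⟨2, by omega⟩, by simp, by simp, by simp⟩
  let t : Fin n → Fin n → U2 n → U2 n := fun i j u => (u.1 + Pi.single j (u.2 i) + Pi.single i (u.2 j), u.2)
  let w : U2 n → U2 n := fun u => (Function.update u.1 i₁ (u.2 i₁), Function.update u.2 i₁ (u.1 i₁))
  have ht_add : ∀ i j u v, t i j (u + v) = t i j u + t i j v := fun i j u v => by
    refine Prod.ext ?_ rfl
    show u.1 + v.1 + Pi.single j (u.2 i + v.2 i) + Pi.single i (u.2 j + v.2 j) = _
    rw [Pi.single_add, Pi.single_add]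
    show _ = u.1 + Pi.single j (u.2 i) + Pi.single i (u.2 j) + (v.1 + Pi.single j (v.2 i) + Pi.single i (v.2 j))
    abel
  have ht2 : ∀ i j u, t i j (t i j u) = u := fun i j u => by
    refine Prod.ext ?_ rfl
    show u.1 + Pi.single j (u.2 i) + Pi.single i (u.2 j) + Pi.single j (u.2 i) + Pi.single i (u.2 j) = u.1
    rw [show u.1 + Pi.single j (u.2 i) + Pi.single i (u.2 j) + Pi.single j (u.2 i) + Pi.single i (u.2 j) =
      u.1 + ((Pi.single j (u.2 i) + Pi.single j (u.2 i)) + (Pi.single i (u.2 j) + Pi.single i (u.2 j))) by abel,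
      two_self', two_self', add_zero, add_zero]
  have htφ : ∀ i j u v, (u + v : U2 n).2 i * (u + v : U2 n).2 j =
      u.2 i * u.2 j + v.2 i * v.2 j + (beta (t i j u) (t i j v) + beta u v) := fun i j u v => by
    simp only [beta, t, add_dotProduct, single_dotProduct, Prod.snd_add, Pi.add_apply]
    linear_combination -(CharTwo.add_self_eq_zero (v.1 ⬝ᵥ u.2))
  have hw_add : ∀ u v, w (u + v) = w u + w v := fun u v => by
    refine Prod.ext (funext fun i => ?_) (funext fun i => ?_) <;>
      by_cases hi : i = i₁ <;> simp [w, hi]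
  have hw2 : ∀ u, w (w u) = u := fun u => by
    refine Prod.ext (funext fun i => ?_) (funext fun i => ?_) <;>
      by_cases hi : i = i₁ <;> simp [w, hi]
  have hwupd : ∀ u : U2 n, w u = (u.1 + Pi.single i₁ (u.1 i₁ + u.2 i₁), u.2 + Pi.single i₁ (u.1 i₁ + u.2 i₁)) := fun u => by
    refine Prod.ext (funext fun i => ?_) (funext fun i => ?_) <;> by_cases hi : i = i₁
    · subst hi
      show Function.update u.1 i (u.2 i) i = u.1 i + (Pi.single i (u.1 i + u.2 i) : W2 n) i
      rw [Function.update_self, Pi.single_eq_same, ← add_assoc, CharTwo.add_self_eq_zero, zero_add]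
    · simp [w, hi]
    · subst hi
      show Function.update u.2 i (u.1 i) i = u.2 i + (Pi.single i (u.1 i + u.2 i) : W2 n) i
      rw [Function.update_self, Pi.single_eq_same, add_comm (u.1 i), ← add_assoc, CharTwo.add_self_eq_zero, zero_add]
    · simp [w, hi]
  have hwφ : ∀ u v, (u + v : U2 n).1 i₁ * (u + v : U2 n).2 i₁ =
      u.1 i₁ * u.2 i₁ + v.1 i₁ * v.2 i₁ + (beta (w u) (w v) + beta u v) := fun u v => by
    rw [hwupd u, hwupd v]
    simp only [beta, add_dotProduct, dotProduct_add, single_dotProduct, dotProduct_single, Prod.fst_add,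
      Prod.snd_add, Pi.add_apply, Pi.single_eq_same]
    linear_combination -(CharTwo.add_self_eq_zero (v.1 ⬝ᵥ u.2)) - CharTwo.add_self_eq_zero (v.1 i₁ * u.1 i₁) -
      CharTwo.add_self_eq_zero (v.2 i₁ * u.2 i₁) - CharTwo.add_self_eq_zero (v.1 i₁ * u.2 i₁)
  obtain ⟨lw, hlwL, Fw, hlw, hFw⟩ := lift w (fun u => u.1 i₁ * u.2 i₁) hw_add hw2 hwφ
  obtain ⟨la, hlaL, Fa, hla, hFa⟩ := lift (t i₀ i₁) (fun u => u.2 i₀ * u.2 i₁) (ht_add _ _) (ht2 _ _) (htφ _ _)
  obtain ⟨lb, hlbL, Fb, hlb, hFb⟩ := lift (t i₀ i₂) (fun u => u.2 i₀ * u.2 i₂) (ht_add _ _) (ht2 _ _) (htφ _ _)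
  -- the three relations
  obtain ⟨e0, he0⟩ : ∃ e : W2 n, e = Pi.single i₀ 1 := ⟨_, rfl⟩
  obtain ⟨e1, he1⟩ : ∃ e : W2 n, e = Pi.single i₁ 1 := ⟨_, rfl⟩
  obtain ⟨e2, he2⟩ : ∃ e : W2 n, e = Pi.single i₂ 1 := ⟨_, rfl⟩
  have w00 : ∀ x y : W2 n, x i₁ = 0 → y i₁ = 0 → w (x, y) = (x, y) := fun x y hx hy => by
    simp [hwupd, hx, hy]
  have v01 : e0 i₁ = 0 := by simp [he0, h01.symm]
  have v11 : e1 i₁ = 1 := by simp [he1]
  have v21 : e2 i₁ = 0 := by simp [he2, h12]
  have v20 : e2 i₀ = 0 := by simp [he2, h02]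
  have v22 : e2 i₂ = 1 := by simp [he2]
  have v00 : e0 i₀ = 1 := by simp [he0]
  have v02 : e0 i₂ = 0 := by simp [he0, h02.symm]
  have v10 : e1 i₀ = 0 := by simp [he1, h01]
  -- relation one
  have r1 : lw * lb = lb * lw := by
    refine uniq _ (L.mul_mem hlwL hlbL) _ (L.mul_mem hlbL hlwL) fun g => ?_
    simp only [MulAut.mul_apply, hlw, hlb]
    rw [hwupd, hwupd]
    simp only [t]
    refine Prod.ext ?_ ?_
    · simp only [Pi.add_apply, Pi.single_eq_same, Pi.single_eq_of_ne h01.symm, Pi.single_eq_of_ne h12,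
        Pi.single_eq_of_ne h01, Pi.single_eq_of_ne h12.symm, add_zero]
      abel
    · simp only [Pi.add_apply, Pi.single_eq_of_ne h01.symm, Pi.single_eq_of_ne h12, add_zero]
  have c1 : Fw (e0, 0) = 0 := by
    have h := congrArg Heis.a (congrArg (fun l : MulAut (Heis n) => l ⟨(0, e2), 0⟩) r1)
    simp only [MulAut.mul_apply, hlw, hlb, zero_add] at h
    rw [w00 0 e2 rfl v21] at h
    have e : t i₀ i₂ ((0 : W2 n), e2) = (e0, 0) + (0, e2) := by
      simp [t, v20, v22, he0]
    rw [e, hFw, w00 e0 0 v01 rfl, w00 0 e2 rfl v21, CharTwo.add_self_eq_zero, add_zero] at h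
    linear_combination h
  -- relation two
  have r2 : lw * lw = 1 := by
    refine uniq _ (L.mul_mem hlwL hlwL) _ L.one_mem fun g => ?_
    simp only [MulAut.mul_apply, hlw, MulAut.one_apply, hw2]
  have hw1 : w (e1, 0) = (0, e1) := by
    refine Prod.ext (funext fun i => ?_) (funext fun i => ?_) <;> by_cases hi : i = i₁ <;> simp [w, he1, hi]
  have hw1' : w ((0 : W2 n), e1) = (e1, 0) := by rw [← hw1, hw2]
  have c2 : Fw (e1, 0) + Fw (0, e1) = 0 := by
    have h := congrArg Heis.a (congrArg (fun l : MulAut (Heis n) => l ⟨(e1, 0), 0⟩) r2)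
    simp only [MulAut.mul_apply, hlw, MulAut.one_apply, zero_add, hw1] at h
    exact h
  -- relation three
  have r3 : lw * la * (lw * la) = la * lw * (la * lw) := by
    refine uniq _ (L.mul_mem (L.mul_mem hlwL hlaL) (L.mul_mem hlwL hlaL)) _
      (L.mul_mem (L.mul_mem hlaL hlwL) (L.mul_mem hlaL hlwL)) fun g => ?_
    simp only [MulAut.mul_apply, hlw, hla]
    refine Prod.ext (funext fun i => ?_) (funext fun i => ?_)
    · rcases eq_or_ne i i₁ with hi1 | hi1
      · rw [hi1]
        simp only [w, t, Function.update_self, Function.update_of_ne h01, Pi.add_apply, Pi.single_eq_same,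
          Pi.single_eq_of_ne h01, Pi.single_eq_of_ne h01.symm, add_zero, zero_add]
      rcases eq_or_ne i i₀ with hi0 | hi0
      · rw [hi0]
        simp only [w, t, Function.update_self, Function.update_of_ne h01, Pi.add_apply, Pi.single_eq_same,
          Pi.single_eq_of_ne h01, Pi.single_eq_of_ne h01.symm, add_zero, zero_add]
        generalize g.u.1 i₁ = a
        generalize g.u.1 i₀ = b
        generalize g.u.2 i₁ = c
        generalize g.u.2 i₀ = d
        decide +revert
      simp only [w, t, Function.update_of_ne hi1, Pi.add_apply, Pi.single_eq_of_ne hi1, Pi.single_eq_of_ne hi0,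
        add_zero]
    · rcases eq_or_ne i i₁ with hi1 | hi1
      · rw [hi1]
        simp only [w, t, Function.update_self, Function.update_of_ne h01, Pi.add_apply, Pi.single_eq_same,
          Pi.single_eq_of_ne h01, Pi.single_eq_of_ne h01.symm, add_zero, zero_add]
      rcases eq_or_ne i i₀ with hi0 | hi0
      · rw [hi0]
        simp only [w, t, Function.update_self, Function.update_of_ne h01, Pi.add_apply, Pi.single_eq_same,
          Pi.single_eq_of_ne h01, Pi.single_eq_of_ne h01.symm, add_zero, zero_add]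
      simp only [w, t, Function.update_of_ne hi1, Pi.add_apply, Pi.single_eq_of_ne hi1, Pi.single_eq_of_ne hi0,
        add_zero]
  have c3 := congrArg Heis.a (congrArg (fun l : MulAut (Heis n) => l ⟨(0, e0), 0⟩) r3)
  simp only [MulAut.mul_apply, hlw, hla, zero_add] at c3
  have hb1 : t i₀ i₁ ((0 : W2 n), e0) = (e1, e0) := by simp [t, v00, v01, he1]
  have hb2 : w (e1, e0) = (0, e0 + e1) := by
    refine Prod.ext (funext fun i => ?_) (funext fun i => ?_) <;> by_cases hi : i = i₁ <;> simp_all [w]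
  have hb3 : t i₀ i₁ ((0 : W2 n), e0 + e1) = (e1 + e0, e0 + e1) := by
    simp [t, Pi.single_eq_of_ne h01, Pi.single_eq_of_ne h01.symm, he0, he1]
  rw [w00 0 e0 rfl v01, hb1, hb2, hb3] at c3
  have hsum : ((e1 + e0, e0 + e1) : U2 n) = (e0, 0) + (e1, 0) + (0, e1) + (0, e0) := by
    simp [add_comm]
  rw [hsum, hFw, hFw, hFw, hw_add, hw_add, w00 e0 0 v01 rfl, hw1, hw1', w00 0 e0 rfl v01] at c3
  have d00 : e0 ⬝ᵥ e1 = 0 := by rw [he0, single_dotProduct, v10, mul_zero]
  have d11 : e1 ⬝ᵥ e1 = 1 := by rw [he1, single_dotProduct, Pi.single_eq_same, mul_one]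
  simp [beta, d11, d00, dotProduct_comm e1 e0] at c3
  have h20 : (1 : ZMod 2) = 0 := by linear_combination c3 - c1 - c2
  exact absurd h20 (by decide)

end Heis

end CfsgLib.LocalEvenB.Monomial
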