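import Cfsg.Agent.Lib.LocalEvenB.QuadraticSL2

/-!
# Modules for `SL₂(2ⁿ)` on which the elements of order three are fixed point free
-/

set_option autoImplicit false
set_option linter.all false
set_option maxHeartbeats 800000

namespace CfsgLib.LocalEvenB

open Matrix
open scoped MatrixGroups

variable {F : Type*} [Field F] {A : Type*} [AddCommGroup A]

/-- The diagonal element. -/
def diagH (t : F) (ht : t ≠ 0) : SL(2, F) := ⟨!![t, 0; 0, t⁻¹], by simp [det_fin_two, ht]⟩

theorem coe_diagH (t : F) (ht : t ≠ 0) :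
    ((diagH t ht : SL(2, F)) : Matrix (Fin 2) (Fin 2) F) = !![t, 0; 0, t⁻¹] := rfl

/-- `1 + y + y² = 0` for the elements of order three `y = u(s) v(1/s)`. -/
def ThreeRel (act : SL(2, F) →* AddMonoid.End A) : Prop :=
  ∀ s : F, s ≠ 0 → ∀ a, a + act (upU s * loU s⁻¹) a + act ((upU s * loU s⁻¹) * (upU s * loU s⁻¹)) a = 0

section char2

variable [CharP F 2]

theorem upU_mul_self (t : F) : upU t * upU t = 1 := by
  rw [← upU_add, CharTwo.add_self_eq_zero, upU_zero]

theorem loU_mul_self (t : F) : loU t * loU t = 1 := by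
  rw [← loU_add, CharTwo.add_self_eq_zero]
  ext i j; fin_cases i <;> fin_cases j <;> simp [coe_loU]

theorem three_sq (s : F) (hs : s ≠ 0) :
    (upU s * loU s⁻¹) * (upU s * loU s⁻¹) = loU s⁻¹ * upU s := by
  have h2 : (1 : F) + 1 = 0 := CharTwo.add_self_eq_zero 1
  ext i j; fin_cases i <;> fin_cases j <;>
    simp [coe_upU, coe_loU, SpecialLinearGroup.coe_mul, mul_apply, Fin.sum_univ_two, hs, h2]

theorem weyl_up (t : F) (ht : t ≠ 0) : weyl t ht = upU t * loU t⁻¹ * upU t := by
  rw [weyl_eq_up, CharTwo.neg_eq]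

theorem weyl_lo (t : F) (ht : t ≠ 0) : weyl t ht = loU t⁻¹ * upU t * loU t⁻¹ := by
  rw [weyl_eq_lo, CharTwo.neg_eq]

theorem weyl_one_mul_self : weyl (1 : F) one_ne_zero * weyl 1 one_ne_zero = 1 := by
  ext i j; fin_cases i <;> fin_cases j <;>
    simp [coe_weyl, SpecialLinearGroup.coe_mul, mul_apply, Fin.sum_univ_two, CharTwo.neg_eq]

theorem weyl_one_mul_weyl (t : F) (ht : t ≠ 0) :
    weyl 1 one_ne_zero * weyl t⁻¹ (inv_ne_zero ht) = diagH t ht ∧ weyl t ht * weyl 1 one_ne_zero = diagH t ht := by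
  constructor <;> ext i j <;> fin_cases i <;> fin_cases j <;>
    simp [coe_weyl, coe_diagH, SpecialLinearGroup.coe_mul, mul_apply, Fin.sum_univ_two, CharTwo.neg_eq]

theorem upU_weyl_one (t : F) : upU t * weyl 1 one_ne_zero = weyl 1 one_ne_zero * loU t := by
  ext i j; fin_cases i <;> fin_cases j <;>
    simp [coe_weyl, coe_upU, coe_loU, SpecialLinearGroup.coe_mul, mul_apply, Fin.sum_univ_two, CharTwo.neg_eq]

theorem upU_diagH (s t : F) (ht : t ≠ 0) : upU s * diagH t ht = diagH t ht * upU (s * t⁻¹ * t⁻¹) := by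
  ext i j; fin_cases i <;> fin_cases j <;>
    simp [coe_diagH, coe_upU, SpecialLinearGroup.coe_mul, mul_apply, Fin.sum_univ_two] <;> field_simp

theorem diagH_mul (s t : F) (hs : s ≠ 0) (ht : t ≠ 0) : diagH (s * t) (mul_ne_zero hs ht) = diagH s hs * diagH t ht := by
  ext i j; fin_cases i <;> fin_cases j <;>
    simp [coe_diagH, SpecialLinearGroup.coe_mul, mul_apply, Fin.sum_univ_two] <;> ring

theorem diagH_one : diagH (1 : F) one_ne_zero = 1 := by
  ext i j; fin_cases i <;> fin_cases j <;> simp [coe_diagH]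

end char2

/-- The fixed points of the upper unitriangular group. -/
def upFix (act : SL(2, F) →* AddMonoid.End A) : AddSubgroup A where
  carrier := {x | ∀ t, act (upU t) x = x}
  zero_mem' t := map_zero _
  add_mem' {x y} hx hy t := by rw [map_add, hx t, hy t]
  neg_mem' {x} hx t := by rw [map_neg, hx t]

/-- The fixed points of the lower unitriangular group. -/
def loFix (act : SL(2, F) →* AddMonoid.End A) : AddSubgroup A where
  carrier := {x | ∀ t, act (loU t) x = x}
  zero_mem' t := map_zero _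
  add_mem' {x y} hx hy t := by rw [map_add, hx t, hy t]
  neg_mem' {x} hx t := by rw [map_neg, hx t]

variable (act : SL(2, F) →* AddMonoid.End A)

theorem act_mul (g h : SL(2, F)) (x : A) : act (g * h) x = act g (act h x) := by rw [map_mul]; rfl

theorem act_one (x : A) : act 1 x = x := by rw [map_one]; rfl

variable [CharP F 2]

theorem upFix_weyl {x : A} (hx : x ∈ upFix act) (t : F) (ht : t ≠ 0) : act (weyl t ht) x ∈ loFix act := fun s => by
  have h := weyl_conj_up t ht (-s * t * t)
  rw [show -(-s * t * t) * t⁻¹ * t⁻¹ = s by field_simp] at h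
  rw [← act_mul, h, act_mul, hx]

theorem loFix_weyl {x : A} (hx : x ∈ loFix act) (t : F) (ht : t ≠ 0) : act (weyl t ht) x ∈ upFix act := fun s => by
  have h := weyl_conj_lo t ht (-s * t⁻¹ * t⁻¹)
  rw [show -(-s * t⁻¹ * t⁻¹) * t * t = s by field_simp] at h
  rw [← act_mul, h, act_mul, hx]

theorem weyl_one_inv (x : A) : act (weyl 1 one_ne_zero) (act (weyl 1 one_ne_zero) x) = x := by
  rw [← act_mul, weyl_one_mul_self, act_one]

variable {act}

section elem

variable (hrel : ThreeRel act) (h2 : ∀ a : A, a + a = 0)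

include hrel h2

theorem key_rel (s : F) (hs : s ≠ 0) (a : A) :
    act (upU s) (act (loU s⁻¹) a) + act (loU s⁻¹) (act (upU s) a) = a := by
  have h := hrel s hs a
  rw [three_sq s hs, act_mul, act_mul, add_assoc, add_eq_zero_iff_neg_eq, neg_eq_of_add_eq_zero_left (h2 a)] at h
  exact h.symm

theorem upU_loFix {b : A} (hb : b ∈ loFix act) (t : F) (ht : t ≠ 0) :
    act (upU t) b = b + act (weyl t ht) b := by
  have h1 := key_rel hrel h2 t ht b
  rw [hb] at h1
  rw [weyl_lo, act_mul, act_mul, hb]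
  generalize act (loU t⁻¹) (act (upU t) b) = B at h1 ⊢
  generalize act (upU t) b = C at h1 ⊢
  calc C = C + B + B := by rw [add_assoc, h2, add_zero]
    _ = b + B := by rw [h1]

theorem fix_disjoint {a : A} (ha : a ∈ upFix act) (ha' : a ∈ loFix act) : a = 0 := by
  have h := key_rel hrel h2 1 one_ne_zero a
  rw [ha', ha, ha', h2] at h
  exact h.symm

theorem fix_unique {a a' b b' : A} (ha : a ∈ upFix act) (ha' : a' ∈ upFix act) (hb : b ∈ loFix act)
    (hb' : b' ∈ loFix act) (h : a + b = a' + b') : a = a' ∧ b = b' := by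
  have h1 : a = a' := by
    refine sub_eq_zero.1 (fix_disjoint hrel h2 (AddSubgroup.sub_mem _ ha ha') ?_)
    rw [sub_eq_sub_iff_add_eq_add.2 (show a + b = b' + a' by rw [h, add_comm])]
    exact AddSubgroup.sub_mem _ hb' hb
  exact ⟨h1, add_left_cancel (h1 ▸ h)⟩

/-- The whole module is the sum of the two fixed point spaces. -/
theorem fix_top [Finite F] [Finite A] (a : A) : ∃ b ∈ upFix act, ∃ c ∈ loFix act, b + c = a := by
  classical
  obtain ⟨W, hW⟩ : ∃ W, W = upFix act := ⟨_, rfl⟩
  obtain ⟨U, hU⟩ : ∃ U, U = upFix act ⊔ loFix act := ⟨_, rfl⟩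
  suffices hUtop : U = ⊤ from AddSubgroup.mem_sup.1 (hU ▸ hUtop ▸ AddSubgroup.mem_top a)
  by_contra hne
  -- `U` is invariant
  have hUinv : ∀ t, ∀ x ∈ U, act (upU t) x ∈ U := by
    intro t x hx
    by_cases ht : t = 0
    · rw [ht, upU_zero, act_one]; exact hx
    rw [hU] at hx ⊢
    obtain ⟨b, hb, c, hc, rfl⟩ := AddSubgroup.mem_sup.1 hx
    rw [map_add, hb t, upU_loFix hrel h2 hc t ht, add_comm c, ← add_assoc]
    exact AddSubgroup.add_mem_sup (AddSubgroup.add_mem _ hb (loFix_weyl act hc t ht)) hc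
  have hUw : ∀ x ∈ U, act (weyl 1 one_ne_zero) x ∈ U := by
    intro x hx
    rw [hU] at hx ⊢
    obtain ⟨b, hb, c, hc, rfl⟩ := AddSubgroup.mem_sup.1 hx
    rw [map_add, add_comm]
    exact AddSubgroup.add_mem_sup (loFix_weyl act hc 1 one_ne_zero) (upFix_weyl act hb 1 one_ne_zero)
  -- an element fixed modulo `U`
  let Q := A ⧸ U
  let σ : Multiplicative F →* Equiv.Perm Q :=
    { toFun := fun t =>
        { toFun := QuotientAddGroup.map U U (act (upU (Multiplicative.toAdd t))) (fun x hx => hUinv _ x hx)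
          invFun := QuotientAddGroup.map U U (act (upU (-Multiplicative.toAdd t))) (fun x hx => hUinv _ x hx)
          left_inv := fun x => by
            induction x using QuotientAddGroup.induction_on with
            | H x =>
              show ((act _ (act _ x) : A) : Q) = _
              rw [← act_mul, ← upU_add, neg_add_cancel, upU_zero, act_one]
          right_inv := fun x => by
            induction x using QuotientAddGroup.induction_on with
            | H x =>
              show ((act _ (act _ x) : A) : Q) = _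
              rw [← act_mul, ← upU_add, add_neg_cancel, upU_zero, act_one] }
      map_one' := Equiv.ext fun x => by
        induction x using QuotientAddGroup.induction_on with
        | H x => show ((act (upU (0 : F)) x : A) : Q) = _; rw [upU_zero, act_one]; rfl
      map_mul' := fun s t => Equiv.ext fun x => by
        induction x using QuotientAddGroup.induction_on with
        | H x => show ((act (upU (_ + _)) x : A) : Q) = _; rw [upU_add, act_mul]; rfl }
  letI : MulAction (Multiplicative F) Q := MulAction.compHom _ σ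
  haveI := Fintype.ofFinite F
  haveI : Fact (Nat.Prime 2) := ⟨Nat.prime_two⟩
  obtain ⟨n, -, hn⟩ := FiniteField.card F 2
  have hP : IsPGroup 2 (Multiplicative F) := IsPGroup.of_card (n := n) (by
    rw [Nat.card_congr Multiplicative.toAdd, Nat.card_eq_fintype_card, hn])
  obtain ⟨a0, ha0⟩ : ∃ a0, a0 ∉ U := by
    by_contra h
    push Not at h
    exact hne (eq_top_iff.2 fun y _ => h y)
  have hdvd : 2 ∣ Nat.card Q := by
    have h1 : addOrderOf (a0 : Q) = 2 := addOrderOf_eq_prime
      (by rw [← QuotientAddGroup.mk_nsmul, two_nsmul, h2]; rfl) fun h => ha0 ((QuotientAddGroup.eq_zero_iff a0).1 h)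
    exact h1 ▸ addOrderOf_dvd_natCard _
  have h0 : (0 : Q) ∈ MulAction.fixedPoints (Multiplicative F) Q := fun t => by
    show ((act (upU _) 0 : A) : Q) = 0
    rw [map_zero]; rfl
  obtain ⟨q, hq, hq0⟩ := hP.exists_fixed_point_of_prime_dvd_card_of_fixed_point Q hdvd h0
  induction q using QuotientAddGroup.induction_on with
  | H x =>
    refine hq0 ((QuotientAddGroup.eq_zero_iff x).2 ?_).symm
    clear hq0
    have hfU : ∀ r, act (upU r) x + x ∈ U := fun r => by
      have h1 : ((act (upU r) x : A) : Q) = (x : Q) := hq (Multiplicative.ofAdd r)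
      rw [QuotientAddGroup.eq_iff_sub_mem, sub_eq_add_neg, neg_eq_of_add_eq_zero_left (h2 x)] at h1
      exact h1
    obtain ⟨f, hf⟩ : ∃ f : F → A, ∀ r, f r = act (upU r) x + x := ⟨_, fun _ => rfl⟩
    have hup : ∀ r, act (upU r) x = x + f r := fun r => by
      rw [hf, add_comm (act (upU r) x), ← add_assoc, h2, zero_add]
    have hfW : ∀ r, f r ∈ W := fun r => by
      obtain ⟨b, hb, c, hc, hbc⟩ := AddSubgroup.mem_sup.1 (hU ▸ hfU r : _ ∈ upFix act ⊔ loFix act)
      rw [hf, ← hbc, hW]
      by_cases hr : r = 0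
      · have h1 : b + c = 0 := by rw [hbc, hr, upU_zero, act_one, h2]
        rw [h1]; exact AddSubgroup.zero_mem _
      have h1 : act (upU r) (act (upU r) x + x) = act (upU r) x + x := by
        rw [map_add, ← act_mul, upU_mul_self, act_one, add_comm]
      rw [← hbc, map_add, hb r, upU_loFix hrel h2 hc r hr] at h1
      have h3 : act (weyl r hr) c = 0 := by
        have h4 : b + c + act (weyl r hr) c = b + c := by rw [add_assoc]; exact h1
        exact left_eq_add.1 h4.symm
      have h5 : c = 0 := by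
        have := congrArg (act (weyl r hr)⁻¹) h3
        rwa [map_zero, ← act_mul, inv_mul_cancel, act_one] at this
      rw [h5, add_zero]; exact hb
    -- scalars on `W`
    obtain ⟨n1, hn1⟩ : ∃ n1 : F → A → A, ∀ t y, n1 t y = act (upU t) (act (weyl 1 one_ne_zero) y) + act (weyl 1 one_ne_zero) y := ⟨_, fun _ _ => rfl⟩
    have hn : ∀ (t : F) (ht : t ≠ 0), ∀ y ∈ W, n1 t y = act (diagH t ht) y := fun t ht y hy => by
      rw [hn1, upU_loFix hrel h2 (upFix_weyl act (hW ▸ hy) 1 one_ne_zero) t ht, add_comm, ← add_assoc, h2, zero_add,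
        ← act_mul, (weyl_one_mul_weyl t ht).2]
    have hn0 : ∀ y, n1 0 y = 0 := fun y => by rw [hn1, upU_zero, act_one, h2]
    have hnW : ∀ t, ∀ y ∈ W, n1 t y ∈ W := fun t y hy => by
      by_cases ht : t = 0
      · rw [ht, hn0]; exact W.zero_mem
      rw [hn t ht y hy, ← (weyl_one_mul_weyl t ht).2, act_mul, hW]
      exact loFix_weyl act (upFix_weyl act (hW ▸ hy) 1 one_ne_zero) t ht
    have hnadd : ∀ s t, ∀ y ∈ W, n1 (s + t) y = n1 s y + n1 t y := fun s t y hy => by
      obtain ⟨z, hz⟩ : ∃ z, z = act (weyl 1 one_ne_zero) y := ⟨_, rfl⟩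
      have h1 : act (upU t) z = z + n1 t y := by rw [hn1, ← hz, add_comm (act (upU t) z), ← add_assoc, h2, zero_add]
      rw [hn1 (s + t), hn1 s, ← hz, upU_add, act_mul, h1, map_add, (hW ▸ hnW t y hy : n1 t y ∈ upFix act) s]
      abel
    have hnlin : ∀ t y z, n1 t (y + z) = n1 t y + n1 t z := fun t y z => by
      simp only [hn1, map_add]; abel
    have hnmul : ∀ s t, ∀ y ∈ W, n1 (s * t) y = n1 s (n1 t y) := fun s t y hy => by
      by_cases hs : s = 0
      · subst hs; rw [zero_mul, hn0, hn0]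
      by_cases ht : t = 0
      · subst ht; rw [mul_zero, hn0]
        rw [hn1, map_zero, map_zero, add_zero]
      rw [hn _ (mul_ne_zero hs ht) y hy, hn s hs _ (hnW t y hy), hn t ht y hy, diagH_mul s t hs ht, act_mul]
    -- commuting `u(s)` and `u(1)` on `w x`
    obtain ⟨z, hz⟩ : ∃ z, z = act (weyl 1 one_ne_zero) x := ⟨_, rfl⟩
    have hMx : ∀ (s : F) (hs : s ≠ 0), act (loU s) x = x + act (weyl s⁻¹ (inv_ne_zero hs)) x + f s⁻¹ := by
      intro s hs
      have h := key_rel hrel h2 s⁻¹ (inv_ne_zero hs) x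
      rw [inv_inv, hup, map_add] at h
      rw [weyl_up, inv_inv, act_mul, act_mul, hup, map_add, map_add]
      obtain ⟨D, hD⟩ : ∃ D, D = act (loU s) (f s⁻¹) := ⟨_, rfl⟩
      obtain ⟨E, hE⟩ : ∃ E, E = act (loU s) x := ⟨_, rfl⟩
      have hD' : act (upU s⁻¹) D + D = f s⁻¹ := by
        have h' := key_rel hrel h2 s⁻¹ (inv_ne_zero hs) (f s⁻¹)
        rwa [(hW ▸ hfW s⁻¹ : f s⁻¹ ∈ upFix act) s⁻¹, inv_inv, ← hD] at h'
      rw [← hE, ← hD] at h
      rw [← hE, ← hD]
      calc E = act (upU s⁻¹) E + (E + D) + (act (upU s⁻¹) E + D) := by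
            have : act (upU s⁻¹) E + (E + D) + (act (upU s⁻¹) E + D) = (act (upU s⁻¹) E + act (upU s⁻¹) E) + (D + D) + E := by abel
            rw [this, h2, h2, zero_add, zero_add]
        _ = x + (act (upU s⁻¹) E + D) := by rw [h]
        _ = x + (act (upU s⁻¹) E + act (upU s⁻¹) D) + f s⁻¹ := by
            rw [← hD']
            have : x + (act (upU s⁻¹) E + act (upU s⁻¹) D) + (act (upU s⁻¹) D + D) = x + (act (upU s⁻¹) E + D) + (act (upU s⁻¹) D + act (upU s⁻¹) D) := by abel
            rw [this, h2, add_zero]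
    have hA : ∀ (s : F) (hs : s ≠ 0),
        act (upU s) z = z + act (diagH s hs) x + act (weyl 1 one_ne_zero) (f s⁻¹) := fun s hs => by
      rw [hz, ← act_mul, upU_weyl_one, act_mul, hMx s hs, map_add, map_add, ← act_mul (act := act) (weyl 1 _) (weyl s⁻¹ _),
        (weyl_one_mul_weyl s hs).1]
    have hz1 : act (upU 1) z = z + x + act (weyl 1 one_ne_zero) (f 1) := by
      have := hA 1 one_ne_zero
      rwa [diagH_one, act_one, inv_one] at this
    have hweq : ∀ (t : F), ∀ y ∈ W, act (upU t) (act (weyl 1 one_ne_zero) y) = act (weyl 1 one_ne_zero) y + n1 t y := fun t y _ => by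
      rw [hn1, add_comm (act (upU t) _), ← add_assoc, h2, zero_add]
    have hdiag : ∀ (s t : F) (ht : t ≠ 0), act (upU s) (act (diagH t ht) x) = act (diagH t ht) x + n1 t (f (s * t⁻¹ * t⁻¹)) :=
      fun s t ht => by rw [← act_mul, upU_diagH, act_mul, hup, map_add, hn t ht _ (hfW _)]
    have heq : ∀ s : F, s ≠ 0 → f s + n1 s (f 1) = n1 s (f (1 * s⁻¹ * s⁻¹)) + f s⁻¹ := by
      intro s hs
      have hcomm : act (upU s) (act (upU 1) z) = act (upU 1) (act (upU s) z) := by
        rw [← act_mul, ← act_mul, ← upU_add, ← upU_add, add_comm]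
      rw [hz1, hA s hs, map_add, map_add, map_add, map_add, hup s, hweq s _ (hfW 1), hA s hs, hz1,
        hdiag 1 s hs, hweq 1 _ (hfW s⁻¹), hn 1 one_ne_zero _ (hfW s⁻¹), diagH_one, act_one] at hcomm
      generalize act (diagH s hs) x = P at hcomm
      generalize act (weyl 1 one_ne_zero) (f 1) = R at hcomm
      generalize act (weyl 1 one_ne_zero) (f s⁻¹) = R' at hcomm
      generalize f s = a at hcomm ⊢
      generalize n1 s (f 1) = b at hcomm ⊢
      generalize n1 s (f (1 * s⁻¹ * s⁻¹)) = c at hcomm ⊢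
      generalize f s⁻¹ = d at hcomm ⊢
      refine add_left_cancel (a := z + P + R' + x + R) ?_
      calc z + P + R' + x + R + (a + b) = z + P + R' + (x + a) + (R + b) := by abel
        _ = z + x + R + (P + c) + (R' + d) := hcomm
        _ = z + P + R' + x + R + (c + d) := by abel
    -- `f` is linear
    obtain ⟨g, hg⟩ : ∃ g : F → A, ∀ r, g r = f r + n1 r (f 1) := ⟨_, fun _ => rfl⟩
    have hgW : ∀ r, g r ∈ W := fun r => hg r ▸ W.add_mem (hfW r) (hnW _ _ (hfW 1))
    have hfadd : ∀ r r', f (r + r') = f r + f r' := fun r r' => by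
      have h1 : act (upU (r + r')) x = x + f r + f r' := by
        rw [upU_add, act_mul, hup r', map_add, hup r, (hW ▸ hfW r' : f r' ∈ upFix act) r]
      rw [hup (r + r'), add_assoc] at h1
      exact add_left_cancel h1
    have hgadd : ∀ r r', g (r + r') = g r + g r' := fun r r' => by
      rw [hg, hg, hg, hfadd, hnadd _ _ _ (hfW 1)]; abel
    have hn1' : ∀ y ∈ W, n1 1 y = y := fun y hy => by rw [hn 1 one_ne_zero y hy, diagH_one, act_one]
    have hgeq : ∀ s, s ≠ 0 → g s = n1 s (g (s⁻¹ * s⁻¹)) + g s⁻¹ := fun s hs => by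
      have h := heq s hs
      rw [one_mul] at h
      rw [hg, hg, hg, h, hnlin, ← hnmul s _ _ (hfW 1), show s * (s⁻¹ * s⁻¹) = s⁻¹ by field_simp]
      have := h2 (n1 s⁻¹ (f 1))
      calc n1 s (f (s⁻¹ * s⁻¹)) + f s⁻¹ = n1 s (f (s⁻¹ * s⁻¹)) + f s⁻¹ + (n1 s⁻¹ (f 1) + n1 s⁻¹ (f 1)) := by
            rw [this, add_zero]
        _ = _ := by abel
    have hinv : ∀ s, s ≠ 0 → n1 s (g (s⁻¹ * s⁻¹)) = n1 s⁻¹ (g (s * s)) := fun s hs => by
      have e1 := hgeq s hs
      have e2 := hgeq s⁻¹ (inv_ne_zero hs)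
      rw [inv_inv] at e2
      rw [e2] at e1
      generalize n1 s (g (s⁻¹ * s⁻¹)) = P at e1 ⊢
      generalize n1 s⁻¹ (g (s * s)) = R at e1 ⊢
      have h3 : P + R = 0 := by
        have : g s + 0 = g s + (P + R) := by rw [add_zero]; exact e1.trans (by abel)
        exact (add_left_cancel this).symm
      calc P = P + (R + R) := by rw [h2, add_zero]
        _ = R := by rw [← add_assoc, h3, zero_add]
    have hsq : ∀ t, t ≠ 0 → g t⁻¹ = n1 t⁻¹ (g t) := fun t ht => by
      obtain ⟨s, rfl⟩ := (isSquare_iff_exists_mul_self _).1 (FiniteField.isSquare_of_char_two (ringChar.eq F 2) t)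
      have hs : s ≠ 0 := fun h => ht (by rw [h, mul_zero])
      have h := congrArg (n1 s⁻¹) (hinv s hs)
      rw [← hnmul _ _ _ (hgW _), ← hnmul _ _ _ (hgW _), inv_mul_cancel₀ hs, hn1' _ (hgW _), ← mul_inv] at h
      rw [h, mul_inv]
    have hsq2 : ∀ s, g (s * s) = g s + n1 s (g s) := fun s => by
      by_cases hs : s = 0
      · subst hs
        rw [mul_zero, hn0, add_zero]
      have h := hgeq s hs
      rw [hinv s hs, hsq s hs] at h
      have h' := congrArg (n1 s) h
      rw [hnlin, ← hnmul _ _ _ (hgW _), ← hnmul _ _ _ (hgW _), mul_inv_cancel₀ hs, hn1' _ (hgW _), hn1' _ (hgW _)] at h'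
      rw [h', add_comm (g (s * s)), ← add_assoc, h2, zero_add]
    have hg1 : g 1 = 0 := by rw [hg, hn1' _ (hfW 1), h2]
    have hg0 : ∀ s, g s = 0 := fun s => by
      have h := hsq2 (s + 1)
      rw [show (s + 1) * (s + 1) = s * s + 1 by linear_combination s * CharTwo.add_self_eq_zero (1 : F), hgadd, hgadd, hg1,
        add_zero, add_zero, hsq2, hnadd _ _ _ (hgW s), hn1' _ (hgW s)] at h
      exact left_eq_add.1 (h.trans (add_assoc _ _ _).symm)
    -- so `x` lies in `U`
    have hwf : act (weyl 1 one_ne_zero) (f 1) ∈ loFix act := upFix_weyl act (hW ▸ hfW 1) 1 one_ne_zero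
    have hfix : x + act (weyl 1 one_ne_zero) (f 1) ∈ upFix act := fun t => by
      have h := hg0 t
      rw [hg] at h
      rw [map_add, hup, hweq t _ (hfW 1)]
      calc x + f t + (act (weyl 1 one_ne_zero) (f 1) + n1 t (f 1)) = x + act (weyl 1 one_ne_zero) (f 1) + (f t + n1 t (f 1)) := by abel
        _ = _ := by rw [h, add_zero]
    rw [hU, ← add_sub_cancel_right x (act (weyl 1 one_ne_zero) (f 1)), sub_eq_add_neg]
    exact AddSubgroup.add_mem_sup hfix (AddSubgroup.neg_mem _ hwf)

end elem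

end CfsgLib.LocalEvenB
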