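import Cfsg.Agent.Lib.LocalEvenB.FpfModule

/-!
# Exponent and decomposition of fixed point free modules for `SL₂(2ⁿ)`
-/

set_option autoImplicit false
set_option linter.all false
set_option maxHeartbeats 800000

namespace CfsgLib.LocalEvenB

open Matrix
open scoped MatrixGroups

variable {F : Type*} [Field F] [CharP F 2]

/-- The functional equation coming from two commuting unipotent elements. -/
theorem functional_eq [Finite F] {V : Type*} [AddCommGroup V] [Module F V] (f : F → V)
    (hadd : ∀ r r', f (r + r') = f r + f r') (q : V)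
    (heq : ∀ s : F, s ≠ 0 → f s + s • f 1 = s • f (s⁻¹ * s⁻¹) + f s⁻¹ + (s + 1) • q)
    (t : F) (ht : t ≠ 0) : (1 + t⁻¹) • q = 0 := by
  have h2 : ∀ v : V, v + v = 0 := fun v => by
    rw [← two_smul F v, CharTwo.two_eq_zero, zero_smul]
  have hsub : ∀ {a b : V}, a + b = 0 → a = b := fun {a b} h => by
    calc a = a + (b + b) := by rw [h2, add_zero]
      _ = b := by rw [← add_assoc, h, zero_add]
  obtain ⟨g, hg⟩ : ∃ g : F → V, ∀ r, g r = f r + r • f 1 := ⟨_, fun _ => rfl⟩
  have hgadd : ∀ r r', g (r + r') = g r + g r' := fun r r' => by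
    rw [hg, hg, hg, hadd, add_smul]; abel
  have hgeq : ∀ s, s ≠ 0 → g s = s • g (s⁻¹ * s⁻¹) + g s⁻¹ + (s + 1) • q := fun s hs => by
    rw [hg, hg, hg, heq s hs, smul_add, smul_smul, show s * (s⁻¹ * s⁻¹) = s⁻¹ by field_simp]
    calc s • f (s⁻¹ * s⁻¹) + f s⁻¹ + (s + 1) • q
        = s • f (s⁻¹ * s⁻¹) + f s⁻¹ + (s + 1) • q + (s⁻¹ • f 1 + s⁻¹ • f 1) := by rw [h2, add_zero]
      _ = _ := by abel
  have hinv : ∀ t, t ≠ 0 → g t⁻¹ = t⁻¹ • g t + (1 + t⁻¹) • q := fun t ht => by
    obtain ⟨s, rfl⟩ := (isSquare_iff_exists_mul_self _).1 (FiniteField.isSquare_of_char_two (ringChar.eq F 2) t)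
    have hs : s ≠ 0 := fun h => ht (by rw [h, mul_zero])
    have e1 := hgeq s hs
    have e2 := hgeq s⁻¹ (inv_ne_zero hs)
    rw [inv_inv] at e2
    rw [e2] at e1
    have e3 : s • g (s⁻¹ * s⁻¹) + (s⁻¹ • g (s * s) + ((s + 1) • q + (s⁻¹ + 1) • q)) = 0 := by
      have : g s + 0 = g s + (s • g (s⁻¹ * s⁻¹) + (s⁻¹ • g (s * s) + ((s + 1) • q + (s⁻¹ + 1) • q))) := by
        rw [add_zero]; exact e1.trans (by abel)
      exact (add_left_cancel this).symm
    have e4 := congrArg (fun v => s⁻¹ • v) (hsub e3)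
    simp only [smul_add, smul_smul, inv_mul_cancel₀ hs, one_smul] at e4
    rw [mul_inv, e4, ← add_smul]
    congr 2
    linear_combination CharTwo.add_self_eq_zero s⁻¹ + mul_inv_cancel₀ hs
  have hsq2 : ∀ s, g (s * s) = g s + s • g s := fun s => by
    by_cases hs : s = 0
    · subst hs
      rw [mul_zero, zero_smul, add_zero]
    have h := hgeq s hs
    rw [← mul_inv, hinv (s * s) (mul_ne_zero hs hs), hinv s hs, smul_add, smul_smul, smul_smul] at h
    have h' := congrArg (fun v => s • v) h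
    simp only [smul_add, smul_smul] at h'
    rw [show s * (s * (s * s)⁻¹) = 1 by field_simp, show s * s⁻¹ = 1 by field_simp, one_smul, one_smul] at h'
    have hq : (s * (s * (1 + (s * s)⁻¹))) • q + (s * (1 + s⁻¹)) • q + (s * (s + 1)) • q = 0 := by
      rw [← add_smul, ← add_smul]
      convert zero_smul F q
      field_simp
      linear_combination (s * s + s + 1) * CharTwo.add_self_eq_zero (1 : F)
    refine hsub ?_
    calc g (s * s) + (g s + s • g s)
        = g (s * s) + g s + (g (s * s) + (s * (s * (1 + (s * s)⁻¹))) • q + (g s + (s * (1 + s⁻¹)) • q) + (s * (s + 1)) • q) := by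
          rw [← h']; abel
      _ = (g (s * s) + g (s * s)) + (g s + g s) + ((s * (s * (1 + (s * s)⁻¹))) • q + (s * (1 + s⁻¹)) • q + (s * (s + 1)) • q) := by abel
      _ = 0 := by rw [h2, h2, hq, add_zero, add_zero]
  have hg1 : g 1 = 0 := by rw [hg, one_smul, h2]
  have hg0 : ∀ s, g s = 0 := fun s => by
    have h := hsq2 (s + 1)
    rw [show (s + 1) * (s + 1) = s * s + 1 by linear_combination s * CharTwo.add_self_eq_zero (1 : F), hgadd, hgadd, hg1,
      add_zero, add_zero, hsq2, add_smul, one_smul] at h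
    exact left_eq_add.1 (h.trans (add_assoc _ _ _).symm)
  have := hinv t ht
  rw [hg0, hg0, smul_zero, zero_add] at this
  exact this.symm

variable {A : Type*} [AddCommGroup A] {act : SL(2, F) →* AddMonoid.End A}

section

variable (hrel : ThreeRel act) (h2 : ∀ a : A, a + a = 0)

/-- Scalars on the fixed points of the unipotent group. -/
noncomputable def fixSMul (act : SL(2, F) →* AddMonoid.End A) (t : F) (y : A) : A := by
  classical exact if ht : t = 0 then 0 else act (diagH t ht) y

theorem fixSMul_of_ne (act : SL(2, F) →* AddMonoid.End A) {t : F} (ht : t ≠ 0) (y : A) :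
    fixSMul act t y = act (diagH t ht) y := by rw [fixSMul, dif_neg ht]

include hrel h2

theorem upU_weyl_fix {y : A} (hy : y ∈ upFix act) (t : F) :
    act (upU t) (act (weyl 1 one_ne_zero) y) = act (weyl 1 one_ne_zero) y + fixSMul act t y := by
  by_cases ht : t = 0
  · rw [fixSMul, dif_pos ht, ht, upU_zero, act_one, add_zero]
  rw [fixSMul_of_ne act ht, upU_loFix hrel h2 (upFix_weyl act hy 1 one_ne_zero) t ht, ← act_mul,
    (weyl_one_mul_weyl t ht).2]

omit hrel h2 in
theorem fixSMul_mem {y : A} (hy : y ∈ upFix act) (t : F) : fixSMul act t y ∈ upFix act := by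
  by_cases ht : t = 0
  · rw [fixSMul, dif_pos ht]; exact AddSubgroup.zero_mem _
  rw [fixSMul_of_ne act ht, ← (weyl_one_mul_weyl t ht).2, act_mul]
  exact loFix_weyl act (upFix_weyl act hy 1 one_ne_zero) t ht

theorem fixSMul_add {y : A} (hy : y ∈ upFix act) (s t : F) :
    fixSMul act (s + t) y = fixSMul act s y + fixSMul act t y := by
  have h := upU_weyl_fix hrel h2 hy (s + t)
  rw [upU_add, act_mul, upU_weyl_fix hrel h2 hy t, map_add, upU_weyl_fix hrel h2 hy s, fixSMul_mem hy t s, add_assoc] at h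
  exact (add_left_cancel h).symm

/-- The fixed points as an `F`-space. -/
@[reducible] noncomputable def fixModule : Module F (upFix act) where
  smul t y := ⟨fixSMul act t y.1, fixSMul_mem y.2 t⟩
  one_smul y := Subtype.ext (by
    show fixSMul act 1 y.1 = y.1
    rw [fixSMul_of_ne act one_ne_zero, diagH_one, act_one])
  mul_smul s t y := Subtype.ext (by
    show fixSMul act (s * t) y.1 = fixSMul act s (fixSMul act t y.1)
    by_cases hs : s = 0
    · subst hs; rw [zero_mul, fixSMul, dif_pos rfl, fixSMul, dif_pos rfl]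
    by_cases ht : t = 0
    · subst ht
      rw [mul_zero, fixSMul_of_ne act hs, fixSMul, dif_pos rfl, map_zero]
    rw [fixSMul_of_ne act hs, fixSMul_of_ne act ht, fixSMul_of_ne act (mul_ne_zero hs ht), diagH_mul s t hs ht, act_mul])
  smul_zero t := Subtype.ext (by
    show fixSMul act t (0 : A) = 0
    by_cases ht : t = 0
    · rw [fixSMul, dif_pos ht]
    · rw [fixSMul_of_ne act ht, map_zero])
  smul_add t y z := Subtype.ext (by
    show fixSMul act t (y.1 + z.1) = fixSMul act t y.1 + fixSMul act t z.1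
    by_cases ht : t = 0
    · simp only [fixSMul, dif_pos ht, add_zero]
    · simp only [fixSMul_of_ne act ht, map_add])
  add_smul s t y := Subtype.ext (fixSMul_add hrel h2 y.2 s t)
  zero_smul y := Subtype.ext (by
    show fixSMul act 0 y.1 = 0
    rw [fixSMul, dif_pos rfl])

/-- Such a module is a direct sum of natural modules. -/
theorem fpf_decompose [Finite F] [Finite A] :
    ∃ (k : ℕ) (θ : (Fin k → Fin 2 → F) ≃+ A),
      ∀ (g : SL(2, F)) v, act g (θ v) = θ (fun i => (g : Matrix (Fin 2) (Fin 2) F) *ᵥ v i) := by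
  letI := fixModule hrel h2
  haveI : Module.Finite F (upFix act) := Module.Finite.of_finite
  let B := Module.finBasis F (upFix act)
  obtain ⟨k, hk⟩ : ∃ k, k = Module.finrank F (upFix act) := ⟨_, rfl⟩
  obtain ⟨e, -⟩ : ∃ e : upFix act ≃ₗ[F] (Fin (Module.finrank F (upFix act)) → F), e = B.equivFun := ⟨_, rfl⟩
  subst hk
  let w : SL(2, F) := weyl 1 one_ne_zero
  let θ₀ : (Fin (Module.finrank F (upFix act)) → Fin 2 → F) →+ A :=
    AddMonoidHom.mk' (fun v => ((e.symm fun i => v i 0 : upFix act) : A) + act w ((e.symm fun i => v i 1 : upFix act) : A))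
      fun a b => by
        rw [show (fun i => (a + b) i 0) = (fun i => a i 0) + fun i => b i 0 from rfl,
          show (fun i => (a + b) i 1) = (fun i => a i 1) + fun i => b i 1 from rfl, map_add, map_add,
          AddSubgroup.coe_add, AddSubgroup.coe_add, map_add]
        exact add_add_add_comm _ _ _ _
  have hinj : Function.Injective θ₀ := by
    rw [injective_iff_map_eq_zero]
    intro v hv
    have hv' : ((e.symm fun i => v i 0 : upFix act) : A) + act w ((e.symm fun i => v i 1 : upFix act) : A) = 0 + 0 := by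
      rw [add_zero]; exact hv
    obtain ⟨h0, h1⟩ := fix_unique hrel h2 (e.symm fun i => v i 0).2 (AddSubgroup.zero_mem _)
      (upFix_weyl act (e.symm fun i => v i 1).2 1 one_ne_zero) (AddSubgroup.zero_mem _) hv'
    have h1' : ((e.symm fun i => v i 1 : upFix act) : A) = 0 := by
      rw [← weyl_one_inv act ((e.symm fun i => v i 1 : upFix act) : A), h1, map_zero]
    have e0 : (fun i => v i 0) = 0 := e.symm.map_eq_zero_iff.1 (Subtype.ext h0)
    have e1 : (fun i => v i 1) = 0 := e.symm.map_eq_zero_iff.1 (Subtype.ext h1')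
    funext i j
    fin_cases j
    · exact congrFun e0 i
    · exact congrFun e1 i
  have hsurj : Function.Surjective θ₀ := fun a => by
    obtain ⟨b, hb, c, hc, rfl⟩ := fix_top hrel h2 a
    refine ⟨fun i => ![e ⟨b, hb⟩ i, e ⟨act w c, loFix_weyl act hc 1 one_ne_zero⟩ i], ?_⟩
    show ((e.symm (e ⟨b, hb⟩) : upFix act) : A) + act w ((e.symm (e ⟨act w c, loFix_weyl act hc 1 one_ne_zero⟩) : upFix act) : A) = b + c
    rw [e.symm_apply_apply, e.symm_apply_apply, weyl_one_inv act c]
  refine ⟨_, AddEquiv.ofBijective θ₀ ⟨hinj, hsurj⟩, fun g v => ?_⟩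
  show act g (θ₀ v) = θ₀ fun i => (g : Matrix (Fin 2) (Fin 2) F) *ᵥ v i
  let K : Subgroup SL(2, F) :=
    { carrier := {g | ∀ v, act g (θ₀ v) = θ₀ fun i => (g : Matrix (Fin 2) (Fin 2) F) *ᵥ v i}
      one_mem' := fun v => by rw [act_one]; simp
      mul_mem' := fun {a b} ha hb v => by
        rw [act_mul, hb, ha]; congr 1; funext i; exact mulVec_mulVec _ _ _
      inv_mem' := fun {a} ha v => by
        have h1 := ha fun i => ((a⁻¹ : SL(2, F)) : Matrix (Fin 2) (Fin 2) F) *ᵥ v i
        have h2' : (fun i => (a : Matrix (Fin 2) (Fin 2) F) *ᵥ (((a⁻¹ : SL(2, F)) : Matrix (Fin 2) (Fin 2) F) *ᵥ v i)) = v :=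
          funext fun i => (mulVec_mulVec _ _ _).trans ((congrArg (fun m : SL(2, F) => (m : Matrix (Fin 2) (Fin 2) F) *ᵥ v i) (mul_inv_cancel a)).trans (one_mulVec _))
        rw [h2'] at h1
        conv_lhs => rw [← h1, ← act_mul, inv_mul_cancel, act_one] }
  refine mem_of_up_weyl K (fun t v => ?_) (fun v => ?_) g v
  · have e0 : (fun i => (((upU t : SL(2, F)) : Matrix (Fin 2) (Fin 2) F) *ᵥ v i) 0) = (fun i => v i 0) + t • fun i => v i 1 := by
      funext i; simp [coe_upU, Matrix.mulVec, dotProduct, Fin.sum_univ_two]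
    have e1 : (fun i => (((upU t : SL(2, F)) : Matrix (Fin 2) (Fin 2) F) *ᵥ v i) 1) = fun i => v i 1 := by
      funext i; simp [coe_upU, Matrix.mulVec, dotProduct, Fin.sum_univ_two]
    show act (upU t) (_ + act w _) = ((e.symm _ : upFix act) : A) + act w ((e.symm _ : upFix act) : A)
    rw [e0, e1, map_add e.symm, map_smul e.symm, map_add, (e.symm fun i => v i 0).2 t,
      upU_weyl_fix hrel h2 (e.symm fun i => v i 1).2 t, AddSubgroup.coe_add]
    show _ = ((e.symm fun i => v i 0 : upFix act) : A) + fixSMul act t (e.symm fun i => v i 1).1 + _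
    abel
  · have e0 : (fun i => (((weyl (1 : F) one_ne_zero : SL(2, F)) : Matrix (Fin 2) (Fin 2) F) *ᵥ v i) 0) = fun i => v i 1 := by
      funext i; simp [coe_weyl, Matrix.mulVec, dotProduct, Fin.sum_univ_two]
    have e1 : (fun i => (((weyl (1 : F) one_ne_zero : SL(2, F)) : Matrix (Fin 2) (Fin 2) F) *ᵥ v i) 1) = fun i => v i 0 := by
      funext i; simp [coe_weyl, Matrix.mulVec, dotProduct, Fin.sum_univ_two, CharTwo.neg_eq]
    show act w (_ + act w _) = ((e.symm _ : upFix act) : A) + act w ((e.symm _ : upFix act) : A)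
    rw [e0, e1, map_add (act w), weyl_one_inv act, add_comm]

end

/-- The exponent is two. -/
theorem fpf_exponent_two [Finite F] [Finite A] (hrel : ThreeRel act) (h4 : ∀ a : A, (a + a) + (a + a) = 0)
    (hF : ∃ t : F, t ≠ 0 ∧ t ≠ 1) : ∀ a : A, a + a = 0 := by
  classical
  -- the elements of order two
  let M : AddSubgroup A :=
    { carrier := {a | a + a = 0}
      zero_mem' := add_zero 0
      add_mem' := fun {a b} ha hb => by
        show a + b + (a + b) = 0
        rw [add_add_add_comm, show a + a = 0 from ha, show b + b = 0 from hb, add_zero]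
      neg_mem' := fun {a} ha => by show -a + -a = 0; rw [← neg_add, show a + a = 0 from ha, neg_zero] }
  have hMinv : ∀ g, ∀ a ∈ M, act g a ∈ M := fun g a ha => by
    show act g a + act g a = 0
    rw [← map_add, show a + a = 0 from ha, map_zero]
  let actM : SL(2, F) →* AddMonoid.End M :=
    { toFun := fun g => AddMonoidHom.mk' (fun a => (⟨act g a.1, hMinv g a.1 a.2⟩ : M)) fun a b => Subtype.ext (map_add _ _ _)
      map_one' := DFunLike.ext _ _ fun a => Subtype.ext (act_one act a.1)
      map_mul' := fun g h => DFunLike.ext _ _ fun a => Subtype.ext (act_mul act g h a.1) }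
  have hrelM : ThreeRel actM := fun s hs a => Subtype.ext (hrel s hs a.1)
  have h2M : ∀ a : M, a + a = 0 := fun a => Subtype.ext a.2
  intro a
  by_contra hne
  -- a nonzero fixed square
  let B : AddSubgroup A := (nsmulAddMonoidHom (α := A) 2).range
  let σ : Multiplicative F →* Equiv.Perm B :=
    { toFun := fun t =>
        { toFun := fun b => ⟨act (upU (Multiplicative.toAdd t)) b.1, by
            obtain ⟨y, hy⟩ := b.2
            exact ⟨act _ y, by rw [← hy]; exact (map_nsmul _ _ _).symm⟩⟩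
          invFun := fun b => ⟨act (upU (-Multiplicative.toAdd t)) b.1, by
            obtain ⟨y, hy⟩ := b.2
            exact ⟨act _ y, by rw [← hy]; exact (map_nsmul _ _ _).symm⟩⟩
          left_inv := fun b => Subtype.ext (by
            show act _ (act _ b.1) = b.1
            rw [← act_mul, ← upU_add, neg_add_cancel, upU_zero, act_one])
          right_inv := fun b => Subtype.ext (by
            show act _ (act _ b.1) = b.1
            rw [← act_mul, ← upU_add, add_neg_cancel, upU_zero, act_one]) }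
      map_one' := Equiv.ext fun b => Subtype.ext (by show act (upU (0 : F)) b.1 = b.1; rw [upU_zero, act_one])
      map_mul' := fun s t => Equiv.ext fun b => Subtype.ext (by
        show act (upU (_ + _)) b.1 = act _ (act _ b.1); rw [upU_add, act_mul]) }
  letI : MulAction (Multiplicative F) B := MulAction.compHom _ σ
  haveI := Fintype.ofFinite F
  haveI : Fact (Nat.Prime 2) := ⟨Nat.prime_two⟩
  obtain ⟨n, -, hn⟩ := FiniteField.card F 2
  have hP : IsPGroup 2 (Multiplicative F) := IsPGroup.of_card (n := n) (by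
    rw [Nat.card_congr Multiplicative.toAdd, Nat.card_eq_fintype_card, hn])
  have hdvd : 2 ∣ Nat.card B := by
    have h1 : addOrderOf (⟨a + a, a, two_nsmul a⟩ : B) = 2 := addOrderOf_eq_prime
      (Subtype.ext (by show 2 • (a + a) = 0; rw [two_nsmul]; exact h4 a)) fun h => hne (congrArg Subtype.val h)
    exact h1 ▸ addOrderOf_dvd_natCard _
  have h0 : (0 : B) ∈ MulAction.fixedPoints (Multiplicative F) B := fun t => Subtype.ext (map_zero _)
  obtain ⟨⟨q, x, hx⟩, hq, hq0⟩ := hP.exists_fixed_point_of_prime_dvd_card_of_fixed_point B hdvd h0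
  have hqx : x + x = q := by rw [← hx]; exact (two_nsmul x).symm
  have hqfix : ∀ t, act (upU t) q = q := fun t => congrArg Subtype.val (hq (Multiplicative.ofAdd t))
  have hqM : q ∈ M := by show q + q = 0; rw [← hqx]; exact h4 x
  letI := fixModule hrelM h2M
  have hqW : (⟨q, hqM⟩ : M) ∈ upFix actM := fun t => Subtype.ext (hqfix t)
  obtain ⟨f, hf⟩ : ∃ f : F → A, ∀ r, f r = act (upU r) x - x := ⟨_, fun _ => rfl⟩
  have hfM : ∀ r, f r ∈ M := fun r => by
    show f r + f r = 0
    rw [hf, sub_add_sub_comm, ← map_add, hqx, hqfix, sub_self]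
  have hup : ∀ r, act (upU r) x = x + f r := fun r => by rw [hf, add_sub_cancel]
  have hfW : ∀ r, (⟨f r, hfM r⟩ : M) ∈ upFix actM := fun r => by
    obtain ⟨b, hb, c, hc, hbc⟩ := fix_top hrelM h2M ⟨f r, hfM r⟩
    by_cases hr : r = 0
    · have : (⟨f r, hfM r⟩ : M) = 0 := Subtype.ext (by show f r = 0; rw [hf, hr, upU_zero, act_one, sub_self])
      rw [this]; exact AddSubgroup.zero_mem _
    have h1 : actM (upU r) ⟨f r, hfM r⟩ = ⟨f r, hfM r⟩ := Subtype.ext (by
      show act (upU r) (f r) = f r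
      have h3 : act (upU r) (act (upU r) x) = x := by rw [← act_mul, upU_mul_self, act_one]
      rw [hup, map_add, hup, add_assoc] at h3
      have h4' : f r + act (upU r) (f r) = 0 := by simpa using h3
      rw [eq_neg_of_add_eq_zero_right h4', neg_eq_of_add_eq_zero_left (hfM r)])
    rw [← hbc, map_add, hb r, upU_loFix hrelM h2M hc r hr, ← add_assoc] at h1
    have h3 : actM (weyl r hr) c = 0 := left_eq_add.1 h1.symm
    have h5 : c = 0 := by
      have := congrArg (actM (weyl r hr)⁻¹) h3
      rwa [map_zero, ← act_mul, inv_mul_cancel, act_one] at this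
    rw [← hbc, h5, add_zero]; exact hb
  obtain ⟨fW, hfW'⟩ : ∃ fW : F → upFix actM, ∀ r, fW r = ⟨⟨f r, hfM r⟩, hfW r⟩ := ⟨_, fun _ => rfl⟩
  have hffix : ∀ r t, act (upU t) (f r) = f r := fun r t => congrArg Subtype.val (hfW r t)
  have hfadd : ∀ r r', fW (r + r') = fW r + fW r' := fun r r' => by
    rw [hfW', hfW', hfW']
    refine Subtype.ext (Subtype.ext ?_)
    show f (r + r') = f r + f r'
    have h1 : act (upU (r + r')) x = x + f r + f r' := by
      rw [upU_add, act_mul, hup r', map_add, hup r, hffix r' r]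
    rw [hup (r + r'), add_assoc] at h1
    exact add_left_cancel h1
  have hneg : ∀ {m : A}, m ∈ M → -m = m := fun {m} hm => neg_eq_of_add_eq_zero_left hm
  have hlo : ∀ (s : F) (hs : s ≠ 0), act (loU s) x = -x - act (weyl s⁻¹ (inv_ne_zero hs)) x - f s⁻¹ := by
    intro s hs
    have h := hrel s⁻¹ (inv_ne_zero hs) x
    rw [three_sq _ (inv_ne_zero hs), inv_inv, act_mul, act_mul, hup, map_add] at h
    have h' := hrel s⁻¹ (inv_ne_zero hs) (f s⁻¹)
    rw [three_sq _ (inv_ne_zero hs), inv_inv, act_mul, act_mul, hffix] at h'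
    rw [weyl_up, inv_inv, act_mul, act_mul, hup, map_add, map_add]
    obtain ⟨D, hD⟩ : ∃ D, D = act (loU s) (f s⁻¹) := ⟨_, rfl⟩
    have hD2 : D + D = 0 := hD ▸ hMinv _ _ (hfM _)
    rw [← hD] at h h' ⊢
    generalize act (loU s) x = E at h ⊢
    generalize act (upU s⁻¹) E = P at h ⊢
    generalize act (upU s⁻¹) D = R at h' ⊢
    calc E = -x - (P + R) - f s⁻¹ + ((x + P + (E + D)) + (f s⁻¹ + R + D) - (D + D)) := by abel
      _ = _ := by rw [h, h', hD2]; abel
  obtain ⟨z, hz⟩ : ∃ z, z = act (weyl 1 one_ne_zero) x := ⟨_, rfl⟩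
  have hA : ∀ (s : F) (hs : s ≠ 0),
      act (upU s) z = -z - act (diagH s hs) x - act (weyl 1 one_ne_zero) (f s⁻¹) := fun s hs => by
    rw [hz, ← act_mul, upU_weyl_one, act_mul, hlo s hs, map_sub, map_sub, map_neg, ← act_mul (act := act) (weyl 1 _) (weyl s⁻¹ _),
      (weyl_one_mul_weyl s hs).1]
  have hA1 : act (upU 1) z = -z - x - act (weyl 1 one_ne_zero) (f 1) := by
    have := hA 1 one_ne_zero
    rwa [diagH_one, act_one, inv_one] at this
  have hweq : ∀ (t : F) (y : upFix actM), act (upU t) (act (weyl 1 one_ne_zero) y.1.1) =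
      act (weyl 1 one_ne_zero) y.1.1 + (t • y).1.1 := fun t y =>
    congrArg Subtype.val (upU_weyl_fix hrelM h2M y.2 t)
  have hsm : ∀ (t : F) (ht : t ≠ 0) (y : upFix actM), (t • y).1.1 = act (diagH t ht) y.1.1 := fun t ht y =>
    congrArg Subtype.val (fixSMul_of_ne actM ht y.1)
  have heq : ∀ s : F, s ≠ 0 →
      fW s + s • fW 1 = s • fW (s⁻¹ * s⁻¹) + fW s⁻¹ + (s + 1) • (⟨⟨q, hqM⟩, hqW⟩ : upFix actM) := by
    intro s hs
    have hcomm : act (upU s) (act (upU 1) z) = act (upU 1) (act (upU s) z) := by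
      rw [← act_mul, ← act_mul, ← upU_add, ← upU_add, add_comm]
    have w1 := hweq s (fW 1)
    have w2 := hweq 1 (fW s⁻¹)
    have d1 : act (upU 1) (act (diagH s hs) x) = act (diagH s hs) x + (s • fW (s⁻¹ * s⁻¹)).1.1 := by
      rw [← act_mul, upU_diagH, act_mul, hup, map_add, hsm s hs, hfW', one_mul]
    rw [one_smul, hfW'] at w2
    rw [hfW'] at w1
    rw [hA1, hA s hs, map_sub, map_sub, map_sub, map_sub, map_neg, map_neg, hA s hs, hA1, hup, d1] at hcomm
    have w1' : act (upU s) (act (weyl 1 one_ne_zero) (f 1)) = act (weyl 1 one_ne_zero) (f 1) + (s • fW 1).1.1 := by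
      rw [hfW']; exact w1
    rw [w1', show act (upU 1) (act (weyl 1 one_ne_zero) (f s⁻¹)) = act (weyl 1 one_ne_zero) (f s⁻¹) + f s⁻¹ from w2] at hcomm
    have hqq : ((s + 1) • (⟨⟨q, hqM⟩, hqW⟩ : upFix actM)).1.1 = (act (diagH s hs) x + act (diagH s hs) x) + (x + x) := by
      rw [add_smul, one_smul, AddSubgroup.coe_add, AddSubgroup.coe_add, hsm s hs, ← map_add, hqx]
    refine Subtype.ext (Subtype.ext ?_)
    rw [AddSubgroup.coe_add, AddSubgroup.coe_add, AddSubgroup.coe_add, AddSubgroup.coe_add, AddSubgroup.coe_add, AddSubgroup.coe_add, hqq, hfW' s, hfW' s⁻¹]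
    show f s + (s • fW 1).1.1 = (s • fW (s⁻¹ * s⁻¹)).1.1 + f s⁻¹ + (_ + (x + x))
    have hR : act (weyl 1 one_ne_zero) (f 1) + act (weyl 1 one_ne_zero) (f 1) = 0 := hMinv _ _ (hfM 1)
    have hR' : act (weyl 1 one_ne_zero) (f s⁻¹) + act (weyl 1 one_ne_zero) (f s⁻¹) = 0 := hMinv _ _ (hfM _)
    have hxx : (x + x) + (x + x) = 0 := h4 x
    generalize (s • fW 1).1.1 = b at hcomm ⊢
    generalize (s • fW (s⁻¹ * s⁻¹)).1.1 = c at hcomm ⊢
    generalize act (weyl 1 one_ne_zero) (f 1) = R at hcomm hR ⊢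
    generalize act (weyl 1 one_ne_zero) (f s⁻¹) = R' at hcomm hR' ⊢
    generalize act (diagH s hs) x = P at hcomm ⊢
    generalize f s = a at hcomm ⊢
    generalize f s⁻¹ = d at hcomm ⊢
    have hxneg : -(x + x) = x + x := neg_eq_of_add_eq_zero_left hxx
    calc a + b = c + d + (P + P) + -(x + x) + (R' + R') - (R + R)
          + ((-(-z - x - R) - (P + c) - (R' + d)) - (-(-z - P - R') - (x + a) - (R + b))) := by abel
      _ = c + d + (P + P + (x + x)) := by
          rw [hcomm, sub_self, hxneg, hR, hR']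
          abel
  obtain ⟨t, ht0, ht1⟩ := hF
  have hfin := functional_eq fW hfadd ⟨⟨q, hqM⟩, hqW⟩ heq t ht0
  have hne1 : (1 : F) + t⁻¹ ≠ 0 := fun h => ht1 (by
    have h' := eq_neg_of_add_eq_zero_right h
    rw [CharTwo.neg_eq, inv_eq_one] at h'
    exact h')
  have hq00 := (smul_eq_zero.1 hfin).resolve_left hne1
  exact hq0 (Subtype.ext (congrArg (fun y : upFix actM => y.1.1) hq00).symm)

end CfsgLib.LocalEvenB
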