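import Cfsg.Prelude.Def_Blocks
import Cfsg.Agent.Lib.Char.Gallagher
import Cfsg.Agent.Lib.Char.CliffordCorr
import Cfsg.Agent.Lib.Char.FrobeniusGroup
import Cfsg.Agent.Lib.Char.Burnside
import Cfsg.Agent.Lib.CharDegree.Basic
import Cfsg.Agent.Lib.CharDegree.ClassTwoDegree
import Cfsg.Agent.Lib.CharDegree.ItoMichler
import Mathlib.GroupTheory.Sylow

/-!
# Bounded character degrees give an abelian subgroup of bounded index

A subgroup carrying a character of the largest degree `b` supports it on its normal core, so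
either the degree drops on a centralizer of index at most `b²`, or the relevant quotient is small.
-/

set_option autoImplicit false

namespace CfsgLib.LocalEvenB.IsaacsPassman

open CfsgLib.Char CfsgLib.Clifford CfsgLib.CharDegree
open scoped ComplexConjugate

universe u

/-- All irreducible character degrees are at most `b`. -/
def DegLE (G : Type u) [Group G] (b : ℕ) : Prop :=
  ∀ χ : Cfsg.IrrCharacter G, Cfsg.charDegree (χ : G → ℂ) ≤ b

theorem DegLE.mono {G : Type u} [Group G] {b c : ℕ} (h : DegLE G b) (hbc : b ≤ c) : DegLE G c :=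
  fun χ => (h χ).trans hbc

variable {G : Type u} [Group G] [Fintype G] {b : ℕ}

theorem conj_mul_self_linear {A : Type u} [Group A] [Finite A] (l : A →* ℂˣ) (a : A) :
    (l a : ℂ) * conj (l a : ℂ) = 1 := by
  have h := IsIrr.map_inv (isIrrCharacter_linear l) a
  rw [← h, ← Units.val_mul, ← map_mul, mul_inv_cancel, map_one, Units.val_one]

theorem isIrr_linear_mul {A : Type u} [Group A] [Fintype A] (l : A →* ℂˣ) {θ : A → ℂ}
    (hθ : Cfsg.IsIrrCharacter A θ) : Cfsg.IsIrrCharacter A (fun a => (l a : ℂ) * θ a) := by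
  refine IsChar.isIrr_of_classInner_eq_one
    (IsChar.mul (IsIrr.isCharacter (isIrrCharacter_linear l)) (IsIrr.isCharacter hθ)) ?_
  rw [← classInner_irr_self ⟨θ, hθ⟩]
  unfold Cfsg.classInner
  congr 1
  refine Finset.sum_congr rfl fun a _ => ?_
  rw [map_mul]
  linear_combination θ a * conj (θ a) * conj_mul_self_linear l a

theorem exists_over (H : Subgroup G) [Fintype H] (θ : Cfsg.IrrCharacter H) :
    ∃ χ : Cfsg.IrrCharacter G,
      Cfsg.classInner (fun h : H => (χ : G → ℂ) h) (θ : H → ℂ) ≠ 0 := by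
  have hne : Cfsg.indFun H (θ : H → ℂ) ≠ 0 := fun h => by
    have h1 := congrFun h 1
    rw [indFun_apply_one, Pi.zero_apply] at h1
    exact (mul_ne_zero (Nat.cast_ne_zero.2 H.index_ne_zero_of_finite)
      (IsIrr.apply_one_ne_zero θ.2)) h1
  obtain ⟨χ, hχ⟩ := exists_constituent (isClassFunction_indFun H _) hne
  refine ⟨χ, fun h => hχ ?_⟩
  rw [frobenius_reciprocity H _ (IsIrr.isClassFunction χ.2), ← classInner_conj_symm, h, map_zero]

theorem restrict_eq (hG : DegLE G b) (H : Subgroup G) [Fintype H] (θ : Cfsg.IrrCharacter H)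
    (hb : b ≤ Cfsg.charDegree (θ : H → ℂ)) (χ : Cfsg.IrrCharacter G)
    (hc : Cfsg.classInner (fun h : H => (χ : G → ℂ) h) (θ : H → ℂ) ≠ 0) :
    (fun h : H => (χ : G → ℂ) h) = (θ : H → ℂ) :=
  eq_irr_of_degree_le (IsChar.restrict H (IsIrr.isCharacter χ.2)) θ hc
    (show (χ : G → ℂ) (1 : H) = _ from (cast_irrDegree χ).symm) (cast_irrDegree θ).symm
    ((hG χ).trans hb)

theorem degree_le (hG : DegLE G b) (H : Subgroup G) [Fintype H] (θ : Cfsg.IrrCharacter H) :
    Cfsg.charDegree (θ : H → ℂ) ≤ b := by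
  by_contra hlt
  obtain ⟨χ, hc⟩ := exists_over H θ
  have h := congrFun (restrict_eq hG H θ (Nat.le_of_lt (not_le.1 hlt)) χ hc) 1
  simp only [OneMemClass.coe_one] at h
  rw [← cast_irrDegree, ← cast_irrDegree, Nat.cast_inj] at h
  exact hlt (h ▸ hG χ)

theorem exists_degree_eq (hG : DegLE G b) (H : Subgroup G) [Fintype H]
    (hH : ¬ DegLE H (b - 1)) :
    ∃ θ : Cfsg.IrrCharacter H, Cfsg.charDegree (θ : H → ℂ) = b := by
  simp only [DegLE, not_forall, not_le] at hH
  obtain ⟨θ, hθ⟩ := hH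
  exact ⟨θ, le_antisymm (degree_le hG H θ) (by omega)⟩

theorem exists_extension (hG : DegLE G b) (H : Subgroup G) [Fintype H] (θ : Cfsg.IrrCharacter H)
    (hb : Cfsg.charDegree (θ : H → ℂ) = b) :
    ∃ χ : Cfsg.IrrCharacter G, (∀ h : H, (χ : G → ℂ) h = (θ : H → ℂ) h) ∧
      Cfsg.charDegree (χ : G → ℂ) = b := by
  obtain ⟨χ, hc⟩ := exists_over H θ
  have h := restrict_eq hG H θ hb.ge χ hc
  refine ⟨χ, congrFun h, ?_⟩
  have h1 := congrFun h 1
  simp only [OneMemClass.coe_one] at h1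
  rw [← cast_irrDegree, ← cast_irrDegree, Nat.cast_inj] at h1
  exact h1.trans hb

/-- A character of the largest degree is supported on the normal core. -/
theorem mem_normalCore_of_ne_zero (hG : DegLE G b) (H : Subgroup G) [Fintype H]
    (θ : Cfsg.IrrCharacter H) (hb : Cfsg.charDegree (θ : H → ℂ) = b) (h : H)
    (hne : (θ : H → ℂ) h ≠ 0) : (h : G) ∈ H.normalCore := by
  classical
  have := Fintype.ofFinite (Cfsg.IrrCharacter G)
  set Φ := Cfsg.indFun H (θ : H → ℂ) with hΦ
  have hexp := classFunction_apply_eq_sum (isClassFunction_indFun H (θ : H → ℂ))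
  have hres : ∀ k : H, Φ k = (∑ χ : Cfsg.IrrCharacter G, Cfsg.classInner Φ (χ : G → ℂ)) *
      (θ : H → ℂ) k := by
    intro k
    rw [hΦ, hexp, Finset.sum_mul]
    refine Finset.sum_congr rfl fun χ _ => ?_
    by_cases hc : Cfsg.classInner (Cfsg.indFun H (θ : H → ℂ)) (χ : G → ℂ) = 0
    · rw [hc, zero_mul, zero_mul]
    · refine congrArg _ (congrFun (restrict_eq hG H θ hb.ge χ fun h0 => hc ?_) k)
      rw [frobenius_reciprocity H _ (IsIrr.isClassFunction χ.2), ← classInner_conj_symm, h0,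
        map_zero]
  have hsum : (∑ χ : Cfsg.IrrCharacter G, Cfsg.classInner Φ (χ : G → ℂ)) = (H.index : ℂ) := by
    have h1 := hres 1
    rw [hΦ, OneMemClass.coe_one, indFun_apply_one] at h1
    exact (mul_right_cancel₀ (IsIrr.apply_one_ne_zero θ.2) h1).symm
  obtain ⟨χ, hχ, -⟩ := exists_extension hG H θ hb
  let S := Finset.univ.filter fun x : G => x⁻¹ * h * x ∈ H
  have hval : Φ h = (Nat.card H : ℂ)⁻¹ * (S.card * (θ : H → ℂ) h) := by
    rw [hΦ, Cfsg.indFun]
    congr 1
    rw [← nsmul_eq_mul, ← Finset.sum_const, Finset.sum_filter]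
    refine Finset.sum_congr rfl fun x _ => ?_
    split_ifs with hx
    · rw [extendByZero_of_mem H _ hx, ← hχ, ← hχ]
      have := IsIrr.isClassFunction χ.2 (h : G) x⁻¹
      rwa [inv_inv] at this
    · exact extendByZero_of_notMem H _ hx
  rw [hres, hsum] at hval
  have hH0 : (Nat.card H : ℂ) ≠ 0 := Nat.cast_ne_zero.2 Nat.card_pos.ne'
  have h3 : ((Nat.card H * H.index : ℕ) : ℂ) = (S.card : ℂ) := by
    push_cast
    refine mul_right_cancel₀ hne ?_
    rw [mul_assoc, hval, ← mul_assoc (Nat.card H : ℂ), mul_inv_cancel₀ hH0, one_mul]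
  rw [Nat.cast_inj, H.card_mul_index, Nat.card_eq_fintype_card] at h3
  have hall := Finset.eq_univ_of_card S h3.symm
  intro g
  have := (Finset.mem_filter.1 (hall ▸ Finset.mem_univ g⁻¹ : g⁻¹ ∈ S)).2
  rwa [inv_inv] at this

/-- The norm of the restriction to a normal subgroup divides the square of the degree. -/
theorem norm_restrict_dvd (N : Subgroup G) [Fintype N] (hN : N.Normal)
    (χ : Cfsg.IrrCharacter G) :
    ∃ n : ℕ, n ∣ Cfsg.charDegree (χ : G → ℂ) ^ 2 ∧
      Cfsg.classInner (fun m : N => (χ : G → ℂ) m) (fun m : N => (χ : G → ℂ) m) = (n : ℂ) := by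
  classical
  have hr := IsChar.restrict N (IsIrr.isCharacter χ.2)
  obtain ⟨η, hη⟩ := exists_constituent (IsChar.isClassFunction hr) fun h =>
    IsIrr.apply_one_ne_zero χ.2 (by simpa using congrFun h 1)
  obtain ⟨c, hc⟩ := IsChar.classInner_eq_natCast hr (IsIrr.isCharacter η.2)
  set T := inertia hN (η : N → ℂ) with hT
  refine ⟨c * c * T.index, ?_, ?_⟩
  · have hd := degree_eq hN η.2 χ.2 hη
    rw [hc, ← cast_irrDegree, ← cast_irrDegree, ← Nat.cast_mul, ← Nat.cast_mul,
      Nat.cast_inj, ← hT] at hd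
    exact ⟨T.index * Cfsg.charDegree (η : N → ℂ) ^ 2, by rw [hd]; ring⟩
  · have hres := restrict_eq_smul_orbit_sum hN χ.2 η.2 hη
    rw [hres, classInner_smul_left, classInner_smul_right, classInner_sum_left, hc, map_natCast]
    rw [Finset.sum_congr rfl (g := fun _ => (1 : ℂ)), Finset.sum_const, nsmul_eq_mul, mul_one,
      (show (Finset.univ.image (conjFn hN (η : N → ℂ))).card = T.index by
        convert card_orbit hN (η : N → ℂ))]
    · push_cast
      ring
    intro φ hφ
    rw [classInner_sum_right, Finset.sum_eq_single φ]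
    · obtain ⟨g, -, rfl⟩ := Finset.mem_image.1 hφ
      exact classInner_irr_self ⟨_, isIrrCharacter_conjFn hN η.2 g⟩
    · intro ψ hψ hne
      obtain ⟨g, -, rfl⟩ := Finset.mem_image.1 hφ
      obtain ⟨g', -, rfl⟩ := Finset.mem_image.1 hψ
      exact classInner_irr_of_ne (χ := ⟨_, isIrrCharacter_conjFn hN η.2 g⟩)
        (ψ := ⟨_, isIrrCharacter_conjFn hN η.2 g'⟩) fun e => hne (congrArg Subtype.val e).symm
    · exact fun h => absurd hφ h

/-- If a character of degree `b` of `H ≥ N` vanishes outside `N`, then `|H : N|` divides `b²`. -/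
theorem card_eq_of_support (hG : DegLE G b) (H N : Subgroup G) [Fintype H] [Fintype N]
    (hN : N.Normal) (hle : N ≤ H) (θ : Cfsg.IrrCharacter H)
    (hb : Cfsg.charDegree (θ : H → ℂ) = b)
    (hsupp : ∀ h : H, (θ : H → ℂ) h ≠ 0 → (h : G) ∈ N) :
    ∃ n : ℕ, n ∣ b ^ 2 ∧ Nat.card H = Nat.card N * n := by
  obtain ⟨χ, hχ, hdeg⟩ := exists_extension hG H θ hb
  obtain ⟨n, hn, hval⟩ := norm_restrict_dvd N hN χ
  refine ⟨n, hdeg ▸ hn, ?_⟩
  have hsum : ∑ m : N, (χ : G → ℂ) m * conj ((χ : G → ℂ) m) =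
      ∑ h : H, (θ : H → ℂ) h * conj ((θ : H → ℂ) h) := by
    refine Fintype.sum_of_injective (Subgroup.inclusion hle) (Subgroup.inclusion_injective hle)
      _ _ (fun h hh => ?_) fun m => ?_
    · rw [mul_eq_zero]
      left
      by_contra h0
      exact hh ⟨⟨(h : G), hsupp h h0⟩, Subtype.ext rfl⟩
    · rw [← hχ, Subgroup.coe_inclusion]
  have h1 := classInner_irr_self θ
  unfold Cfsg.classInner at h1 hval
  rw [inv_mul_eq_iff_eq_mul₀ (Nat.cast_ne_zero.2 Nat.card_pos.ne')] at h1 hval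
  rw [hsum, h1, mul_one, ← Nat.cast_mul, Nat.cast_inj] at hval
  exact hval

/-- A proper normal subgroup with nonabelian quotient has degrees at most half. -/
theorem degLE_half (hG : DegLE G b) (N : Subgroup G) [N.Normal] [Fintype N]
    (hψ : ∃ ψ : Cfsg.IrrCharacter (G ⧸ N), 2 ≤ Cfsg.charDegree (ψ : G ⧸ N → ℂ)) :
    DegLE N (b / 2) := by
  intro η
  by_contra hlt
  obtain ⟨ψ, hψ⟩ := hψ
  obtain ⟨χ, hc⟩ := exists_over N η
  have hr := IsChar.restrict N (IsIrr.isCharacter χ.2)
  obtain ⟨c, hcc⟩ := IsChar.classInner_eq_natCast hr (IsIrr.isCharacter η.2)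
  have hd := degree_eq inferInstance η.2 χ.2 hc
  rw [hcc, ← cast_irrDegree, ← cast_irrDegree, ← Nat.cast_mul, ← Nat.cast_mul, Nat.cast_inj] at hd
  have hb2 : Cfsg.charDegree (χ : G → ℂ) ≤ b := hG χ
  have hpos := charDegree_pos η
  have h2 : b < 2 * Cfsg.charDegree (η : N → ℂ) := by omega
  have hle : Cfsg.charDegree (χ : G → ℂ) ≤ Cfsg.charDegree (η : N → ℂ) := by
    rw [hd]
    have : c * (inertia (inferInstance : N.Normal) (η : N → ℂ)).index < 2 :=
      Nat.lt_of_mul_lt_mul_right (a := Cfsg.charDegree (η : N → ℂ)) (by omega)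
    calc _ ≤ 1 * Cfsg.charDegree (η : N → ℂ) := Nat.mul_le_mul_right _ (by omega)
      _ = _ := one_mul _
  have hres : (fun m : N => (χ : G → ℂ) m) = (η : N → ℂ) :=
    eq_irr_of_degree_le hr η hc (show (χ : G → ℂ) (1 : N) = _ from (cast_irrDegree χ).symm)
      (cast_irrDegree η).symm hle
  have hirr := Gallagher.isIrr_twistBy (IsIrr.isCharacter χ.2) (hres ▸ η.2) ψ
  have hdeg : Cfsg.charDegree (Gallagher.twistBy (χ : G → ℂ) (ψ : G ⧸ N → ℂ)) =
      Cfsg.charDegree (ψ : G ⧸ N → ℂ) * Cfsg.charDegree (η : N → ℂ) := by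
    refine charDegree_eq_of_apply_one ?_
    have h1 := congrFun hres 1
    simp only [OneMemClass.coe_one] at h1
    rw [Gallagher.twistBy_apply, map_one, h1, ← cast_irrDegree, ← cast_irrDegree, Nat.cast_mul]
  have hle' : Cfsg.charDegree (Gallagher.twistBy (χ : G → ℂ) (ψ : G ⧸ N → ℂ)) ≤ b :=
    hG ⟨_, hirr⟩
  rw [hdeg] at hle'
  nlinarith

theorem degLE_quotient (hG : DegLE G b) (N : Subgroup G) [N.Normal] : DegLE (G ⧸ N) b :=
  fun ψ => hG (infl N ψ)

theorem card_comap (N : Subgroup G) [N.Normal] (K : Subgroup (G ⧸ N)) :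
    Nat.card (K.comap (QuotientGroup.mk' N)) = Nat.card N * Nat.card K := by
  have h1 := (K.comap (QuotientGroup.mk' N)).card_mul_index
  rw [K.index_comap_of_surjective (QuotientGroup.mk'_surjective N), ← N.card_mul_index,
    show N.index = Nat.card (G ⧸ N) from rfl, ← K.card_mul_index, ← mul_assoc] at h1
  exact Nat.eq_of_mul_eq_mul_right (Nat.pos_of_ne_zero K.index_ne_zero_of_finite) h1

/-- A core-free subgroup of the quotient: either the degree drops or its order divides `b²`. -/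
theorem drop_or_dvd (hG : DegLE G b) (N : Subgroup G) [N.Normal] (K : Subgroup (G ⧸ N))
    (hcore : K.normalCore = ⊥) :
    DegLE (K.comap (QuotientGroup.mk' N)) (b - 1) ∨ Nat.card K ∣ b ^ 2 := by
  classical
  rw [or_iff_not_imp_left]
  intro hH
  obtain ⟨θ, hθ⟩ := exists_degree_eq hG _ hH
  obtain ⟨n, hn, hcard⟩ := card_eq_of_support hG _ N inferInstance
    (fun x hx => by
      rw [Subgroup.mem_comap, QuotientGroup.mk'_apply, (QuotientGroup.eq_one_iff x).2 hx]
      exact K.one_mem) θ hθ fun h hne => by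
      have h1 := mem_normalCore_of_ne_zero hG _ θ hθ h hne
      have h2 : QuotientGroup.mk' N (h : G) ∈ K.normalCore := by
        intro a
        obtain ⟨g, rfl⟩ := QuotientGroup.mk'_surjective N a
        rw [← map_inv, ← map_mul, ← map_mul]
        exact h1 g
      rw [hcore, Subgroup.mem_bot] at h2
      exact (QuotientGroup.eq_one_iff _).1 h2
  rw [card_comap] at hcard
  exact Nat.eq_of_mul_eq_mul_left Nat.card_pos hcard ▸ hn

theorem exists_small_class {Q : Type u} [Group Q] [Finite Q] [Nontrivial Q] (hQ : DegLE Q b) :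
    ∃ x : Q, x ≠ 1 ∧ (Subgroup.centralizer ({x} : Set Q)).index ≤ b ^ 2 := by
  classical
  haveI := Fintype.ofFinite Q
  haveI := Fintype.ofFinite (Cfsg.IrrCharacter Q)
  haveI := Fintype.ofFinite (ConjClasses Q)
  by_contra! hall
  have hsq : Nat.card Q = ∑ χ : Cfsg.IrrCharacter Q, Cfsg.charDegree (χ : Q → ℂ) ^ 2 := by
    apply Nat.cast_injective (R := ℂ)
    rw [← sum_sq_degree]
    simp [cast_irrDegree]
  have hle : Nat.card Q ≤ 1 + (Fintype.card (Cfsg.IrrCharacter Q) - 1) * b ^ 2 := by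
    rw [hsq, ← Finset.add_sum_erase _ _ (Finset.mem_univ (trivChar Q))]
    refine Nat.add_le_add ?_ ((Finset.sum_le_card_nsmul _ _ (b ^ 2) fun χ _ =>
      Nat.pow_le_pow_left (hQ χ) 2).trans ?_)
    · rw [show ((trivChar Q : Cfsg.IrrCharacter Q) : Q → ℂ) = fun _ => 1 from rfl, charDegree_one,
        one_pow]
    · rw [Finset.card_erase_of_mem (Finset.mem_univ _), smul_eq_mul, Finset.card_univ]
  have hk : Fintype.card (Cfsg.IrrCharacter Q) = Fintype.card (ConjClasses Q) := by
    rw [← Nat.card_eq_fintype_card, ← Nat.card_eq_fintype_card, card_irrCharacter]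
  have hcl : 1 + (Fintype.card (ConjClasses Q) - 1) * (b ^ 2 + 1) ≤ Nat.card Q := by
    have hs : ∑ C : ConjClasses Q, Nat.card C.carrier = Nat.card Q := by
      have := sum_conjClasses_card_eq_card Q
      rw [Nat.card_eq_fintype_card, ← this]
      exact Finset.sum_congr rfl fun C _ => by rw [Nat.card_eq_fintype_card, Set.toFinset_card]
    rw [← hs, ← Finset.add_sum_erase _ _ (Finset.mem_univ (ConjClasses.mk (1 : Q)))]
    refine Nat.add_le_add ?_ (le_trans ?_ (Finset.card_nsmul_le_sum _ _ (b ^ 2 + 1) ?_))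
    · rw [card_carrier_eq_index]
      exact Nat.pos_of_ne_zero (Subgroup.index_ne_zero_of_finite)
    · rw [Finset.card_erase_of_mem (Finset.mem_univ _), smul_eq_mul, Finset.card_univ]
    · intro C hC
      obtain ⟨x, rfl⟩ := ConjClasses.exists_rep C
      rw [card_carrier_eq_index]
      exact hall x fun h => Finset.ne_of_mem_erase hC (by rw [h])
  have h2 : 2 ≤ Fintype.card (ConjClasses Q) := by
    obtain ⟨x, hx⟩ := exists_ne (1 : Q)
    exact Fintype.one_lt_card_iff.2 ⟨ConjClasses.mk 1, ConjClasses.mk x, fun e =>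
      hx (isConj_one_right.1 (ConjClasses.mk_eq_mk_iff_isConj.1 e))⟩
  rw [hk] at hle
  rw [mul_add, mul_one] at hcl
  omega

end CfsgLib.LocalEvenB.IsaacsPassman
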