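import Cfsg.Agent.Lib.LocalEvenB.IsaacsPassman

/-!
# The degree-reduction step for bounded character degrees
-/

set_option autoImplicit false

namespace CfsgLib.LocalEvenB.IsaacsPassman

open CfsgLib.Char CfsgLib.Clifford CfsgLib.CharDegree
open scoped ComplexConjugate commutatorElement

universe u

variable {G : Type u} [Group G] [Fintype G] {b : ℕ}

/-- A subgroup on which the degree is smaller, with index small enough for the induction. -/
def Step (G : Type u) [Group G] (b : ℕ) : Prop :=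
  ∃ (H : Subgroup G) (d : ℕ), d < b ∧ DegLE H d ∧
    H.index * d.factorial ^ 2 ≤ b.factorial ^ 2

theorem step_of_pred (H : Subgroup G) (hb : 0 < b) (hi : H.index ≤ b ^ 2)
    (hd : DegLE H (b - 1)) : Step G b := by
  refine ⟨H, b - 1, Nat.sub_lt hb one_pos, hd, ?_⟩
  calc H.index * (b - 1).factorial ^ 2 ≤ b ^ 2 * (b - 1).factorial ^ 2 :=
        Nat.mul_le_mul_right _ hi
    _ = b.factorial ^ 2 := by rw [← mul_pow, Nat.mul_factorial_pred hb.ne']

theorem step_of_comap {N : Subgroup G} [N.Normal] (K : Subgroup (G ⧸ N)) (hb : 0 < b)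
    (hi : K.index ≤ b ^ 2) (hd : DegLE (K.comap (QuotientGroup.mk' N)) (b - 1)) : Step G b :=
  step_of_pred _ hb (by rwa [K.index_comap_of_surjective (QuotientGroup.mk'_surjective N)]) hd

theorem mul_factorial_half {b : ℕ} (h : 5 ≤ b) : b ^ 2 * (b / 2).factorial ≤ b.factorial := by
  rcases Nat.lt_or_ge b 6 with h6 | h6
  · obtain rfl : b = 5 := by omega
    decide
  obtain ⟨k, rfl⟩ : ∃ k, b = k + 3 := ⟨b - 3, by omega⟩
  have h1 : ((k + 3) / 2).factorial ≤ k.factorial := Nat.factorial_le (by omega)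
  rw [Nat.factorial_succ, Nat.factorial_succ, Nat.factorial_succ]
  calc (k + 3) ^ 2 * ((k + 3) / 2).factorial
      ≤ (k + 3) * ((k + 2) * (k + 1)) * k.factorial := by
        refine Nat.mul_le_mul ?_ h1
        rw [sq]
        exact Nat.mul_le_mul_left _ (by nlinarith)
    _ = _ := by ring

theorem step_of_card {N : Subgroup G} [N.Normal] (hb : 2 ≤ b) (hd : DegLE N (b / 2))
    (hi : Nat.card (G ⧸ N) * (b / 2).factorial ^ 2 ≤ b.factorial ^ 2) : Step G b :=
  ⟨N, b / 2, Nat.div_lt_self (by omega) one_lt_two, hd, hi⟩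

theorem step_of_card_le {N : Subgroup G} [N.Normal] (hb : 5 ≤ b) (hd : DegLE N (b / 2))
    (hi : Nat.card (G ⧸ N) ≤ b ^ 4) : Step G b := by
  refine step_of_card (by omega) hd ?_
  calc Nat.card (G ⧸ N) * (b / 2).factorial ^ 2 ≤ (b ^ 2) ^ 2 * (b / 2).factorial ^ 2 := by
        rw [← pow_mul]; exact Nat.mul_le_mul_right _ hi
    _ ≤ b.factorial ^ 2 := by
        rw [← mul_pow]; exact Nat.pow_le_pow_left (mul_factorial_half hb) 2

section Quot

variable {Q : Type u} [Group Q]

/-- Every nontrivial normal subgroup contains the derived group. -/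
def OnlyNormal (Q : Type u) [Group Q] : Prop :=
  ∀ M : Subgroup Q, M.Normal → M ≠ ⊥ → commutator Q ≤ M

theorem OnlyNormal.normalCore_centralizer (hQ : OnlyNormal Q) {x : Q}
    (hx : x ∉ Subgroup.centralizer (commutator Q : Set Q)) :
    (Subgroup.centralizer ({x} : Set Q)).normalCore = ⊥ := by
  by_contra h
  refine hx (Subgroup.mem_centralizer_iff.2 fun l hl => ?_)
  exact Subgroup.mem_centralizer_singleton_iff.1
    (Subgroup.normalCore_le _ (hQ _ inferInstance h hl))

theorem comm_mem (a c : Q) : a * c * a⁻¹ * c⁻¹ ∈ commutator Q :=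
  Subgroup.commutator_mem_commutator (Subgroup.mem_top a) (Subgroup.mem_top c)

theorem OnlyNormal.inf_centralizer (hQ : OnlyNormal Q)
    (hab : ∀ a ∈ commutator Q, ∀ c ∈ commutator Q, a * c = c * a) {y : Q}
    (hy : y ∉ Subgroup.centralizer (commutator Q : Set Q)) :
    commutator Q ⊓ Subgroup.centralizer ({y} : Set Q) = ⊥ := by
  by_contra hne
  have hnor : (commutator Q ⊓ Subgroup.centralizer ({y} : Set Q)).Normal := ⟨fun c hc g => by
    obtain ⟨hcL, hcy⟩ := Subgroup.mem_inf.1 hc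
    rw [Subgroup.mem_centralizer_singleton_iff] at hcy
    refine Subgroup.mem_inf.2 ⟨(inferInstance : (commutator Q).Normal).conj_mem c hcL g, ?_⟩
    rw [Subgroup.mem_centralizer_singleton_iff]
    obtain ⟨l, hl, hly⟩ : ∃ l ∈ commutator Q, g⁻¹ * y * g = l * y :=
      ⟨g⁻¹ * y * g * y⁻¹, by simpa using comm_mem g⁻¹ y, by group⟩
    have hcom : c * (l * y) = l * y * c := by
      rw [← mul_assoc, hab c hcL l hl, mul_assoc, hcy, ← mul_assoc]
    rw [← hly] at hcom
    calc g * c * g⁻¹ * y = g * (c * (g⁻¹ * y * g)) * g⁻¹ := by group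
      _ = g * (g⁻¹ * y * g * c) * g⁻¹ := by rw [hcom]
      _ = y * (g * c * g⁻¹) := by group⟩
  exact hy (Subgroup.mem_centralizer_iff.2 fun l hl => Subgroup.mem_centralizer_singleton_iff.1
    (Subgroup.mem_inf.1 (hQ _ hnor hne hl)).2)

theorem index_centralizer_le [Finite Q] (y : Q) :
    (Subgroup.centralizer ({y} : Set Q)).index ≤ Nat.card (commutator Q) := by
  rw [← card_carrier_eq_index]
  refine Nat.card_le_card_of_injective (fun g => ⟨g.1 * y⁻¹, ?_⟩) fun g g' h =>
    Subtype.ext (mul_right_cancel (congrArg Subtype.val h))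
  obtain ⟨c, hc⟩ := isConj_iff.1 (ConjClasses.mk_eq_mk_iff_isConj.1
    (ConjClasses.mem_carrier_iff_mk_eq.1 g.2)).symm
  rw [← hc]
  exact comm_mem c y

theorem commutator_lt_self {L : Subgroup Q} [Group.IsSolvable L] (hL : L ≠ ⊥) : ⁅L, L⁆ < L := by
  haveI := L.nontrivial_iff_ne_bot.2 hL
  have h := Subgroup.map_subtype_lt_map_subtype.2
    (Group.IsSolvable.commutator_lt_top_of_nontrivial (G := L))
  rwa [commutator_def, Subgroup.map_commutator, ← MonoidHom.range_eq_map,
    Subgroup.range_subtype] at h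

theorem solvable_comm [Finite Q] (hQ : OnlyNormal Q) (hL : commutator Q ≠ ⊥) (S : Subgroup Q)
    (hS : Group.IsSolvable S) (hle : commutator Q ≤ S) :
    ∀ a ∈ commutator Q, ∀ c ∈ commutator Q, a * c = c * a := by
  have : Group.IsSolvable (commutator Q) :=
    solvable_of_solvable_injective (Subgroup.inclusion_injective hle)
  have hlt : ⁅commutator Q, commutator Q⁆ < commutator Q := commutator_lt_self hL
  have hbot : ⁅commutator Q, commutator Q⁆ = ⊥ := by
    by_contra h
    exact hlt.not_ge (hQ _ (Subgroup.commutator_normal _ _) h)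
  intro a ha c hc
  have h1 := Subgroup.commutator_mem_commutator ha hc
  rw [hbot, Subgroup.mem_bot] at h1
  exact (commutatorElement_eq_one_iff_mul_comm).1 h1

theorem solvable_comm_card [Finite Q] (hQ : OnlyNormal Q) (hL : commutator Q ≠ ⊥) {p q a c : ℕ}
    (hp : p.Prime) (hq : q.Prime) (S : Subgroup Q) (hS : Nat.card S = p ^ a * q ^ c)
    (hle : commutator Q ≤ S) :
    ∀ a ∈ commutator Q, ∀ c ∈ commutator Q, a * c = c * a :=
  solvable_comm hQ hL S (CfsgLib.Burnside.isSolvable_of_card_eq hp hq hS) hle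

end Quot

variable {N : Subgroup G} [N.Normal]

theorem step_center (hG : DegLE G b) (hQ : OnlyNormal (G ⧸ N))
    (ψ : Cfsg.IrrCharacter (G ⧸ N)) (hψ : 2 ≤ Cfsg.charDegree (ψ : G ⧸ N → ℂ))
    (hZ : Subgroup.center (G ⧸ N) ≠ ⊥) : Step G b := by
  classical
  set Z := Subgroup.center (G ⧸ N) with hZdef
  set q := Cfsg.charDegree (ψ : G ⧸ N → ℂ) with hq
  have hLZ : commutator (G ⧸ N) ≤ Z := hQ Z inferInstance hZ
  have hker : CharDegree.kerSubgroup ψ = ⊥ := by
    by_contra h
    have h1 := hQ _ (kerSubgroup_normal ψ) h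
    have h2 := (charDegree_eq_one_iff_commutator ψ).2 fun g hg => mem_kerSubgroup.1 (h1 hg)
    omega
  have hvan : ∀ g ∉ Z, (ψ : G ⧸ N → ℂ) g = 0 := by
    intro g hg
    rw [hZdef, Subgroup.mem_center_iff] at hg
    push Not at hg
    obtain ⟨h, hh⟩ := hg
    refine SmallLinear.apply_eq_zero_of_comm ψ (hLZ (comm_mem h g)) fun he => hh ?_
    have h1 : h * g * h⁻¹ * g⁻¹ ∈ CharDegree.kerSubgroup ψ := mem_kerSubgroup.2 he
    rwa [hker, Subgroup.mem_bot, mul_inv_eq_one, mul_inv_eq_iff_eq_mul] at h1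
  have hcard : q ^ 2 * Nat.card Z = Nat.card (G ⧸ N) :=
    SmallLinear.sq_degree_mul_card ψ Z hvan fun z hz => hz
  have hb : q ≤ b := degLE_quotient hG N ψ
  have hidx : Z.index = q ^ 2 := by
    have h := Z.card_mul_index
    rw [← hcard, mul_comm (q ^ 2)] at h
    exact Nat.eq_of_mul_eq_mul_left Nat.card_pos h
  refine step_of_comap Z (by omega) (hidx ▸ Nat.pow_le_pow_left hb 2) ?_
  by_contra hH
  set H := Z.comap (QuotientGroup.mk' N) with hHdef
  obtain ⟨θ, hθ⟩ := exists_degree_eq hG H hH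
  obtain ⟨χ, hχ, hdeg⟩ := exists_extension hG H θ hθ
  have hsq : ∀ h : H, (ψ : G ⧸ N → ℂ) (QuotientGroup.mk' N h) *
      conj ((ψ : G ⧸ N → ℂ) (QuotientGroup.mk' N h)) = (q : ℂ) ^ 2 := by
    intro h
    obtain ⟨c, hc⟩ := SmallLinear.exists_centralScalar ψ (show QuotientGroup.mk' N h ∈ Z from h.2)
    set z := QuotientGroup.mk' N (h : G)
    have h2 : (ψ : G ⧸ N → ℂ) z = c * (q : ℂ) := by
      rw [hq, cast_irrDegree, ← hc 1, mul_one]
    have h3 := hc z⁻¹
    rw [mul_inv_cancel, IsIrr.map_inv ψ.2, h2, ← cast_irrDegree, ← hq, map_mul, map_natCast]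
      at h3
    rw [h2, map_mul, map_natCast]
    linear_combination (-(q : ℂ)) * h3
  have hirr : Cfsg.IsIrrCharacter G (Gallagher.twistBy (χ : G → ℂ) (ψ : G ⧸ N → ℂ)) := by
    refine IsChar.isIrr_of_classInner_eq_one
      (Gallagher.isCharacter_twistBy (IsIrr.isCharacter χ.2) (IsIrr.isCharacter ψ.2)) ?_
    have hsum : ∑ g : G, Gallagher.twistBy (χ : G → ℂ) (ψ : G ⧸ N → ℂ) g *
        conj (Gallagher.twistBy (χ : G → ℂ) (ψ : G ⧸ N → ℂ) g) =
        (q : ℂ) ^ 2 * ∑ h : H, (θ : H → ℂ) h * conj ((θ : H → ℂ) h) := by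
      rw [Finset.mul_sum]
      refine (Fintype.sum_of_injective (fun h : H => (h : G)) Subtype.val_injective _ _
        (fun g hg => ?_) fun h => ?_).symm
      · have hgZ : QuotientGroup.mk' N g ∉ Z := fun hz => hg ⟨⟨g, hz⟩, rfl⟩
        rw [Gallagher.twistBy_apply, hvan _ hgZ, zero_mul, zero_mul]
      · rw [Gallagher.twistBy_apply, map_mul, hχ, ← hsq h]
        ring
    have h1 := classInner_irr_self θ
    unfold Cfsg.classInner at h1 ⊢
    rw [inv_mul_eq_iff_eq_mul₀ (Nat.cast_ne_zero.2 Nat.card_pos.ne'), mul_one] at h1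
    rw [hsum, h1, inv_mul_eq_iff_eq_mul₀ (Nat.cast_ne_zero.2 Nat.card_pos.ne'), mul_one,
      ← Nat.cast_pow, ← Nat.cast_mul, Nat.cast_inj, hHdef, card_comap,
      N.card_eq_card_quotient_mul_card_subgroup, ← hcard]
    ring
  have hd : Cfsg.charDegree (Gallagher.twistBy (χ : G → ℂ) (ψ : G ⧸ N → ℂ)) = q * b := by
    refine charDegree_eq_of_apply_one ?_
    rw [Gallagher.twistBy_apply, map_one, ← cast_irrDegree, ← cast_irrDegree, ← hq, hdeg,
      Nat.cast_mul]
  have hle : Cfsg.charDegree (Gallagher.twistBy (χ : G → ℂ) (ψ : G ⧸ N → ℂ)) ≤ b := hG ⟨_, hirr⟩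
  rw [hd] at hle
  nlinarith

theorem two_prime_pow_of_small {b : ℕ} (hb : 2 ≤ b) (hb4 : b < 5) :
    ∃ l k : ℕ, l.Prime ∧ b ^ 2 = l ^ k := by
  interval_cases b
  · exact ⟨2, 2, Nat.prime_two, rfl⟩
  · exact ⟨3, 2, Nat.prime_three, rfl⟩
  · exact ⟨2, 4, Nat.prime_two, rfl⟩

theorem step_abelian (hG : DegLE G b) (hQ : OnlyNormal (G ⧸ N)) (hb : 2 ≤ b)
    (hN : DegLE N (b / 2)) (hZ : Subgroup.center (G ⧸ N) = ⊥)
    (hL : commutator (G ⧸ N) ≠ ⊥)
    (hab : ∀ a ∈ commutator (G ⧸ N), ∀ c ∈ commutator (G ⧸ N), a * c = c * a) : Step G b := by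
  classical
  set L := commutator (G ⧸ N) with hLdef
  have hLnor : L.Normal := inferInstance
  obtain ⟨y, hy⟩ : ∃ y : G ⧸ N, y ∉ Subgroup.centralizer (L : Set (G ⧸ N)) := by
    by_contra! hall
    obtain ⟨⟨l, hl⟩, hl'⟩ := L.ne_bot_iff_exists_ne_one.1 hL
    have hl1 : l ≠ 1 := fun e => hl' (Subtype.ext e)
    have : l ∈ Subgroup.center (G ⧸ N) := Subgroup.mem_center_iff.2 fun g =>
      (Subgroup.mem_centralizer_iff.1 (hall g) l hl).symm
    rw [hZ, Subgroup.mem_bot] at this
    exact hl1 this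
  set C := Subgroup.centralizer ({y} : Set (G ⧸ N)) with hCdef
  have hcore : C.normalCore = ⊥ := hQ.normalCore_centralizer hy
  have hLC : L ⊓ C = ⊥ := hQ.inf_centralizer hab hy
  have hy1 : y ≠ 1 := fun h => hy (h ▸ Subgroup.one_mem _)
  have hcompl : Subgroup.IsComplement' L C := by
    refine Subgroup.isComplement'_of_card_mul_and_disjoint ?_ (disjoint_iff.2 hLC)
    refine le_antisymm ?_ ?_
    · rw [← Nat.card_prod]
      refine Nat.card_le_card_of_injective (fun p => (p.1 : G ⧸ N) * p.2) fun p p' h => ?_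
      simp only at h
      have h1 : (p'.1 : G ⧸ N)⁻¹ * p.1 ∈ L ⊓ C := by
        refine ⟨L.mul_mem (L.inv_mem p'.1.2) p.1.2, ?_⟩
        rw [show (p'.1 : G ⧸ N)⁻¹ * p.1 = p'.2 * (p.2 : G ⧸ N)⁻¹ by
          rw [eq_mul_inv_iff_mul_eq, mul_assoc, inv_mul_eq_iff_eq_mul]; exact h]
        exact C.mul_mem p'.2.2 (C.inv_mem p.2.2)
      rw [hLC, Subgroup.mem_bot, inv_mul_eq_one] at h1
      exact Prod.ext (Subtype.ext h1.symm) (Subtype.ext (by rw [h1] at h; exact mul_left_cancel h))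
    · calc Nat.card (G ⧸ N) = C.index * Nat.card C := C.index_mul_card.symm
        _ ≤ Nat.card L * Nat.card C := Nat.mul_le_mul_right _ (index_centralizer_le y)
  have hidxL : L.index = Nat.card C := hcompl.symm.index_eq_card
  have hidxC : C.index = Nat.card L := hcompl.index_eq_card
  have hdec : ∀ g : G ⧸ N, ∃ l ∈ L, ∃ c ∈ C, g = l * c := fun g => by
    obtain ⟨⟨l, c⟩, hlc⟩ := hcompl.2 g
    exact ⟨l, l.2, c, c.2, hlc.symm⟩
  have hCcomm : ∀ a ∈ C, ∀ c ∈ C, a * c = c * a := by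
    intro a ha c hc
    have h : a * c * a⁻¹ * c⁻¹ ∈ L ⊓ C := ⟨comm_mem a c,
      C.mul_mem (C.mul_mem (C.mul_mem ha hc) (C.inv_mem ha)) (C.inv_mem hc)⟩
    rwa [hLC, Subgroup.mem_bot, mul_inv_eq_one, mul_inv_eq_iff_eq_mul] at h
  have hCK : ∀ c ∈ C, c ≠ 1 → c ∉ Subgroup.centralizer (L : Set (G ⧸ N)) := by
    intro c hc hc1 hcK
    refine hc1 ?_
    have h : c ∈ Subgroup.center (G ⧸ N) := Subgroup.mem_center_iff.2 fun g => by
      obtain ⟨l, hl, d, hd, rfl⟩ := hdec g
      rw [mul_assoc, hCcomm d hd c hc, ← mul_assoc,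
        Subgroup.mem_centralizer_iff.1 hcK l hl, mul_assoc]
    rwa [hZ, Subgroup.mem_bot] at h
  haveI : Fintype L := Fintype.ofFinite _
  have hLab : ∀ a c : L, a * c = c * a := fun a c => Subtype.ext (hab a a.2 c c.2)
  have hlin : ∀ χ : Cfsg.IrrCharacter L, ∃ l : L →* ℂˣ, (χ : L → ℂ) = fun x => (l x : ℂ) :=
    fun χ => exists_hom_of_degree_one χ (charDegree_of_comm hLab χ)
  have hLb : L.index ≤ b := by
    obtain ⟨τ, hτ1, hτne⟩ := exists_linear_ne_one (G := L) fun h => by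
      have : commutator L = ⊥ := by
        rw [commutator_def, Subgroup.commutator_eq_bot_iff_le_centralizer]
        exact fun a _ => Subgroup.mem_centralizer_iff.2 fun c _ => (hLab c a)
      rw [this] at h
      haveI : Nontrivial L := L.nontrivial_iff_ne_bot.2 hL
      exact bot_ne_top h
    have hirr := Frobenius.isIrrCharacter_indFun hLnor hLC hcompl.sup_eq_top
      (fun c hc hc1 k hk hck => by
        have h : k ∈ L ⊓ Subgroup.centralizer ({c} : Set (G ⧸ N)) :=
          ⟨hk, Subgroup.mem_centralizer_singleton_iff.2 hck.symm⟩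
        rwa [hQ.inf_centralizer hab (hCK c hc hc1), Subgroup.mem_bot] at h) τ.2 hτne
    have hd : Cfsg.charDegree (Cfsg.indFun L (τ : L → ℂ)) = L.index := by
      refine charDegree_eq_of_apply_one ?_
      rw [indFun_apply_one, (charDegree_eq_one_iff τ).1 hτ1, mul_one]
    exact hd ▸ degLE_quotient hG N ⟨_, hirr⟩
  by_cases hH : DegLE (L.comap (QuotientGroup.mk' N)) (b - 1)
  · exact step_of_comap L (by omega) (hLb.trans (Nat.le_self_pow two_ne_zero b)) hH
  set H := L.comap (QuotientGroup.mk' N) with hHdef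
  obtain ⟨θ, hθ⟩ := exists_degree_eq hG H hH
  have hsupp : ∀ h : H, (θ : H → ℂ) h ≠ 0 → (h : G) ∈ N := by
    intro h hne
    refine (QuotientGroup.eq_one_iff _).1 ?_
    have hz : QuotientGroup.mk' N (h : G) ∈ Subgroup.center (G ⧸ N) := by
      refine Subgroup.mem_center_iff.2 fun q => ?_
      obtain ⟨g, rfl⟩ := QuotientGroup.mk'_surjective N q
      have hgh : g * h * g⁻¹ ∈ H := (hLnor.comap _).conj_mem _ h.2 g
      let π : H →* L := ((QuotientGroup.mk' N).comp H.subtype).codRestrict L fun x => x.2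
      have hsame : π ⟨_, hgh⟩ = π h := by
        refine isConj_comm hLab (isConj_of_forall_irr fun χ => ?_)
        obtain ⟨l, hl⟩ := hlin χ
        rw [hl]
        let θ' : Cfsg.IrrCharacter H := ⟨_, isIrr_linear_mul (l.comp π) θ.2⟩
        have hθ' : Cfsg.charDegree (θ' : H → ℂ) = b := by
          refine charDegree_eq_of_apply_one ?_
          show ((l.comp π) 1 : ℂ) * (θ : H → ℂ) 1 = _
          rw [map_one, Units.val_one, one_mul, ← cast_irrDegree, hθ]
        obtain ⟨χ₁, h₁, -⟩ := exists_extension hG H θ hθ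
        obtain ⟨χ₂, h₂, -⟩ := exists_extension hG H θ' hθ'
        have e1 : (θ : H → ℂ) ⟨_, hgh⟩ = (θ : H → ℂ) h := by
          rw [← h₁, ← h₁]
          exact IsIrr.isClassFunction χ₁.2 _ g
        have e2 : (θ' : H → ℂ) ⟨_, hgh⟩ = (θ' : H → ℂ) h := by
          rw [← h₂, ← h₂]
          exact IsIrr.isClassFunction χ₂.2 _ g
        change (l (π ⟨_, hgh⟩) : ℂ) * _ = (l (π h) : ℂ) * _ at e2
        rw [e1] at e2
        exact mul_right_cancel₀ hne e2
      have h2 : QuotientGroup.mk' N (g * h * g⁻¹) = QuotientGroup.mk' N h :=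
        congrArg Subtype.val hsame
      rwa [map_mul, map_mul, map_inv, mul_inv_eq_iff_eq_mul] at h2
    rw [hZ, Subgroup.mem_bot] at hz
    exact hz
  obtain ⟨n, hn, hcard⟩ := card_eq_of_support hG H N inferInstance
    (fun x hx => by
      rw [hHdef, Subgroup.mem_comap, QuotientGroup.mk'_apply, (QuotientGroup.eq_one_iff x).2 hx]
      exact L.one_mem) θ hθ hsupp
  rw [hHdef, card_comap] at hcard
  have hLdvd : Nat.card L ∣ b ^ 2 := Nat.eq_of_mul_eq_mul_left Nat.card_pos hcard ▸ hn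
  have hLle : Nat.card L ≤ b ^ 2 := Nat.le_of_dvd (by positivity) hLdvd
  rcases drop_or_dvd hG N C hcore with hC | hC
  · exact step_of_comap C (by omega) (hidxC ▸ hLle) hC
  have hQcard : Nat.card (G ⧸ N) = Nat.card L * Nat.card C := hcompl.card_mul_card.symm
  rcases Nat.lt_or_ge b 5 with h5 | h5
  · exfalso
    obtain ⟨l, k, hl, hlk⟩ := two_prime_pow_of_small hb h5
    rw [hlk] at hLdvd hC
    obtain ⟨i, -, hi⟩ := (Nat.dvd_prime_pow hl).1 hLdvd
    obtain ⟨j, -, hj⟩ := (Nat.dvd_prime_pow hl).1 hC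
    haveI := Fact.mk hl
    have hp : IsPGroup l (G ⧸ N) := IsPGroup.of_card (n := i + j) (by rw [hQcard, hi, hj, pow_add])
    haveI : Nontrivial (G ⧸ N) := ⟨⟨y, 1, hy1⟩⟩
    exact ((Subgroup.nontrivial_iff_ne_bot _).1 hp.center_nontrivial) hZ
  · refine step_of_card_le h5 hN ?_
    rw [hQcard, show b ^ 4 = b ^ 2 * b ^ 2 by ring]
    exact Nat.mul_le_mul hLle (Nat.le_of_dvd (by positivity) hC)
where
  isConj_comm {A : Type u} [Group A] (hA : ∀ a c : A, a * c = c * a) {a c : A} (h : IsConj a c) :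
      a = c := by
    obtain ⟨g, hg⟩ := isConj_iff.1 h
    rwa [hA g a, mul_inv_cancel_right] at hg

theorem two_prime_or {m : ℕ} (h1 : 1 ≤ m) (h16 : m ≤ 16) :
    m = 15 ∨ ∃ e p a, p.Prime ∧ m = 2 ^ e * p ^ a := by
  interval_cases m
  · exact Or.inr ⟨0, 3, 0, by norm_num⟩
  · exact Or.inr ⟨1, 3, 0, by norm_num⟩
  · exact Or.inr ⟨0, 3, 1, by norm_num⟩
  · exact Or.inr ⟨2, 3, 0, by norm_num⟩
  · exact Or.inr ⟨0, 5, 1, by norm_num⟩
  · exact Or.inr ⟨1, 3, 1, by norm_num⟩
  · exact Or.inr ⟨0, 7, 1, by norm_num⟩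
  · exact Or.inr ⟨3, 3, 0, by norm_num⟩
  · exact Or.inr ⟨0, 3, 2, by norm_num⟩
  · exact Or.inr ⟨1, 5, 1, by norm_num⟩
  · exact Or.inr ⟨0, 11, 1, by norm_num⟩
  · exact Or.inr ⟨2, 3, 1, by norm_num⟩
  · exact Or.inr ⟨0, 13, 1, by norm_num⟩
  · exact Or.inr ⟨1, 7, 1, by norm_num⟩
  · exact Or.inl rfl
  · exact Or.inr ⟨4, 3, 0, by norm_num⟩

theorem three_prime_or {m : ℕ} (h1 : 1 ≤ m) (h9 : m ≤ 9) :
    ∃ e p a, p.Prime ∧ m = 3 ^ e * p ^ a := by
  interval_cases m
  · exact ⟨0, 2, 0, by norm_num⟩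
  · exact ⟨0, 2, 1, by norm_num⟩
  · exact ⟨1, 2, 0, by norm_num⟩
  · exact ⟨0, 2, 2, by norm_num⟩
  · exact ⟨0, 5, 1, by norm_num⟩
  · exact ⟨1, 2, 1, by norm_num⟩
  · exact ⟨0, 7, 1, by norm_num⟩
  · exact ⟨0, 2, 3, by norm_num⟩
  · exact ⟨2, 2, 0, by norm_num⟩

theorem step_nonabelian (hG : DegLE G b) (hQ : OnlyNormal (G ⧸ N)) (hb : 2 ≤ b)
    (hN : DegLE N (b / 2)) (hL : commutator (G ⧸ N) ≠ ⊥)
    (hab : ¬ ∀ a ∈ commutator (G ⧸ N), ∀ c ∈ commutator (G ⧸ N), a * c = c * a) : Step G b := by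
  classical
  haveI : Nontrivial (G ⧸ N) := by
    by_contra hn
    rw [not_nontrivial_iff_subsingleton] at hn
    exact hab fun a _ c _ => Subsingleton.elim _ _
  have hK : Subgroup.centralizer (commutator (G ⧸ N) : Set (G ⧸ N)) = ⊥ := by
    by_contra h
    exact hab fun a ha c hc =>
      (Subgroup.mem_centralizer_iff.1 (hQ _ inferInstance h hc) a ha)
  obtain ⟨x, hx1, hxi⟩ := exists_small_class (degLE_quotient hG N)
  set C := Subgroup.centralizer ({x} : Set (G ⧸ N)) with hCdef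
  have hcore : C.normalCore = ⊥ :=
    hQ.normalCore_centralizer fun h => hx1 (by rwa [hK, Subgroup.mem_bot] at h)
  rcases drop_or_dvd hG N C hcore with hC | hC
  · exact step_of_comap C (by omega) hxi hC
  have hQcard : Nat.card (G ⧸ N) = C.index * Nat.card C := C.index_mul_card.symm
  rcases Nat.lt_or_ge b 5 with h5 | h5
  swap
  · refine step_of_card_le h5 hN ?_
    rw [hQcard, show b ^ 4 = b ^ 2 * b ^ 2 by ring]
    exact Nat.mul_le_mul hxi (Nat.le_of_dvd (by positivity) hC)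
  have hm1 : 1 ≤ C.index := Nat.pos_of_ne_zero C.index_ne_zero_of_finite
  have htwo : ∀ {l p i e a : ℕ}, l.Prime → p.Prime → Nat.card C = l ^ i →
      C.index = l ^ e * p ^ a → False := by
    intro l p i e a hl hp hi he
    refine hab (solvable_comm_card hQ hL hl hp ⊤ (a := e + i) (c := a) ?_ le_top)
    rw [Subgroup.card_top, hQcard, hi, he, pow_add]
    ring
  have hnot3 : b ≠ 3 := fun h => by
    subst h
    obtain ⟨i, -, hi⟩ := (Nat.dvd_prime_pow Nat.prime_three).1 (show Nat.card C ∣ 3 ^ 2 from hC)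
    obtain ⟨e, p, a, hp, he⟩ := three_prime_or hm1 hxi
    exact htwo Nat.prime_three hp hi he
  obtain ⟨i, hi4, hi⟩ := (Nat.dvd_prime_pow Nat.prime_two).1
    (show Nat.card C ∣ 2 ^ 4 from hC.trans (by interval_cases b <;> first | omega | norm_num))
  rcases two_prime_or hm1 (hxi.trans (by interval_cases b <;> norm_num)) with h15 | ⟨e, p, a, hp, he⟩
  swap
  · exact (htwo Nat.prime_two hp hi he).elim
  obtain rfl : b = 4 := by
    rw [h15] at hxi
    interval_cases b <;> omega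
  rcases Nat.lt_or_ge i 4 with hlt | hge
  · refine step_of_card (by norm_num) hN ?_
    rw [hQcard, hi, h15]
    interval_cases i <;> decide
  obtain rfl : i = 4 := le_antisymm hi4 hge
  replace hQcard : Nat.card (G ⧸ N) = 240 := by rw [hQcard, hi, h15]; norm_num
  haveI := Fact.mk (show Nat.Prime 5 by norm_num)
  obtain ⟨P⟩ : Nonempty (Sylow 5 (G ⧸ N)) := inferInstance
  have hP : Nat.card (P : Subgroup (G ⧸ N)) = 5 := by
    rw [P.card_eq_multiplicity, hQcard, show 240 = 5 ^ 1 * 48 by norm_num,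
      Nat.factorization_mul (by norm_num) (by norm_num), Finsupp.add_apply,
      Nat.Prime.factorization_pow (by norm_num), Finsupp.single_eq_same,
      Nat.factorization_eq_zero_of_not_dvd (by norm_num)]
    norm_num
  set K := Subgroup.normalizer ((P : Subgroup (G ⧸ N)) : Set (G ⧸ N)) with hKdef
  have hn : K.index = Nat.card (Sylow 5 (G ⧸ N)) := (P.card_eq_index_normalizer).symm
  have hdvd : Nat.card (Sylow 5 (G ⧸ N)) ∣ 48 := by
    have h := P.card_dvd_index
    have h2 := (P : Subgroup (G ⧸ N)).card_mul_index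
    rw [hP, hQcard] at h2
    rwa [show (P : Subgroup (G ⧸ N)).index = 48 by omega] at h
  have hmod : Nat.card (Sylow 5 (G ⧸ N)) % 5 = 1 := card_sylow_modEq_one 5 (G ⧸ N)
  rw [← hn] at hdvd hmod
  have hKcard := K.card_mul_index
  rw [hQcard] at hKcard
  have hcases : K.index = 1 ∨ K.index = 6 ∨ K.index = 16 := by
    have hle : K.index ≤ 48 := Nat.le_of_dvd (by norm_num) hdvd
    interval_cases h : K.index <;> omega
  rcases hcases with h1 | h6 | h16
  · exfalso
    rw [Subgroup.index_eq_one, hKdef, Subgroup.normalizer_eq_top_iff] at h1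
    refine hab (solvable_comm_card hQ hL (show Nat.Prime 5 by norm_num) Nat.prime_two
      (P : Subgroup (G ⧸ N)) (a := 1) (c := 0) (by rw [hP]; norm_num) (hQ _ h1 fun h => ?_))
    rw [h, Subgroup.card_bot] at hP
    norm_num at hP
  all_goals
    have hcore' : K.normalCore = ⊥ := by
      by_contra h
      refine hab ?_
      first
      | exact solvable_comm_card hQ hL Nat.prime_two (show Nat.Prime 5 by norm_num) K (a := 3)
          (c := 1) (by rw [h6] at hKcard; omega)
          ((hQ _ inferInstance h).trans K.normalCore_le)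
      | exact solvable_comm_card hQ hL Nat.prime_three (show Nat.Prime 5 by norm_num) K (a := 1)
          (c := 1) (by rw [h16] at hKcard; omega)
          ((hQ _ inferInstance h).trans K.normalCore_le)
    rcases drop_or_dvd hG N K hcore' with hK' | hK'
    · exact step_of_comap K (by norm_num) (by omega) hK'
    · exfalso
      have h40 : Nat.card K = 40 ∨ Nat.card K = 15 := by
        first
        | (rw [h6] at hKcard; omega)
        | (rw [h16] at hKcard; omega)
      rcases h40 with h | h <;> rw [h] at hK' <;> norm_num at hK'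

theorem exists_step (hG : DegLE G b) (hne : ∃ a c : G, a * c ≠ c * a) : Step G b := by
  classical
  have hfin : ({M : Subgroup G | M.Normal ∧ ¬ commutator G ≤ M}).Finite := Set.toFinite _
  obtain ⟨a₀, c₀, hac⟩ := hne
  obtain ⟨N, hN⟩ := hfin.exists_maximal ⟨⊥, inferInstance, fun h => hac
    (commutatorElement_eq_one_iff_mul_comm.1 ((Subgroup.mem_bot).1
      (h (Subgroup.commutator_mem_commutator (Subgroup.mem_top a₀) (Subgroup.mem_top c₀)))))⟩
  obtain ⟨hNn, hNc⟩ := hN.1
  have hmap : (commutator G).map (QuotientGroup.mk' N) = commutator (G ⧸ N) := by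
    rw [commutator_def, commutator_def, Subgroup.map_commutator,
      Subgroup.map_top_of_surjective _ (QuotientGroup.mk'_surjective N)]
  have hQ : OnlyNormal (G ⧸ N) := fun M hM hMne => by
    rw [← hmap, Subgroup.map_le_iff_le_comap]
    by_contra hle
    refine hMne (bot_unique fun q hq => ?_)
    obtain ⟨g, rfl⟩ := QuotientGroup.mk'_surjective N q
    have : g ∈ N := hN.2 ⟨hM.comap _, hle⟩ (fun x hx => by
      rw [Subgroup.mem_comap, QuotientGroup.mk'_apply, (QuotientGroup.eq_one_iff x).2 hx]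
      exact M.one_mem) hq
    exact Subgroup.mem_bot.2 ((QuotientGroup.eq_one_iff g).2 this)
  have hL : commutator (G ⧸ N) ≠ ⊥ := fun h => hNc (by
    rw [← hmap, Subgroup.map_eq_bot_iff, QuotientGroup.ker_mk'] at h
    exact h)
  obtain ⟨ψ, hψ⟩ : ∃ ψ : Cfsg.IrrCharacter (G ⧸ N), 2 ≤ Cfsg.charDegree (ψ : G ⧸ N → ℂ) := by
    by_contra! hall
    refine hL ?_
    rw [commutator_def, Subgroup.commutator_eq_bot_iff_le_centralizer]
    exact fun a _ => Subgroup.mem_centralizer_iff.2 fun c _ => comm_of_forall_linear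
      (fun χ => le_antisymm (Nat.le_of_lt_succ (hall χ)) (charDegree_pos χ)) c a
  have hb : 2 ≤ b := hψ.trans (degLE_quotient hG N ψ)
  have hhalf : DegLE N (b / 2) := degLE_half hG N ⟨ψ, hψ⟩
  by_cases hZ : Subgroup.center (G ⧸ N) = ⊥
  · by_cases hab : ∀ a ∈ commutator (G ⧸ N), ∀ c ∈ commutator (G ⧸ N), a * c = c * a
    · exact step_abelian hG hQ hb hhalf hZ hL hab
    · exact step_nonabelian hG hQ hb hhalf hL hab
  · exact step_center hG hQ ψ hψ hZ

theorem exists_abelian_index_le (b : ℕ) : ∀ (G : Type u) [Group G] [Finite G], DegLE G b →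
    ∃ A : Subgroup G, (∀ x ∈ A, ∀ y ∈ A, x * y = y * x) ∧ A.index ≤ b.factorial ^ 2 := by
  induction b using Nat.strong_induction_on with
  | _ b ih =>
    intro G _ _ hG
    haveI := Fintype.ofFinite G
    by_cases hne : ∃ a c : G, a * c ≠ c * a
    swap
    · push Not at hne
      refine ⟨⊤, fun x _ y _ => hne x y, ?_⟩
      rw [Subgroup.index_top]
      exact Nat.one_le_pow _ _ b.factorial_pos
    obtain ⟨H, d, hd, hH, hi⟩ := exists_step hG hne
    obtain ⟨A, hA, hAi⟩ := ih d hd H hH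
    refine ⟨A.map H.subtype, ?_, ?_⟩
    · rintro _ ⟨x, hx, rfl⟩ _ ⟨y, hy, rfl⟩
      exact congrArg Subtype.val (hA x hx y hy)
    · rw [Subgroup.index_map_subtype]
      calc A.index * H.index ≤ d.factorial ^ 2 * H.index := Nat.mul_le_mul_right _ hAi
        _ ≤ _ := by rwa [mul_comm]

end CfsgLib.LocalEvenB.IsaacsPassman
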