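import Cfsg.Prelude.Def_IsolatedElements
import Cfsg.Prelude.Def_SubgroupEmbedding
import Cfsg.Prelude.Def_TwoFusion
import Cfsg.Agent.Lib.LocalEvenB.Basic
import Cfsg.Agent.Lib.Transfer.Fusion
import Cfsg.Agent.Lib.Transfer.Conj
import Mathlib.Data.Nat.Prime.Int
import Mathlib.NumberTheory.Basic
import Mathlib.RingTheory.EuclideanDomain
import Mathlib.RingTheory.Int.Basic

/-!
Isolated `p`-elements: central in every Sylow subgroup containing them, fusion of their powers.
-/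

set_option autoImplicit false

open Cfsg

namespace CfsgLib.LocalEvenB

variable {G : Type*} [Group G] {p : ℕ}

theorem mem_zpowers_pGroup {x : G} (hx : ∃ k : ℕ, orderOf x = p ^ k) : IsPGroup p (Subgroup.zpowers x) := by
  obtain ⟨k, hk⟩ := hx
  exact IsPGroup.of_card (n := k) (by rw [Nat.card_zpowers, hk])

variable [Finite G] [Fact p.Prime]

theorem isolated_commute_sylow {x : G} (hiso : IsIsolated x) (P : Sylow p G) (hxP : x ∈ (P : Subgroup G))
    {y : G} (hy : y ∈ (P : Subgroup G)) : Commute x y := by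
  haveI : Group.IsNilpotent (P : Subgroup G) := P.isPGroup'.isNilpotent
  let C : Subgroup (P : Subgroup G) := (Subgroup.centralizer ({x} : Set G)).subgroupOf (P : Subgroup G)
  have hC : C = ⊤ := by
    by_contra h
    obtain ⟨s, hs, hsC⟩ := SetLike.exists_of_lt (Group.normalizerCondition_of_isNilpotent C (lt_top_iff_ne_top.2 h))
    apply hsC
    have hxC : (⟨x, hxP⟩ : (P : Subgroup G)) ∈ C := Subgroup.mem_centralizer_singleton_iff.2 rfl
    have h1 := Subgroup.mem_centralizer_singleton_iff.1 ((Subgroup.mem_normalizer_iff.1 hs _).1 hxC)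
    have h2 := hiso (s : G) (by simpa [Commute, SemiconjBy] using h1.symm)
    exact Subgroup.mem_centralizer_singleton_iff.2 (mul_inv_eq_iff_eq_mul.1 h2)
  exact (Subgroup.mem_centralizer_singleton_iff.1 (show y ∈ Subgroup.centralizer ({x} : Set G) from
    (hC ▸ Subgroup.mem_top (⟨y, hy⟩ : (P : Subgroup G)) : (⟨y, hy⟩ : (P : Subgroup G)) ∈ C))).symm

theorem isolated_commute_pGroup {x : G} (hiso : IsIsolated x) {R : Subgroup G} (hR : IsPGroup p R)
    (hxR : x ∈ R) {y : G} (hy : y ∈ R) : Commute x y := by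
  obtain ⟨P, hP⟩ := hR.exists_le_sylow
  exact isolated_commute_sylow hiso P (hP hxR) (hP hy)

/-- Any subgroup containing two conjugates of an isolated `p`-element conjugates one to the other. -/
theorem isolated_fuse {x : G} (hx : ∃ k : ℕ, orderOf x = p ^ k) (hiso : IsIsolated x) (K : Subgroup G)
    (hxK : x ∈ K) {g : G} (hg : g * x * g⁻¹ ∈ K) : ∃ k ∈ K, Commute (k * g) x := by
  obtain ⟨T, hT, hTK, hTp, hTi⟩ := CfsgLib.Transfer.exists_sylow_of_le (Subgroup.zpowers_le.2 hxK) (mem_zpowers_pGroup hx)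
  have hconj : IsPGroup p (Subgroup.zpowers (g * x * g⁻¹)) := by
    obtain ⟨k, hk⟩ := hx
    refine mem_zpowers_pGroup ⟨k, ?_⟩
    rw [show g * x * g⁻¹ = MulAut.conj g x from rfl, MulEquiv.orderOf_eq, hk]
  obtain ⟨n, hn, hnT⟩ := CfsgLib.Transfer.exists_conj_le hTp hTi (Subgroup.zpowers_le.2 hg) hconj
  have h1 := hnT _ (Subgroup.mem_zpowers _)
  have h2 := hiso (n⁻¹ * g) (isolated_commute_pGroup hiso hTp (hT (Subgroup.mem_zpowers x))
    (by simpa [mul_assoc] using h1))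
  exact ⟨n⁻¹, K.inv_mem hn, mul_inv_eq_iff_eq_mul.1 h2⟩

/-- A Sylow subgroup containing an isolated element contains exactly one conjugate of each of its powers. -/
theorem isolated_pow_fixed {x : G} (hx : ∃ k : ℕ, orderOf x = p ^ k) (hiso : IsIsolated x) (P : Sylow p G)
    (hxP : x ∈ (P : Subgroup G)) {y : G} (hy : y ∈ Subgroup.zpowers x) {g : G}
    (hg : g * y * g⁻¹ ∈ (P : Subgroup G)) : g * y * g⁻¹ = y := by
  set y' := g * y * g⁻¹ with hy'
  have hxK : x ∈ Subgroup.centralizer ({y'} : Set G) :=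
    Subgroup.mem_centralizer_singleton_iff.2 (isolated_commute_sylow hiso P hxP hg)
  have hgK : g * x * g⁻¹ ∈ Subgroup.centralizer ({y'} : Set G) := by
    rw [Subgroup.mem_centralizer_singleton_iff]
    obtain ⟨i, rfl⟩ := Subgroup.mem_zpowers_iff.1 hy
    rw [hy', ← conj_zpow]
    exact Commute.self_zpow (g * x * g⁻¹) i
  obtain ⟨k, hk, hkg⟩ := isolated_fuse hx hiso _ hxK hgK
  have hkg' : Commute (k * g) y := by
    obtain ⟨i, rfl⟩ := Subgroup.mem_zpowers_iff.1 hy
    exact hkg.zpow_right i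
  have h1 : k * y' * k⁻¹ = y' := mul_inv_eq_iff_eq_mul.2 (Subgroup.mem_centralizer_singleton_iff.1 hk)
  calc y' = k * y' * k⁻¹ := h1.symm
    _ = (k * g) * y * (k * g)⁻¹ := by rw [hy']; group
    _ = y := mul_inv_eq_iff_eq_mul.2 hkg'.eq

/-- An element of order prime to `p` normalising a cyclic `p`-group and fixing a non-identity element centralises it. -/
theorem mem_centralizer_of_cyclic_fixed {Q : Subgroup G} (hQ : IsPGroup p Q) (hc : IsCyclic Q) {g y : G}
    (hgN : g ∈ Subgroup.normalizer (Q : Set G)) (hgo : (orderOf g).Coprime p) (hy : y ∈ Q) (hy1 : y ≠ 1)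
    (hfix : g * y * g⁻¹ = y) : g ∈ Subgroup.centralizer (Q : Set G) := by
  have hp : p.Prime := Fact.out
  obtain ⟨⟨a, ha⟩, hgen⟩ := hc.exists_generator
  have hmem : ∀ z ∈ Q, ∃ i : ℤ, a ^ i = z := fun z hz => by
    obtain ⟨i, hi⟩ := Subgroup.mem_zpowers_iff.1 (hgen ⟨z, hz⟩)
    exact ⟨i, by simpa using congrArg Subtype.val hi⟩
  obtain ⟨r, hr⟩ := hmem _ ((Subgroup.mem_normalizer_iff.1 hgN a).1 ha)
  obtain ⟨i, hi⟩ := hmem y hy
  obtain ⟨n, hn⟩ := hQ ⟨a, ha⟩
  obtain ⟨m, -, hm⟩ := (Nat.dvd_prime_pow hp).1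
    (orderOf_dvd_of_pow_eq_one (show a ^ p ^ n = 1 by simpa [Subtype.ext_iff] using hn))
  have hfix' : a ^ (r * i) = a ^ i := by rw [zpow_mul, hr, conj_zpow, hi, hfix]
  have h1 : ((p ^ m : ℕ) : ℤ) ∣ (r - 1) * i := by
    rw [← hm, orderOf_dvd_iff_zpow_eq_one, sub_mul, zpow_sub, hfix', one_mul, mul_inv_cancel]
  have h2 : (p : ℤ) ∣ r - 1 := by
    by_contra h
    apply hy1
    rw [← hi, ← orderOf_dvd_iff_zpow_eq_one, hm, Nat.cast_pow]
    exact ((Nat.prime_iff_prime_int.1 hp).irreducible.coprime_iff_not_dvd.2 h).pow_left.dvd_of_dvd_mul_left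
      (by simpa using h1)
  have h3 := dvd_sub_pow_of_dvd_sub h2 m
  rw [one_pow] at h3
  have hpow : ∀ k : ℕ, g ^ k * a * (g ^ k)⁻¹ = a ^ (r ^ k) := by
    intro k
    induction k with
    | zero => simp
    | succ k ih =>
      calc g ^ (k + 1) * a * (g ^ (k + 1))⁻¹ = g * (g ^ k * a * (g ^ k)⁻¹) * g⁻¹ := by
            rw [pow_succ']; group
        _ = a ^ (r ^ (k + 1)) := by rw [ih, ← conj_zpow, ← hr, ← zpow_mul, pow_succ']
  have h4 : Commute (g ^ p ^ m) a := by
    refine mul_inv_eq_iff_eq_mul.1 ?_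
    have hd : (orderOf a : ℤ) ∣ r ^ p ^ m - 1 := by
      rw [hm, Nat.cast_pow]; exact (pow_dvd_pow _ (Nat.le_succ m)).trans h3
    rw [hpow, show r ^ p ^ m = 1 + (r ^ p ^ m - 1) by ring, zpow_add, zpow_one,
      orderOf_dvd_iff_zpow_eq_one.1 hd, mul_one]
  have h5 : Commute g a := by
    obtain ⟨k, hk⟩ := exists_pow_eq_self_of_coprime (x := g) (hgo.symm.pow_left m)
    rw [← hk]; exact h4.pow_left k
  refine Subgroup.mem_centralizer_iff.2 fun z hz => ?_
  obtain ⟨j, rfl⟩ := hmem z hz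
  exact (h5.zpow_right j).eq.symm

end CfsgLib.LocalEvenB
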