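import Cfsg.Agent.Lib.LocalEvenB.IsolatedMinimal
import Cfsg.Agent.Lib.Components.Component
import Cfsg.Agent.Lib.Core.Hall

/-!
# The normal closure of the residual of an isolated p-minimal subgroup
-/

set_option autoImplicit false
set_option linter.all false

namespace CfsgLib.LocalEvenB.IsoMin

open Subgroup Cfsg
open scoped commutatorElement Pointwise

variable {G : Type*} [Group G] [Finite G] {p : ℕ} [hp : Fact p.Prime]

/-- A coprime group centralising a subgroup of prime power index: the commutators lie in an invariant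
Sylow subgroup. -/
theorem commutator_le_invariant_sylow {A K C : Subgroup G} {r : ℕ} [Fact r.Prime] (R : Sylow r ↥K)
    (hR : A ≤ normalizer ((R : Subgroup ↥K).map K.subtype : Set G))
    (hC : ∀ a ∈ A, ∀ c ∈ C, a * c = c * a) (hidx : ∀ l : ℕ, l.Prime → l ≠ r → ¬ l ∣ (C.subgroupOf K).index) :
    ⁅A, K⁆ ≤ (R : Subgroup ↥K).map K.subtype := by
  rw [commutator_le]
  intro a ha k hk
  have hcop : (R : Subgroup ↥K).index.Coprime (C.subgroupOf K).index := by
    refine Nat.coprime_of_dvd fun l hl h1 h2 => ?_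
    by_cases hlr : l = r
    · exact R.not_dvd_index (hlr ▸ h1)
    · exact hidx l hl hlr h2
  obtain ⟨x, hx, y, hy, hxy⟩ := CfsgLib.Core.exists_mul_of_coprime_index hcop ⟨k, hk⟩
  have hk' : k = (x : G) * (y : G) := congrArg Subtype.val hxy
  rw [commutatorElement_def, hk']
  have h1 : a * ((x : G) * y) * a⁻¹ * ((x : G) * y)⁻¹ = (a * x * a⁻¹) * (x : G)⁻¹ := by
    have e : a * (y : G) * a⁻¹ = y := by rw [hC a ha _ (mem_subgroupOf.1 hy), mul_inv_cancel_right]
    calc a * ((x : G) * y) * a⁻¹ * ((x : G) * y)⁻¹ = (a * x * a⁻¹) * (a * y * a⁻¹) * ((y : G)⁻¹ * (x : G)⁻¹) := by group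
    _ = _ := by rw [e]; group
  rw [h1]
  exact mul_mem ((mem_normalizer_iff.1 (hR ha) _).1 ⟨x, hx, rfl⟩) (inv_mem ⟨x, hx, rfl⟩)

omit hp in
/-- A homomorphism of a perfect group into a solvable group is trivial. -/
theorem eq_one_of_perfect {K : Type*} [Group K] {W : Type*} [Group W] [Group.IsPerfect K] (f : K →* W)
    (D : Subgroup W) [Group.IsSolvable ↥D] (hf : ∀ k, f k ∈ D) (k : K) : f k = 1 := by
  set g := f.codRestrict D hf with hg
  have hle : ∀ n, (⊤ : Subgroup K).map g ≤ derivedSeries ↥D n := by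
    intro n
    induction n with
    | zero => simp
    | succ n ih =>
      rw [derivedSeries_succ, ← Group.isPerfect_def.1 (inferInstance : Group.IsPerfect K), map_commutator_eq]
      exact commutator_mono ((MonoidHom.range_eq_map g).le.trans ih) ((MonoidHom.range_eq_map g).le.trans ih)
  obtain ⟨n, hn⟩ := (inferInstance : Group.IsSolvable ↥D).solvable
  have h1 := hle n (mem_map_of_mem g (mem_top k))
  rw [hn, mem_bot] at h1
  exact congrArg Subtype.val h1

section Quotient

variable (Y : Subgroup G) [Y.Normal]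

omit [Finite G] hp in
theorem pCore_map_conjNormal (g : G) :
    (Cfsg.pCore p ↥Y).map (MulAut.conjNormal g : MulAut ↥Y).toMonoidHom = Cfsg.pCore p ↥Y := by
  haveI := CfsgLib.Core.characteristic_pCore p ↥Y
  exact Subgroup.characteristic_iff_map_eq.1 inferInstance _

/-- Conjugation on the quotient of a normal subgroup by its core. -/
noncomputable def act [(Cfsg.pCore p ↥Y).Normal] (g : G) : (↥Y ⧸ Cfsg.pCore p ↥Y) ≃* (↥Y ⧸ Cfsg.pCore p ↥Y) :=
  QuotientGroup.congr _ _ (MulAut.conjNormal g) (pCore_map_conjNormal Y g)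

variable [(Cfsg.pCore p ↥Y).Normal]

omit [Finite G] hp in
theorem act_mk (g : G) (y : ↥Y) :
    act Y g (QuotientGroup.mk' (Cfsg.pCore p ↥Y) y) = QuotientGroup.mk' _ (MulAut.conjNormal g y) := rfl

omit [Finite G] hp in
theorem act_mul (g h : G) (w : ↥Y ⧸ Cfsg.pCore p ↥Y) : act Y (g * h) w = act Y g (act Y h w) := by
  obtain ⟨y, rfl⟩ := QuotientGroup.mk'_surjective _ w
  rw [act_mk, act_mk, act_mk, map_mul]
  rfl

omit [Finite G] hp in
theorem act_one (w : ↥Y ⧸ Cfsg.pCore p ↥Y) : act Y 1 w = w := by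
  obtain ⟨y, rfl⟩ := QuotientGroup.mk'_surjective _ w
  rw [act_mk, map_one]
  rfl

omit [Finite G] hp in
theorem act_self (y : ↥Y) (w : ↥Y ⧸ Cfsg.pCore p ↥Y) :
    act Y (y : G) w = QuotientGroup.mk' _ y * w * (QuotientGroup.mk' _ y)⁻¹ := by
  obtain ⟨v, rfl⟩ := QuotientGroup.mk'_surjective _ w
  rw [act_mk, ← map_inv, ← map_mul, ← map_mul]
  congr 1

omit [Finite G] hp in
theorem act_map_map (g h : G) (K : Subgroup (↥Y ⧸ Cfsg.pCore p ↥Y)) :
    (K.map (act Y h).toMonoidHom).map (act Y g).toMonoidHom = K.map (act Y (g * h)).toMonoidHom := by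
  rw [Subgroup.map_map]
  congr 1
  ext w
  exact (act_mul Y g h w).symm

omit [Finite G] hp in
theorem act_map_one (K : Subgroup (↥Y ⧸ Cfsg.pCore p ↥Y)) : K.map (act Y 1).toMonoidHom = K := by
  rw [show (act (p := p) Y 1).toMonoidHom = MonoidHom.id _ from MonoidHom.ext (act_one Y), Subgroup.map_id]

/-- The preimage in `G` of a subgroup of the quotient. -/
abbrev pre (K : Subgroup (↥Y ⧸ Cfsg.pCore p ↥Y)) : Subgroup G :=
  (K.comap (QuotientGroup.mk' (Cfsg.pCore p ↥Y))).map Y.subtype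

omit [Finite G] hp in
theorem mem_pre {K : Subgroup (↥Y ⧸ Cfsg.pCore p ↥Y)} {y : ↥Y} :
    (y : G) ∈ pre Y K ↔ QuotientGroup.mk' (Cfsg.pCore p ↥Y) y ∈ K := by
  refine ⟨?_, fun h => ⟨y, h, rfl⟩⟩
  rintro ⟨v, hv, he⟩
  rw [← Subtype.ext (show (v : G) = y from he)]
  exact hv

omit [Finite G] hp in
theorem pre_map (g : G) (K : Subgroup (↥Y ⧸ Cfsg.pCore p ↥Y)) :
    pre Y (K.map (act Y g).toMonoidHom) = (pre Y K).map (MulAut.conj g).toMonoidHom := by
  ext x
  constructor
  · rintro ⟨u, ⟨w, hw, hwu⟩, rfl⟩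
    obtain ⟨v, rfl⟩ := QuotientGroup.mk'_surjective _ w
    refine ⟨((MulAut.conjNormal g⁻¹ : MulAut ↥Y) u : G), ⟨(MulAut.conjNormal g⁻¹ : MulAut ↥Y) u, ?_, rfl⟩, ?_⟩
    · show QuotientGroup.mk' _ ((MulAut.conjNormal g⁻¹ : MulAut ↥Y) u) ∈ K
      rw [← act_mk]
      rw [show QuotientGroup.mk' _ u = act Y g (QuotientGroup.mk' _ v) from hwu.symm, ← act_mul, inv_mul_cancel, act_one]
      exact hw
    · show g * ((MulAut.conjNormal g⁻¹ : MulAut ↥Y) u : G) * g⁻¹ = u
      rw [MulAut.conjNormal_apply]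
      group
  · rintro ⟨_, ⟨u, hu, rfl⟩, rfl⟩
    exact ⟨(MulAut.conjNormal g : MulAut ↥Y) u, ⟨_, hu, act_mk Y g u⟩, MulAut.conjNormal_apply g u⟩

omit [Finite G] hp in
theorem act_mem_of_conj {g : G} {K K' : Subgroup (↥Y ⧸ Cfsg.pCore p ↥Y)}
    (h : ∀ w ∈ K, act Y g w ∈ K') : ∀ x ∈ pre Y K, g * x * g⁻¹ ∈ pre Y K' := by
  rintro _ ⟨u, hu, rfl⟩
  exact ⟨(MulAut.conjNormal g : MulAut ↥Y) u, h _ hu, MulAut.conjNormal_apply g u⟩

end Quotient

namespace Iso

variable {S : Sylow p G} {P L : Subgroup G} (I : Iso S P L)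
include I

theorem sub_isolated {Y : Subgroup G} :
    ¬ (Cfsg.pCore p ↥((normalizer ((S : Subgroup G) : Set G) ⊓ (Y ⊔ (S : Subgroup G))) ⊔
          ⨆ P' : {P' : Subgroup G // (S : Subgroup G) ≤ P' ∧ P' ≤ Y ⊔ (S : Subgroup G) ∧ Cfsg.IsPMinimal p ↥P' ∧ P' ≠ P}, (P' : Subgroup G))).map
        (Subgroup.subtype _) ≤ (Cfsg.pCore p ↥P).map P.subtype := by
  intro h
  apply I.hiso
  refine le_trans ?_ h
  have hS : (S : Subgroup G) ≤ normalizer ((S : Subgroup G) : Set G) ⊓ (Y ⊔ (S : Subgroup G)) :=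
    le_inf le_normalizer le_sup_right
  refine CfsgLib.LocalEvenB.le_pCoreOf ((I.Q_le_S.trans hS).trans le_sup_left)
    ((CfsgLib.Core.isPGroup_pCore p ↥L).map _) ?_
  refine le_trans (sup_le (inf_le_left.trans I.hN) (iSup_le fun Q => ?_)) I.L_normalizes_Q
  exact I.hrest Q Q.2.1 Q.2.2.2.1 Q.2.2.2.2

/-- `p` divides the order of the nonsolvable normal closure modulo the core. -/
theorem dvd_card {Y : Subgroup G} (hY : Y = normalClosure (res p P : Set G)) (hns : ¬ Group.IsSolvable ↥Y)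
    [(Cfsg.pCore p ↥Y).Normal] :
    p ∣ Nat.card (↥Y ⧸ Cfsg.pCore p ↥Y) := by
  haveI := CfsgLib.Core.normal_pCore p G
  haveI hYn : Y.Normal := hY ▸ normalClosure_normal
  have hRY : res p P ≤ Y := hY ▸ le_normalClosure
  set π := QuotientGroup.mk' (Cfsg.pCore p G) with hπ
  have hπs : Function.Surjective π := QuotientGroup.mk'_surjective _
  set Yb := Y.map π with hYb
  haveI hYbn : Yb.Normal := hYn.map π hπs
  set Q := (Cfsg.pCore p ↥L).map L.subtype with hQdef
  have hcard : Nat.card (↥Y ⧸ Cfsg.pCore p ↥Y) = Nat.card ↥Yb := by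
    have hker : (π.comp Y.subtype).ker = Cfsg.pCore p ↥Y := by
      refine le_antisymm (fun y hy => ?_) fun y hy => ?_
      · rw [MonoidHom.mem_ker, MonoidHom.comp_apply, hπ, QuotientGroup.mk'_apply, QuotientGroup.eq_one_iff] at hy
        exact CfsgLib.Core.pCore_subgroupOf_le Y (mem_subgroupOf.2 hy)
      · rw [MonoidHom.mem_ker, MonoidHom.comp_apply, hπ, QuotientGroup.mk'_apply, QuotientGroup.eq_one_iff]
        exact CfsgLib.Core.map_subtype_pCore_le Y ⟨y, hy, rfl⟩
    rw [← index_eq_card, ← hker, Subgroup.index_ker, MonoidHom.range_comp, range_subtype]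
  rw [hcard]
  by_contra hpY
  have hSp : IsPGroup p ((S : Subgroup G).map π) := S.isPGroup'.map π
  haveI := hSp.isNilpotent
  have hSn : ∀ K : Subgroup (G ⧸ Cfsg.pCore p G), K ≤ Yb →
      (Nat.card ↥((S : Subgroup G).map π)).Coprime (Nat.card K) := by
    intro K hK
    obtain ⟨a, ha⟩ := IsPGroup.iff_card.1 hSp
    rw [ha]
    exact Nat.Coprime.pow_left a ((hp.out.coprime_iff_not_dvd).2 fun h => hpY (h.trans (card_dvd_of_le hK)))
  -- the dichotomy
  have hdich : ∀ T : Subgroup (G ⧸ Cfsg.pCore p G), (S : Subgroup G).map π ≤ normalizer (T : Set _) →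
      (res p P).map π ≤ T ∨ T ≤ L.map π := by
    intro T hT
    have hn : (S : Subgroup G) ≤ normalizer ((T.comap π : Subgroup G) : Set G) := fun s hs =>
      le_normalizer_comap π (mem_comap.2 (hT (mem_map_of_mem π hs)))
    rcases I.le_or_not (T.comap π ⊔ (S : Subgroup G)) le_sup_right with h | h
    · exact Or.inl (map_le_iff_le_comap.2 (le_res_of_coprime_sup S.isPGroup' hn h))
    · refine Or.inr ((map_comap_eq_self_of_surjective hπs T).ge.trans (map_mono (le_sup_left.trans h)))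
  have hRbL : ¬ (res p P).map π ≤ L.map π := by
    intro h
    apply I.res_not_le
    intro x hx
    obtain ⟨l, hl, he⟩ := h (mem_map_of_mem π hx)
    have : l⁻¹ * x ∈ Cfsg.pCore p G := by
      rw [← QuotientGroup.eq_one_iff]
      show π (l⁻¹ * x) = 1
      rw [map_mul, map_inv, he, inv_mul_cancel]
    have h2 := mul_mem hl (I.S_le (I.core_le_S this))
    rwa [mul_inv_cancel_left] at h2
  -- the residual is a prime power group
  have hSR : (S : Subgroup G).map π ≤ normalizer (((res p P).map π : Subgroup _) : Set _) := by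
    refine (map_mono ?_).trans (le_normalizer_map π)
    intro s hs
    refine CfsgLib.LocalEvenB.mem_normalizer_of_forall fun x hx => ?_
    obtain ⟨u, hu, rfl⟩ := hx
    exact ⟨⟨s, I.hSP hs⟩ * u * ⟨s, I.hSP hs⟩⁻¹,
      (CfsgLib.Transfer.pResidual_normal (p := p) (G := ↥P)).conj_mem u hu _, rfl⟩
  have hRle : (res p P).map π ≤ Yb := map_mono hRY
  obtain ⟨r, hr, hRr⟩ : ∃ r : ℕ, r.Prime ∧ IsPGroup r ((res p P).map π) := by
    by_contra hno
    push Not at hno
    apply hRbL
    have hall : ∀ l : ℕ, l.Prime → l ^ (Nat.card ↥((res p P).map π)).factorization l ∣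
        Nat.card ↥(((res p P).map π) ⊓ L.map π) := by
      intro l hl
      haveI : Fact l.Prime := ⟨hl⟩
      obtain ⟨T, hT⟩ := CfsgLib.Core.exists_invariant_sylow hSR (hSn _ hRle) (Or.inl inferInstance) l
      rcases hdich _ hT with h | h
      · exact absurd ((T.isPGroup'.map _).to_le h) (hno l hl)
      · have h1 := T.card_eq_multiplicity
        rw [← h1, ← card_map_of_injective ((res p P).map π).subtype_injective]
        exact card_dvd_of_le (le_inf (map_subtype_le _) h)
    have hdvd : Nat.card ↥((res p P).map π) ∣ Nat.card ↥(((res p P).map π) ⊓ L.map π) := by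
      rw [Nat.dvd_iff_prime_pow_dvd_dvd]
      intro l k hl hk
      exact (pow_dvd_pow l ((hl.pow_dvd_iff_le_factorization Nat.card_pos.ne').1 hk)).trans (hall l hl)
    exact (Subgroup.eq_of_le_of_card_ge inf_le_left (Nat.le_of_dvd Nat.card_pos hdvd)).ge.trans inf_le_right
  haveI : Fact r.Prime := ⟨hr⟩
  -- an invariant Sylow subgroup
  have hSY : (S : Subgroup G).map π ≤ normalizer (Yb : Set _) := by rw [normalizer_eq_top]; exact le_top
  obtain ⟨R, hR⟩ := CfsgLib.Core.exists_invariant_sylow hSY (hSn _ le_rfl) (Or.inl inferInstance) r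
  have hidx : ∀ l : ℕ, l.Prime → l ≠ r → ¬ l ∣ ((L.map π).subgroupOf Yb).index := by
    intro l hl hlr hdvd
    haveI : Fact l.Prime := ⟨hl⟩
    obtain ⟨T, hT⟩ := CfsgLib.Core.exists_invariant_sylow hSY (hSn _ le_rfl) (Or.inl inferInstance) l
    rcases hdich _ hT with h | h
    · obtain ⟨a, ha⟩ := IsPGroup.iff_card.1 hRr
      obtain ⟨b, hb⟩ := IsPGroup.iff_card.1 ((T.isPGroup'.map Yb.subtype).to_le h)
      have hb1 : Nat.card ↥((res p P).map π) = 1 :=
        Nat.eq_one_of_dvd_coprimes ((Nat.coprime_primes hl hr).2 hlr |>.pow b a) hb.dvd ha.dvd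
      exact hRbL ((card_eq_one.1 hb1).le.trans bot_le)
    · exact T.not_dvd_index (hdvd.trans (index_dvd_of_le fun t ht => mem_subgroupOf.2 (h ⟨t, ht, rfl⟩)))
  set N : Subgroup (G ⧸ Cfsg.pCore p G) := ⁅Q.map π, Yb⁆ with hN
  have hNR : N ≤ (R : Subgroup ↥Yb).map Yb.subtype := by
    have hQR : Q.map π ≤ normalizer ((R : Subgroup ↥Yb).map Yb.subtype : Set _) :=
      (map_mono I.Q_le_S).trans hR
    refine commutator_le_invariant_sylow (C := L.map π ⊓ Yb) R hQR ?_ ?_
    · rintro _ ⟨q, hq, rfl⟩ _ ⟨⟨l, hl, rfl⟩, hlY⟩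
      have h1 : π (q * l * q⁻¹ * l⁻¹) ∈ Q.map π ⊓ Yb := by
        refine mem_inf.2 ⟨mem_map_of_mem π ?_, ?_⟩
        · rw [show q * l * q⁻¹ * l⁻¹ = q * (l * q⁻¹ * l⁻¹) by group]
          exact mul_mem hq ((mem_normalizer_iff.1 (I.L_normalizes_Q hl) _).1 (inv_mem hq))
        · rw [map_mul, map_mul, map_mul, map_inv, map_inv]
          exact mul_mem (hYbn.conj_mem _ hlY _) (inv_mem hlY)
      have h2 : Q.map π ⊓ Yb = ⊥ :=
        inf_eq_bot_of_coprime ((hSn Yb le_rfl).coprime_dvd_left (card_dvd_of_le (map_mono I.Q_le_S)))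
      rw [h2, mem_bot, map_mul, map_mul, map_mul, map_inv, map_inv, mul_inv_eq_one, mul_inv_eq_iff_eq_mul] at h1
      exact h1
    · intro l hl hlr
      rw [inf_subgroupOf_right]
      exact hidx l hl hlr
  have hNY : N ≤ Yb := hNR.trans (map_subtype_le _)
  have hNr : IsPGroup r N := (R.isPGroup'.map _).to_le hNR
  -- it is normal
  haveI hNn : N.Normal := by
    rw [← normalizer_eq_top_iff]
    refine top_unique ?_
    rw [← map_top_of_surjective π hπs, ← I.sup_eq_top hRY, Subgroup.map_sup]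
    refine sup_le ?_ ?_
    · exact normalizer_commutator_ge_right _ _
    · intro l hl
      refine CfsgLib.LocalEvenB.mem_normalizer_of_forall fun x hx => ?_
      have hm : N.map (MulAut.conj l).toMonoidHom ≤ N := by
        rw [hN, map_commutator]
        refine commutator_mono ?_ ?_
        · rintro _ ⟨u, hu, rfl⟩
          exact (mem_normalizer_iff.1 (le_normalizer_map π (map_mono I.L_normalizes_Q hl)) u).1 hu
        · rintro _ ⟨u, hu, rfl⟩
          exact hYbn.conj_mem u hu l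
      exact hm ⟨x, hx, rfl⟩
  by_cases hR0 : (res p P).map π ≤ N
  · -- the closure would be solvable
    apply hns
    have hle : Y ≤ N.comap π := hY ▸ normalClosure_le_normal (map_le_iff_le_comap.1 hR0)
    have hYr : IsPGroup r Yb := hNr.to_le (map_le_iff_le_comap.2 hle)
    haveI : Group.IsSolvable ↥Yb := by haveI := hYr.isNilpotent; infer_instance
    haveI : Group.IsSolvable ↥(Cfsg.pCore p G) := by
      haveI := (CfsgLib.Core.isPGroup_pCore p G).isNilpotent; infer_instance
    haveI : Group.IsSolvable ↥(Y ⊓ Cfsg.pCore p G) :=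
      Group.isSolvable_of_isSolvable_injective
        (f := Subgroup.inclusion (inf_le_right : Y ⊓ Cfsg.pCore p G ≤ Cfsg.pCore p G))
        (Subgroup.inclusion_injective _)
    exact Group.isSolvable_of_ker_le_range (Subgroup.inclusion (inf_le_left : Y ⊓ Cfsg.pCore p G ≤ Y))
      (π.subgroupMap Y) (fun y hy => ⟨⟨y, y.2, (QuotientGroup.eq_one_iff _).1 (congrArg Subtype.val hy)⟩, rfl⟩)
  · apply I.res_not_normalizes
    have hcomm : ∀ y ∈ Y, ∀ n ∈ N, π y * n = n * π y := by
      intro y hy n hn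
      obtain ⟨m, rfl⟩ := hπs n
      have hm : m ∈ N.comap π := hn
      refine I.commutes (N.comap π) (fun h => hR0 (map_le_iff_le_comap.2 h)) y (hY ▸ hy) m hm
    have h1 : ⁅⁅Q.map π, Yb⁆, Yb⁆ = ⊥ := by
      rw [commutator_eq_bot_iff_le_centralizer]
      intro n hn
      refine mem_centralizer_iff.2 ?_
      rintro _ ⟨y, hy, rfl⟩
      exact hcomm y hy n hn
    have h2 : ⁅⁅Yb, Q.map π⁆, Yb⁆ = ⊥ := by rw [commutator_comm Yb]; exact h1
    have h3 := commutator_commutator_eq_bot_of_rotate h2 h1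
    have hperf : ⁅Yb, Yb⁆ = Yb := by
      refine le_antisymm (commutator_le_self _) ?_
      rw [hYb, ← map_commutator]
      refine map_mono ?_
      rw [hY]
      refine normalClosure_le_normal ?_
      by_contra hD
      apply hns
      have hc := I.commutes ⁅Y, Y⁆ (by rw [← hY] at hD; exact hD)
      haveI : Group.IsSolvable ↥Yb := by
        have hn : Group.IsNilpotent ↥Yb := by
          refine isNilpotent_of_lowerCentralSeries_eq_bot (n := 2) ?_
          rw [Subgroup.lowerCentralSeries_succ, Subgroup.lowerCentralSeries_succ, Subgroup.lowerCentralSeries_zero, hYb, ← map_commutator,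
            commutator_eq_bot_iff_le_centralizer]
          rintro _ ⟨d, hd, rfl⟩
          refine mem_centralizer_iff.2 ?_
          rintro _ ⟨y, hy, rfl⟩
          exact hc y (hY ▸ hy) d hd
        infer_instance
      haveI : Group.IsSolvable ↥(Cfsg.pCore p G) := by
        haveI := (CfsgLib.Core.isPGroup_pCore p G).isNilpotent; infer_instance
      haveI : Group.IsSolvable ↥(Y ⊓ Cfsg.pCore p G) :=
        Group.isSolvable_of_isSolvable_injective
          (f := Subgroup.inclusion (inf_le_right : Y ⊓ Cfsg.pCore p G ≤ Cfsg.pCore p G))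
          (Subgroup.inclusion_injective _)
      exact Group.isSolvable_of_ker_le_range (Subgroup.inclusion (inf_le_left : Y ⊓ Cfsg.pCore p G ≤ Y))
        (π.subgroupMap Y) (fun y hy => ⟨⟨y, y.2, (QuotientGroup.eq_one_iff _).1 (congrArg Subtype.val hy)⟩, rfl⟩)
    rw [hperf, commutator_eq_bot_iff_le_centralizer] at h3
    intro x hx
    refine CfsgLib.LocalEvenB.mem_normalizer_of_forall fun q hq => ?_
    have hc := mem_centralizer_iff.1 (h3 (mem_map_of_mem π (hRY hx))) (π q) (mem_map_of_mem π hq)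
    have hO : x * q * x⁻¹ * q⁻¹ ∈ Cfsg.pCore p G := by
      rw [← QuotientGroup.eq_one_iff]
      show π (x * q * x⁻¹ * q⁻¹) = 1
      rw [map_mul, map_mul, map_mul, map_inv, map_inv, ← hc, mul_inv_cancel_right, mul_inv_cancel]
    have := mul_mem (I.core_le_Q hO) hq
    rwa [inv_mul_cancel_right] at this

/-- The nonsolvable case. -/
theorem nonsolvable_case {Y : Subgroup G} (hY : Y = normalClosure (res p P : Set G))
    (hns : ¬ Group.IsSolvable ↥Y) [(Cfsg.pCore p ↥Y).Normal] :
    Cfsg.layer (↥Y ⧸ Cfsg.pCore p ↥Y) = ⊤ ∧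
      ∀ K₁ K₂ : Subgroup (↥Y ⧸ Cfsg.pCore p ↥Y), Cfsg.IsComponent K₁ → Cfsg.IsComponent K₂ →
        ∃ s ∈ (S : Subgroup G), pre Y K₂ = (pre Y K₁).map (MulAut.conj s).toMonoidHom := by
  haveI := CfsgLib.Core.normal_pCore p G
  haveI hYn : Y.Normal := hY ▸ normalClosure_normal
  have hRY : res p P ≤ Y := hY ▸ le_normalClosure
  set ρ := QuotientGroup.mk' (Cfsg.pCore p ↥Y) with hρ
  have hρs : Function.Surjective ρ := QuotientGroup.mk'_surjective _
  set Q := (Cfsg.pCore p ↥L).map L.subtype with hQdef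
  haveI : Group.IsSolvable ↥(Cfsg.pCore p ↥Y) := by
    haveI := (CfsgLib.Core.isPGroup_pCore p ↥Y).isNilpotent; infer_instance
  have hWns : ¬ Group.IsSolvable (↥Y ⧸ Cfsg.pCore p ↥Y) := fun h =>
    hns ((Group.isSolvable_iff_subgroup_quotient (Cfsg.pCore p ↥Y)).2 ⟨inferInstance, h⟩)
  -- normal subgroups are trivial or central
  have htc : ∀ K : Subgroup (↥Y ⧸ Cfsg.pCore p ↥Y), (∀ g : G, ∀ w ∈ K, act Y g w ∈ K) →
      K = ⊤ ∨ K ≤ center _ := by
    intro K hK
    haveI : (pre Y K).Normal := ⟨fun n hn g => act_mem_of_conj Y (hK g) n hn⟩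
    by_cases h : res p P ≤ pre Y K
    · left
      have hle : Y ≤ pre Y K := hY.le.trans (normalClosure_le_normal h)
      refine top_unique fun w _ => ?_
      obtain ⟨y, rfl⟩ := hρs w
      exact (mem_pre Y).1 (hle y.2)
    · right
      intro w hw
      obtain ⟨n, rfl⟩ := hρs w
      refine mem_center_iff.2 fun v => ?_
      obtain ⟨y, rfl⟩ := hρs v
      have hc := I.commutes (pre Y K) h y (hY ▸ y.2) n ((mem_pre Y).2 hw)
      rw [← map_mul, ← map_mul]
      refine (QuotientGroup.eq).2 ?_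
      refine CfsgLib.Core.pCore_subgroupOf_le Y (mem_subgroupOf.2 ?_)
      rw [← QuotientGroup.eq_one_iff]
      show QuotientGroup.mk' (Cfsg.pCore p G) (((y : G) * n)⁻¹ * ((n : G) * y)) = 1
      rw [map_mul, map_inv, map_mul, map_mul, hc, inv_mul_cancel]
  have hchar : ∀ K : Subgroup (↥Y ⧸ Cfsg.pCore p ↥Y), K.Characteristic → K = ⊤ ∨ K ≤ center _ :=
    fun K hK => htc K fun g w hw => (characteristic_iff_map_eq.1 hK (act Y g)).le ⟨w, hw, rfl⟩
  -- perfect
  have hperf : commutator (↥Y ⧸ Cfsg.pCore p ↥Y) = ⊤ := by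
    refine (hchar _ inferInstance).resolve_right fun hc => hWns ?_
    haveI : Group.IsNilpotent (↥Y ⧸ Cfsg.pCore p ↥Y) := by
      refine Group.isNilpotent_top.1 (isNilpotent_of_lowerCentralSeries_eq_bot (n := 2) ?_)
      rw [Subgroup.lowerCentralSeries_succ, Subgroup.lowerCentralSeries_succ, Subgroup.lowerCentralSeries_zero,
        commutator_eq_bot_iff_le_centralizer]
      exact hc.trans (center_le_centralizer _)
    infer_instance
  -- the layer
  have hlayer : Cfsg.layer (↥Y ⧸ Cfsg.pCore p ↥Y) = ⊤ := by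
    refine (hchar _ CfsgLib.Components.layer_characteristic).resolve_right fun hc => ?_
    have hb : Cfsg.layer (↥Y ⧸ Cfsg.pCore p ↥Y) = ⊥ := by
      rw [← CfsgLib.Components.layer_perfect, commutator_eq_bot_iff_le_centralizer]
      exact hc.trans (center_le_centralizer _)
    have hCF := CfsgLib.Components.centralizer_fitting_le_of_layer_eq_bot hb
    haveI := CfsgLib.Components.fitting_isNilpotent (G := ↥Y ⧸ Cfsg.pCore p ↥Y)
    have hFne : Cfsg.fittingSubgroup (↥Y ⧸ Cfsg.pCore p ↥Y) ≠ ⊤ := by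
      intro hF
      apply hWns
      haveI : Group.IsSolvable ↥(⊤ : Subgroup (↥Y ⧸ Cfsg.pCore p ↥Y)) := hF ▸ inferInstance
      exact Group.isSolvable_of_surjective (f := (⊤ : Subgroup _).subtype) fun w => ⟨⟨w, trivial⟩, rfl⟩
    rcases hchar _ CfsgLib.Components.fitting_characteristic with h | h
    · exact hFne h
    · exact hFne (top_unique ((show (⊤ : Subgroup _) ≤ centralizer _ from fun w _ =>
        mem_centralizer_iff.2 fun f hf => ((mem_center_iff.1 (h hf)) w).symm).trans hCF))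
  -- the fixed subgroup of the core of the maximal subgroup
  let Cq : Subgroup (↥Y ⧸ Cfsg.pCore p ↥Y) :=
    { carrier := {w | ∀ q ∈ Q, act Y q w = w}
      one_mem' := fun q _ => map_one _
      mul_mem' := fun {a b} ha hb q hq => by rw [map_mul, ha q hq, hb q hq]
      inv_mem' := fun {a} ha q hq => by rw [map_inv, ha q hq] }
  have hCqne : Cq ≠ ⊤ := by
    intro h
    apply I.res_not_normalizes
    intro x hx
    refine CfsgLib.LocalEvenB.mem_normalizer_of_forall fun q hq => ?_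
    have hf' : act Y q (ρ ⟨x, hRY hx⟩⁻¹) = ρ ⟨x, hRY hx⟩⁻¹ :=
      (h ▸ mem_top _ : ρ ⟨x, hRY hx⟩⁻¹ ∈ Cq) q hq
    rw [act_mk] at hf'
    have g2 : (q * x⁻¹ * q⁻¹)⁻¹ * x⁻¹ ∈ Q :=
      I.core_le_Q (CfsgLib.Core.map_subtype_pCore_le Y ⟨_, QuotientGroup.eq.1 hf', rfl⟩)
    have g3 := inv_mem (mul_mem (inv_mem hq) g2)
    rwa [show (q⁻¹ * ((q * x⁻¹ * q⁻¹)⁻¹ * x⁻¹))⁻¹ = x * q * x⁻¹ by group] at g3
  have hcompn : ∀ K : Subgroup (↥Y ⧸ Cfsg.pCore p ↥Y), Cfsg.IsComponent K → ∀ y : ↥Y, ∀ w ∈ K, act Y (y : G) w ∈ K := by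
    intro K hK y w hw
    rw [act_self]
    exact (mem_normalizer_iff.1 (CfsgLib.Components.component_le_normalizer_layer_member hK
      (hlayer ▸ mem_top (ρ y))) w).1 hw
  -- no component is fixed
  have hnofix : ∀ K : Subgroup (↥Y ⧸ Cfsg.pCore p ↥Y), Cfsg.IsComponent K → ¬ K ≤ Cq := by
    intro K hK hKC
    set X := sSup {J : Subgroup (↥Y ⧸ Cfsg.pCore p ↥Y) | Cfsg.IsComponent J ∧ J ≤ Cq} with hX
    have hXC : X ≤ Cq := sSup_le fun J hJ => hJ.2
    have hKX : K ≤ X := le_sSup ⟨hK, hKC⟩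
    have hstab : Y ⊔ L ≤ normalizer ((pre Y X : Subgroup G) : Set G) := by
      have hmap : ∀ g : G, (∀ J, Cfsg.IsComponent J → J ≤ Cq → J.map (act Y g).toMonoidHom ≤ X) →
          g ∈ normalizer ((pre Y X : Subgroup G) : Set G) := by
        intro g hg
        refine CfsgLib.LocalEvenB.mem_normalizer_of_forall (act_mem_of_conj Y fun w hw => ?_)
        have hle : X ≤ X.comap (act Y g).toMonoidHom :=
          sSup_le fun J hJ => map_le_iff_le_comap.1 (hg J hJ.1 hJ.2)
        exact hle hw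
      refine sup_le (fun y hy => hmap y fun J hJ hJC => ?_) fun l hl => hmap l fun J hJ hJC => ?_
      · refine le_trans ?_ (le_sSup ⟨hJ, hJC⟩)
        rintro _ ⟨w, hw, rfl⟩
        exact hcompn J hJ ⟨y, hy⟩ w hw
      · refine le_sSup ⟨CfsgLib.Components.isComponent_map_equiv (act Y l) hJ, ?_⟩
        rintro _ ⟨w, hw, rfl⟩ q hq
        show act Y q (act Y l w) = act Y l w
        rw [← act_mul, show q * l = l * (l⁻¹ * q * l) by group, act_mul]
        congr 1
        refine hJC hw _ ?_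
        have := (mem_normalizer_iff.1 (I.L_normalizes_Q (inv_mem hl)) q).1 hq
        rwa [inv_inv] at this
    rw [I.sup_eq_top hRY] at hstab
    rcases htc X (fun g w hw => by
      obtain ⟨y, rfl⟩ := hρs w
      rw [act_mk]
      refine (mem_pre Y).1 ?_
      rw [MulAut.conjNormal_apply]
      exact (mem_normalizer_iff.1 (hstab (mem_top g)) _).1 ((mem_pre Y).2 hw)) with h | h
    · exact hCqne (top_unique (h.ge.trans hXC))
    · exact CfsgLib.Components.IsQuasisimple.commutator_self_ne_bot hK.2 (by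
        rw [commutator_eq_bot_iff_le_centralizer]
        exact (hKX.trans h).trans (center_le_centralizer _))
  -- the orbit closures contain the residual
  set Rw := ((res p P).subgroupOf Y).map ρ with hRw
  have horb : ∀ K : Subgroup (↥Y ⧸ Cfsg.pCore p ↥Y), Cfsg.IsComponent K → Rw ≤ ⨆ s : (S : Subgroup G), K.map (act Y (s : G)).toMonoidHom := by
    intro K hK
    set Cl := ⨆ s : (S : Subgroup G), K.map (act Y (s : G)).toMonoidHom with hCl
    have hKCl : K ≤ Cl := le_trans (by rw [OneMemClass.coe_one, act_map_one])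
      (le_iSup (fun s : (S : Subgroup G) => K.map (act Y (s : G)).toMonoidHom) 1)
    have hSn : (S : Subgroup G) ≤ normalizer ((pre Y Cl : Subgroup G) : Set G) := by
      intro t ht
      refine CfsgLib.LocalEvenB.mem_normalizer_of_forall (act_mem_of_conj Y fun w hw => ?_)
      have hle : Cl ≤ Cl.comap (act Y t).toMonoidHom := iSup_le fun s => by
        rw [← map_le_iff_le_comap, act_map_map]
        exact le_iSup (fun s : (S : Subgroup G) => K.map (act Y (s : G)).toMonoidHom) ⟨t * s, mul_mem ht s.2⟩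
      exact hle hw
    rcases I.le_or_not (pre Y Cl ⊔ (S : Subgroup G)) le_sup_right with h | h
    · rintro _ ⟨y, hy, rfl⟩
      exact (mem_pre Y).1 (le_res_of_coprime_sup S.isPGroup' hSn h (mem_subgroupOf.1 hy))
    · exfalso
      apply hnofix K hK
      have hL : pre Y Cl ≤ L := le_sup_left.trans h
      set D := ((pre Y Cl ⊓ Q).subgroupOf Y).map ρ with hD
      haveI : Group.IsSolvable ↥D := by
        have hDp : IsPGroup p D := by
          refine IsPGroup.map ?_ _
          exact (((CfsgLib.Core.isPGroup_pCore p ↥L).map _).to_le inf_le_right).comap_subtype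
        haveI := hDp.isNilpotent
        infer_instance
      have hKD : K ≤ normalizer (D : Set (↥Y ⧸ Cfsg.pCore p ↥Y)) := by
        intro k hk
        obtain ⟨y, rfl⟩ := hρs k
        have hyC : (y : G) ∈ pre Y Cl := (mem_pre Y).2 (hKCl hk)
        have hn : (y : G) ∈ normalizer ((pre Y Cl ⊓ Q : Subgroup G) : Set G) :=
          inf_normalizer_le_normalizer_inf ⟨le_normalizer hyC, I.L_normalizes_Q (hL hyC)⟩
        refine CfsgLib.LocalEvenB.mem_normalizer_of_forall ?_
        rintro _ ⟨d, hd, rfl⟩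
        exact ⟨y * d * y⁻¹, mem_subgroupOf.2 ((mem_normalizer_iff.1 hn _).1 hd),
          by rw [map_mul, map_mul, map_inv]⟩
      have hKDc := commutator_eq_bot_iff_le_centralizer.1
        ((commutator_comm _ _).trans (CfsgLib.Components.component_commutes_of_solvable_invariant hK inferInstance hKD))
      intro k hk q hq
      have hd : ∀ u ∈ K, act Y q u * u⁻¹ ∈ D := by
        intro u hu
        obtain ⟨y, rfl⟩ := hρs u
        have hyC : (y : G) ∈ pre Y Cl := (mem_pre Y).2 (hKCl hu)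
        rw [act_mk, ← map_inv, ← map_mul]
        refine mem_map_of_mem ρ (mem_subgroupOf.2 ?_)
        rw [Subgroup.coe_mul, Subgroup.coe_inv, MulAut.conjNormal_apply]
        refine mem_inf.2 ⟨mul_mem ((mem_normalizer_iff.1 (hSn (I.Q_le_S hq)) _).1 hyC) (inv_mem hyC), ?_⟩
        rw [show q * (y : G) * q⁻¹ * (y : G)⁻¹ = q * ((y : G) * q⁻¹ * (y : G)⁻¹) by group]
        exact mul_mem hq ((mem_normalizer_iff.1 (I.L_normalizes_Q (hL hyC)) _).1 (inv_mem hq))
      have hcd : ∀ u ∈ K, ∀ d ∈ D, u * d = d * u := fun u hu d hd => mem_centralizer_iff.1 (hKDc hd) u hu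
      haveI : Group.IsPerfect ↥K := hK.2.1
      let f : ↥K →* (↥Y ⧸ Cfsg.pCore p ↥Y) :=
        MonoidHom.mk' (fun u => act Y q u * (u : ↥Y ⧸ Cfsg.pCore p ↥Y)⁻¹) fun a b => by
          have e := hcd _ (inv_mem a.2) _ (hd b b.2)
          rw [Subgroup.coe_mul, map_mul, mul_inv_rev]
          calc act Y q a * act Y q b * ((b : ↥Y ⧸ Cfsg.pCore p ↥Y)⁻¹ * (a : ↥Y ⧸ Cfsg.pCore p ↥Y)⁻¹)
              = act Y q a * ((act Y q b * (b : ↥Y ⧸ Cfsg.pCore p ↥Y)⁻¹) * (a : ↥Y ⧸ Cfsg.pCore p ↥Y)⁻¹) := by group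
            _ = _ := by rw [← e]; group
      have h1 := eq_one_of_perfect f D (fun u => hd u u.2) ⟨k, hk⟩
      exact mul_inv_eq_one.1 h1
  refine ⟨hlayer, fun K₁ K₂ h₁ h₂ => ?_⟩
  by_contra hne
  push Not at hne
  have hne' : ∀ s ∈ (S : Subgroup G), K₁.map (act Y s).toMonoidHom ≠ K₂ := fun s hs h =>
    hne s hs (by rw [← h, pre_map])
  have hdiff : ∀ s t : (S : Subgroup G),
      K₁.map (act Y (s : G)).toMonoidHom ≠ K₂.map (act Y (t : G)).toMonoidHom := by
    intro s t h
    apply hne' ((t : G)⁻¹ * s) (mul_mem (inv_mem t.2) s.2)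
    rw [← act_map_map, h, act_map_map, inv_mul_cancel, act_map_one]
  have hcent : Rw ≤ center (↥Y ⧸ Cfsg.pCore p ↥Y) := by
    intro r hr
    have htop : (⊤ : Subgroup _) ≤ centralizer ({r} : Set (↥Y ⧸ Cfsg.pCore p ↥Y)) := by
      rw [← hlayer, CfsgLib.Components.layer_le_iff]
      intro K₃ h₃
      have key : ∀ {T : Subgroup (↥Y ⧸ Cfsg.pCore p ↥Y)}, r ∈ T → ⁅K₃, T⁆ = ⊥ →
          K₃ ≤ centralizer ({r} : Set (↥Y ⧸ Cfsg.pCore p ↥Y)) := fun {T} hT hc =>
        (commutator_eq_bot_iff_le_centralizer.1 hc).trans (centralizer_le (Set.singleton_subset_iff.2 hT))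
      by_cases h : ∃ s : (S : Subgroup G), K₁.map (act Y (s : G)).toMonoidHom = K₃
      · obtain ⟨s, hs⟩ := h
        refine key (horb K₂ h₂ hr) (commutator_eq_bot_iff_le_centralizer.2 ?_)
        rw [le_centralizer_iff]
        refine iSup_le fun t => ?_
        rw [← le_centralizer_iff, ← commutator_eq_bot_iff_le_centralizer]
        exact CfsgLib.Components.components_commute h₃
          (CfsgLib.Components.isComponent_map_equiv _ h₂) (hs ▸ hdiff s t)
      · push Not at h
        refine key (horb K₁ h₁ hr) (commutator_eq_bot_iff_le_centralizer.2 ?_)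
        rw [le_centralizer_iff]
        refine iSup_le fun s => ?_
        rw [← le_centralizer_iff, ← commutator_eq_bot_iff_le_centralizer]
        exact CfsgLib.Components.components_commute h₃
          (CfsgLib.Components.isComponent_map_equiv _ h₁) (h s).symm
    exact mem_center_iff.2 fun w => ((mem_centralizer_iff.1 (htop (mem_top w))) r rfl).symm
  have hctop : center (↥Y ⧸ Cfsg.pCore p ↥Y) = ⊤ := by
    haveI : (pre Y (center (↥Y ⧸ Cfsg.pCore p ↥Y))).Normal := ⟨fun n hn g =>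
      act_mem_of_conj Y (fun w hw => (characteristic_iff_map_eq.1 inferInstance (act Y g)).le ⟨w, hw, rfl⟩) n hn⟩
    have hle : Y ≤ pre Y (center (↥Y ⧸ Cfsg.pCore p ↥Y)) := hY.le.trans (normalClosure_le_normal fun x hx =>
      (mem_pre Y (y := ⟨x, hRY hx⟩)).2 (hcent ⟨⟨x, hRY hx⟩, hx, rfl⟩))
    refine top_unique fun w _ => ?_
    obtain ⟨y, rfl⟩ := hρs w
    exact (mem_pre Y).1 (hle y.2)
  exact hWns (Group.isSolvable_of_comm fun a b => (mem_center_iff.1 (hctop ▸ mem_top b : b ∈ center _) a))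

end Iso

end CfsgLib.LocalEvenB.IsoMin
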