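import Cfsg.Agent.Lib.LocalEvenB.Isolated
import Cfsg.Agent.Lib.LocalEvenB.SubnormalSylow
import Cfsg.Agent.Lib.Components.FStar
import Cfsg.Agent.Lib.Components.Radicals
import Cfsg.Agent.Lib.Transfer.ZJFull
import Cfsg.Agent.Lib.Transfer.Fusion

/-!
# An isolated element of order `p` in a group of `p`-rank at most two
-/

set_option autoImplicit false
set_option linter.all false

namespace CfsgLib.LocalEvenB

open Subgroup Cfsg
open scoped commutatorElement IsMulCommutative

variable {G : Type*} [Group G] [Finite G] {p : ℕ} [Fact p.Prime]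

theorem pPower_mem_zpowers {a : G} (ha : a ^ p = 1) {i : ℤ} (hi : a ^ i ≠ 1) : a ∈ zpowers (a ^ i) := by
  have hord : orderOf a = p := by
    rcases (Nat.dvd_prime Fact.out).1 (orderOf_dvd_of_pow_eq_one ha) with h | h
    · exact absurd (by rw [orderOf_eq_one_iff.1 h, one_zpow]) hi
    · exact h
  have hni : ¬ (p : ℤ) ∣ i := fun hd => hi (orderOf_dvd_iff_zpow_eq_one.1 (hord ▸ hd))
  obtain ⟨u, v, huv⟩ := (Prime.coprime_iff_not_dvd (Nat.prime_iff_prime_int.1 Fact.out)).2 hni
  refine mem_zpowers_iff.2 ⟨v, ?_⟩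
  rw [← zpow_mul]
  calc a ^ (i * v) = a ^ ((p : ℤ) * u + i * v) := by rw [zpow_add, zpow_mul a (p : ℤ) u, zpow_natCast, ha, one_zpow, one_mul]
    _ = a ^ (1 : ℤ) := by rw [show (p : ℤ) * u + i * v = u * (p : ℤ) + v * i by ring, huv]
    _ = a := zpow_one a

/-- A perfect group, all whose elements of order `p` in a Sylow subgroup are fixed under fusion, has order prime to `p`. -/
theorem not_dvd_card_of_fixed_omega (hp : p ≠ 2) (K : Subgroup G) (hperf : ⁅K, K⁆ = K) (P : Sylow p G)
    (hsyl : ¬ p ∣ ((P : Subgroup G) ⊓ K).relIndex K)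
    (hfix : ∀ e ∈ (P : Subgroup G) ⊓ K, e ^ p = 1 → ∀ n ∈ K, n * e * n⁻¹ ∈ (P : Subgroup G) → n * e * n⁻¹ = e) :
    ¬ p ∣ Nat.card K := by
  obtain ⟨R, hR⟩ : ∃ R : Sylow p ↥K, (R : Subgroup ↥K) = ((P : Subgroup G)).subgroupOf K := by
    refine ⟨(P.2.comap_subtype (K := K)).toSylow ?_, rfl⟩
    intro hd
    apply hsyl
    rwa [inf_relIndex_right]
  have hnpc : HasNormalPComplement p ↥K := by
    refine CfsgLib.Transfer.hasNormalPComplement_of_centralizes R fun Q hQ g hg hgc => ?_
    refine CfsgLib.Transfer.mem_centralizer_of_fixes_order_p hp (R.2.to_le hQ) hg hgc fun e he hep => ?_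
    refine Subtype.ext (hfix (e : G) ?_ (by rw [← Subgroup.coe_pow, hep]; rfl) (g : G) g.2 ?_)
    · have h1 := hQ he
      rw [hR] at h1
      exact ⟨h1, e.2⟩
    · have h1 := hQ ((mem_normalizer_iff.1 hg e).1 he)
      rw [hR] at h1
      exact h1
  intro hpK
  obtain ⟨S, N, hN, hc⟩ := hnpc
  haveI := hN
  haveI : Group.IsNilpotent ↥(S : Subgroup ↥K) := S.2.isNilpotent
  have hne : (S : Subgroup ↥K) ≠ ⊥ := S.ne_bot_of_dvd_card hpK
  haveI : Nontrivial ↥(S : Subgroup ↥K) := (nontrivial_iff_ne_bot _).2 hne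
  have hlt := Group.IsSolvable.commutator_lt_top_of_nontrivial ↥(S : Subgroup ↥K)
  apply hlt.ne
  have hKK : _root_.commutator ↥K = ⊤ := by
    refine map_injective K.subtype_injective ?_
    rw [map_subtype_commutator, hperf, ← MonoidHom.range_eq_map, range_subtype]
  have htop : N ⊔ (S : Subgroup ↥K) = ⊤ := hc.sup_eq_top
  let f : ↥(S : Subgroup ↥K) →* ↥K ⧸ N := (QuotientGroup.mk' N).comp (S : Subgroup ↥K).subtype
  have hf : Function.Surjective f := by
    intro q
    obtain ⟨k, rfl⟩ := QuotientGroup.mk'_surjective N q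
    obtain ⟨n, hn, s, hs, rfl⟩ := mem_sup_of_normal_left.1 (htop.ge (mem_top k))
    exact ⟨⟨s, hs⟩, by rw [map_mul, show QuotientGroup.mk' N n = 1 from (QuotientGroup.eq_one_iff n).2 hn, one_mul]; rfl⟩
  have hfinj : Function.Injective f := by
    rw [← MonoidHom.ker_eq_bot_iff, eq_bot_iff]
    intro s hs
    have h1 : ((s : ↥K)) ∈ N ⊓ (S : Subgroup ↥K) := ⟨(QuotientGroup.eq_one_iff _).1 (MonoidHom.mem_ker.1 hs), s.2⟩
    rw [hc.disjoint.eq_bot, mem_bot] at h1
    exact Subtype.ext h1
  have himg : (_root_.commutator ↥(S : Subgroup ↥K)).map f = ⊤ := by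
    have h2 : (_root_.commutator ↥K).map (QuotientGroup.mk' N) = ⊤ := by
      rw [hKK, Subgroup.map_top_of_surjective _ (QuotientGroup.mk'_surjective N)]
    rw [_root_.commutator_def, map_commutator,
      Subgroup.map_top_of_surjective _ (QuotientGroup.mk'_surjective N)] at h2
    rw [_root_.commutator_def, map_commutator, Subgroup.map_top_of_surjective _ hf]
    exact h2
  refine map_injective hfinj ?_
  rw [himg, Subgroup.map_top_of_surjective _ hf]

theorem dvd_card_of_component (hcore : pPrimeCore p G = ⊥) {K : Subgroup G} (hK : IsComponent K) :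
    p ∣ Nat.card K := by
  by_contra hd
  have h1 := CfsgLib.Components.subnormal_coprime_le_pPrimeCore hK.1
    (((Nat.Prime.coprime_iff_not_dvd (Fact.out : p.Prime)).2 hd).symm)
  rw [hcore] at h1
  exact CfsgLib.Components.IsComponent.ne_bot hK (le_bot_iff.1 h1)

/-- An elementary abelian subgroup of rank two contains every commuting element of order `p`. -/
theorem mem_sup_of_rank_two (hrank : PRankLE p 2 G) {a b c : G} (ha : a ^ p = 1) (hb : b ^ p = 1) (hc : c ^ p = 1)
    (hab : Commute a b) (hac : Commute a c) (hbc : Commute b c) (hb1 : b ≠ 1) (hanb : a ∉ zpowers b) :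
    c ∈ zpowers a ⊔ zpowers b := by
  obtain ⟨E, hE⟩ : ∃ E, E = zpowers a ⊔ zpowers b := ⟨_, rfl⟩
  obtain ⟨A, hA⟩ : ∃ A, A = Subgroup.closure ({a, b, c} : Set G) := ⟨_, rfl⟩
  have hcomm : ∀ x ∈ ({a, b, c} : Set G), ∀ y ∈ ({a, b, c} : Set G), x * y = y * x := by
    rintro x (rfl | rfl | rfl) y (rfl | rfl | rfl)
    all_goals first | rfl | exact hab.eq | exact hab.eq.symm | exact hac.eq | exact hac.eq.symm | exact hbc.eq | exact hbc.eq.symm
  have hAc : IsMulCommutative A := hA ▸ Subgroup.isMulCommutative_closure hcomm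
  have hAexp : ∀ x ∈ A, x ^ p = 1 := by
    intro x hx
    rw [hA] at hx
    induction hx using Subgroup.closure_induction with
    | mem y hy => rcases hy with rfl | rfl | rfl <;> assumption
    | one => exact one_pow p
    | mul y z hy hz ihy ihz =>
      have : Commute y z := congrArg Subtype.val (hAc.is_comm.comm ⟨y, hA ▸ hy⟩ ⟨z, hA ▸ hz⟩)
      rw [this.mul_pow, ihy, ihz, one_mul]
    | inv y _ ihy => rw [inv_pow, ihy, inv_one]
  have hle : E ≤ A := by
    rw [hE, hA, sup_le_iff, zpowers_le, zpowers_le]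
    exact ⟨subset_closure (Or.inl rfl), subset_closure (Or.inr (Or.inl rfl))⟩
  have hb' : orderOf b = p := orderOf_eq_prime hb hb1
  have hEc : p ^ 2 ≤ Nat.card E := by
    obtain ⟨k, hk⟩ : ∃ k, Nat.card E = p ^ k := by
      have hEp : IsPGroup p E := fun x => ⟨1, Subtype.ext (by
        rw [pow_one]; simpa using hAexp _ (hle x.2))⟩
      exact IsPGroup.iff_card.1 hEp
    rw [hk]
    refine Nat.pow_le_pow_right (Fact.out : p.Prime).pos ?_
    by_contra hlt
    have h1 : Nat.card E ≤ Nat.card (zpowers b) := by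
      rw [Nat.card_zpowers, hb', hk]
      exact (Nat.pow_le_pow_right (Fact.out : p.Prime).pos (by omega : k ≤ 1)).trans (pow_one p).le
    have h2 := eq_of_le_of_card_ge (hE ▸ le_sup_right : zpowers b ≤ E) h1
    apply hanb
    rw [h2, hE]
    exact mem_sup_left (mem_zpowers a)
  have h3 := eq_of_le_of_card_ge hle ((hrank A hAc hAexp).trans hEc)
  rw [← hE, h3, hA]
  exact subset_closure (Or.inr (Or.inr rfl))

variable {x : G}

theorem isolated_pow_eq (hx : orderOf x = p) (hiso : IsIsolated x) (P : Sylow p G) (hxP : x ∈ (P : Subgroup G))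
    {n : G} {i : ℤ} (hn : (n * x * n⁻¹) ^ i ∈ (P : Subgroup G)) : (n * x * n⁻¹) ^ i = x ^ i := by
  by_cases hi : x ^ i = 1
  · rw [conj_zpow, hi, mul_one, mul_inv_cancel]
  have hxn : (n * x * n⁻¹) ^ p = 1 := by rw [conj_pow, ← hx, pow_orderOf_eq_one, mul_one, mul_inv_cancel]
  have h1 : n * x * n⁻¹ ∈ (P : Subgroup G) := by
    refine zpowers_le.2 hn (pPower_mem_zpowers hxn fun h => hi ?_)
    rwa [conj_zpow, conj_eq_one_iff] at h
  rw [hiso n (isolated_commute_sylow hiso P hxP h1)]

/-- The generalized Fitting subgroup is a component and is simple. -/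
theorem gFitting_isolated_rank_two (hp : p ≠ 2) (hcore : pPrimeCore p G = ⊥) (hrank : PRankLE p 2 G)
    (hx : orderOf x = p) (hiso : IsIsolated x) (hnc : x ∉ center G) :
    IsSimpleGroup ↥(generalizedFittingSubgroup G) ∧ ¬ IsMulCommutative ↥(generalizedFittingSubgroup G) ∧
      IsComponent (generalizedFittingSubgroup G) ∧ pCore p G = ⊥ := by
  obtain ⟨P, hP⟩ := (mem_zpowers_pGroup (p := p) ⟨1, by rw [pow_one]; exact hx⟩ : IsPGroup p (zpowers x)).exists_le_sylow
  have hxP : x ∈ (P : Subgroup G) := hP (mem_zpowers x)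
  have hxp : x ^ p = 1 := by rw [← hx, pow_orderOf_eq_one]
  have hx1 : x ≠ 1 := fun h => (Fact.out : p.Prime).ne_one (by rw [← hx, h, orderOf_one])
  obtain ⟨Q, hQ⟩ : ∃ Q, Q = pCore p G := ⟨_, rfl⟩
  haveI : Q.Normal := hQ ▸ CfsgLib.Core.normal_pCore p G
  have hQP : Q ≤ (P : Subgroup G) := hQ ▸ CfsgLib.Core.pCore_le_sylow P
  have hxQ : x ∉ Q := by
    intro hmem
    refine hnc (mem_center_iff.2 fun g => ?_)
    have h1 := hiso g (isolated_commute_sylow hiso P hxP (hQP (Normal.conj_mem inferInstance x hmem g)))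
    exact mul_inv_eq_iff_eq_mul.1 h1
  have hF : fittingSubgroup G = Q := by
    refine le_antisymm ?_ (hQ ▸ CfsgLib.Core.pCore_le_fittingSubgroup p)
    have hnil := CfsgLib.Core.isNilpotent_fittingSubgroup G
    rw [CfsgLib.Core.fittingSubgroup_eq_iSup_pCore]
    refine iSup_le fun q => ?_
    obtain ⟨q, hq⟩ := q
    haveI := Fact.mk hq
    by_cases hqp : q = p
    · subst hqp; exact hQ.ge
    · refine le_trans ?_ (bot_le (a := Q))
      rw [← hcore]
      obtain ⟨k, hk⟩ := IsPGroup.iff_card.1 (CfsgLib.Core.isPGroup_pCore q G)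
      haveI : (pCore q G).Normal := CfsgLib.Core.normal_pCore q G
      exact CfsgLib.Core.le_pPrimeCore
        (hk ▸ ((Nat.coprime_primes (Fact.out : q.Prime) (Fact.out : p.Prime)).2 hqp).pow_left k)
  obtain ⟨K, hK⟩ : ∃ K : Subgroup G, IsComponent K := by
    by_contra hno
    push Not at hno
    have hlay : layer G = ⊥ := CfsgLib.Components.layer_eq_bot_iff.2 hno
    have h1 := CfsgLib.Components.centralizer_fitting_le_of_layer_eq_bot hlay
    rw [hF] at h1
    exact hxQ (h1 (mem_centralizer_iff.2 fun v hv => (isolated_commute_sylow hiso P hxP (hQP hv)).eq.symm))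
  have hsylK : ∀ K : Subgroup G, IsComponent K → ¬ p ∣ ((P : Subgroup G) ⊓ K).relIndex K := fun K hK =>
    not_dvd_relIndex_inf_of_subnormal P hK.1
  have hkey : ∀ K : Subgroup G, IsComponent K →
      (∀ e ∈ (P : Subgroup G) ⊓ K, e ^ p = 1 → ∀ n ∈ K, n * e * n⁻¹ ∈ (P : Subgroup G) → n * e * n⁻¹ = e) → False :=
    fun K hK hfix => not_dvd_card_of_fixed_omega hp K (CfsgLib.Components.IsComponent.commutator_eq_self hK) P
      (hsylK K hK) hfix (dvd_card_of_component hcore hK)
  have hQb : Q = ⊥ := by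
    by_contra hne
    haveI : (Q.subgroupOf (P : Subgroup G)).Normal := (inferInstance : Q.Normal).comap _
    obtain ⟨z, hz, hzc, hzo⟩ := CfsgLib.Transfer.exists_mem_center_orderOf_eq P.2
      (Z := Q.subgroupOf (P : Subgroup G)) (fun h0 => hne (by
        have := map_subgroupOf_eq_of_le hQP
        rw [h0, Subgroup.map_bot] at this
        exact this.symm))
    have hzp : (z : G) ^ p = 1 := by
      have h := pow_orderOf_eq_one z
      rw [hzo] at h
      exact congrArg Subtype.val h
    have hzK : ∀ n ∈ K, n * (z : G) = (z : G) * n := by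
      intro n hn
      have h1 := CfsgLib.Components.component_commutes_fitting hK
      rw [commutator_eq_bot_iff_le_centralizer, hF] at h1
      exact (mem_centralizer_iff.1 (h1 hn) _ hz).symm
    have hxz : x ∉ zpowers (z : G) := fun h => hxQ (zpowers_le.2 (show (z : G) ∈ Q from hz) h)
    have hz1 : (z : G) ≠ 1 := fun h => (Fact.out : p.Prime).ne_one (by rw [← hzo, ← Subgroup.orderOf_coe, h, orderOf_one])
    refine hkey K hK fun e he hep n hn hne' => ?_
    have hmem := mem_sup_of_rank_two hrank hxp hzp hep (isolated_commute_sylow hiso P hxP z.2)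
      (isolated_commute_sylow hiso P hxP he.1)
      (congrArg Subtype.val (mem_center_iff.1 hzc ⟨e, he.1⟩)).symm hz1 hxz
    have hnorm : zpowers (z : G) ≤ normalizer (zpowers x : Set G) := by
      refine zpowers_le.2 (centralizer_le_normalizer _ (mem_centralizer_iff.2 fun v hv => ?_))
      obtain ⟨i, rfl⟩ := mem_zpowers_iff.1 hv
      exact ((isolated_commute_sylow hiso P hxP z.2).zpow_left i).eq
    rw [← SetLike.mem_coe, sup_comm, coe_mul_of_left_le_normalizer_right _ _ hnorm] at hmem
    obtain ⟨v, hv, w, hw, rfl⟩ := Set.mem_mul.1 hmem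
    obtain ⟨j, rfl⟩ := mem_zpowers_iff.1 hv
    obtain ⟨i, rfl⟩ := mem_zpowers_iff.1 hw
    have hc : n * ((z : G) ^ j) * n⁻¹ = (z : G) ^ j := by
      rw [← conj_zpow, hzK n hn, mul_inv_cancel_right]
    have e1 : n * ((z : G) ^ j * x ^ i) * n⁻¹ = (z : G) ^ j * (n * x * n⁻¹) ^ i := by
      rw [conj_zpow]
      calc n * ((z : G) ^ j * x ^ i) * n⁻¹ = (n * ((z : G) ^ j) * n⁻¹) * (n * x ^ i * n⁻¹) := by group
        _ = _ := by rw [hc]
    rw [e1] at hne' ⊢
    have h2 : (n * x * n⁻¹) ^ i ∈ (P : Subgroup G) := by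
      have := (P : Subgroup G).mul_mem ((P : Subgroup G).inv_mem (zpow_mem z.2 j)) hne'
      rwa [inv_mul_cancel_left] at this
    rw [isolated_pow_eq hx hiso P hxP h2]
  have honly : ∀ L : Subgroup G, IsComponent L → L = K := by
    by_contra hno
    push Not at hno
    obtain ⟨L, hL, hLK⟩ := hno
    have hdisj : K ⊓ L = ⊥ := by
      have hc1 := CfsgLib.Components.components_commute hK hL hLK.symm
      rw [commutator_eq_bot_iff_le_centralizer] at hc1
      haveI : IsMulCommutative ↥(K ⊓ L) := le_centralizer_iff_isMulCommutative.1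
        ((inf_le_left.trans hc1).trans (centralizer_le (SetLike.coe_subset_coe.2 inf_le_right)))
      have h1 := CfsgLib.Components.subnormal_nilpotent_le_fitting (hK.1.inf hL.1) inferInstance
      rw [hF, hQb] at h1
      exact le_bot_iff.1 h1
    -- if some order `p` element of `P ∩ L` avoids the other factor, the first component is impossible
    have hgen : ∀ K L : Subgroup G, IsComponent K → IsComponent L → K ≠ L → K ⊓ L = ⊥ → x ∉ L → False := by
      intro K L hK hL hne hdisj hxL
      have hc1 := CfsgLib.Components.components_commute hK hL hne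
      rw [commutator_eq_bot_iff_le_centralizer] at hc1
      obtain ⟨T, hT⟩ : ∃ T : Sylow p ↥L, (T : Subgroup ↥L) = (P : Subgroup G).subgroupOf L := by
        refine ⟨(P.2.comap_subtype (K := L)).toSylow ?_, rfl⟩
        intro hd
        apply hsylK L hL
        rwa [inf_relIndex_right]
      obtain ⟨f, hf⟩ := exists_prime_orderOf_dvd_card' p
        (show p ∣ Nat.card ↥(T : Subgroup ↥L) from
          T.2.card_eq_or_dvd.resolve_left fun h => T.ne_bot_of_dvd_card (dvd_card_of_component hcore hL) (card_eq_one.1 h))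
      have hfP : ((f : ↥L) : G) ∈ (P : Subgroup G) := hT.le f.2
      have hfp : ((f : ↥L) : G) ^ p = 1 := by
        have h := pow_orderOf_eq_one f
        rw [hf] at h
        exact congrArg (fun t : ↥(T : Subgroup ↥L) => ((t : ↥L) : G)) h
      have hf1 : ((f : ↥L) : G) ≠ 1 := fun h => (Fact.out : p.Prime).ne_one (by
        rw [← hf, ← Subgroup.orderOf_coe, ← Subgroup.orderOf_coe, h, orderOf_one])
      have hxf : x ∉ zpowers ((f : ↥L) : G) := fun h => hxL (zpowers_le.2 (f : ↥L).2 h)
      have hcomm : Commute x ((f : ↥L) : G) := isolated_commute_sylow hiso P hxP hfP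
      refine hkey K hK fun e he hep n hn hne' => ?_
      have hmem := mem_sup_of_rank_two hrank hxp hfp hep hcomm (isolated_commute_sylow hiso P hxP he.1)
        (mem_centralizer_iff.1 (hc1 he.2) _ (f : ↥L).2) hf1 hxf
      have hnorm : zpowers ((f : ↥L) : G) ≤ normalizer (zpowers x : Set G) := by
        refine zpowers_le.2 (centralizer_le_normalizer _ (mem_centralizer_iff.2 fun v hv => ?_))
        obtain ⟨i, rfl⟩ := mem_zpowers_iff.1 hv
        exact (hcomm.zpow_left i).eq
      rw [← SetLike.mem_coe, sup_comm, coe_mul_of_left_le_normalizer_right _ _ hnorm] at hmem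
      obtain ⟨v, hv, w, hw, rfl⟩ := Set.mem_mul.1 hmem
      obtain ⟨j, rfl⟩ := mem_zpowers_iff.1 hv
      obtain ⟨i, rfl⟩ := mem_zpowers_iff.1 hw
      have hc : n * (((f : ↥L) : G) ^ j) * n⁻¹ = ((f : ↥L) : G) ^ j := by
        rw [← conj_zpow, ← mem_centralizer_iff.1 (hc1 hn) _ (f : ↥L).2, mul_inv_cancel_right]
      have e1 : n * (((f : ↥L) : G) ^ j * x ^ i) * n⁻¹ = ((f : ↥L) : G) ^ j * (n * x * n⁻¹) ^ i := by
        rw [conj_zpow]
        calc n * (((f : ↥L) : G) ^ j * x ^ i) * n⁻¹ = (n * (((f : ↥L) : G) ^ j) * n⁻¹) * (n * x ^ i * n⁻¹) := by group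
          _ = _ := by rw [hc]
      rw [e1] at hne' ⊢
      have h2 : (n * x * n⁻¹) ^ i ∈ (P : Subgroup G) := by
        have := (P : Subgroup G).mul_mem ((P : Subgroup G).inv_mem (zpow_mem hfP j)) hne'
        rwa [inv_mul_cancel_left] at this
      rw [isolated_pow_eq hx hiso P hxP h2]
    by_cases hxL : x ∈ L
    · refine hgen L K hL hK hLK (inf_comm K L ▸ hdisj) fun hxK => hx1 ?_
      exact (mem_bot).1 (hdisj ▸ (⟨hxK, hxL⟩ : x ∈ K ⊓ L))
    · exact hgen K L hK hL (Ne.symm hLK) hdisj hxL
  have hlay : layer G = K := le_antisymm (CfsgLib.Components.layer_le_iff.2 fun L hL => (honly L hL).le)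
    (CfsgLib.Components.le_layer hK)
  have hFK : generalizedFittingSubgroup G = K := by
    rw [generalizedFittingSubgroup, hlay, hF, hQb, sup_bot_eq]
  have hZ : center ↥K = ⊥ := by
    have h1 := CfsgLib.Components.subnormal_nilpotent_le_fitting
      ((CfsgLib.Components.isSubnormal_map_subtype_iff hK.1).2 (inferInstance : (center ↥K).Normal).isSubnormal)
      (by
        haveI : IsMulCommutative ↥((center ↥K).map K.subtype) := inferInstance
        infer_instance)
    rw [hF, hQb, le_bot_iff, map_eq_bot_iff_of_injective _ K.subtype_injective] at h1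
    exact h1
  have hsimple : IsSimpleGroup ↥K := by
    haveI := hK.2.2
    exact ((QuotientGroup.quotientMulEquivOfEq hZ).trans QuotientGroup.quotientBot).symm.isSimpleGroup
  rw [hFK]
  refine ⟨hsimple, fun hc => ?_, hK, hQ ▸ hQb⟩
  apply CfsgLib.Components.IsComponent.ne_bot hK
  rw [← CfsgLib.Components.IsComponent.commutator_eq_self hK]
  exact CfsgLib.Core.isMulCommutative_iff_commutator_eq_bot.1 hc

end CfsgLib.LocalEvenB
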