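import Cfsg.Prelude.Def_JComponents
import Cfsg.Agent.Lib.Transfer.ZJFull
import Cfsg.Agent.Lib.LocalEvenB.ThompsonOf
import Cfsg.Agent.Lib.Core.Coprime
import Cfsg.Agent.Lib.Core.Cores
import Cfsg.Agent.Lib.PGroups.Omega
import Cfsg.Agent.Lib.Signalizer.Basic

/-!
# `J(T)`-components
-/

set_option autoImplicit false
set_option linter.all false

namespace CfsgLib.LocalEvenB

open Subgroup Cfsg
open scoped commutatorElement

variable {G : Type*} [Group G] [Finite G]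

omit [Finite G] in
/-- The elements of a four-group. -/
theorem four_cases {W : Subgroup G} (hc : Nat.card W = 4) {u v x : G} (hu : u ∈ W) (hv : v ∈ W)
    (hu1 : u ≠ 1) (hv1 : v ≠ 1) (huv : u ≠ v) (hu2 : u * u = 1) (hx : x ∈ W) :
    x = 1 ∨ x = u ∨ x = v ∨ x = u * v := by
  classical
  haveI : Finite W := Nat.finite_of_card_ne_zero (by omega)
  letI := Fintype.ofFinite W
  by_contra h0
  push Not at h0
  obtain ⟨h1, h2, h3, h4⟩ := h0
  have huv1 : u * v ≠ 1 := fun h => huv (mul_left_cancel (hu2.trans h.symm))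
  have huvu : u * v ≠ u := fun h => hv1 (mul_left_cancel (h.trans (mul_one u).symm))
  have huvv : u * v ≠ v := fun h => hu1 (mul_right_cancel (h.trans (one_mul v).symm))
  let s : Finset W := {1, ⟨u, hu⟩, ⟨v, hv⟩, ⟨u * v, W.mul_mem hu hv⟩, ⟨x, hx⟩}
  have hs : s.card = 5 := by
    rw [Finset.card_insert_of_notMem, Finset.card_insert_of_notMem, Finset.card_insert_of_notMem,
      Finset.card_insert_of_notMem, Finset.card_singleton] <;>
      simp [Subtype.ext_iff, hu1.symm, hv1.symm, huv, huv1.symm, huvu.symm, huvv.symm, h1.symm, h2.symm, h3.symm, h4.symm]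
  have := s.card_le_univ
  rw [hs, ← Nat.card_eq_fintype_card, hc] at this
  omega

omit [Finite G] in
/-- In a four-group two different nontrivial fixed points of a conjugation force triviality. -/
theorem four_fixed {W : Subgroup G} (hc : Nat.card W = 4) (hsq : ∀ w ∈ W, w * w = 1) {g u v : G}
    (hu : u ∈ W) (hv : v ∈ W) (hu1 : u ≠ 1) (hv1 : v ≠ 1) (huv : u ≠ v)
    (hgu : g * u = u * g) (hgv : g * v = v * g) : ∀ w ∈ W, g * w = w * g := by
  haveI : Finite W := Nat.finite_of_card_ne_zero (by omega)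
  obtain ⟨V, hV⟩ : ∃ V, V = W ⊓ centralizer ({g} : Set G) := ⟨_, rfl⟩
  have huV : u ∈ V := hV ▸ ⟨hu, mem_centralizer_singleton_iff.2 hgu.symm⟩
  have hvV : v ∈ V := hV ▸ ⟨hv, mem_centralizer_singleton_iff.2 hgv.symm⟩
  have hVW : V ≤ W := hV ▸ inf_le_left
  haveI : Finite V := Finite.of_injective (Subgroup.inclusion hVW) (Subgroup.inclusion_injective hVW)
  have hthree : 3 ≤ Nat.card V := by
    have hinj : Function.Injective ![(1 : V), ⟨u, huV⟩, ⟨v, hvV⟩] := by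
      intro i j hij
      fin_cases i <;> fin_cases j <;> simp_all [Subtype.ext_iff, eq_comm]
    simpa using Nat.card_le_card_of_injective _ hinj
  have hd := hc ▸ card_dvd_of_le hVW
  have h4 : Nat.card V = 4 := by
    have := Nat.le_of_dvd (by norm_num) hd
    rcases (by omega : Nat.card V = 3 ∨ Nat.card V = 4) with h | h
    · rw [h] at hd; norm_num at hd
    · exact h
  intro w hw
  have hwV : w ∈ V := (eq_of_le_of_card_ge hVW (by rw [h4, hc])).ge hw
  exact (mem_centralizer_singleton_iff.1 (hV ▸ hwV : w ∈ W ⊓ centralizer ({g} : Set G)).2).symm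

/-- An element of odd order fixing a nontrivial element of a four-group centralises it. -/
theorem four_odd_fixed {W : Subgroup G} (hc : Nat.card W = 4) (hsq : ∀ w ∈ W, w * w = 1) {g u : G}
    (hg : g ∈ normalizer (W : Set G)) (hodd : Odd (orderOf g))
    (hu : u ∈ W) (hu1 : u ≠ 1) (hgu : g * u = u * g) : ∀ w ∈ W, g * w = w * g := by
  intro w hw
  by_cases hw1 : w = 1 ∨ w = u
  · rcases hw1 with rfl | rfl
    · rw [one_mul, mul_one]
    · exact hgu
  push Not at hw1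
  by_contra hne
  have hgw : g * w * g⁻¹ ∈ W := (mem_normalizer_iff.1 hg w).1 hw
  have hgu' : g * u * g⁻¹ = u := by rw [hgu, mul_inv_cancel_right]
  -- the images are `g(w) = u w`
  have hW : ∀ x ∈ W, x = 1 ∨ x = u ∨ x = w ∨ x = u * w := fun x hx =>
    four_cases hc hu hw hu1 hw1.1 (Ne.symm hw1.2) (hsq u hu) hx
  have hgw' : g * w * g⁻¹ = u * w := by
    rcases hW _ hgw with h | h | h | h
    · exact absurd (conj_eq_one_iff.1 h) hw1.1
    · exact absurd (MulAut.conj g |>.injective (show g * w * g⁻¹ = g * u * g⁻¹ by rw [h, hgu'])) hw1.2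
    · exact absurd (mul_inv_eq_iff_eq_mul.1 h) hne
    · exact h
  have hsq2 : g ^ 2 * w * (g ^ 2)⁻¹ = w := by
    rw [show g ^ 2 * w * (g ^ 2)⁻¹ = g * (g * w * g⁻¹) * g⁻¹ by rw [pow_two]; group, hgw',
      show g * (u * w) * g⁻¹ = (g * u * g⁻¹) * (g * w * g⁻¹) by group, hgu', hgw', ← mul_assoc, hsq u hu, one_mul]
  obtain ⟨k, hk⟩ := exists_pow_eq_self_of_coprime (x := g) (n := 2) (Nat.coprime_two_left.2 hodd)
  exact hne (hk ▸ ((show Commute (g ^ 2) w from mul_inv_eq_iff_eq_mul.1 hsq2).pow_left k).eq)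

/-- Odd elements acting quadratically on an elementary abelian 2-group act trivially. -/
theorem centralizes_of_quadratic_odd {V : Subgroup G} (hV : IsElementaryAbelian 2 V) {g v : G}
    (hg : g ∈ normalizer (V : Set G)) (hodd : Odd (orderOf g)) (hv : v ∈ V)
    (hfix : g * (g * v * g⁻¹ * v⁻¹) = (g * v * g⁻¹ * v⁻¹) * g) : g * v = v * g := by
  obtain ⟨w, hw⟩ : ∃ w, w = g * v * g⁻¹ * v⁻¹ := ⟨_, rfl⟩
  have hwV : w ∈ V := hw ▸ mul_mem ((mem_normalizer_iff.1 hg v).1 hv) (inv_mem hv)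
  rw [← hw] at hfix
  have hn : ∀ n : ℕ, g ^ n * v * (g ^ n)⁻¹ = w ^ n * v := by
    intro n
    induction n with
    | zero => simp
    | succ n ih =>
      have h1 : g * w ^ n * g⁻¹ = w ^ n := by
        rw [((show Commute g w from hfix).pow_right n).eq, mul_inv_cancel_right]
      calc g ^ (n + 1) * v * (g ^ (n + 1))⁻¹ = g * (g ^ n * v * (g ^ n)⁻¹) * g⁻¹ := by rw [pow_succ']; group
        _ = (g * w ^ n * g⁻¹) * (g * v * g⁻¹) := by rw [ih]; group
        _ = w ^ (n + 1) * v := by rw [h1, pow_succ, hw]; group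
  have h1 := hn (orderOf g)
  rw [pow_orderOf_eq_one, one_mul, inv_one, mul_one] at h1
  have h2 : w ^ orderOf g = 1 := (mul_eq_right.1 h1.symm)
  obtain ⟨k, hk⟩ := hodd
  rw [hk, pow_add, pow_mul, hV.2 w hwV, one_pow, one_mul, pow_one] at h2
  rw [hw, mul_inv_eq_one] at h2
  exact mul_inv_eq_iff_eq_mul.1 h2

/-- Data common to the arguments on a `J(T)`-component `K`. -/
structure JData (K J S : Subgroup G) : Prop where
  gen : Subgroup.closure {g : G | g ∈ K ∧ Odd (orderOf g)} = K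
  comm : ⁅K, J⁆ = K
  index : (pCoreOf 2 K).relIndex K = 3
  sylow : IsSylowTwoIn S (K ⊔ J)
  thomp : thompsonSubgroupOf 2 S = J
  wcard : Nat.card ↥(wOf K) = 4
  wsq : ∀ w ∈ wOf K, w * w = 1

theorem exists_jData {T K : Subgroup G} (hT : IsPGroup 2 T) (hK : IsJComponent T K) :
    ∃ S : Subgroup G, JData K (thompsonSubgroupOf 2 T) S := by
  obtain ⟨h1, h2, h3, h4, h5, h6⟩ := hK
  have hJp : IsPGroup 2 (thompsonSubgroupOf 2 T) := hT.to_le (thompsonSubgroupOf_le T)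
  obtain ⟨H, hH⟩ : ∃ H, H = K ⊔ thompsonSubgroupOf 2 T := ⟨_, rfl⟩
  obtain ⟨P, hP⟩ := (hJp.comap_subtype (K := H)).exists_le_sylow
  have hodd : Odd (((P : Subgroup ↥H).map H.subtype).relIndex H) := by
    rw [relIndex, subgroupOf, comap_map_eq_self_of_injective (subtype_injective _), Nat.odd_iff]
    have := P.not_dvd_index
    omega
  have hsy : IsSylowTwoIn ((P : Subgroup ↥H).map H.subtype) H := ⟨map_subtype_le _, P.2.map _, hodd⟩
  have hle : thompsonSubgroupOf 2 T ≤ (P : Subgroup ↥H).map H.subtype := fun x hx =>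
    ⟨⟨x, hH ▸ mem_sup_right hx⟩, hP (mem_subgroupOf.2 hx), rfl⟩
  exact ⟨(P : Subgroup ↥H).map H.subtype, ⟨h1, h2, h3, hH ▸ hsy, h4 _ (hH ▸ hsy) hle, h5, h6⟩⟩

namespace JData

variable {K J S : Subgroup G} (h : JData K J S)
include h

theorem le_normalizer_K : K ⊔ J ≤ normalizer (K : Set G) :=
  sup_le le_normalizer (by
    have := CfsgLib.Core.le_normalizer_commutator_self J K
    rw [h.comm] at this
    exact le_sup_right.trans this)

theorem le_normalizer_Q : K ⊔ J ≤ normalizer (pCoreOf 2 K : Set G) := by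
  intro g hg
  have hgK := h.le_normalizer_K hg
  rw [mem_normalizer_iff_map_conj_eq]
  have e := CfsgLib.Core.map_equiv_pCore (p := 2) (normalizerMonoidHom K ⟨g, hgK⟩)
  conv_rhs => rw [pCoreOf, ← e]
  rw [pCoreOf, map_map, map_map]
  rfl

omit h in
theorem Q_two (K : Subgroup G) : IsPGroup 2 (pCoreOf 2 K) := (CfsgLib.Core.isPGroup_pCore 2 ↥K).map _

theorem le_normalizer_W : K ⊔ J ≤ normalizer (wOf K : Set G) := by
  rw [le_normalizer_iff]
  intro g hg w hw
  obtain ⟨V, hV⟩ : ∃ V, V = omegaCenterOf (pCoreOf 2 K) := ⟨_, rfl⟩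
  have hgK := mem_normalizer_iff_map_conj_eq.1 (h.le_normalizer_K hg)
  have hgV : V.map (MulAut.conj g).toMonoidHom ≤ V := by
    rw [hV, omegaCenterOf, omegaOne, MonoidHom.map_closure, closure_le]
    rintro _ ⟨x, ⟨⟨hx, hxc⟩, hx2⟩, rfl⟩
    refine subset_closure ⟨⟨(mem_normalizer_iff.1 (h.le_normalizer_Q hg) x).1 hx, ?_⟩, ?_⟩
    · refine mem_centralizer_iff.2 ?_
      intro y hy
      have h1 := mem_centralizer_iff.1 hxc _ ((mem_normalizer_iff''.1 (h.le_normalizer_Q hg) y).1 hy)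
      show y * (g * x * g⁻¹) = g * x * g⁻¹ * y
      calc y * (g * x * g⁻¹) = g * ((g⁻¹ * y * g) * x) * g⁻¹ := by group
        _ = g * (x * (g⁻¹ * y * g)) * g⁻¹ := by rw [h1]
        _ = g * x * g⁻¹ * y := by group
    · show (MulAut.conj g x) ^ 2 = 1
      rw [← map_pow, hx2, map_one]
  have h1 : (wOf K).map (MulAut.conj g).toMonoidHom ≤ wOf K := by
    rw [wOf, map_commutator, ← hV]
    exact commutator_mono hgV (le_of_eq hgK)
  exact h1 ⟨w, hw, rfl⟩

omit h in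
theorem omegaCenter_elementary (Q : Subgroup G) : IsElementaryAbelian 2 (omegaCenterOf Q) := by
  haveI : IsMulCommutative ↥(Q ⊓ centralizer (Q : Set G)) :=
    le_centralizer_iff_isMulCommutative.1 (inf_le_right.trans (centralizer_le inf_le_left))
  exact CfsgLib.PGroups.isElementaryAbelian_omegaOne

theorem W_le_omega : wOf K ≤ omegaCenterOf (pCoreOf 2 K) := by
  rw [wOf]
  refine commutator_le.2 fun v hv k hk => ?_
  rw [commutatorElement_def]
  have hk' : k ∈ normalizer (omegaCenterOf (pCoreOf 2 K) : Set G) := by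
    have hn : k⁻¹ ∈ K ⊔ J := inv_mem (mem_sup_left hk)
    refine CfsgLib.LocalEvenB.mem_normalizer_of_forall fun x hx => ?_
    rw [omegaCenterOf, omegaOne] at hx ⊢
    induction hx using closure_induction with
    | mem x hx =>
      obtain ⟨⟨hx, hxc⟩, hx2⟩ := hx
      refine subset_closure ⟨⟨(mem_normalizer_iff.1 (h.le_normalizer_Q (mem_sup_left hk)) x).1 hx, ?_⟩, ?_⟩
      · refine mem_centralizer_iff.2 ?_
        intro y hy
        have h1 := mem_centralizer_iff.1 hxc _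
          ((mem_normalizer_iff''.1 (h.le_normalizer_Q (mem_sup_left hk)) y).1 hy)
        calc y * (k * x * k⁻¹) = k * ((k⁻¹ * y * k) * x) * k⁻¹ := by group
          _ = k * (x * (k⁻¹ * y * k)) * k⁻¹ := by rw [h1]
          _ = k * x * k⁻¹ * y := by group
      · rw [conj_pow, hx2, mul_one, mul_inv_cancel]
    | one => simp
    | mul a b _ _ ha hb => rw [show k * (a * b) * k⁻¹ = k * a * k⁻¹ * (k * b * k⁻¹) by group]; exact mul_mem ha hb
    | inv a _ ha => rw [show k * a⁻¹ * k⁻¹ = (k * a * k⁻¹)⁻¹ by group]; exact inv_mem ha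
  rw [show v * k * v⁻¹ * k⁻¹ = v * (k * v⁻¹ * k⁻¹) by group]
  exact mul_mem hv ((mem_normalizer_iff.1 hk' _).1 (inv_mem hv))

theorem exists_odd_not_centralizing :
    ∃ c ∈ K, Odd (orderOf c) ∧ c ∉ centralizer (wOf K : Set G) := by
  by_contra h0
  push Not at h0
  have hVn : ∀ k ∈ K, k ∈ normalizer (omegaCenterOf (pCoreOf 2 K) : Set G) := by
    intro k hk
    refine CfsgLib.LocalEvenB.mem_normalizer_of_forall fun x hx => ?_
    have h1 : x * k * x⁻¹ * k⁻¹ ∈ wOf K := by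
      rw [← commutatorElement_def]; exact commutator_mem_commutator hx hk
    have h2 := mul_mem (inv_mem hx) (h.W_le_omega h1)
    have h3 := inv_mem h2
    rwa [show (x⁻¹ * (x * k * x⁻¹ * k⁻¹))⁻¹ = k * x * k⁻¹ by group] at h3
  have hgen : K ≤ centralizer (omegaCenterOf (pCoreOf 2 K) : Set G) := by
    conv_lhs => rw [← h.gen]
    rw [closure_le]
    rintro c ⟨hc, hodd⟩
    rw [SetLike.mem_coe, mem_centralizer_iff]
    intro v hv
    refine (centralizes_of_quadratic_odd (omegaCenter_elementary _) (hVn c hc) hodd hv ?_).symm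
    have h1 : c * v * c⁻¹ * v⁻¹ ∈ wOf K := by
      have h2 : ⁅c, v⁆ ∈ wOf K := by
        rw [wOf, commutator_comm]; exact commutator_mem_commutator hc hv
      rwa [commutatorElement_def] at h2
    exact (mem_centralizer_iff.1 (h0 c hc hodd) _ h1).symm
  have hbot : wOf K = ⊥ := commutator_eq_bot_iff_le_centralizer.2 (le_centralizer_iff.1 hgen)
  have := h.wcard
  rw [hbot, card_bot] at this
  omega

theorem Q_centralizes_W : pCoreOf 2 K ≤ centralizer (wOf K : Set G) := by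
  rw [le_centralizer_iff]
  refine h.W_le_omega.trans ?_
  rw [omegaCenterOf]
  exact (CfsgLib.PGroups.omegaOne_le _).trans inf_le_right

theorem not_J_centralizes_W : ¬ J ≤ centralizer (wOf K : Set G) := by
  intro hJc
  obtain ⟨c, hc, -, hne⟩ := h.exists_odd_not_centralizing
  apply hne
  rw [← h.comm] at hc
  refine (commutator_le.2 fun k hk j hj => ?_ : ⁅K, J⁆ ≤ centralizer (wOf K : Set G)) hc
  rw [commutatorElement_def]
  have hkj : k * j * k⁻¹ ∈ centralizer (wOf K : Set G) := by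
    rw [mem_centralizer_iff]
    intro w hw
    have h1 := mem_centralizer_iff.1 (hJc hj) _
      ((mem_normalizer_iff''.1 (h.le_normalizer_W (mem_sup_left hk)) w).1 hw)
    calc w * (k * j * k⁻¹) = k * ((k⁻¹ * w * k) * j) * k⁻¹ := by group
      _ = k * (j * (k⁻¹ * w * k)) * k⁻¹ := by rw [h1]
      _ = k * j * k⁻¹ * w := by group
  exact mul_mem hkj (inv_mem (hJc hj))

theorem S_two : IsPGroup 2 S := h.sylow.2.1

theorem J_le : J ≤ S := h.thomp ▸ thompsonSubgroupOf_le S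

theorem W_ne_bot : wOf K ≠ ⊥ := fun h0 => by
  have := h.wcard; rw [h0, card_bot] at this; omega

theorem not_S_centralizes_W : ¬ S ≤ centralizer (wOf K : Set G) := fun h0 =>
  h.not_J_centralizes_W (h.J_le.trans h0)

/-- A 2-element acting nontrivially on `W`: its fixed points have order two. -/
theorem fixed_eq {g u v : G} (hgc : g ∉ centralizer (wOf K : Set G)) (hu : u ∈ wOf K) (hv : v ∈ wOf K)
    (hu1 : u ≠ 1) (hv1 : v ≠ 1) (hgu : g * u = u * g) (hgv : g * v = v * g) : u = v := by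
  by_contra huv
  exact hgc (mem_centralizer_iff.2 fun w hw =>
    (four_fixed h.wcard h.wsq hu hv hu1 hv1 huv hgu hgv w hw).symm)

theorem exists_fixed {P : Subgroup G} (hP : IsPGroup 2 P) (hPH : P ≤ K ⊔ J) :
    ∃ u ∈ wOf K, u ≠ 1 ∧ ∀ g ∈ P, g * u = u * g := by
  have hW2 : IsPGroup 2 (wOf K) := IsPGroup.of_card (n := 2) (by rw [h.wcard]; rfl)
  have hPn : P ≤ normalizer (wOf K : Set G) := hPH.trans h.le_normalizer_W
  have hU : IsPGroup 2 ↥(P ⊔ wOf K) := hP.to_sup_of_normal_right' hW2 hPn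
  haveI : ((wOf K).subgroupOf (P ⊔ wOf K)).Normal :=
    (normal_subgroupOf_iff_le_normalizer le_sup_right).2 (sup_le hPn le_normalizer)
  obtain ⟨u, ⟨hu, huZ⟩, hu1⟩ := (Subgroup.bot_or_exists_ne_one _).resolve_left
    (CfsgLib.PGroups.inf_center_ne_bot hU (N := (wOf K).subgroupOf (P ⊔ wOf K)) (fun h0 => by
      rw [subgroupOf_eq_bot] at h0
      exact h.W_ne_bot (disjoint_self.1 (h0.mono_right le_sup_right))))
  exact ⟨u, hu, fun e => hu1 (Subtype.ext e), fun g hg =>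
    congrArg Subtype.val (mem_center_iff.1 huZ ⟨g, mem_sup_left hg⟩)⟩

theorem card_H_dvd : Nat.card ↥(K ⊔ J) = 3 * Nat.card S := by
  obtain ⟨Q, hQ⟩ : ∃ Q, Q = pCoreOf 2 K := ⟨_, rfl⟩
  have hKc : Nat.card K = 3 * Nat.card Q := by
    have h1 := (Q.subgroupOf K).card_mul_index
    rw [← relIndex, hQ, h.index, Nat.card_congr (subgroupOfEquivOfLe (show pCoreOf 2 K ≤ K from map_subtype_le _)).toEquiv] at h1
    rw [← h1, hQ, mul_comm]
  have hJK : J ≤ normalizer (K : Set G) := le_sup_right.trans h.le_normalizer_K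
  have hsup := CfsgLib.Core.card_sup_mul_card_inf J K hJK
  obtain ⟨a, ha⟩ := IsPGroup.iff_card.1 (hQ ▸ Q_two K : IsPGroup 2 Q)
  obtain ⟨b, hb⟩ := IsPGroup.iff_card.1 (h.S_two.to_le h.J_le)
  obtain ⟨c, hc⟩ := IsPGroup.iff_card.1 ((h.S_two.to_le h.J_le).to_le (inf_le_right : K ⊓ J ≤ J))
  obtain ⟨s, hs⟩ := IsPGroup.iff_card.1 h.S_two
  have hrel : S.relIndex (K ⊔ J) * Nat.card S = Nat.card ↥(K ⊔ J) := by
    rw [← relIndex_bot_left, ← relIndex_bot_left, mul_comm]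
    exact relIndex_mul_relIndex ⊥ S (K ⊔ J) bot_le h.sylow.1
  have hodd := h.sylow.2.2
  rw [sup_comm, inf_comm, hKc, ha, hb, hc, ← hrel, hs] at hsup
  rw [mul_comm (2 ^ b)] at hsup
  have hdvd : S.relIndex (K ⊔ J) ∣ 3 := by
    have h1 : S.relIndex (K ⊔ J) ∣ 3 * 2 ^ (a + b) := ⟨2 ^ s * 2 ^ c, by rw [pow_add, ← mul_assoc, ← mul_assoc]; exact hsup.symm⟩
    exact (Nat.Coprime.pow_right _ (Nat.coprime_two_right.2 hodd)).dvd_of_dvd_mul_right h1
  rcases (Nat.dvd_prime Nat.prime_three).1 hdvd with h1 | h1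
  · exfalso
    rw [h1, one_mul] at hrel
    obtain ⟨c, hcK, hco, hcc⟩ := h.exists_odd_not_centralizing
    have h2 : orderOf c ∣ 2 ^ s := by
      rw [← hs, hrel, ← Subgroup.orderOf_mk c (mem_sup_left hcK : c ∈ K ⊔ J)]
      exact orderOf_dvd_natCard _
    have h3 : orderOf c = 1 := Nat.eq_one_of_dvd_coprimes ((Nat.coprime_two_right.2 hco).pow_right s) dvd_rfl h2
    rw [orderOf_eq_one_iff] at h3
    exact hcc (h3 ▸ one_mem _)
  · rw [← hrel, h1]

/-- The kernel on `W` lies in `S`, and is invariant. -/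
theorem kernel_le : (K ⊔ J) ⊓ centralizer (wOf K : Set G) ≤ S := by
  obtain ⟨R, hR⟩ : ∃ R, R = (K ⊔ J) ⊓ centralizer (wOf K : Set G) := ⟨_, rfl⟩
  rw [← hR]
  obtain ⟨c, hcK, hco, hcc⟩ := h.exists_odd_not_centralizing
  -- `3` does not divide the order of the kernel
  have hRodd : ∀ r ∈ R, Odd (orderOf r) → r = 1 := by
    intro r hr hro
    obtain ⟨hrH, hrc⟩ := (hR ▸ hr : r ∈ (K ⊔ J) ⊓ centralizer (wOf K : Set G))
    by_contra hr1
    have h3 : orderOf r = 3 := by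
      have hd : orderOf r ∣ 3 * Nat.card S := by
        rw [← h.card_H_dvd, ← Subgroup.orderOf_mk r hrH]
        exact orderOf_dvd_natCard _
      obtain ⟨s, hs⟩ := IsPGroup.iff_card.1 h.S_two
      rw [hs] at hd
      rcases (Nat.dvd_prime Nat.prime_three).1
        ((Nat.Coprime.pow_right s (Nat.coprime_two_right.2 hro)).dvd_of_dvd_mul_right hd) with h1 | h1
      · exact absurd (orderOf_eq_one_iff.1 h1) hr1
      · exact h1
    haveI := Fact.mk Nat.prime_three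
    obtain ⟨P, hP⟩ := (IsPGroup.of_card (n := 1) (show Nat.card ↥((zpowers r).subgroupOf (K ⊔ J)) = 3 ^ 1 by
      rw [Nat.card_congr (subgroupOfEquivOfLe (zpowers_le.2 hrH)).toEquiv, Nat.card_zpowers, h3, pow_one]) :
        IsPGroup 3 _).exists_le_sylow
    have hco3 : orderOf c = 3 := by
      have hd : orderOf c ∣ 3 * Nat.card S := by
        rw [← h.card_H_dvd, ← Subgroup.orderOf_mk c (mem_sup_left hcK : c ∈ K ⊔ J)]
        exact orderOf_dvd_natCard _
      obtain ⟨s, hs⟩ := IsPGroup.iff_card.1 h.S_two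
      rw [hs] at hd
      rcases (Nat.dvd_prime Nat.prime_three).1
        ((Nat.Coprime.pow_right s (Nat.coprime_two_right.2 hco)).dvd_of_dvd_mul_right hd) with h1 | h1
      · exact absurd (orderOf_eq_one_iff.1 h1 ▸ one_mem _) hcc
      · exact h1
    obtain ⟨P', hP'⟩ := (IsPGroup.of_card (n := 1) (show Nat.card ↥((zpowers c).subgroupOf (K ⊔ J)) = 3 ^ 1 by
      rw [Nat.card_congr (subgroupOfEquivOfLe (zpowers_le.2 (mem_sup_left hcK))).toEquiv, Nat.card_zpowers, hco3, pow_one]) :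
        IsPGroup 3 _).exists_le_sylow
    obtain ⟨t, ht⟩ := MulAction.exists_smul_eq ↥(K ⊔ J) P P'
    have hPc : Nat.card (P : Subgroup ↥(K ⊔ J)) = 3 := by
      obtain ⟨m, hm⟩ := IsPGroup.iff_card.1 P.2
      have hd : 3 ^ m ∣ 3 * Nat.card S := by rw [← h.card_H_dvd, ← hm]; exact card_subgroup_dvd_card _
      obtain ⟨s, hs⟩ := IsPGroup.iff_card.1 h.S_two
      rw [hs] at hd
      have h1 : 3 ^ m ∣ 3 := (Nat.Coprime.pow _ _ (by norm_num : Nat.Coprime 3 2)).dvd_of_dvd_mul_right hd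
      have h2 : 3 ∣ 3 ^ m := by
        rw [← hm]
        have := card_dvd_of_le hP
        rwa [Nat.card_congr (subgroupOfEquivOfLe (zpowers_le.2 hrH)).toEquiv, Nat.card_zpowers, h3] at this
      rw [hm]
      exact Nat.dvd_antisymm h1 h2
    have hP0 : (zpowers r).subgroupOf (K ⊔ J) = (P : Subgroup ↥(K ⊔ J)) := eq_of_le_of_card_ge hP (by
      rw [hPc, Nat.card_congr (subgroupOfEquivOfLe (zpowers_le.2 hrH)).toEquiv, Nat.card_zpowers, h3])
    have hcP : (⟨c, mem_sup_left hcK⟩ : ↥(K ⊔ J)) ∈ (P' : Subgroup ↥(K ⊔ J)) := hP' (mem_zpowers c)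
    rw [← ht, CfsgLib.Transfer.mem_sylow_smul, ← hP0] at hcP
    have hconj : (t : G)⁻¹ * c * t ∈ centralizer (wOf K : Set G) := (zpowers_le.2 hrc) (mem_subgroupOf.1 hcP)
    apply hcc
    rw [mem_centralizer_iff]
    intro w hw
    have h1 := mem_centralizer_iff.1 hconj _ ((mem_normalizer_iff''.1 (h.le_normalizer_W t.2) w).1 hw)
    calc w * c = (t : G) * (((t : G)⁻¹ * w * t) * ((t : G)⁻¹ * c * t)) * (t : G)⁻¹ := by group
      _ = (t : G) * (((t : G)⁻¹ * c * t) * ((t : G)⁻¹ * w * t)) * (t : G)⁻¹ := by rw [h1]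
      _ = c * w := by group
  have hR2 : IsPGroup 2 R := by
    obtain ⟨k, hk⟩ : ∃ k, Nat.card R = 2 ^ k := by
      refine ⟨(Nat.card R).factorization 2, ?_⟩
      have h2 := Nat.eq_prime_pow_of_unique_prime_dvd (n := Nat.card R) (p := 2) Nat.card_pos.ne'
        (fun {q} hq hd => by
          by_contra hq2
          haveI := Fact.mk hq
          obtain ⟨r, hr⟩ := exists_prime_orderOf_dvd_card' (G := R) q hd
          have := hRodd r r.2 (by rw [Subgroup.orderOf_coe, hr]; exact hq.odd_of_ne_two hq2)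
          rw [show r = 1 from Subtype.ext this, orderOf_one] at hr
          exact hq.ne_one hr.symm)
      rw [h2, Nat.prime_two.factorization_pow, Finsupp.single_eq_same]
    exact IsPGroup.of_card hk
  haveI : (R.comap (K ⊔ J).subtype).Normal := by
    show (R.subgroupOf (K ⊔ J)).Normal
    refine (normal_subgroupOf_iff_le_normalizer (hR ▸ inf_le_left)).2 ?_
    rw [hR]
    exact (le_inf le_normalizer (h.le_normalizer_W.trans
      (CfsgLib.Signalizer.normalizer_le_normalizer_centralizer_set _))).trans inf_normalizer_le_normalizer_inf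
  have hSylow : ¬ 2 ∣ (S.subgroupOf (K ⊔ J)).index := h.sylow.2.2.not_two_dvd_nat
  have h1 := (hR2.comap_subtype (K := K ⊔ J)).le_sylow_of_normal ((h.S_two.comap_subtype).toSylow hSylow)
  intro r hr
  exact h1 (x := ⟨r, (hR ▸ hr : r ∈ (K ⊔ J) ⊓ centralizer (wOf K : Set G)).1⟩) (mem_subgroupOf.2 hr)

/-- The intersection of all maximal elementary subgroups of `S` centralising `W`. -/
theorem omega_center_split (Z₀ : Subgroup G) (hZ₀ : Z₀ = omegaCenterOf J) :
    Nat.card ↥(Z₀ ⊓ wOf K) = 2 ∧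
      (Z₀ ⊓ ((K ⊔ J) ⊓ centralizer ((K ⊔ J : Subgroup G) : Set G))) ⊔ (Z₀ ⊓ wOf K) = Z₀ := by
  obtain ⟨W, hW⟩ : ∃ W, W = wOf K := ⟨_, rfl⟩
  have hWc : Nat.card W = 4 := hW ▸ h.wcard
  have hWel : IsElementaryAbelian 2 W :=
    CfsgLib.Signalizer.elementary_of_le (omegaCenter_elementary _) (hW ▸ h.W_le_omega)
  have hHn : K ⊔ J ≤ normalizer (W : Set G) := hW ▸ h.le_normalizer_W
  have hHCn : K ⊔ J ≤ normalizer (centralizer (W : Set G) : Set G) :=
    hHn.trans (CfsgLib.Signalizer.normalizer_le_normalizer_centralizer_set _)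
  obtain ⟨R, hR⟩ : ∃ R, R = (K ⊔ J) ⊓ centralizer (W : Set G) := ⟨_, rfl⟩
  have hRS : R ≤ S := hR ▸ hW ▸ h.kernel_le
  have hWR : W ≤ R := hR ▸ le_inf
    (hW ▸ ((h.W_le_omega.trans ((CfsgLib.PGroups.omegaOne_le _).trans inf_le_left)).trans
      ((map_subtype_le _).trans le_sup_left)))
    (le_centralizer_iff_isMulCommutative.2 hWel.1)
  obtain ⟨u, hu, hu1, hSu⟩ := h.exists_fixed h.S_two h.sylow.1
  rw [← hW] at hu
  -- elements of `Z₀`
  have hJS : J ≤ S := h.J_le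
  have hmemJ : ∀ {A : Subgroup G}, CfsgLib.Transfer.MaxElem 2 S A → A ≤ J := fun hA =>
    h.thomp ▸ CfsgLib.Transfer.le_thompsonOf_of_max hA
  have hinA : ∀ {A : Subgroup G}, CfsgLib.Transfer.MaxElem 2 S A → ∀ x ∈ S, x ^ 2 = 1 →
      (∀ a ∈ A, a * x = x * a) → x ∈ A := fun hA x hx h2 hc =>
    CfsgLib.Transfer.mem_maxElem_of_centralizes hA hx h2 (mem_centralizer_iff.2 hc)
  obtain ⟨A₁, hA₁, hA₁W⟩ : ∃ A, CfsgLib.Transfer.MaxElem 2 S A ∧ ¬ A ≤ centralizer (W : Set G) := by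
    by_contra h0
    push Not at h0
    refine h.not_J_centralizes_W ?_
    rw [← h.thomp, CfsgLib.Transfer.thompsonOf_eq_sSup, ← hW]
    exact sSup_le h0
  have hu2 : u ^ 2 = 1 := hWel.2 u hu
  have huS : u ∈ S := hRS (hWR hu)
  have huZ : u ∈ Z₀ := by
    rw [hZ₀, omegaCenterOf]
    refine CfsgLib.PGroups.mem_omegaOne ⟨hmemJ hA₁ (hinA hA₁ u huS hu2 fun a ha =>
      hSu a (hA₁.1 ha)), mem_centralizer_iff.2 fun j hj => hSu j (hJS hj)⟩ hu2
  have hZfix : ∀ z ∈ Z₀, z ∈ J ∧ (∀ j ∈ J, j * z = z * j) ∧ z ^ 2 = 1 := by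
    intro z hz
    rw [hZ₀, omegaCenterOf] at hz
    haveI : IsMulCommutative ↥(J ⊓ centralizer (J : Set G)) :=
      le_centralizer_iff_isMulCommutative.1 (inf_le_right.trans (centralizer_le inf_le_left))
    obtain ⟨h1, h2⟩ := CfsgLib.PGroups.mem_omegaOne_iff_of_comm.1 hz
    exact ⟨h1.1, mem_centralizer_iff.1 h1.2, h2⟩
  have hcard2 : Nat.card ↥(Z₀ ⊓ W) = 2 := by
    have hle : Z₀ ⊓ W ≤ zpowers u := by
      rintro v ⟨hvZ, hv⟩
      by_cases hv1 : v = 1
      · rw [hv1]; exact one_mem _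
      obtain ⟨j, hj, hjc⟩ := SetLike.not_le_iff_exists.1 (h.not_J_centralizes_W)
      rw [h.fixed_eq hjc (hW ▸ hv) (hW ▸ hu) hv1 hu1 ((hZfix v hvZ).2.1 j hj) ((hZfix u huZ).2.1 j hj)]
      exact mem_zpowers u
    rw [le_antisymm hle (zpowers_le.2 ⟨huZ, hu⟩), Nat.card_zpowers, orderOf_eq_prime hu2 hu1]
  refine ⟨hW ▸ hcard2, ?_⟩
  rw [← hW]
  -- the invariant subgroup `Y`
  obtain ⟨Y, hY⟩ : ∃ Y, Y = R ⊓ sInf {A | CfsgLib.Transfer.MaxElem 2 S A ∧ A ≤ R} := ⟨_, rfl⟩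
  -- `A ⊓ C(W)` extended by `W`
  have hext : ∀ A, CfsgLib.Transfer.MaxElem 2 S A → ¬ A ≤ centralizer (W : Set G) →
      CfsgLib.Transfer.MaxElem 2 S ((A ⊓ centralizer (W : Set G)) ⊔ W) ∧
      (A ⊓ centralizer (W : Set G)) ⊔ W ≤ R ∧
      Nat.card A ≤ 2 * Nat.card ↥(A ⊓ centralizer (W : Set G)) := by
    intro A hA hAW
    obtain ⟨A₀, hA₀⟩ : ∃ A₀, A₀ = A ⊓ centralizer (W : Set G) := ⟨_, rfl⟩
    rw [← hA₀]
    have hA₀R : A₀ ≤ R := hA₀ ▸ hR ▸ inf_le_inf_right _ (hA.1.trans h.sylow.1)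
    have hA₀W : A₀ ≤ centralizer (W : Set G) := hA₀ ▸ inf_le_right
    have hel : IsElementaryAbelian 2 (A₀ ⊔ W) := CfsgLib.PLocal.elementary_sup
      (CfsgLib.Signalizer.elementary_of_le hA.2.1 (hA₀ ▸ inf_le_left)) hWel hA₀W
    have hsup : A₀ ⊔ W ≤ R := sup_le hA₀R hWR
    -- index at most two
    obtain ⟨a, ha, hac⟩ := SetLike.not_le_iff_exists.1 hAW
    have hAfix : ∀ b ∈ A, b ∉ centralizer (W : Set G) → b * a⁻¹ ∈ centralizer (W : Set G) := by
      intro b hb hbc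
      obtain ⟨v, hv, hv1⟩ : ∃ v ∈ W, v ∉ zpowers u := by
        by_contra h0
        push Not at h0
        have := Nat.le_of_dvd Nat.card_pos (card_dvd_of_le (h0 : W ≤ zpowers u))
        rw [hWc, Nat.card_zpowers, orderOf_eq_prime hu2 hu1] at this
        omega
      have hbH : b ∈ K ⊔ J := h.sylow.1 (hA.1 hb)
      have haH : a ∈ K ⊔ J := h.sylow.1 (hA.1 ha)
      have key : ∀ x ∈ A, x ∉ centralizer (W : Set G) → x * v * x⁻¹ = u * v := by
        intro x hx hxc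
        have hxv : x * v * x⁻¹ ∈ W := (mem_normalizer_iff.1 (hHn (h.sylow.1 (hA.1 hx))) v).1 hv
        have hxu : x * u * x⁻¹ = u := by rw [hSu x (hA.1 hx), mul_inv_cancel_right]
        obtain ⟨w, hw⟩ : ∃ w, w = x * v * x⁻¹ * v⁻¹ := ⟨_, rfl⟩
        have hwW : w ∈ W := hw ▸ mul_mem hxv (inv_mem hv)
        have hx2 : x * (x * v * x⁻¹) * x⁻¹ = v := by
          rw [show x * (x * v * x⁻¹) * x⁻¹ = x ^ 2 * v * (x ^ 2)⁻¹ by rw [pow_two]; group, hA.2.1.2 x hx]; group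
        have hvv : v⁻¹ = v := inv_eq_of_mul_eq_one_right (h.wsq v (hW ▸ hv))
        have hwx : x * w = w * x := by
          rw [← mul_inv_eq_iff_eq_mul, hw,
            show x * (x * v * x⁻¹ * v⁻¹) * x⁻¹ = (x * (x * v * x⁻¹) * x⁻¹) * (x * v * x⁻¹)⁻¹ by group, hx2,
            inv_eq_of_mul_eq_one_right (h.wsq _ (hW ▸ hxv)), hvv]
          exact congrArg Subtype.val (hWel.1.is_comm.comm ⟨v, hv⟩ ⟨_, hxv⟩)
        have hw1 : w ≠ 1 := by
          intro h0
          rw [hw, mul_inv_eq_one] at h0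
          have h0' := mul_inv_eq_iff_eq_mul.1 h0
          exact hv1 ((h.fixed_eq (hW ▸ hxc) (hW ▸ hu) (hW ▸ hv) hu1 (fun e => hv1 (by rw [e]; exact one_mem _))
            (hSu x (hA.1 hx)) h0') ▸ mem_zpowers u)
        have := h.fixed_eq (hW ▸ hxc) (hW ▸ hu) (hW ▸ hwW) hu1 hw1 (hSu x (hA.1 hx)) hwx
        rw [this, hw, inv_mul_cancel_right]
      rw [mem_centralizer_iff]
      intro w hw
      have hbv := key b hb hbc
      have hav := key a ha hac
      have hcv : (b * a⁻¹) * v = v * (b * a⁻¹) := by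
        rw [← mul_inv_eq_iff_eq_mul]
        have h1 : a⁻¹ * v * a = u * v := by
          rw [show a⁻¹ = a from inv_eq_of_mul_eq_one_right (by rw [← pow_two]; exact hA.2.1.2 a ha)] at hav ⊢
          exact hav
        calc b * a⁻¹ * v * (b * a⁻¹)⁻¹ = b * (a⁻¹ * v * a) * b⁻¹ := by group
          _ = (b * u * b⁻¹) * (b * v * b⁻¹) := by rw [h1]; group
          _ = u * (u * v) := by rw [hbv, hSu b (hA.1 hb), mul_inv_cancel_right]
          _ = v := by rw [← mul_assoc, h.wsq u (hW ▸ hu), one_mul]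
      exact (four_fixed hWc (hW ▸ h.wsq) hu hv hu1 (fun e => hv1 (e ▸ one_mem _))
        (fun e => hv1 (e ▸ mem_zpowers u)) (hSu _ (mul_mem (hA.1 hb) (inv_mem (hA.1 ha)))) hcv w hw).symm
    have hidx : Nat.card A ≤ 2 * Nat.card A₀ := by
      have hsub : A ≤ A₀ ⊔ zpowers a := by
        intro b hb
        by_cases hbc : b ∈ centralizer (W : Set G)
        · exact mem_sup_left (hA₀ ▸ ⟨hb, hbc⟩)
        · have := mul_mem (mem_sup_left (hA₀ ▸ (⟨A.mul_mem hb (inv_mem ha), hAfix b hb hbc⟩ :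
            b * a⁻¹ ∈ A ⊓ centralizer (W : Set G))) : b * a⁻¹ ∈ A₀ ⊔ zpowers a) (mem_sup_right (mem_zpowers a))
          rwa [inv_mul_cancel_right] at this
      have haN : zpowers a ≤ normalizer (A₀ : Set G) := by
        refine le_trans ?_ (centralizer_le_normalizer _)
        rw [zpowers_le, mem_centralizer_iff]
        exact fun x hx => CfsgLib.Signalizer.elementary_comm hA.2.1 (hA₀ ▸ hx : x ∈ A ⊓ centralizer (W : Set G)).1 ha
      have h1 := CfsgLib.Core.card_sup_mul_card_inf (zpowers a) A₀ haN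
      rw [sup_comm, inf_comm] at h1
      rw [Nat.card_zpowers, orderOf_eq_prime (hA.2.1.2 a ha) (fun e => hac (e ▸ one_mem _))] at h1
      have h2 := Nat.le_of_dvd Nat.card_pos (card_dvd_of_le hsub)
      have h3 : 0 < Nat.card ↥(A₀ ⊓ zpowers a) := Nat.card_pos
      nlinarith
    refine ⟨⟨hsup.trans hRS, hel, fun B hB hBel => (hA.2.2 B hB hBel).trans (hidx.trans ?_)⟩, hsup, hidx⟩
    -- `W` is not inside `A`
    have hlt : A₀ < A₀ ⊔ W := by
      refine lt_of_le_of_ne le_sup_left fun e => ?_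
      have hWA : W ≤ A := (e ▸ le_sup_right : W ≤ A₀).trans (hA₀ ▸ inf_le_left)
      exact hac (mem_centralizer_iff.2 fun w hw => CfsgLib.Signalizer.elementary_comm hA.2.1 (hWA hw) ha)
    obtain ⟨k, hk⟩ := card_dvd_of_le hlt.le
    have hk2 : 2 ≤ k := by
      by_contra h0
      interval_cases k
      · exact absurd (hk.trans (Nat.mul_zero _)) Nat.card_pos.ne'
      · exact hlt.ne (eq_of_le_of_card_ge hlt.le (by rw [hk, mul_one]))
    rw [hk, mul_comm]
    exact Nat.mul_le_mul_left _ hk2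
  obtain ⟨hA₁', hA₁R, hA₁idx⟩ := hext A₁ hA₁ hA₁W
  have hYA : ∀ {A}, CfsgLib.Transfer.MaxElem 2 S A → A ≤ R → Y ≤ A := fun hA hAR =>
    hY ▸ inf_le_right.trans (sInf_le ⟨hA, hAR⟩)
  have hYel : IsElementaryAbelian 2 Y := CfsgLib.Signalizer.elementary_of_le hA₁'.2.1 (hYA hA₁' hA₁R)
  have hWY : W ≤ Y := hY ▸ le_inf hWR (le_sInf fun A ⟨hA, hAR⟩ w hw =>
    hinA hA w (hRS (hWR hw)) (hWel.2 w hw) fun a ha =>
      (mem_centralizer_iff.1 ((hR ▸ hAR ha : a ∈ (K ⊔ J) ⊓ centralizer (W : Set G))).2 w hw).symm)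
  have hZY : Z₀ ≤ Y := by
    intro z hz
    obtain ⟨hzJ, hzc, hz2⟩ := hZfix z hz
    have hzA : ∀ {A}, CfsgLib.Transfer.MaxElem 2 S A → z ∈ A := fun hA =>
      hinA hA z (hJS hzJ) hz2 fun a ha => hzc a (hmemJ hA ha)
    exact hY ▸ ⟨hA₁R (hzA hA₁'), mem_sInf.2 fun A hA => hzA hA.1⟩
  have hRn : K ⊔ J ≤ normalizer (R : Set G) := by
    rw [hR]
    exact (le_inf le_normalizer hHCn).trans inf_normalizer_le_normalizer_inf
  have hYn : ∀ g ∈ K ⊔ J, ∀ y ∈ Y, g * y * g⁻¹ ∈ Y := by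
    intro g hg y hy
    obtain ⟨hyR, hyA⟩ := (hY ▸ hy : y ∈ R ⊓ sInf {A | CfsgLib.Transfer.MaxElem 2 S A ∧ A ≤ R})
    refine hY ▸ ⟨(mem_normalizer_iff.1 (hRn hg) y).1 hyR, mem_sInf.2 fun A ⟨hA, hAR⟩ => ?_⟩
    obtain ⟨A', hA'⟩ : ∃ A', A' = A.map (MulAut.conj g⁻¹).toMonoidHom := ⟨_, rfl⟩
    have hA'R : A' ≤ R := by
      rw [hA']
      rintro _ ⟨a, ha, rfl⟩
      exact (mem_normalizer_iff.1 (hRn (inv_mem hg)) a).1 (hAR ha)
    have hA'el : IsElementaryAbelian 2 A' := by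
      haveI := hA.2.1.1
      refine hA' ▸ ⟨Subgroup.map_isMulCommutative _ _, ?_⟩
      rintro _ ⟨a, ha, rfl⟩
      rw [← map_pow, hA.2.1.2 a ha, map_one]
    have hA'max : CfsgLib.Transfer.MaxElem 2 S A' := ⟨hA'R.trans hRS, hA'el, fun B hB hBel =>
      (hA.2.2 B hB hBel).trans (by rw [hA', card_map_of_injective (MulEquiv.injective _)])⟩
    have h1 := mem_sInf.1 hyA A' ⟨hA'max, hA'R⟩
    rw [hA'] at h1
    obtain ⟨a, ha, he⟩ := h1
    have : g * y * g⁻¹ = a := by rw [← he]; simp [mul_assoc]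
    exact this ▸ ha
  -- the hyperplane centralised by `A₁`
  obtain ⟨D₁, hD₁⟩ : ∃ D, D = Y ⊓ centralizer (A₁ : Set G) := ⟨_, rfl⟩
  have hD₁c : Nat.card Y ≤ 2 * Nat.card D₁ := by
    obtain ⟨A₀, hA₀⟩ : ∃ A₀, A₀ = A₁ ⊓ centralizer (W : Set G) := ⟨_, rfl⟩
    rw [← hA₀] at hA₁' hA₁R hA₁idx
    have hc : A₀ ≤ centralizer (Y : Set G) := fun a ha => mem_centralizer_iff.2 fun y hy =>
      CfsgLib.Signalizer.elementary_comm hA₁'.2.1 (hYA hA₁' hA₁R hy) (mem_sup_left ha)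
    have hA₀el : IsElementaryAbelian 2 A₀ := CfsgLib.Signalizer.elementary_of_le hA₁.2.1 (hA₀ ▸ inf_le_left)
    have hsup := CfsgLib.Core.card_sup_mul_card_inf Y A₀ ((le_centralizer_iff.1 hc).trans (centralizer_le_normalizer _))
    have hle := hA₁.2.2 (Y ⊔ A₀) (sup_le ((hY ▸ inf_le_left : Y ≤ R).trans hRS) ((hA₀ ▸ inf_le_left : A₀ ≤ A₁).trans hA₁.1))
      (CfsgLib.PLocal.elementary_sup hYel hA₀el (le_centralizer_iff.1 hc))
    have hinf : Y ⊓ A₀ ≤ D₁ := hD₁ ▸ le_inf inf_le_left (inf_le_right.trans ((hA₀ ▸ inf_le_left : A₀ ≤ A₁).trans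
      (le_centralizer_iff_isMulCommutative.2 hA₁.2.1.1)))
    have h3 := Nat.le_of_dvd Nat.card_pos (card_dvd_of_le hinf)
    have h4 : 0 < Nat.card A₀ := Nat.card_pos
    nlinarith
  -- a second hyperplane
  obtain ⟨c₀, hc₀K, hc₀o, hc₀c⟩ := h.exists_odd_not_centralizing
  rw [← hW] at hc₀c
  have hc₀H : c₀ ∈ K ⊔ J := mem_sup_left hc₀K
  obtain ⟨A₂, hA₂⟩ : ∃ A₂, A₂ = A₁.map (MulAut.conj c₀).toMonoidHom := ⟨_, rfl⟩
  obtain ⟨D, hD⟩ : ∃ D, D = Y ⊓ centralizer ((A₁ ⊔ A₂ : Subgroup G) : Set G) := ⟨_, rfl⟩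
  have hD₂ : D₁.map (MulAut.conj c₀).toMonoidHom = Y ⊓ centralizer (A₂ : Set G) := by
    rw [hD₁, hA₂]
    ext x
    constructor
    · rintro ⟨y, ⟨hy, hyc⟩, rfl⟩
      refine ⟨hYn c₀ hc₀H y hy, mem_centralizer_iff.2 ?_⟩
      rintro _ ⟨a, ha, rfl⟩
      exact ((show Commute a y from mem_centralizer_iff.1 hyc a ha).map (MulAut.conj c₀).toMonoidHom).eq
    · rintro ⟨hx, hxc⟩
      refine ⟨c₀⁻¹ * x * c₀, ⟨by simpa using hYn c₀⁻¹ (inv_mem hc₀H) x hx, mem_centralizer_iff.2 fun a ha => ?_⟩,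
        by simp [mul_assoc]⟩
      have h1 := mem_centralizer_iff.1 hxc _ (mem_map_of_mem (MulAut.conj c₀).toMonoidHom ha)
      simp only [MulEquiv.coe_toMonoidHom, MulAut.conj_apply] at h1
      calc a * (c₀⁻¹ * x * c₀) = c₀⁻¹ * ((c₀ * a * c₀⁻¹) * x) * c₀ := by group
        _ = c₀⁻¹ * (x * (c₀ * a * c₀⁻¹)) * c₀ := by rw [h1]
        _ = c₀⁻¹ * x * c₀ * a := by group
  -- `D` meets `W` trivially
  have hDW : D ⊓ W = ⊥ := by
    rw [eq_bot_iff]
    rintro d ⟨hd, hdW⟩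
    rw [mem_bot]
    by_contra hd1
    obtain ⟨a, ha, hac⟩ := SetLike.not_le_iff_exists.1 hA₁W
    have hfix : ∀ x ∈ A₁ ⊔ A₂, x * d = d * x := fun x hx =>
      mem_centralizer_iff.1 (hD ▸ hd : d ∈ Y ⊓ centralizer ((A₁ ⊔ A₂ : Subgroup G) : Set G)).2 x hx
    have hdu : d = u := h.fixed_eq (hW ▸ hac) (hW ▸ hdW) (hW ▸ hu) hd1 hu1 (hfix a (mem_sup_left ha)) (hSu a (hA₁.1 ha))
    have hd' : c₀⁻¹ * d * c₀ ∈ W := (mem_normalizer_iff''.1 (hHn hc₀H) d).1 hdW
    have h1 : a * (c₀⁻¹ * d * c₀) = (c₀⁻¹ * d * c₀) * a := by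
      have h2 := hfix (c₀ * a * c₀⁻¹) (mem_sup_right (hA₂ ▸ mem_map_of_mem _ ha))
      calc a * (c₀⁻¹ * d * c₀) = c₀⁻¹ * ((c₀ * a * c₀⁻¹) * d) * c₀ := by group
        _ = c₀⁻¹ * (d * (c₀ * a * c₀⁻¹)) * c₀ := by rw [h2]
        _ = c₀⁻¹ * d * c₀ * a := by group
    have hd'1 : c₀⁻¹ * d * c₀ ≠ 1 := fun e => hd1 (by
      calc d = c₀ * (c₀⁻¹ * d * c₀) * c₀⁻¹ := by group
        _ = 1 := by rw [e]; group)
    have hd'u : c₀⁻¹ * d * c₀ = u := h.fixed_eq (hW ▸ hac) (hW ▸ hd') (hW ▸ hu) hd'1 hu1 h1 (hSu a (hA₁.1 ha))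
    refine hc₀c (mem_centralizer_iff.2 fun w hw => (four_odd_fixed hWc (hW ▸ h.wsq) (hHn hc₀H) hc₀o hu hu1 ?_ w hw).symm)
    calc c₀ * u = c₀ * (c₀⁻¹ * d * c₀) := by rw [hd'u]
      _ = u * c₀ := by rw [hdu]; group
  have hDY : D ≤ Y := hD ▸ inf_le_left
  have hYDW : D ⊔ W = Y := by
    refine eq_of_le_of_card_ge (sup_le hDY hWY) ?_
    have hWn : W ≤ normalizer (D : Set G) := by
      refine le_trans ?_ (centralizer_le_normalizer _)
      exact fun w hw => mem_centralizer_iff.2 fun d hd => CfsgLib.Signalizer.elementary_comm hYel (hDY hd) (hWY hw)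
    have hsup := CfsgLib.Core.card_sup_mul_card_inf W D hWn
    rw [sup_comm, inf_comm] at hsup
    rw [hDW, card_bot, mul_one, hWc] at hsup
    rw [hsup]
    have hDeq : D = D₁ ⊓ D₁.map (MulAut.conj c₀).toMonoidHom := by
      rw [hD₂, hD, hD₁]
      ext x
      simp only [mem_inf, mem_centralizer_iff, SetLike.mem_coe]
      constructor
      · rintro ⟨hx, hxc⟩
        exact ⟨⟨hx, fun a ha => hxc a (mem_sup_left ha)⟩, hx, fun a ha => hxc a (mem_sup_right ha)⟩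
      · rintro ⟨⟨hx, h1⟩, -, h2⟩
        refine ⟨hx, fun a ha => ?_⟩
        have : A₁ ⊔ A₂ ≤ centralizer ({x} : Set G) := sup_le
          (fun a ha => mem_centralizer_singleton_iff.2 (h1 a ha))
          (fun a ha => mem_centralizer_singleton_iff.2 (h2 a ha))
        exact mem_centralizer_singleton_iff.1 (this ha)
    have hD2Y : D₁.map (MulAut.conj c₀).toMonoidHom ≤ Y := hD₂ ▸ inf_le_left
    have h1 := CfsgLib.Core.card_sup_mul_card_inf D₁ (D₁.map (MulAut.conj c₀).toMonoidHom) (by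
      refine le_trans ?_ (centralizer_le_normalizer _)
      exact fun w hw => mem_centralizer_iff.2 fun d hd =>
        CfsgLib.Signalizer.elementary_comm hYel (hD2Y hd) ((hD₁ ▸ hw : w ∈ Y ⊓ centralizer (A₁ : Set G)).1))
    rw [card_map_of_injective (MulEquiv.injective _), ← hDeq] at h1
    have h2 := Nat.le_of_dvd Nat.card_pos (card_dvd_of_le (sup_le ((hD₁ ▸ inf_le_left) : D₁ ≤ Y) hD2Y))
    have h4 : 0 < Nat.card Y := Nat.card_pos
    nlinarith
  -- an element of order three in `⟨A₁, A₂⟩` and generation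
  obtain ⟨L, hL⟩ : ∃ L, L = A₁ ⊔ A₂ := ⟨_, rfl⟩
  have hLH : L ≤ K ⊔ J := by
    refine hL ▸ sup_le (hA₁.1.trans h.sylow.1) ?_
    rw [hA₂]
    rintro _ ⟨a, ha, rfl⟩
    exact mul_mem (mul_mem hc₀H (h.sylow.1 (hA₁.1 ha))) (inv_mem hc₀H)
  obtain ⟨c, hcL, hco, hcW⟩ : ∃ c ∈ L, Odd (orderOf c) ∧ c ∉ centralizer (W : Set G) := by
    by_contra h0
    push Not at h0
    have hL2 : IsPGroup 2 L := by
      intro x
      obtain ⟨k, m, hm, hxo⟩ := Nat.exists_eq_pow_mul_and_not_dvd (orderOf_pos x).ne' 2 (by norm_num)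
      refine ⟨k, ?_⟩
      have hyo : Odd (orderOf ((x : G) ^ 2 ^ k)) := by
        refine (Nat.odd_iff.2 (by omega) : Odd m).of_dvd_nat (orderOf_dvd_of_pow_eq_one ?_)
        rw [← pow_mul, ← hxo, ← SubmonoidClass.coe_pow, pow_orderOf_eq_one]; rfl
      have hyL : (x : G) ^ 2 ^ k ∈ L := pow_mem x.2 _
      have hyR : (x : G) ^ 2 ^ k ∈ R := hR ▸ ⟨hLH hyL, h0 _ hyL hyo⟩
      obtain ⟨i, hi⟩ := IsPGroup.iff_orderOf.1 h.S_two ⟨_, hRS hyR⟩
      rw [Subgroup.orderOf_mk] at hi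
      have h1 : orderOf ((x : G) ^ 2 ^ k) = 1 :=
        Nat.eq_one_of_dvd_coprimes ((Nat.coprime_two_right.2 hyo).pow_right i) dvd_rfl (hi ▸ dvd_rfl)
      exact Subtype.ext (orderOf_eq_one_iff.1 h1)
    obtain ⟨v, hv, hv1, hLv⟩ := h.exists_fixed hL2 hLH
    rw [← hW] at hv
    obtain ⟨a, ha, hac⟩ := SetLike.not_le_iff_exists.1 hA₁W
    have hvu : v = u := h.fixed_eq (hW ▸ hac) (hW ▸ hv) (hW ▸ hu) hv1 hu1
      (hLv a (hL ▸ mem_sup_left ha)) (hSu a (hA₁.1 ha))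
    subst hvu
    have hvD : v ∈ D ⊓ W := ⟨hD ▸ ⟨hWY hv, mem_centralizer_iff.2 fun x hx => hLv x (hL ▸ hx)⟩, hv⟩
    rw [hDW, mem_bot] at hvD
    exact hv1 hvD
  have hDc : ∀ d ∈ D, c * d = d * c := fun d hd =>
    mem_centralizer_iff.1 (hD ▸ hd : d ∈ Y ⊓ centralizer ((A₁ ⊔ A₂ : Subgroup G) : Set G)).2 c (hL ▸ hcL)
  have hcH : c ∈ K ⊔ J := hLH hcL
  -- generation by `J` and `c`
  have hgen : K ⊔ J ≤ J ⊔ zpowers c := by
    obtain ⟨M, hM⟩ : ∃ M, M = J ⊔ zpowers c := ⟨_, rfl⟩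
    rw [← hM]
    have hMH : M ≤ K ⊔ J := hM ▸ sup_le le_sup_right (zpowers_le.2 hcH)
    have hRS' : R ≤ normalizer (M : Set G) ⊔ R := le_sup_right
    have hMR : K ⊔ J ≤ M ⊔ R := by
      have hMn : M ≤ normalizer (R : Set G) := hMH.trans hRn
      obtain ⟨X, hX⟩ : ∃ X, X = M ⊔ R := ⟨_, rfl⟩
      rw [← hX]
      have hXH : X ≤ K ⊔ J := hX ▸ sup_le hMH (hR ▸ inf_le_left)
      have hJX : J ≤ X := hX ▸ hM ▸ le_sup_left.trans le_sup_left
      have hcX : c ∈ X := hX ▸ hM ▸ mem_sup_left (mem_sup_right (mem_zpowers c))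
      -- the order of `X` is that of `K ⊔ J`
      have h3 : 3 ∣ Nat.card X := by
        have hd : orderOf c ∣ 3 * Nat.card S := by
          rw [← h.card_H_dvd, ← Subgroup.orderOf_mk c hcH]
          exact orderOf_dvd_natCard _
        obtain ⟨s, hs⟩ := IsPGroup.iff_card.1 h.S_two
        rw [hs] at hd
        rcases (Nat.dvd_prime Nat.prime_three).1
          ((Nat.Coprime.pow_right s (Nat.coprime_two_right.2 hco)).dvd_of_dvd_mul_right hd) with h1 | h1
        · exact absurd (orderOf_eq_one_iff.1 h1 ▸ one_mem _) hcW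
        · exact h1 ▸ (Subgroup.orderOf_mk c hcX ▸ orderOf_dvd_natCard (⟨c, hcX⟩ : X))
      have hSX : S ≤ X := by
        obtain ⟨j, hj, hjc⟩ := SetLike.not_le_iff_exists.1 h.not_J_centralizes_W
        rw [← hW] at hjc
        intro s hs
        by_cases hsc : s ∈ centralizer (W : Set G)
        · exact hX ▸ mem_sup_right (hR ▸ ⟨h.sylow.1 hs, hsc⟩)
        obtain ⟨v, hv, hvu⟩ : ∃ v ∈ W, v ∉ zpowers u := by
          by_contra h0
          push Not at h0
          have := Nat.le_of_dvd Nat.card_pos (card_dvd_of_le (h0 : W ≤ zpowers u))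
          rw [hWc, Nat.card_zpowers, orderOf_eq_prime hu2 hu1] at this
          omega
        have hv1 : v ≠ 1 := fun e => hvu (e ▸ one_mem _)
        have hne : ∀ x ∈ S, x ∉ centralizer (W : Set G) → x * v * x⁻¹ ≠ v := fun x hx hxc e =>
          hvu ((h.fixed_eq (hW ▸ hxc) (hW ▸ hu) (hW ▸ hv) hu1 hv1 (hSu x hx)
            (mul_inv_eq_iff_eq_mul.1 e)) ▸ mem_zpowers u)
        have hfour : ∀ x ∈ W, x ≠ 1 → x ≠ u → x ≠ v → x = u * v := fun x hx h1 h2 h3 =>
          (((four_cases hWc hu hv hu1 hv1 (fun e => hvu (e ▸ mem_zpowers u))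
            (by rw [← pow_two]; exact hu2) hx).resolve_left h1).resolve_left h2).resolve_left h3
        have hval : ∀ x ∈ S, x ∉ centralizer (W : Set G) → x * v * x⁻¹ = u * v := fun x hx hxc => by
          refine hfour _ ((mem_normalizer_iff.1 (hHn (h.sylow.1 hx)) v).1 hv)
            (fun e => hv1 (conj_eq_one_iff.1 e)) (fun e => hvu ?_) (hne x hx hxc)
          have : v = u := (MulAut.conj x).injective (show x * v * x⁻¹ = x * u * x⁻¹ by
            rw [e, hSu x hx, mul_inv_cancel_right])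
          exact this ▸ mem_zpowers u
        have hjS := hJS hj
        have hr : j⁻¹ * s ∈ R := by
          refine hR ▸ mem_inf.2 ⟨mul_mem (inv_mem (mem_sup_right hj : j ∈ K ⊔ J)) (h.sylow.1 hs), mem_centralizer_iff.2 fun w hw => ?_⟩
          refine (four_fixed hWc (hW ▸ h.wsq) hu hv hu1 hv1 (fun e => hvu (e ▸ mem_zpowers u))
            (hSu _ (mul_mem (inv_mem hjS) hs)) ?_ w hw).symm
          rw [← mul_inv_eq_iff_eq_mul]
          calc j⁻¹ * s * v * (j⁻¹ * s)⁻¹ = j⁻¹ * (s * v * s⁻¹) * j := by group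
            _ = j⁻¹ * (j * v * j⁻¹) * j := by rw [hval s hs hsc, hval j hjS hjc]
            _ = v := by group
        have hjX : j ∈ X := hJX hj
        have := mul_mem hjX (hX ▸ mem_sup_right hr : j⁻¹ * s ∈ X)
        rwa [mul_inv_cancel_left] at this
      refine (eq_of_le_of_card_ge hXH ?_).ge
      rw [h.card_H_dvd]
      refine Nat.le_of_dvd Nat.card_pos ?_
      obtain ⟨s, hs⟩ := IsPGroup.iff_card.1 h.S_two
      rw [hs]
      exact (Nat.Coprime.pow_right s (by norm_num : Nat.Coprime 3 2)).mul_dvd_of_dvd_of_dvd h3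
        (hs ▸ card_dvd_of_le hSX)
    have hRJ : R ≤ normalizer (J : Set G) := hRS.trans (by
      have := normalizer_le_normalizer_thompsonSubgroupOf (p := 2) S
      rw [h.thomp] at this
      exact le_normalizer.trans this)
    have hJconj : ∀ x ∈ K ⊔ J, ∀ j ∈ J, x * j * x⁻¹ ∈ M := by
      intro x hx j hj
      have hxMR := hMR hx
      rw [CfsgLib.Core.mem_sup_iff_mul (hMH.trans hRn)] at hxMR
      obtain ⟨m, hm, r, hr, rfl⟩ := hxMR
      rw [show m * r * j * (m * r)⁻¹ = m * (r * j * r⁻¹) * m⁻¹ by group]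
      exact mul_mem (mul_mem hm (hM ▸ mem_sup_left ((mem_normalizer_iff.1 (hRJ hr) j).1 hj))) (inv_mem hm)
    refine sup_le ?_ (hM ▸ le_sup_left)
    rw [← h.comm]
    refine commutator_le.2 fun k hk j hj => ?_
    rw [commutatorElement_def]
    exact mul_mem (hJconj k (mem_sup_left hk) j hj) (hM ▸ mem_sup_left (inv_mem hj))
  refine le_antisymm (sup_le inf_le_left inf_le_left) fun z hz => ?_
  have hzY := hZY hz
  rw [← hYDW, CfsgLib.Core.mem_sup_iff_mul (by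
    refine le_trans ?_ (centralizer_le_normalizer _)
    exact fun d hd => mem_centralizer_iff.2 fun w hw => CfsgLib.Signalizer.elementary_comm hYel (hWY hw) (hDY hd))] at hzY
  obtain ⟨d, hd, w, hw, rfl⟩ := hzY
  obtain ⟨a, ha, hac⟩ := SetLike.not_le_iff_exists.1 hA₁W
  have had : a * d = d * a :=
    mem_centralizer_iff.1 (hD ▸ hd : d ∈ Y ⊓ centralizer ((A₁ ⊔ A₂ : Subgroup G) : Set G)).2 a (mem_sup_left ha)
  have haw : a * w = w * a := by
    have h1 : a * (d * w) = d * w * a := (hZfix _ hz).2.1 a (hmemJ hA₁ ha)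
    calc a * w = d⁻¹ * ((d * a) * w) := by group
      _ = d⁻¹ * (a * (d * w)) := by rw [← had, mul_assoc]
      _ = w * a := by rw [h1]; group
  have hwZ : w ∈ Z₀ := by
    by_cases hw1 : w = 1
    · rw [hw1]; exact one_mem _
    · rw [h.fixed_eq (hW ▸ hac) (hW ▸ hw) (hW ▸ hu) hw1 hu1 haw (hSu a (hA₁.1 ha))]
      exact huZ
  have hdZ : d ∈ Z₀ := by
    have := mul_mem hz (inv_mem hwZ)
    rwa [mul_inv_cancel_right] at this
  refine mul_mem (mem_sup_left ⟨hdZ, (mem_sup_right (hZfix d hdZ).1 : d ∈ K ⊔ J), ?_⟩) (mem_sup_right ⟨hwZ, hw⟩)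
  refine mem_centralizer_iff.2 ?_
  intro x hx
  have hle : K ⊔ J ≤ centralizer ({d} : Set G) := hgen.trans (sup_le
    (fun j hj => mem_centralizer_singleton_iff.2 ((hZfix d hdZ).2.1 j hj))
    (zpowers_le.2 (mem_centralizer_singleton_iff.2 (hDc d hd))))
  exact mem_centralizer_singleton_iff.1 (hle hx)

end JData

end CfsgLib.LocalEvenB
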