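import Cfsg.Prelude.Def_SylowChains
import Cfsg.Agent.Lib.LocalEvenB.Basic
import Mathlib.GroupTheory.Nilpotent

/-!
Sylow intersections: right conjugation of subgroups, strong fusion control by families, chains of Sylow subgroups.
-/

set_option autoImplicit false

open Cfsg
open scoped Pointwise

namespace CfsgLib.LocalEvenB

variable {G : Type*} [Group G] {p : ℕ}

theorem mem_conjRight_subgroup {g x : G} {X : Subgroup G} : x ∈ subgroupConjRight g X ↔ g * x * g⁻¹ ∈ X := by
  unfold subgroupConjRight
  rw [mem_map_conj]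
  simp

theorem conjRight_subgroup_mul (X : Subgroup G) (a b : G) :
    subgroupConjRight b (subgroupConjRight a X) = subgroupConjRight (a * b) X := by
  ext x
  simp [mem_conjRight_subgroup, mul_assoc]

theorem conjRight_subgroup_one (X : Subgroup G) : subgroupConjRight 1 X = X := by
  ext x
  simp [mem_conjRight_subgroup]

theorem conjRight_subgroup_self {X : Subgroup G} {g : G} (hg : g ∈ X) : subgroupConjRight g X = X := by
  ext x
  rw [mem_conjRight_subgroup]
  constructor
  · intro h
    simpa [mul_assoc] using X.mul_mem (X.mul_mem (X.inv_mem hg) h) hg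
  · exact fun h => X.mul_mem (X.mul_mem hg h) (X.inv_mem hg)

theorem conjRight_subgroup_inf (X Y : Subgroup G) (g : G) :
    subgroupConjRight g (X ⊓ Y) = subgroupConjRight g X ⊓ subgroupConjRight g Y := by
  ext x
  simp [mem_conjRight_subgroup]

theorem coe_smul_sylow (g : G) (S : Sylow p G) :
    ((g • S : Sylow p G) : Subgroup G) = subgroupConjRight g⁻¹ (S : Subgroup G) := by
  simp only [subgroupConjRight, inv_inv, Sylow.coe_subgroup_smul, Subgroup.pointwise_smul_def]
  rfl

theorem mem_normalizer_iff_conjRight {S : Subgroup G} {g : G} :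
    g ∈ Subgroup.normalizer (S : Set G) ↔ subgroupConjRight g S = S := by
  rw [Subgroup.mem_normalizer_iff]
  constructor
  · intro h
    ext x
    rw [mem_conjRight_subgroup]
    exact (h x).symm
  · intro h x
    conv_lhs => rw [← h]
    rw [mem_conjRight_subgroup]

theorem sylowMembers_conjRight [Finite G] [Fact p.Prime] {𝓕 : Set (Subgroup G)} (h𝓕 : IsNormalSet 𝓕) {S X : Subgroup G} (g : G)
    (hX : X ∈ sylowMembers p 𝓕 S) : subgroupConjRight g X ∈ sylowMembers p 𝓕 (subgroupConjRight g S) := by
  obtain ⟨hXF, P, hP⟩ := hX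
  let e := X.equivMapOfInjective (MulAut.conj g⁻¹).toMonoidHom (MulAut.conj g⁻¹).injective
  refine ⟨h𝓕 X hXF g, P.mapSurjective (f := e.toMonoidHom) e.surjective, ?_⟩
  rw [← conjRight_subgroup_inf, ← hP]
  change ((P : Subgroup ↥X).map e.toMonoidHom).map _ =
    ((P : Subgroup ↥X).map X.subtype).map (MulAut.conj g⁻¹).toMonoidHom
  exact (Subgroup.map_map (P : Subgroup ↥X) _ e.toMonoidHom).trans
    (Subgroup.map_map (P : Subgroup ↥X) (MulAut.conj g⁻¹).toMonoidHom X.subtype).symm

theorem mem_conjRight {g x : G} {A : Set G} : x ∈ conjRight g A ↔ g * x * g⁻¹ ∈ A := by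
  unfold conjRight
  constructor
  · rintro ⟨a, ha, rfl⟩
    simpa [mul_assoc] using ha
  · intro h
    exact ⟨_, h, by simp [mul_assoc]⟩

theorem conjRight_mul (A : Set G) (a b : G) : conjRight b (conjRight a A) = conjRight (a * b) A := by
  ext x
  simp [mem_conjRight, mul_assoc]

theorem conjRight_subset_iff {g : G} {A : Set G} {X : Subgroup G} :
    conjRight g A ⊆ (X : Set G) ↔ A ⊆ (subgroupConjRight g⁻¹ X : Set G) := by
  constructor
  · intro h a ha
    rw [SetLike.mem_coe, mem_conjRight_subgroup, inv_inv]
    exact h ⟨a, ha, rfl⟩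
  · rintro h x hx
    rw [mem_conjRight] at hx
    have := h hx
    rw [SetLike.mem_coe, mem_conjRight_subgroup] at this
    simpa [mul_assoc] using this

theorem prod_take_succ_ofFn {n : ℕ} (y : Fin n → G) (i : Fin n) :
    ((List.ofFn y).take (i.val + 1)).prod = ((List.ofFn y).take i.val).prod * y i := by
  rw [List.prod_take_succ _ _ (by simp), List.getElem_ofFn]

theorem control_intersections_iff_strong_fusion [Finite G] [Fact p.Prime] (𝓕 : Set (Subgroup G))
    (h𝓕 : IsNormalSet 𝓕) :
    ControlsSylowIntersections p 𝓕 ↔ FamilyStronglyControlsFusion p 𝓕 := by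
  constructor
  · intro hc S A g hA ⟨a, haA, ha1⟩ hg
    by_cases hgN : g ∈ Subgroup.normalizer ((S : Subgroup G) : Set G)
    · exact ⟨0, Fin.elim0, Fin.elim0, g, hgN, fun i => i.elim0, by simp, fun i => i.elim0⟩
    · have hT : A ⊆ ((g • S : Sylow p G) : Subgroup G) := by
        rw [coe_smul_sylow]; exact conjRight_subset_iff.1 hg
      have hne : S ≠ g • S := by
        intro h
        apply hgN
        have := congrArg (fun T : Sylow p G => subgroupConjRight g (T : Subgroup G)) h
        simp only [coe_smul_sylow, conjRight_subgroup_mul, inv_mul_cancel, conjRight_subgroup_one] at this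
        exact mem_normalizer_iff_conjRight.2 this
      have hbot : (S : Subgroup G) ⊓ ((g • S : Sylow p G) : Subgroup G) ≠ ⊥ := by
        intro h
        exact ha1 ((Subgroup.eq_bot_iff_forall _).1 h a ⟨hA haA, hT haA⟩)
      obtain ⟨n, c, X, x, hc0, hcn, hi⟩ := hc S (g • S) hne hbot
      let P : ℕ → G := Nat.rec 1 (fun j r => (if h : j < n then x ⟨j, h⟩ else 1) * r)
      have hP : ∀ i : Fin n, P (i.val + 1) = x i * P i.val := fun i => by
        change (if h : i.val < n then x ⟨i.val, h⟩ else 1) * P i.val = _
        rw [dif_pos i.isLt]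
      have hcP : ∀ j (hj : j < n + 1), subgroupConjRight (P j) (c ⟨j, hj⟩ : Subgroup G) = (S : Subgroup G) := by
        intro j
        induction j with
        | zero =>
          intro hj
          change subgroupConjRight 1 (c 0 : Subgroup G) = _
          rw [hc0, conjRight_subgroup_one]
        | succ j ih =>
          intro hj
          have hjn : j < n := Nat.lt_of_succ_lt_succ hj
          rw [show P (j + 1) = x ⟨j, hjn⟩ * P j from hP ⟨j, hjn⟩, ← conjRight_subgroup_mul]
          have := (hi ⟨j, hjn⟩).2.2.2.1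
          rw [show (c ⟨j + 1, hj⟩ : Subgroup G) = (c (Fin.succ ⟨j, hjn⟩) : Subgroup G) from rfl, this]
          exact ih _
      let y : Fin n → G := fun i => (P i.val)⁻¹ * x i * P i.val
      let Y : Fin n → Subgroup G := fun i => subgroupConjRight (P i.val) (X i)
      have hQ : ∀ j, j ≤ n → ((List.ofFn y).take j).prod = P j := by
        intro j
        induction j with
        | zero => intro _; rfl
        | succ j ih =>
          intro hj
          rw [prod_take_succ_ofFn y ⟨j, hj⟩, ih (Nat.le_of_succ_le hj),
            show P (j + 1) = x ⟨j, hj⟩ * P j from hP ⟨j, hj⟩]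
          simp [y, mul_assoc]
      have hfull : (List.ofFn y).prod = P n := by
        rw [← hQ n le_rfl, List.take_of_length_le (by simp)]
      refine ⟨n, Y, y, (P n)⁻¹ * g, ?_, ?_, by simp [hfull], ?_⟩
      · rw [mem_normalizer_iff_conjRight]
        have h1 := hcP n (Nat.lt_succ_self n)
        rw [show c ⟨n, Nat.lt_succ_self n⟩ = g • S from hcn, coe_smul_sylow, conjRight_subgroup_mul] at h1
        conv_lhs => rw [← h1]
        rw [conjRight_subgroup_mul]
        simp [conjRight_subgroup_one]
      · intro i
        constructor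
        · have := sylowMembers_conjRight h𝓕 (P i.val) (hi i).1
          rw [show (c i.castSucc : Subgroup G) = c ⟨i.val, Nat.lt_succ_of_lt i.isLt⟩ from rfl, hcP] at this
          exact this
        · rw [mem_conjRight_subgroup]
          simpa [y, mul_assoc] using (hi i).2.2.1
      · intro i
        rw [hQ _ i.isLt, hP i]
        intro z hz
        rw [mem_conjRight] at hz
        obtain ⟨hzc, hzX⟩ := (hi i).2.2.2.2 ⟨hA hz, hT hz⟩
        constructor
        · change _ ∈ (S : Subgroup G)
          rw [← hcP (i.val + 1) (Nat.succ_lt_succ i.isLt), hP i, mem_conjRight_subgroup]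
          exact hzc
        · rw [SetLike.mem_coe, mem_conjRight_subgroup]
          have h1 := (X i).mul_mem ((X i).mul_mem ((X i).inv_mem (hi i).2.2.1) hzX) (hi i).2.2.1
          simpa [mul_assoc] using h1
  · intro hf S T hne hbot
    obtain ⟨g, hgT⟩ := MulAction.exists_smul_eq G S T
    subst hgT
    obtain ⟨a, ha, ha1⟩ := (Subgroup.bot_or_exists_ne_one _).resolve_left hbot
    obtain ⟨n, Y, y, y₀, hy₀, hY, hprod, hA⟩ :=
      hf S (((S : Subgroup G) ⊓ ((g • S : Sylow p G) : Subgroup G) : Subgroup G) : Set G) g
        (fun _ h => h.1) ⟨a, ha, ha1⟩ (conjRight_subset_iff.2 (fun _ h => by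
          have := h.2; rwa [coe_smul_sylow] at this))
    let Q : ℕ → G := fun j => ((List.ofFn y).take j).prod
    have hQ : ∀ i : Fin n, Q (i.val + 1) = Q i.val * y i := prod_take_succ_ofFn y
    have hco : ∀ j, ((Q j • S : Sylow p G) : Subgroup G) = subgroupConjRight (Q j)⁻¹ (S : Subgroup G) :=
      fun j => coe_smul_sylow _ S
    refine ⟨n, fun j => Q j.val • S, fun i => subgroupConjRight (Q i.val)⁻¹ (Y i),
      fun i => Q i.val * y i * (Q i.val)⁻¹, by simp [Q], ?_, ?_⟩
    · have hlast : Q n = g * y₀⁻¹ := by
        simp only [Q]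
        rw [List.take_of_length_le (by simp), hprod, mul_inv_cancel_right]
      apply Sylow.ext
      simp only [Fin.val_last, hco, hlast, coe_smul_sylow]
      rw [mul_inv_rev, inv_inv, ← conjRight_subgroup_mul, mem_normalizer_iff_conjRight.1 hy₀]
    · intro i
      have hx : Q i.val * y i * (Q i.val)⁻¹ ∈ subgroupConjRight (Q i.val)⁻¹ (Y i) := by
        rw [mem_conjRight_subgroup]
        simpa [mul_assoc] using (hY i).2
      have h1 := sylowMembers_conjRight h𝓕 (Q i.val)⁻¹ (hY i).1
      have h2 := sylowMembers_conjRight h𝓕 (Q i.val * y i * (Q i.val)⁻¹)⁻¹ h1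
      rw [conjRight_subgroup_self (Subgroup.inv_mem _ hx), conjRight_subgroup_mul,
        show (Q i.val)⁻¹ * (Q i.val * y i * (Q i.val)⁻¹)⁻¹ = (Q (i.val + 1))⁻¹ by
          rw [hQ]; simp [mul_assoc]] at h2
      refine ⟨?_, ?_, hx, ?_, ?_⟩ <;> dsimp only
      · rw [Fin.val_castSucc, hco]; exact h1
      · rw [Fin.val_succ, hco]; exact h2
      · rw [Fin.val_succ, Fin.val_castSucc, hco, hco, conjRight_subgroup_mul, hQ]
        simp [mul_assoc]
      · intro z hz
        have hz' := hA i (show (Q (i.val + 1))⁻¹ * z * Q (i.val + 1) ∈ conjRight (Q (i.val + 1)) _ from ⟨z, hz, rfl⟩)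
        obtain ⟨h3, h4⟩ := hz'
        refine Subgroup.mem_inf.2 ⟨?_, ?_⟩
        · rw [Fin.val_succ, hco, mem_conjRight_subgroup, inv_inv]
          exact h3
        · rw [mem_conjRight_subgroup, inv_inv]
          have h5 := (Y i).mul_mem ((Y i).mul_mem (hY i).2 h4) ((Y i).inv_mem (hY i).2)
          rw [hQ] at h5
          simpa [mul_assoc] using h5

/-- The subgroup generated by the elements moving `S` to a Sylow subgroup that meets `S` nontrivially. -/
def intersectionGroup (S : Sylow p G) : Subgroup G :=
  Subgroup.closure {g : G | (S : Subgroup G) ⊓ ((g • S : Sylow p G) : Subgroup G) ≠ ⊥}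

theorem normalizer_le_intersectionGroup (S : Sylow p G) (hS : (S : Subgroup G) ≠ ⊥) :
    Subgroup.normalizer ((S : Subgroup G) : Set G) ≤ intersectionGroup S := fun g hg => by
  refine Subgroup.subset_closure ?_
  rw [Set.mem_setOf_eq, Sylow.smul_eq_iff_mem_normalizer.2 hg, inf_idem]
  exact hS

theorem mem_intersectionGroup_of_meet (S : Sylow p G) (hS : (S : Subgroup G) ≠ ⊥) {a b : G}
    (ha : a ∈ intersectionGroup S)
    (h : ((a • S : Sylow p G) : Subgroup G) ⊓ ((b • S : Sylow p G) : Subgroup G) ≠ ⊥) :
    b ∈ intersectionGroup S := by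
  have h' : (S : Subgroup G) ⊓ (((a⁻¹ * b) • S : Sylow p G) : Subgroup G) ≠ ⊥ := by
    intro hbot
    apply h
    have := congrArg (subgroupConjRight a⁻¹) hbot
    rw [conjRight_subgroup_inf, coe_smul_sylow, conjRight_subgroup_mul,
      show (a⁻¹ * b)⁻¹ * a⁻¹ = b⁻¹ by simp] at this
    rw [coe_smul_sylow, coe_smul_sylow, this]
    exact Subgroup.map_bot _
  have := (intersectionGroup S).mul_mem ha (Subgroup.subset_closure h')
  simpa using this

theorem chainConnected_iff [Finite G] [Fact p.Prime] (S : Sylow p G) :
    IsSylowChainConnected p G ↔ (S : Subgroup G) = ⊥ ∨ intersectionGroup S = ⊤ := by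
  constructor
  · intro hc
    refine or_iff_not_imp_left.2 fun hS => ?_
    rw [eq_top_iff]
    intro g _
    obtain ⟨n, c, hc0, hcn, -, hadj⟩ := hc S (g • S)
    have key : ∀ j (hj : j < n + 1), ∀ b : G, b • S = c ⟨j, hj⟩ → b ∈ intersectionGroup S := by
      intro j
      induction j with
      | zero =>
        intro hj b hb
        exact normalizer_le_intersectionGroup S hS (Sylow.smul_eq_iff_mem_normalizer.1 (hb.trans hc0))
      | succ j ih =>
        intro hj b hb
        have hjn : j < n := Nat.lt_of_succ_lt_succ hj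
        obtain ⟨a, ha⟩ := MulAction.exists_smul_eq G S (c (Fin.castSucc ⟨j, hjn⟩))
        refine mem_intersectionGroup_of_meet S hS (ih _ a ha) ?_
        rw [ha, hb]
        exact (hadj ⟨j, hjn⟩).2
    exact key n (Nat.lt_succ_self n) g hcn.symm
  · intro hK
    let R : Sylow p G → Sylow p G → Prop := fun A B =>
      A ≠ B ∧ (A : Subgroup G) ⊓ (B : Subgroup G) ≠ ⊥
    have hpath : ∀ A B : Sylow p G, Relation.ReflTransGen R A B →
        ∃ (n : ℕ) (c : Fin (n + 1) → Sylow p G), c 0 = A ∧ c (Fin.last n) = B ∧
          ∀ i : Fin n, R (c i.castSucc) (c i.succ) := by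
      intro A B h
      induction h with
      | refl => exact ⟨0, fun _ => A, rfl, rfl, fun i => i.elim0⟩
      | @tail B' C _ hstep ih =>
        obtain ⟨n, c, h0, hn, hadj⟩ := ih
        refine ⟨n + 1, Fin.snoc (α := fun _ => Sylow p G) c C, ?_, Fin.snoc_last _ _, fun i => ?_⟩
        · rw [← Fin.castSucc_zero, Fin.snoc_castSucc, h0]
        · refine Fin.lastCases ?_ ?_ i
          · rw [Fin.snoc_castSucc, Fin.succ_last, Fin.snoc_last, hn]; exact hstep
          · intro j
            rw [Fin.snoc_castSucc, Fin.succ_castSucc, Fin.snoc_castSucc]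
            exact hadj j
    intro A B
    by_cases hAB : (A : Subgroup G) ⊓ (B : Subgroup G) = ⊥
    · have hconn : ∀ a b : G, Relation.ReflTransGen R (a • S) (b • S) := by
        rcases hK with hK | hK
        · intro a b
          have hb : ∀ c : G, c • S = S := fun c => Sylow.smul_eq_iff_mem_normalizer.2 (by
            change c ∈ Subgroup.normalizer ((S : Subgroup G) : Set G)
            rw [hK, Subgroup.normalizer_eq_top]; exact Subgroup.mem_top c)
          rw [hb, hb]
        · have hgen : ∀ k : G, k ∈ intersectionGroup S → ∀ a : G,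
              Relation.ReflTransGen R (a • S) ((a * k) • S) ∧ Relation.ReflTransGen R (a • S) ((a * k⁻¹) • S) := by
            intro k hk
            induction hk using Subgroup.closure_induction with
            | mem k hk =>
              have step : ∀ a : G, Relation.ReflTransGen R (a • S) ((a * k) • S) ∧
                  Relation.ReflTransGen R ((a * k) • S) (a • S) := by
                intro a
                by_cases he : a • S = (a * k) • S
                · rw [← he]; exact ⟨Relation.ReflTransGen.refl, Relation.ReflTransGen.refl⟩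
                · have hm : ((a • S : Sylow p G) : Subgroup G) ⊓ (((a * k) • S : Sylow p G) : Subgroup G) ≠ ⊥ := by
                    intro hbot
                    apply hk
                    have := congrArg (subgroupConjRight a) hbot
                    rw [conjRight_subgroup_inf, coe_smul_sylow, coe_smul_sylow, conjRight_subgroup_mul,
                      conjRight_subgroup_mul, inv_mul_cancel, conjRight_subgroup_one,
                      show (a * k)⁻¹ * a = k⁻¹ by simp] at this
                    rw [coe_smul_sylow, this]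
                    exact Subgroup.map_bot _
                  exact ⟨Relation.ReflTransGen.single ⟨he, hm⟩,
                    Relation.ReflTransGen.single ⟨Ne.symm he, by rwa [inf_comm]⟩⟩
              intro a
              refine ⟨(step a).1, ?_⟩
              have := (step (a * k⁻¹)).2
              rwa [inv_mul_cancel_right] at this
            | one =>
              intro a
              simp only [inv_one, mul_one]
              exact ⟨Relation.ReflTransGen.refl, Relation.ReflTransGen.refl⟩
            | mul k l _ _ ihk ihl =>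
              intro a
              refine ⟨(ihk a).1.trans ?_, (ihl a).2.trans ?_⟩
              · rw [← mul_assoc]; exact (ihl (a * k)).1
              · rw [mul_inv_rev, ← mul_assoc]; exact (ihk (a * l⁻¹)).2
            | inv k _ ih =>
              intro a
              rw [inv_inv]
              exact ⟨(ih a).2, (ih a).1⟩
          intro a b
          have := (hgen (a⁻¹ * b) (hK ▸ Subgroup.mem_top _) a).1
          rwa [mul_inv_cancel_left] at this
      obtain ⟨a, rfl⟩ := MulAction.exists_smul_eq G S A
      obtain ⟨b, rfl⟩ := MulAction.exists_smul_eq G S B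
      obtain ⟨n, c, h0, hn, hadj⟩ := hpath _ _ (hconn a b)
      exact ⟨n, c, h0, hn, fun i => by rw [hAB]; exact bot_le, hadj⟩
    · by_cases he : A = B
      · exact ⟨0, fun _ => A, rfl, he, fun _ => inf_le_left, fun i => i.elim0⟩
      · refine ⟨1, ![A, B], rfl, rfl, fun i => ?_, fun i => ?_⟩
        · fin_cases i
          · exact inf_le_left
          · exact inf_le_right
        · fin_cases i
          exact ⟨he, hAB⟩

theorem prime_dvd_card_of_mem [Finite G] [hp : Fact p.Prime] {T : Subgroup G} (hT : IsPGroup p T) {D : Subgroup G}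
    {z : G} (hzT : z ∈ T) (hzD : z ∈ D) (hz : z ≠ 1) : p ∣ Nat.card D := by
  obtain ⟨k, hk⟩ := hT ⟨z, hzT⟩
  obtain ⟨j, -, hj⟩ := (Nat.dvd_prime_pow hp.out).1
    (orderOf_dvd_of_pow_eq_one (show z ^ (p ^ k) = 1 by simpa [Subtype.ext_iff] using hk))
  refine dvd_trans (?_ : p ∣ orderOf z) ?_
  · rw [hj]
    exact dvd_pow_self p fun h0 => hz (by rwa [h0, pow_zero, orderOf_eq_one_iff] at hj)
  · rw [← Subgroup.orderOf_mk _ hzD]
    exact orderOf_dvd_natCard _

theorem exists_sylow_le_of_disjoint [Finite G] [Fact p.Prime] (H : Subgroup G) (hpH : p ∣ Nat.card H)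
    (hse : ∀ g : G, g ∉ H → ¬ p ∣ Nat.card ↥(H ⊓ H.map (MulAut.conj g).toMonoidHom)) :
    ∃ T : Sylow p G, (T : Subgroup G) ≤ H := by
  obtain ⟨P⟩ := (inferInstance : Nonempty (Sylow p ↥H))
  obtain ⟨T, hT⟩ := P.exists_comap_subtype_eq
  refine ⟨T, ?_⟩
  by_contra hle
  haveI : Group.IsNilpotent (T : Subgroup G) := T.isPGroup'.isNilpotent
  let Q : Subgroup (T : Subgroup G) := H.subgroupOf (T : Subgroup G)
  have hQ : Q < ⊤ := lt_top_iff_ne_top.2 fun h => hle (Subgroup.subgroupOf_eq_top.1 h)
  obtain ⟨t, ht, htQ⟩ := SetLike.exists_of_lt (normalizerCondition_of_isNilpotent Q hQ)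
  obtain ⟨z, hz, hz1⟩ := (Subgroup.bot_or_exists_ne_one _).resolve_left (P.ne_bot_of_dvd_card hpH)
  rw [← hT] at hz
  have hzT : (z : G) ∈ (T : Subgroup G) := hz
  refine hse (t : G) (fun h => htQ h) (prime_dvd_card_of_mem T.isPGroup' hzT ?_ (fun h => hz1 (Subtype.ext h)))
  refine Subgroup.mem_inf.2 ⟨z.2, mem_map_conj.2 ?_⟩
  have := (Subgroup.mem_normalizer_iff.1 (Subgroup.inv_mem _ ht) ⟨(z : G), hzT⟩).1
    (show (⟨(z : G), hzT⟩ : (T : Subgroup G)) ∈ Q from z.2)
  simpa [Q, Subgroup.mem_subgroupOf] using this

end CfsgLib.LocalEvenB
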