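import Cfsg.Agent.Lib.PLocal.MaxFamily
import Cfsg.Agent.Lib.PLocal.Comm

/-!
# Abelian subgroups of largest order in a metabelian `p`-group
-/

set_option autoImplicit false
set_option linter.all false

namespace CfsgLib.LocalEvenB

open Subgroup Cfsg CfsgLib.PLocal
open scoped commutatorElement

variable {S : Type*} [Group S]

theorem exists_normal_maxAbelian_of_metabelian [Finite S] {p : ℕ} [Fact p.Prime] (hS : IsPGroup p S)
    (hmeta : IsMulCommutative ↥(_root_.commutator S)) (A₀ : Subgroup S) (hA₀ : A₀ ∈ maxAbelianSubgroups S) :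
    ∃ B ∈ maxAbelianSubgroups S, B.Normal ∧ B ≤ normalClosure (A₀ : Set S) := by
  obtain ⟨S', hS'⟩ : ∃ S', S' = _root_.commutator S := ⟨_, rfl⟩
  obtain ⟨N, hN⟩ : ∃ N, N = normalClosure (A₀ : Set S) := ⟨_, rfl⟩
  haveI hNn : N.Normal := hN ▸ normalClosure_normal
  have hS'n : S'.Normal := hS' ▸ inferInstance
  have hS'c : IsMulCommutative S' := hS' ▸ hmeta
  have hcom : ∀ x y : S, ⁅x, y⁆ ∈ S' := fun x y => by
    rw [hS', _root_.commutator_def]; exact commutator_mem_commutator (mem_top x) (mem_top y)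
  obtain ⟨A, ⟨hA, hAN⟩, hmax⟩ := Set.exists_max_image {A | A ∈ maxAbelianSubgroups S ∧ A ≤ N}
    (fun A => Nat.card ↥(A ⊓ S')) (Set.toFinite _) ⟨A₀, hA₀, hN ▸ fun x hx => subset_normalClosure hx⟩
  refine ⟨A, hA, ?_, hN ▸ hAN⟩
  have hcard : ∀ B : Subgroup S, IsMulCommutative B → Nat.card A ≤ Nat.card B → B ≤ N →
      B ∈ maxAbelianSubgroups S ∧ Nat.card ↥(B ⊓ S') ≤ Nat.card ↥(A ⊓ S') := by
    intro B hB hle hBN
    have h : B ∈ maxAbelianSubgroups S := ⟨hB, fun C hC => (hA.2 C hC).trans hle⟩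
    exact ⟨h, hmax B ⟨h, hBN⟩⟩
  have hconjc : ∀ (g : S) (B : Subgroup S), Nat.card ↥(B.map (MulAut.conj g).toMonoidHom) = Nat.card B :=
    fun g B => Subgroup.card_map_of_injective (MulAut.conj g).injective
  have hS'g : ∀ g : S, S'.map (MulAut.conj g).toMonoidHom = S' := fun g =>
    mem_normalizer_iff_map_conj_eq.1 (by rw [normalizer_eq_top_iff.2 hS'n]; trivial)
  have hnorm : ∀ B : Subgroup S, B ∈ maxAbelianSubgroups S → B ≤ N →
      Nat.card ↥(B ⊓ S') = Nat.card ↥(A ⊓ S') → S' ≤ normalizer (B : Set S) := by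
    intro B hB hBN hBc
    by_contra hnot
    have hBB : ⁅S', S'⁆ ≤ B := by
      haveI := hS'c
      rw [commutator_eq_bot_iff_le_centralizer.2 (le_centralizer S')]
      exact bot_le
    obtain ⟨B', hc, hcomm, -, hlt, -, -, hD⟩ := replace_exists (S := ⊤) (hS.to_subgroup ⊤) le_top
      (normalizer_eq_top_iff.2 hS'n).ge (fun _ => hS'c) le_top hB.1 hBB hnot
    have hle : Nat.card A ≤ Nat.card B' := hc ▸ hB.2 A hA.1
    have h2 := (hcard B' hcomm hle (hD N le_top (normalizer_eq_top_iff.2 hNn).ge hBN)).2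
    have h3 : Nat.card ↥(B ⊓ S') < Nat.card ↥(B' ⊓ S') :=
      Set.Finite.card_lt_card (Set.toFinite _) (SetLike.coe_ssubset_coe.2 hlt)
    omega
  -- every extremal `B` is covered by its meet with a conjugate and with `S'`
  have hcover : ∀ B : Subgroup S, B ∈ maxAbelianSubgroups S → B ≤ N →
      Nat.card ↥(B ⊓ S') = Nat.card ↥(A ⊓ S') → ∀ g : S,
      B = (B ⊓ B.map (MulAut.conj g).toMonoidHom) ⊔ (B ⊓ S') := by
    intro B hB hBN hBc g
    haveI := hB.1
    obtain ⟨B', hB'⟩ : ∃ B', B' = B.map (MulAut.conj g).toMonoidHom := ⟨_, rfl⟩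
    rw [← hB']
    have hB'N : B' ≤ N := by
      rw [hB']
      rintro _ ⟨x, hx, rfl⟩
      exact hNn.conj_mem x (hBN hx) g
    haveI hB'c : IsMulCommutative B' := hB' ▸ inferInstance
    have hB'm : B' ∈ maxAbelianSubgroups S :=
      ⟨hB'c, fun C hC => (hB.2 C hC).trans (hB' ▸ (hconjc g B).ge)⟩
    have hB'card : Nat.card ↥(B' ⊓ S') = Nat.card ↥(A ⊓ S') := by
      rw [hB', ← hS'g g, ← map_inf _ _ _ (MulAut.conj g).injective, hconjc, hBc, hS'g]
    have hBS : S' ≤ normalizer (B : Set S) := hnorm B hB hBN hBc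
    have hsub : B' ≤ B ⊔ S' := by
      rw [hB']
      rintro _ ⟨x, hx, rfl⟩
      have : MulAut.conj g x = ⁅g, x⁆ * x := by simp [commutatorElement_def]
      show MulAut.conj g x ∈ B ⊔ S'
      rw [this]
      exact (B ⊔ S').mul_mem (mem_sup_right (hcom g x)) (mem_sup_left hx)
    have hB'nB : B' ≤ normalizer (B : Set S) := hsub.trans (sup_le le_normalizer hBS)
    obtain ⟨C, hC⟩ : ∃ C : Subgroup S, C = closure {y | ∃ a ∈ B, y = ⁅a, g⁆} := ⟨_, rfl⟩
    have hCS : C ≤ S' := hC ▸ (closure_le _).2 (by rintro _ ⟨a, -, rfl⟩; exact hcom a g)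
    have hgen : ∀ a ∈ B, ⁅a, g⁆ ∈ B ⊔ B' := fun a ha => by
      have : ⁅a, g⁆ = a * MulAut.conj g a⁻¹ := by simp [commutatorElement_def, mul_assoc]
      rw [this]
      exact mul_mem_sup ha (hB' ▸ mem_map_of_mem _ (B.inv_mem ha))
    have hCJ : C ≤ B ⊔ B' := hC ▸ (closure_le _).2 (by rintro _ ⟨a, ha, rfl⟩; exact hgen a ha)
    obtain ⟨I, hI⟩ : ∃ I, I = B ⊓ B' := ⟨_, rfl⟩
    have hIJ : B ⊔ B' ≤ centralizer (I : Set S) := by
      rw [hI]
      exact sup_le ((le_centralizer B).trans (centralizer_le (SetLike.coe_subset_coe.2 inf_le_left)))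
        ((le_centralizer B').trans (centralizer_le (SetLike.coe_subset_coe.2 inf_le_right)))
    have hIle : I ≤ B ⊔ B' := hI ▸ inf_le_left.trans le_sup_left
    have hT : IsMulCommutative ↥(I ⊔ C) := by
      refine le_centralizer_iff_isMulCommutative.1 ?_
      refine sup_le ?_ ?_
      · rw [le_centralizer_iff]
        exact (sup_le hIle hCJ).trans hIJ
      · rw [le_centralizer_iff]
        refine sup_le ?_ ?_
        · rw [le_centralizer_iff]
          exact hCJ.trans hIJ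
        · haveI := hS'c
          exact hCS.trans ((le_centralizer S').trans (centralizer_le (SetLike.coe_subset_coe.2 hCS)))
    have hTJ : I ⊔ C ≤ B ⊔ B' := sup_le hIle hCJ
    have hsup : B ⊔ (I ⊔ C) = B ⊔ B' := by
      refine le_antisymm (sup_le le_sup_left hTJ) (sup_le le_sup_left ?_)
      rw [hB']
      rintro _ ⟨a, ha, rfl⟩
      have : MulAut.conj g a = a * ⁅a⁻¹, g⁆ := by simp [commutatorElement_def, mul_assoc]
      show MulAut.conj g a ∈ B ⊔ (I ⊔ C)
      rw [this]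
      exact mul_mem_sup ha (mem_sup_right (hC ▸ subset_closure ⟨a⁻¹, B.inv_mem ha, rfl⟩))
    have h1 := card_sup_mul_card_inf (I ⊔ C) B (hTJ.trans (sup_le le_normalizer hB'nB))
    rw [sup_comm (I ⊔ C) B, hsup] at h1
    have h2 := card_sup_mul_card_inf B' B hB'nB
    rw [sup_comm B' B, inf_comm B' B, ← hI] at h2
    have h3 : Nat.card I ≤ Nat.card ↥((I ⊔ C) ⊓ B) :=
      Subgroup.card_le_of_le (le_inf le_sup_left (hI ▸ inf_le_left))
    have hge : Nat.card A ≤ Nat.card ↥(I ⊔ C) := by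
      refine le_trans (hB'm.2 A hA.1) ?_
      refine Nat.le_of_mul_le_mul_right ?_ (Nat.card_pos (α := B))
      rw [h1, h2]
      exact Nat.mul_le_mul_left _ h3
    obtain ⟨hTm, hTle⟩ := hcard (I ⊔ C) hT hge (hTJ.trans (sup_le hBN hB'N))
    have hTc : Nat.card ↥(I ⊔ C) = Nat.card B := le_antisymm (hB.2 _ hT) (hTm.2 B hB.1)
    -- counting inside `I ⊔ C`
    have hIC : I ≤ normalizer ((S' : Subgroup S) : Set S) := (normalizer_eq_top_iff.2 hS'n).symm ▸ le_top
    have h4 := card_sup_mul_card_inf ((I ⊔ C) ⊓ S') I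
      (inf_le_left.trans ((le_centralizer (I ⊔ C)).trans
        ((centralizer_le (SetLike.coe_subset_coe.2 le_sup_left)).trans (centralizer_le_normalizer _))))
    have e4 : (I ⊔ C) ⊓ S' ⊔ I = I ⊔ C :=
      le_antisymm (sup_le inf_le_left le_sup_left)
        (sup_le le_sup_right ((le_inf le_sup_right hCS).trans le_sup_left))
    have e5 : (I ⊔ C) ⊓ S' ⊓ I = I ⊓ S' := by
      rw [inf_comm, ← inf_assoc, inf_eq_left.2 (le_sup_left : I ≤ I ⊔ C)]
    rw [e4, e5, hTc] at h4
    have h6 := card_sup_mul_card_inf (B ⊓ S') I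
      (inf_le_left.trans ((le_centralizer B).trans
        ((centralizer_le (SetLike.coe_subset_coe.2 (hI ▸ inf_le_left))).trans (centralizer_le_normalizer _))))
    have e6 : B ⊓ S' ⊓ I = I ⊓ S' := by
      rw [inf_comm, ← inf_assoc, inf_eq_left.2 (hI ▸ inf_le_left : I ≤ B)]
    rw [e6] at h6
    refine (eq_of_le_of_card_ge (sup_le inf_le_left inf_le_left) ?_).symm
    rw [sup_comm, ← hI]
    refine Nat.le_of_mul_le_mul_right ?_ (Nat.card_pos (α := ↥(I ⊓ S')))
    rw [← h4, ← h6, hBc]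
    exact Nat.mul_le_mul_right _ hTle
  refine ⟨fun x hx g => ?_⟩
  haveI := hA.1
  obtain ⟨A', hA'⟩ : ∃ A', A' = A.map (MulAut.conj g).toMonoidHom := ⟨_, rfl⟩
  have hA'N : A' ≤ N := by
    rw [hA']
    rintro _ ⟨a, ha, rfl⟩
    exact hNn.conj_mem a (hAN ha) g
  haveI hA'c : IsMulCommutative A' := hA' ▸ inferInstance
  have hA'm : A' ∈ maxAbelianSubgroups S :=
    ⟨hA'c, fun C hC => (hA.2 C hC).trans (hA' ▸ (hconjc g A).ge)⟩
  have hA'S : Nat.card ↥(A' ⊓ S') = Nat.card ↥(A ⊓ S') := by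
    rw [hA', ← hS'g g, ← map_inf _ _ _ (MulAut.conj g).injective, hconjc, hS'g]
  have hinv : A'.map (MulAut.conj g⁻¹).toMonoidHom = A := by
    rw [hA', map_map]
    convert map_id A
    ext y
    simp [mul_assoc]
  have e1 := hcover A hA hAN rfl g
  have e2 := hcover A' hA'm hA'N hA'S g⁻¹
  rw [← hA'] at e1
  rw [hinv] at e2
  have hcen : A ≤ centralizer (A' : Set S) := by
    conv_lhs => rw [e1]
    refine sup_le (inf_le_right.trans (le_centralizer A')) ?_
    rw [le_centralizer_iff]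
    conv_lhs => rw [e2]
    refine sup_le ?_ ?_
    · exact inf_le_right.trans ((le_centralizer A).trans
        (centralizer_le (SetLike.coe_subset_coe.2 inf_le_left)))
    · haveI := hS'c
      exact inf_le_right.trans ((le_centralizer S').trans
        (centralizer_le (SetLike.coe_subset_coe.2 inf_le_right)))
  have hsupc : IsMulCommutative ↥(A ⊔ A') := by
    refine le_centralizer_iff_isMulCommutative.1 (sup_le ?_ ?_)
    · rw [le_centralizer_iff]; exact sup_le (le_centralizer A) (le_centralizer_iff.1 hcen)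
    · rw [le_centralizer_iff]; exact sup_le hcen (le_centralizer A')
  have h7 : A = A ⊔ A' := eq_of_le_of_card_ge le_sup_left (hA.2 _ hsupc)
  rw [h7]
  exact mem_sup_right (hA' ▸ mem_map_of_mem (MulAut.conj g).toMonoidHom hx)

end CfsgLib.LocalEvenB
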