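import Cfsg.Agent.Lib.PGroups.Extraspecial
import Cfsg.Agent.Lib.PGroups.ClassTwo
import Cfsg.Agent.Lib.Transfer.Conj
import Cfsg.Agent.Lib.Core.Basic
import Cfsg.Prelude.Def_TwoFusion

/-!
# Sylow `p`-subgroups extraspecial of order `p ^ 3` and exponent `p ^ 2`
-/

set_option autoImplicit false
set_option linter.all false

namespace CfsgLib.LocalEvenB

open Subgroup Cfsg
open scoped commutatorElement Pointwise

variable {G : Type*} [Group G]

/-- Powers of an element translating `z` by a fixed point. -/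
theorem conj_pow_translate {v c z : G} (hz : v * z * v⁻¹ = c * z) (hc : v * c * v⁻¹ = c) (j : ℕ) :
    v ^ j * z * (v ^ j)⁻¹ = c ^ j * z ∧ v ^ j * c * (v ^ j)⁻¹ = c := by
  induction j with
  | zero => simp
  | succ j ih =>
    have hcj : v * c ^ j * v⁻¹ = c ^ j := by rw [← conj_pow, hc]
    constructor
    · calc v ^ (j + 1) * z * (v ^ (j + 1))⁻¹ = v * (v ^ j * z * (v ^ j)⁻¹) * v⁻¹ := by
            rw [pow_succ']; group
        _ = v * (c ^ j * z) * v⁻¹ := by rw [ih.1]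
        _ = (v * c ^ j * v⁻¹) * (v * z * v⁻¹) := by group
        _ = c ^ (j + 1) * z := by rw [hcj, hz, pow_succ, mul_assoc]
    · calc v ^ (j + 1) * c * (v ^ (j + 1))⁻¹ = v * (v ^ j * c * (v ^ j)⁻¹) * v⁻¹ := by
            rw [pow_succ']; group
        _ = c := by rw [ih.2, hc]

theorem eq_sup_zpowers [Finite G] {p : ℕ} [Fact p.Prime] {E : Subgroup G} {a b : G}
    (hcard : Nat.card E = p ^ 2) (ha : a ∈ E) (hb : b ∈ E) (hao : orderOf a = p) (hab : b ∉ zpowers a) :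
    E = zpowers a ⊔ zpowers b := by
  refine (eq_of_le_of_card_ge (sup_le (zpowers_le.2 ha) (zpowers_le.2 hb)) ?_).symm
  have hp : IsPGroup p ↥(zpowers a ⊔ zpowers b) :=
    (IsPGroup.of_card (n := 2) hcard).to_le (sup_le (zpowers_le.2 ha) (zpowers_le.2 hb))
  obtain ⟨k, hk⟩ := IsPGroup.iff_card.1 hp
  have h1 : p < Nat.card ↥(zpowers a ⊔ zpowers b) := by
    have hlt : zpowers a < zpowers a ⊔ zpowers b :=
      lt_of_le_of_ne le_sup_left fun h => hab (h ▸ mem_sup_right (mem_zpowers b))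
    have h := Set.Finite.card_lt_card (Set.toFinite _) (SetLike.coe_ssubset_coe.2 hlt)
    rw [SetLike.coe_sort_coe, Nat.card_zpowers, hao] at h
    exact h
  rw [hcard]
  rw [hk] at h1 ⊢
  refine Nat.pow_le_pow_right (Fact.out : p.Prime).pos ?_
  by_contra hk2
  have : p ^ k ≤ p ^ 1 := Nat.pow_le_pow_right (Fact.out : p.Prime).pos (by omega)
  rw [pow_one] at this
  omega

/-- An element inverting `E` elementwise commutes with the action of every normalizing element. -/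
theorem commutator_inverting_mem_centralizer {E : Subgroup G} {t u : G}
    (ht : ∀ e ∈ E, t * e * t⁻¹ = e⁻¹) (hu : u ∈ normalizer (E : Set G)) :
    t * u * t⁻¹ * u⁻¹ ∈ centralizer (E : Set G) := by
  have hti : ∀ e ∈ E, t⁻¹ * e * t = e⁻¹ := fun e he => by
    have h1 := ht e⁻¹ (E.inv_mem he)
    rw [inv_inv] at h1
    calc t⁻¹ * e * t = t⁻¹ * (t * e⁻¹ * t⁻¹) * t := by rw [h1]
      _ = e⁻¹ := by group
  refine mem_centralizer_iff.2 fun e he => ?_
  have h1 : u⁻¹ * e * u ∈ E := (mem_normalizer_iff''.1 hu e).1 he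
  have h2 : t * u * t⁻¹ * u⁻¹ * e * (t * u * t⁻¹ * u⁻¹)⁻¹ = e := by
    calc t * u * t⁻¹ * u⁻¹ * e * (t * u * t⁻¹ * u⁻¹)⁻¹
        = t * u * (t⁻¹ * (u⁻¹ * e * u) * t) * u⁻¹ * t⁻¹ := by group
      _ = t * u * (u⁻¹ * e * u)⁻¹ * u⁻¹ * t⁻¹ := by rw [hti _ h1]
      _ = t * e⁻¹ * t⁻¹ := by group
      _ = e := by rw [ht _ (E.inv_mem he), inv_inv]
  exact (mul_inv_eq_iff_eq_mul.1 h2).symm

variable [Finite G] {p : ℕ} [Fact p.Prime]

theorem center_isStronglyClosed_of_modular (hp : p ≠ 2) (P : Sylow p G)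
    (hE : Cfsg.IsExtraspecial p ↥(P : Subgroup G)) (hcard : Nat.card P = p ^ 3)
    (hexp : Monoid.exponent ↥(P : Subgroup G) = p ^ 2) :
    Cfsg.IsStronglyClosed ((center ↥(P : Subgroup G)).map (P : Subgroup G).subtype) (P : Subgroup G) := by
  have hp' : p.Prime := Fact.out
  have hodd : Odd p := hp'.odd_of_ne_two hp
  obtain ⟨P₀, hP₀⟩ : ∃ P₀, P₀ = (P : Subgroup G) := ⟨_, rfl⟩
  refine ⟨map_subtype_le _, ?_⟩
  rintro _ ⟨⟨z, hzP⟩, hzc, rfl⟩ g hgP
  show g * z * g⁻¹ ∈ _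
  change g * z * g⁻¹ ∈ (P : Subgroup G) at hgP
  by_contra hy
  have hzP' : z ∈ P₀ := hP₀ ▸ hzP
  -- the power map
  let π : ↥(P : Subgroup G) →* ↥(P : Subgroup G) :=
    MonoidHom.mk' (fun x => x ^ p) fun a b =>
      CfsgLib.PGroups.mul_pow_of_central_odd (CfsgLib.PGroups.IsExtraspecial.comm_mem hE b a) hodd
        (CfsgLib.PGroups.IsExtraspecial.comm_pow hE b a)
  have hrange : Nat.card π.range = p := by
    have hle : π.range ≤ center ↥(P : Subgroup G) := by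
      rintro _ ⟨x, rfl⟩
      exact CfsgLib.PGroups.IsExtraspecial.pow_mem_center hE x
    have hne : π.range ≠ ⊥ := by
      intro h
      have hd : Monoid.exponent ↥(P : Subgroup G) ∣ p := Monoid.exponent_dvd_iff_forall_pow_eq_one.2
        fun x => mem_bot.1 (h.le ⟨x, rfl⟩)
      rw [hexp] at hd
      have := Nat.le_of_dvd hp'.pos hd
      nlinarith [hp'.two_le]
    rw [CfsgLib.PGroups.IsExtraspecial.eq_center_of_le hE hle hne]
    exact CfsgLib.PGroups.IsExtraspecial.card_center hE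
  have hkercard : Nat.card π.ker = p ^ 2 := by
    have h1 := card_mul_index π.ker
    rw [index_ker, hrange] at h1
    have h2 : Nat.card ↥(P : Subgroup G) = p ^ 2 * p := by rw [hcard]; ring
    exact Nat.eq_of_mul_eq_mul_right hp'.pos (h1.trans h2)
  obtain ⟨E, hEdef⟩ : ∃ E, E = π.ker.map (P : Subgroup G).subtype := ⟨_, rfl⟩
  have hEP : E ≤ P₀ := by rw [hEdef, hP₀]; exact map_subtype_le _
  have hEcard : Nat.card E = p ^ 2 := by
    rw [hEdef, Subgroup.card_map_of_injective (P : Subgroup G).subtype_injective]; exact hkercard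
  have hmemE : ∀ x, x ∈ P₀ → x ^ p = 1 → x ∈ E := fun x hx hxp => by
    rw [hP₀] at hx
    exact hEdef ▸ ⟨⟨x, hx⟩, Subtype.ext hxp, rfl⟩
  have hEpow : ∀ x ∈ E, x ^ p = 1 := by
    intro x hx
    rw [hEdef] at hx
    obtain ⟨y, hy, rfl⟩ := hx
    exact congrArg Subtype.val (hy : π y = 1)
  haveI hEcomm : IsMulCommutative E := IsPGroup.isMulCommutative_of_card_eq_prime_sq hEcard
  have hEnorm : P₀ ≤ normalizer (E : Set G) := by
    rw [le_normalizer_iff]
    intro x hx e he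
    refine hmemE _ (P₀.mul_mem (P₀.mul_mem hx (hEP he)) (P₀.inv_mem hx)) ?_
    rw [conj_pow, hEpow e he, mul_one, mul_inv_cancel]
  obtain ⟨y, hydef⟩ : ∃ y, y = g * z * g⁻¹ := ⟨_, rfl⟩
  rw [← hydef] at hy hgP
  have hyP : y ∈ P₀ := hP₀ ▸ hgP
  have hzp : z ^ p = 1 := congrArg Subtype.val (CfsgLib.PGroups.IsExtraspecial.center_pow hE hzc)
  have hzE : z ∈ E := hmemE z hzP' hzp
  have hyE : y ∈ E := hmemE y hyP (by rw [hydef, conj_pow, hzp, mul_one, mul_inv_cancel])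
  have hy1 : y ≠ 1 := fun h => hy (h ▸ one_mem _)
  have hz1 : z ≠ 1 := by
    intro h; apply hy1; rw [hydef, h, mul_one, mul_inv_cancel]
  have hyord : orderOf y = p := orderOf_eq_prime (hEpow y hyE) hy1
  have hcenP : ∀ c : G, c ∈ P₀ → (∀ x ∈ P₀, x * c = c * x) →
      c ∈ (center ↥(P : Subgroup G)).map (P : Subgroup G).subtype := by
    intro c hc hcx
    subst hP₀
    exact ⟨⟨c, hc⟩, mem_center_iff.2 fun x => Subtype.ext (hcx x x.2), rfl⟩
  have hzcomm : ∀ x ∈ P₀, x * z = z * x := fun x hx => by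
    rw [hP₀] at hx
    exact congrArg Subtype.val (mem_center_iff.1 hzc ⟨x, hx⟩)
  -- choose the conjugating element inside the normalizer of `E`
  obtain ⟨T, hT⟩ : ∃ T, T = ((g • P : Sylow p G) : Subgroup G) := ⟨_, rfl⟩
  have hTc : T ≤ centralizer {y} := by
    intro x hx
    rw [hT, CfsgLib.Transfer.mem_sylow_smul, ← hP₀] at hx
    rw [mem_centralizer_singleton_iff]
    calc x * y = g * ((g⁻¹ * x * g) * z) * g⁻¹ := by rw [hydef]; group
      _ = g * (z * (g⁻¹ * x * g)) * g⁻¹ := by rw [hzcomm _ hx]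
      _ = y * x := by rw [hydef]; group
  have hEc : E ≤ centralizer {y} := fun e he => mem_centralizer_singleton_iff.2
    (congrArg Subtype.val (hEcomm.is_comm.comm ⟨e, he⟩ ⟨y, hyE⟩))
  obtain ⟨c, hc, hcE⟩ := CfsgLib.Transfer.exists_conj_le (N := centralizer {y}) (T := T)
    (hT ▸ (g • P : Sylow p G).2)
    (fun hd => (g • P : Sylow p G).not_dvd_index (hT ▸ hd.trans (relIndex_dvd_index_of_le hTc)))
    hEc (IsPGroup.of_card (n := 2) hEcard)
  obtain ⟨g', hg'⟩ : ∃ g', g' = c * g := ⟨_, rfl⟩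
  have hg'y : g' * z * g'⁻¹ = y := by
    rw [mem_centralizer_singleton_iff] at hc
    calc g' * z * g'⁻¹ = c * y * c⁻¹ := by rw [hg', hydef]; group
      _ = y := by rw [hc, mul_inv_cancel_right]
  have hg'N : ∀ e ∈ E, g'⁻¹ * e * g' ∈ E := by
    intro e he
    refine hmemE _ ?_ ?_
    · have h := hcE e he
      rw [hT, CfsgLib.Transfer.mem_sylow_smul, ← hP₀] at h
      convert h using 1
      rw [hg']; group
    · have := conj_pow (i := p) (a := g'⁻¹) (b := e)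
      rw [inv_inv] at this
      rw [this, hEpow e he, mul_one, inv_mul_cancel]
  have hg'E : g' ∈ normalizer (E : Set G) := by
    rw [← inv_mem_iff, mem_normalizer_iff_map_conj_eq]
    refine eq_of_le_of_card_ge ?_ (Subgroup.card_map_of_injective (MulAut.conj g'⁻¹).injective).ge
    rintro _ ⟨e, he, rfl⟩
    show g'⁻¹ * e * g'⁻¹⁻¹ ∈ E
    rw [inv_inv]
    exact hg'N e he
  -- an element outside `E`
  obtain ⟨u, huP, huE⟩ : ∃ u ∈ P₀, u ∉ E := by
    by_contra h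
    push Not at h
    have := Subgroup.card_le_of_le (fun x hx => h x hx : P₀ ≤ E)
    rw [hEcard, hP₀, hcard] at this
    exact absurd this (not_le.2 (Nat.pow_lt_pow_right hp'.one_lt (by norm_num)))
  have huN := hEnorm huP
  -- an element of `E` centralized by `u` is central
  have hfix : ∀ e ∈ E, u * e = e * u → e ∈ (center ↥(P : Subgroup G)).map (P : Subgroup G).subtype := by
    intro e he hue
    refine hcenP e (hEP he) ?_
    intro x hx
    have hle : zpowers u ⊔ E = P₀ := by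
      refine eq_of_le_of_card_ge (sup_le (zpowers_le.2 huP) hEP) ?_
      have hlt : E < zpowers u ⊔ E :=
        lt_of_le_of_ne le_sup_right fun h => huE (h ▸ mem_sup_left (mem_zpowers u))
      have h1 := Set.Finite.card_lt_card (Set.toFinite _) (SetLike.coe_ssubset_coe.2 hlt)
      rw [SetLike.coe_sort_coe, SetLike.coe_sort_coe, hEcard] at h1
      obtain ⟨k, hk⟩ := IsPGroup.iff_card.1
        ((hP₀ ▸ P.2 : IsPGroup p P₀).to_le (sup_le (zpowers_le.2 huP) hEP))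
      rw [hP₀, hcard, hk]
      rw [hk] at h1
      exact Nat.pow_le_pow_right hp'.pos ((Nat.pow_lt_pow_iff_right hp'.one_lt).1 h1)
    have : zpowers u ⊔ E ≤ centralizer {e} := sup_le
      (zpowers_le.2 (mem_centralizer_singleton_iff.2 hue))
      (fun x hx => mem_centralizer_singleton_iff.2
        (congrArg Subtype.val (hEcomm.is_comm.comm ⟨x, hx⟩ ⟨e, he⟩)))
    exact mem_centralizer_singleton_iff.1 (this (hle ▸ hx))
  obtain ⟨z', hz'def⟩ : ∃ z', z' = u * y * u⁻¹ * y⁻¹ := ⟨_, rfl⟩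
  have hz'1 : z' ≠ 1 := by
    intro h
    rw [hz'def, mul_inv_eq_one, mul_inv_eq_iff_eq_mul] at h
    exact hy (hfix y hyE h)
  have hz'c : z' ∈ (center ↥(P : Subgroup G)).map (P : Subgroup G).subtype :=
    ⟨⁅(⟨u, hP₀ ▸ huP⟩ : ↥(P : Subgroup G)), ⟨y, hgP⟩⁆,
      CfsgLib.PGroups.IsExtraspecial.comm_mem hE _ _, by simp [hz'def, commutatorElement_def]⟩
  have hz'E : z' ∈ E := by
    rw [hz'def]; exact E.mul_mem ((mem_normalizer_iff.1 huN y).1 hyE) (E.inv_mem hyE)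
  have hz'P : ∀ x ∈ P₀, x * z' = z' * x := by
    obtain ⟨w, hw, hwe⟩ := hz'c
    intro x hx
    rw [hP₀] at hx
    rw [← hwe]
    exact congrArg Subtype.val (mem_center_iff.1 hw ⟨x, hx⟩)
  have hgen : E = zpowers y ⊔ zpowers z' := by
    refine eq_sup_zpowers hEcard hyE hz'E hyord fun h => ?_
    -- `y` is then a power of `z'`, hence central
    refine hy ?_
    have hmem : y ∈ zpowers z' := by
      have h2 : orderOf z' = p := orderOf_eq_prime (hEpow z' hz'E) hz'1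
      have h3 : zpowers z' = zpowers y := eq_of_le_of_card_ge (zpowers_le.2 h)
        (by rw [Nat.card_zpowers, Nat.card_zpowers, h2, hyord])
      rw [h3]; exact mem_zpowers y
    exact zpowers_le.2 hz'c hmem
  -- a conjugate of a power of `u` moving `z'` to `y⁻¹ z'`
  obtain ⟨v₀, hv₀⟩ : ∃ v₀, v₀ = g' * u * g'⁻¹ := ⟨_, rfl⟩
  have hv₀y : v₀ * y * v₀⁻¹ = y := by
    rw [hv₀, ← hg'y]
    calc g' * u * g'⁻¹ * (g' * z * g'⁻¹) * (g' * u * g'⁻¹)⁻¹ = g' * (u * z * u⁻¹) * g'⁻¹ := by group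
      _ = g' * z * g'⁻¹ := by rw [hzcomm u huP, mul_inv_cancel_right]
  obtain ⟨d, hd⟩ : ∃ d, d = v₀ * z' * v₀⁻¹ * z'⁻¹ := ⟨_, rfl⟩
  have hdy : d ∈ zpowers y := by
    obtain ⟨w, hw⟩ : ∃ w, w = g'⁻¹ * z' * g' := ⟨_, rfl⟩
    have hwE : w ∈ E := hw ▸ hg'N z' hz'E
    have hcw : u * w * u⁻¹ * w⁻¹ ∈ zpowers z := by
      have hm : u * w * u⁻¹ * w⁻¹ ∈ (center ↥(P : Subgroup G)).map (P : Subgroup G).subtype :=
        ⟨⁅(⟨u, hP₀ ▸ huP⟩ : ↥(P : Subgroup G)), ⟨w, hP₀ ▸ hEP hwE⟩⁆,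
          CfsgLib.PGroups.IsExtraspecial.comm_mem hE _ _, by simp [commutatorElement_def]⟩
      have hc : (center ↥(P : Subgroup G)).map (P : Subgroup G).subtype = zpowers z := by
        have hzm : z ∈ (center ↥(P : Subgroup G)).map (P : Subgroup G).subtype := ⟨⟨z, hzP⟩, hzc, rfl⟩
        refine (eq_of_le_of_card_ge (zpowers_le.2 hzm) ?_).symm
        rw [Subgroup.card_map_of_injective (P : Subgroup G).subtype_injective, Nat.card_zpowers,
          CfsgLib.PGroups.IsExtraspecial.card_center hE, orderOf_eq_prime hzp hz1]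
      rwa [hc] at hm
    have e : d = g' * (u * w * u⁻¹ * w⁻¹) * g'⁻¹ := by rw [hd, hv₀, hw]; group
    obtain ⟨k, hk⟩ := mem_zpowers_iff.1 hcw
    rw [e, ← hk, ← conj_zpow, hg'y]
    exact zpow_mem (mem_zpowers y) k
  have hd1 : d ≠ 1 := by
    intro h
    rw [hd, mul_inv_eq_one, mul_inv_eq_iff_eq_mul] at h
    -- then `v₀` centralizes `E`, so `u` does
    have hcv : E ≤ centralizer {v₀} := by
      rw [hgen, sup_le_iff, zpowers_le, zpowers_le]
      exact ⟨mem_centralizer_singleton_iff.2 (mul_inv_eq_iff_eq_mul.1 hv₀y).symm,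
        mem_centralizer_singleton_iff.2 h.symm⟩
    refine hy (hfix y hyE ?_)
    have hmem : g' * y * g'⁻¹ ∈ E := (mem_normalizer_iff.1 hg'E y).1 hyE
    have h2 := mem_centralizer_singleton_iff.1 (hcv hmem)
    rw [hv₀] at h2
    have h3 : g' * (y * u) * g'⁻¹ = g' * (u * y) * g'⁻¹ := by
      calc g' * (y * u) * g'⁻¹ = g' * y * g'⁻¹ * (g' * u * g'⁻¹) := by group
        _ = g' * u * g'⁻¹ * (g' * y * g'⁻¹) := h2
        _ = g' * (u * y) * g'⁻¹ := by group
    exact (mul_left_cancel (mul_right_cancel h3)).symm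
  have hdord : orderOf d = p := orderOf_eq_prime (hEpow d (hgen ▸ mem_sup_left hdy)) hd1
  have hyd : y⁻¹ ∈ Submonoid.powers d := by
    rw [mem_powers_iff_mem_zpowers]
    have h3 : zpowers d = zpowers y := eq_of_le_of_card_ge (zpowers_le.2 hdy)
      (by rw [Nat.card_zpowers, Nat.card_zpowers, hdord, hyord])
    rw [h3]; exact inv_mem (mem_zpowers y)
  obtain ⟨j, hj⟩ := (Submonoid.mem_powers_iff _ _).1 hyd
  have hv₀d : v₀ * d * v₀⁻¹ = d := by
    obtain ⟨k, hk⟩ := mem_zpowers_iff.1 hdy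
    rw [← hk, ← conj_zpow, hv₀y]
  obtain ⟨hvz, hvd⟩ := conj_pow_translate (v := v₀) (c := d) (z := z') (by rw [hd]; group) hv₀d j
  rw [hj] at hvz
  obtain ⟨v, hv⟩ : ∃ v, v = v₀ ^ j := ⟨_, rfl⟩
  have hvy : v * y * v⁻¹ = y := by
    have hc : Commute v₀ y := mul_inv_eq_iff_eq_mul.1 hv₀y
    rw [hv, (hc.pow_left j).eq, mul_inv_cancel_right]
  rw [← hv] at hvz
  have huy : u * y * u⁻¹ = z' * y := by rw [hz'def]; group
  have huz : u * z' * u⁻¹ = z' := by rw [hz'P u huP, mul_inv_cancel_right]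
  have hyz : y * z' = z' * y := (congrArg Subtype.val (hEcomm.is_comm.comm ⟨y, hyE⟩ ⟨z', hz'E⟩) :)
  obtain ⟨w, hw⟩ : ∃ w, w = u * v * u := ⟨_, rfl⟩
  have hwz : w * z' * w⁻¹ = y⁻¹ := by
    calc w * z' * w⁻¹ = u * (v * (u * z' * u⁻¹) * v⁻¹) * u⁻¹ := by rw [hw]; group
      _ = u * (y⁻¹ * z') * u⁻¹ := by rw [huz, hvz]
      _ = (u * y * u⁻¹)⁻¹ * (u * z' * u⁻¹) := by group
      _ = y⁻¹ := by rw [huy, huz]; group
  have hwy : w * y * w⁻¹ = z' := by
    calc w * y * w⁻¹ = u * (v * (u * y * u⁻¹) * v⁻¹) * u⁻¹ := by rw [hw]; group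
      _ = u * ((v * z' * v⁻¹) * (v * y * v⁻¹)) * u⁻¹ := by rw [huy]; group
      _ = u * (y⁻¹ * (y * z')) * u⁻¹ := by rw [hvz, hvy, hyz]; group
      _ = z' := by rw [inv_mul_cancel_left, huz]
  obtain ⟨t, ht⟩ : ∃ t, t = w * w := ⟨_, rfl⟩
  have hty : t * y * t⁻¹ = y⁻¹ := by
    calc t * y * t⁻¹ = w * (w * y * w⁻¹) * w⁻¹ := by rw [ht]; group
      _ = y⁻¹ := by rw [hwy, hwz]
  have htz : t * z' * t⁻¹ = z'⁻¹ := by
    calc t * z' * t⁻¹ = w * (w * z' * w⁻¹) * w⁻¹ := by rw [ht]; group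
      _ = (w * y * w⁻¹)⁻¹ := by rw [hwz]; group
      _ = z'⁻¹ := by rw [hwy]
  let I : Subgroup G :=
    { carrier := {e | e ∈ E ∧ t * e * t⁻¹ = e⁻¹}
      one_mem' := ⟨one_mem _, by simp⟩
      mul_mem' := fun {a b} ha hb => ⟨mul_mem ha.1 hb.1, by
        calc t * (a * b) * t⁻¹ = (t * a * t⁻¹) * (t * b * t⁻¹) := by group
          _ = a⁻¹ * b⁻¹ := by rw [ha.2, hb.2]
          _ = (b * a)⁻¹ := (mul_inv_rev b a).symm
          _ = (a * b)⁻¹ := by
            rw [show b * a = a * b from congrArg Subtype.val (hEcomm.is_comm.comm ⟨b, hb.1⟩ ⟨a, ha.1⟩)]⟩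
      inv_mem' := fun {a} ha => ⟨inv_mem ha.1, by rw [← conj_inv, ha.2]⟩ }
  have htinv : ∀ e ∈ E, t * e * t⁻¹ = e⁻¹ := by
    intro e he
    have : E ≤ I := hgen.le.trans (sup_le (zpowers_le.2 ⟨hyE, hty⟩) (zpowers_le.2 ⟨hz'E, htz⟩))
    exact (this he).2
  have htN : t ∈ normalizer (E : Set G) := by
    rw [mem_normalizer_iff_map_conj_eq]
    refine eq_of_le_of_card_ge ?_ (Subgroup.card_map_of_injective (MulAut.conj t).injective).ge
    rintro _ ⟨e, he, rfl⟩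
    show t * e * t⁻¹ ∈ E
    rw [htinv e he]; exact E.inv_mem he
  -- move `t` into the normalizer of `P`
  obtain ⟨U, hU⟩ : ∃ U, U = centralizer (E : Set G) ⊔ P₀ := ⟨_, rfl⟩
  have htU : P₀.map (MulAut.conj t).toMonoidHom ≤ U := by
    rintro _ ⟨x, hx, rfl⟩
    show t * x * t⁻¹ ∈ U
    have e1 : t * x * t⁻¹ = (t * x * t⁻¹ * x⁻¹) * x := by group
    rw [e1, hU]
    exact mul_mem_sup (commutator_inverting_mem_centralizer htinv (hEnorm hx)) hx
  obtain ⟨a, ha, haP⟩ := CfsgLib.Transfer.exists_conj_le (N := U) (T := P₀) (hP₀ ▸ P.2)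
    (fun hd => P.not_dvd_index (hP₀ ▸ hd.trans (relIndex_dvd_index_of_le (hU ▸ le_sup_right))))
    htU ((hP₀ ▸ P.2 : IsPGroup p P₀).map _)
  have hCn : P₀ ≤ normalizer ((centralizer (E : Set G) : Subgroup G) : Set G) := by
    refine hEnorm.trans ?_
    rw [le_normalizer_iff]
    intro x hx c hc
    rw [mem_centralizer_iff] at hc ⊢
    intro e he
    have h1 := hc (x⁻¹ * e * x) ((mem_normalizer_iff''.1 hx e).1 he)
    calc e * (x * c * x⁻¹) = x * ((x⁻¹ * e * x) * c) * x⁻¹ := by group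
      _ = x * (c * (x⁻¹ * e * x)) * x⁻¹ := by rw [h1]
      _ = x * c * x⁻¹ * e := by group
  rw [hU, ← SetLike.mem_coe, coe_mul_of_right_le_normalizer_left _ _ hCn] at ha
  obtain ⟨c₀, hc₀, r, hr, rfl⟩ := ha
  obtain ⟨n, hn⟩ : ∃ n, n = c₀⁻¹ * t := ⟨_, rfl⟩
  have hninv : ∀ e ∈ E, n * e * n⁻¹ = e⁻¹ := by
    intro e he
    have h1 := mem_centralizer_iff.1 hc₀ _ (E.inv_mem he)
    calc n * e * n⁻¹ = c₀⁻¹ * (t * e * t⁻¹) * c₀ := by rw [hn]; group
      _ = c₀⁻¹ * (e⁻¹ * c₀) := by rw [htinv e he]; group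
      _ = e⁻¹ := by rw [h1, inv_mul_cancel_left]
  have hnP : n * u * n⁻¹ ∈ P₀ := by
    have h1 := haP _ (mem_map_of_mem (MulAut.conj t).toMonoidHom huP)
    have h2 := P₀.mul_mem (P₀.mul_mem hr h1) (P₀.inv_mem hr)
    convert h2 using 1
    show n * u * n⁻¹ = r * ((c₀ * r)⁻¹ * (t * u * t⁻¹) * (c₀ * r)) * r⁻¹
    rw [hn]; group
  obtain ⟨e₀, he₀⟩ : ∃ e₀, e₀ = n * u * n⁻¹ * u⁻¹ := ⟨_, rfl⟩
  have he₀P : e₀ ∈ P₀ := he₀ ▸ P₀.mul_mem hnP (P₀.inv_mem huP)
  have he₀E : e₀ ∈ E := by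
    have hcE := commutator_inverting_mem_centralizer hninv huN
    rw [← he₀] at hcE
    by_contra h
    refine hy (hcenP y hyP fun x hx => ?_)
    have hle : zpowers e₀ ⊔ E = P₀ := by
      refine eq_of_le_of_card_ge (sup_le (zpowers_le.2 he₀P) hEP) ?_
      have hlt : E < zpowers e₀ ⊔ E :=
        lt_of_le_of_ne le_sup_right fun h' => h (h' ▸ mem_sup_left (mem_zpowers e₀))
      have h1 := Set.Finite.card_lt_card (Set.toFinite _) (SetLike.coe_ssubset_coe.2 hlt)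
      rw [SetLike.coe_sort_coe, SetLike.coe_sort_coe, hEcard] at h1
      obtain ⟨k, hk⟩ := IsPGroup.iff_card.1
        ((hP₀ ▸ P.2 : IsPGroup p P₀).to_le (sup_le (zpowers_le.2 he₀P) hEP))
      rw [hP₀, hcard, hk]
      rw [hk] at h1
      exact Nat.pow_le_pow_right hp'.pos ((Nat.pow_lt_pow_iff_right hp'.one_lt).1 h1)
    have hcen : zpowers e₀ ⊔ E ≤ centralizer {y} := sup_le
      (zpowers_le.2 (mem_centralizer_singleton_iff.2 (mem_centralizer_iff.1 hcE y hyE).symm)) hEc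
    exact mem_centralizer_singleton_iff.1 (hcen (hle ▸ hx))
  -- compute the `p`-th power
  have hupE : u ^ p ∈ E := by
    refine hmemE _ (P₀.pow_mem huP p) ?_
    rw [← pow_mul, ← pow_two]
    have hu' : u ∈ (P : Subgroup G) := hP₀ ▸ huP
    exact congrArg Subtype.val (CfsgLib.PGroups.IsExtraspecial.pow_sq hE ⟨u, hu'⟩)
  have h1 : (u ^ p)⁻¹ = u ^ p := by
    rw [← hninv _ hupE, ← conj_pow, show n * u * n⁻¹ = e₀ * u by rw [he₀]; group]
    have h := congrArg Subtype.val (map_mul π ⟨e₀, hP₀ ▸ he₀P⟩ ⟨u, hP₀ ▸ huP⟩)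
    simp only [π, MonoidHom.mk'_apply, SubmonoidClass.coe_pow, Subgroup.coe_mul] at h
    rw [h, hEpow _ he₀E, one_mul]
  have h2 : (u ^ p) ^ 2 = 1 := by rw [pow_two]; nth_rewrite 1 [← h1]; exact inv_mul_cancel _
  refine huE (hmemE u huP ?_)
  have h3 : (u ^ p) ^ p = 1 := hEpow _ hupE
  have hcop : Nat.Coprime 2 p := Nat.coprime_two_left.2 hodd
  have h4 : orderOf (u ^ p) ∣ Nat.gcd 2 p :=
    Nat.dvd_gcd (orderOf_dvd_of_pow_eq_one h2) (orderOf_dvd_of_pow_eq_one h3)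
  rw [hcop.gcd_eq_one, Nat.dvd_one, orderOf_eq_one_iff] at h4
  exact h4

theorem center_isStronglyClosed_of_modular' (hp : p ≠ 2) (P : Sylow p G)
    (hE : Cfsg.IsExtraspecial p ↥P) (hcard : Nat.card P = p ^ 3) (hexp : Monoid.exponent ↥P = p ^ 2) :
    Cfsg.IsStronglyClosed ((center ↥P).map (P : Subgroup G).subtype) (P : Subgroup G) :=
  center_isStronglyClosed_of_modular hp P hE hcard hexp

end CfsgLib.LocalEvenB
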