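import Cfsg.Agent.Lib.PGroups.Extraspecial

/-!
# The monomial representation of `2₊^(1+2n)` over the field with three elements
-/

set_option autoImplicit false
set_option linter.all false
set_option maxHeartbeats 800000

namespace CfsgLib.LocalEvenB.Monomial

open Matrix

/-- The vector space of rank `n` over the field with two elements. -/
abbrev W2 (n : ℕ) := Fin n → ZMod 2

/-- Pairs `(x, y)`. -/
abbrev U2 (n : ℕ) := W2 n × W2 n

/-- The sign. -/
def sgn : ZMod 2 → ZMod 3 := fun a => if a = 0 then 1 else -1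

theorem sgn_add : ∀ a b, sgn (a + b) = sgn a * sgn b := by decide

theorem sgn_zero : sgn 0 = 1 := rfl

theorem sgn_ne_zero : ∀ a, sgn a ≠ 0 := by decide

theorem sgn_inj : ∀ a b, sgn a = sgn b → a = b := by decide

theorem sgn_sq : ∀ a, sgn a * sgn a = 1 := by decide

variable {n : ℕ}

/-- The pairing cocycle. -/
def beta (u v : U2 n) : ZMod 2 := v.1 ⬝ᵥ u.2

theorem beta_add_left (u u' v : U2 n) : beta (u + u') v = beta u v + beta u' v := dotProduct_add _ _ _

theorem beta_add_right (u v v' : U2 n) : beta u (v + v') = beta u v + beta u v' := add_dotProduct _ _ _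

/-- The monomial matrices. -/
def mon (u : U2 n) : Matrix (W2 n) (W2 n) (ZMod 3) :=
  Matrix.of fun v v' => if v' = v + u.2 then sgn (u.1 ⬝ᵥ v) else 0

theorem mon_mul (u u' : U2 n) : mon u * mon u' = sgn (beta u u') • mon (u + u') := by
  ext v v'
  rw [mul_apply, Finset.sum_eq_single (v + u.2)]
  · simp only [mon, of_apply, if_true, Matrix.smul_apply, smul_eq_mul, Prod.fst_add, Prod.snd_add, ← add_assoc]
    by_cases h : v' = v + u.2 + u'.2
    · rw [if_pos h, if_pos h, dotProduct_add, sgn_add, add_dotProduct, sgn_add, beta]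
      ring
    · rw [if_neg h, if_neg h, mul_zero, mul_zero]
  · intro b _ hb
    simp [mon, hb]
  · intro h
    exact absurd (Finset.mem_univ _) h

theorem mon_zero : mon (0 : U2 n) = 1 := by
  ext v v'
  simp [mon, Matrix.one_apply, sgn_zero, eq_comm]

theorem two_self (u : U2 n) : u + u = 0 := by
  have : ∀ a : ZMod 2, a + a = 0 := by decide
  exact Prod.ext (funext fun i => this _) (funext fun i => this _)

theorem two_self' (v : W2 n) : v + v = 0 := congrArg Prod.fst (two_self (v, v))

theorem mon_smul_eq {u u' : U2 n} {c : ZMod 3} (hc : c ≠ 0) (h : mon u = c • mon u') : u = u' ∧ c = 1 := by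
  have h1 : ∀ v v', mon u v v' = c * mon u' v v' := fun v v' => by rw [h]; rfl
  have hy : u.2 = u'.2 := by
    by_contra hne
    have := h1 0 u'.2
    simp [mon, sgn_zero, Ne.symm hne] at this
    exact hc this.symm
  have hdiag : ∀ v, sgn (u.1 ⬝ᵥ v) = c * sgn (u'.1 ⬝ᵥ v) := fun v => by
    have := h1 v (v + u.2)
    simpa [mon, hy] using this
  have hc1 : c = 1 := by
    have := hdiag 0
    rw [dotProduct_zero, dotProduct_zero, sgn_zero, mul_one] at this
    exact this.symm
  refine ⟨Prod.ext (funext fun i => ?_) hy, hc1⟩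
  have := hdiag (Pi.single i 1)
  rw [dotProduct_single_one, dotProduct_single_one, hc1, one_mul] at this
  exact sgn_inj _ _ this

/-- The unit `sgn a • mon u`. -/
def gen (u : U2 n) (a : ZMod 2) : (Matrix (W2 n) (W2 n) (ZMod 3))ˣ where
  val := sgn a • mon u
  inv := (sgn a * sgn (beta u u)) • mon u
  val_inv := by
    rw [smul_mul_smul_comm, mon_mul, smul_smul, two_self, mon_zero,
      show sgn a * (sgn a * sgn (beta u u)) * sgn (beta u u) = (sgn a * sgn a) * (sgn (beta u u) * sgn (beta u u)) by ring,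
      sgn_sq, sgn_sq, mul_one, one_smul]
  inv_val := by
    rw [smul_mul_smul_comm, mon_mul, smul_smul, two_self, mon_zero,
      show sgn a * sgn (beta u u) * sgn a * sgn (beta u u) = (sgn a * sgn a) * (sgn (beta u u) * sgn (beta u u)) by ring,
      sgn_sq, sgn_sq, mul_one, one_smul]

theorem val_gen (u : U2 n) (a : ZMod 2) : (gen u a : Matrix (W2 n) (W2 n) (ZMod 3)) = sgn a • mon u := rfl

theorem gen_mul (u u' : U2 n) (a a' : ZMod 2) : gen u a * gen u' a' = gen (u + u') (a + a' + beta u u') := by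
  refine Units.ext ?_
  rw [Units.val_mul, val_gen, val_gen, val_gen, smul_mul_smul_comm, mon_mul, smul_smul, sgn_add, sgn_add]

theorem gen_zero : gen (0 : U2 n) 0 = 1 := Units.ext (by rw [val_gen, sgn_zero, one_smul, mon_zero]; rfl)

theorem gen_inj {u u' : U2 n} {a a' : ZMod 2} (h : gen u a = gen u' a') : u = u' ∧ a = a' := by
  have h1 : sgn a • mon u = sgn a' • mon u' := congrArg Units.val h
  have h2 : mon u = (sgn a * sgn a') • mon u' := by
    rw [← smul_smul, ← h1, smul_smul, sgn_sq, one_smul]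
  obtain ⟨h3, h4⟩ := mon_smul_eq (mul_ne_zero (sgn_ne_zero _) (sgn_ne_zero _)) h2
  refine ⟨h3, sgn_inj _ _ ?_⟩
  calc sgn a = sgn a * (sgn a' * sgn a') := by rw [sgn_sq, mul_one]
    _ = sgn a' := by rw [← mul_assoc, h4, one_mul]

/-- A function with the prescribed polarisation. -/
theorem exists_polarized {m : ℕ} (γ : (Fin m → ZMod 2) → (Fin m → ZMod 2) → ZMod 2)
    (hl : ∀ u u' v, γ (u + u') v = γ u v + γ u' v) (hr : ∀ u v v', γ u (v + v') = γ u v + γ u v')
    (hd : ∀ u, γ u u = 0) :
    ∃ C : Fin m → Fin m → ZMod 2, ∀ u v : Fin m → ZMod 2,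
      ∑ i, ∑ j, C i j * (u + v) i * (u + v) j = ∑ i, ∑ j, C i j * u i * u j + ∑ i, ∑ j, C i j * v i * v j + γ u v := by
  classical
  have hsym : ∀ u v, γ u v = γ v u := fun u v => by
    have h := hd (u + v)
    rw [hl, hr, hr, hd, hd, zero_add, add_zero, add_eq_zero_iff_eq_neg, ZMod.neg_eq_self_mod_two] at h
    exact h
  obtain ⟨C, hC⟩ : ∃ C : Fin m → Fin m → ZMod 2, C = fun i j => if i < j then γ (Pi.single i 1) (Pi.single j 1) else 0 := ⟨_, rfl⟩
  refine ⟨C, fun u v => ?_⟩
  have hexp : γ u v = ∑ i, ∑ j, u i * v j * γ (Pi.single i 1) (Pi.single j 1) := by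
    let L : (Fin m → ZMod 2) →+ (Fin m → ZMod 2) →+ ZMod 2 :=
      AddMonoidHom.mk' (fun u => AddMonoidHom.mk' (γ u) (hr u)) fun u u' => AddMonoidHom.ext fun v => hl u u' v
    have e1 : ∀ (f : (Fin m → ZMod 2) →+ ZMod 2) (w : Fin m → ZMod 2), f w = ∑ j, w j * f (Pi.single j 1) := fun f w => by
      show f.toZModLinearMap 2 w = _
      rw [LinearMap.pi_apply_eq_sum_univ (f.toZModLinearMap 2) w]
      refine Finset.sum_congr rfl fun j _ => ?_
      rw [smul_eq_mul]
      rw [show (fun k => if j = k then (1 : ZMod 2) else 0) = Pi.single j 1 from funext fun k => by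
        by_cases h : j = k
        · subst h; simp
        · simp [h, Ne.symm h]]
      rfl
    show L u v = _
    rw [show L u v = L.flip v u from rfl, e1 (L.flip v) u]
    refine Finset.sum_congr rfl fun i _ => ?_
    rw [show L.flip v (Pi.single i 1) = L (Pi.single i 1) v from rfl, e1 (L (Pi.single i 1)) v, Finset.mul_sum]
    exact Finset.sum_congr rfl fun j _ => (mul_assoc _ _ _).symm
  have hγC : ∀ i j, γ (Pi.single i 1) (Pi.single j 1) = C i j + C j i := fun i j => by
    rw [hC]
    rcases lt_trichotomy i j with h | h | h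
    · simp [h, h.not_gt]
    · subst h; simp [hd]
    · simp [h, h.not_gt, hsym (Pi.single i 1)]
  rw [hexp]
  simp only [hγC, mul_add, Finset.sum_add_distrib]
  rw [Finset.sum_comm (f := fun i j => u i * v j * C j i)]
  simp only [← Finset.sum_add_distrib]
  refine Finset.sum_congr rfl fun i _ => Finset.sum_congr rfl fun j _ => ?_
  simp only [Pi.add_apply]
  ring

/-- Lifting an isometry to an intertwiner of the monomial matrices. -/
theorem exists_intertwiner (k : U2 n → U2 n) (hk : ∀ u v, k (u + v) = k u + k v) (hkinj : Function.Injective k)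
    (hkq : ∀ u, beta (k u) (k u) = beta u u) :
    ∃ T : (Matrix (W2 n) (W2 n) (ZMod 3))ˣ, ∀ u, ∃ a, T * gen u 0 * T⁻¹ = gen (k u) a := by
  classical
  obtain ⟨m, ⟨e⟩⟩ : ∃ m, Nonempty (U2 n ≃ₗ[ZMod 2] (Fin m → ZMod 2)) := ⟨_, ⟨(Module.finBasis (ZMod 2) (U2 n)).equivFun⟩⟩
  obtain ⟨C, hC⟩ := exists_polarized (fun a b => beta (k (e.symm a)) (k (e.symm b)) + beta (e.symm a) (e.symm b))
    (fun a a' b => by simp only [map_add, hk, beta_add_left]; ring) (fun a b b' => by simp only [map_add, hk, beta_add_right]; ring)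
    (fun a => by rw [hkq]; exact CharTwo.add_self_eq_zero _)
  obtain ⟨f, hfdef⟩ : ∃ f : U2 n → ZMod 2, ∀ u, f u = ∑ i, ∑ j, C i j * e u i * e u j := ⟨_, fun _ => rfl⟩
  have hf : ∀ u v, f (u + v) = f u + f v + (beta (k u) (k v) + beta u v) := fun u v => by
    rw [hfdef, hfdef, hfdef, map_add, hC, e.symm_apply_apply, e.symm_apply_apply]
  have hk0 : k 0 = 0 := by simpa using (hk 0 0)
  have hf0 : f 0 = 0 := by simp [hfdef]
  have hcomm : ∀ A : Matrix (W2 n) (W2 n) (ZMod 3), ∀ v,
      (∑ u, (sgn (f u) * sgn (beta u u)) • (mon (k u) * A * mon u)) * mon v =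
        sgn (f v) • (mon (k v) * ∑ u, (sgn (f u) * sgn (beta u u)) • (mon (k u) * A * mon u)) := by
    intro A v
    rw [Finset.sum_mul, Finset.mul_sum, Finset.smul_sum]
    refine Fintype.sum_equiv (Equiv.addRight v) _ _ fun u => ?_
    have e1 : u + v + v = u := by rw [add_assoc, two_self, add_zero]
    simp only [Equiv.coe_addRight, smul_mul_assoc, mul_smul_comm, smul_smul]
    have e2 : mon (k u) = sgn (beta (k v) (k (u + v))) • (mon (k v) * mon (k (u + v))) := by
      rw [mon_mul, smul_smul, sgn_sq, one_smul, ← hk, add_comm, e1]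
    have e3 : mon u * mon v = sgn (beta u v) • mon (u + v) := mon_mul u v
    rw [mul_assoc _ (mon u) (mon v), e3, mul_smul_comm, smul_smul, e2, smul_mul_assoc, smul_mul_assoc, smul_smul, mul_assoc (mon (k v)),
      mul_assoc (mon (k v)) _ (mon (u + v))]
    congr 1
    rw [hf u v, hk, beta_add_right, beta_add_left, beta_add_right u, beta_add_right v, hkq]
    simp only [sgn_add]
    have hp : ∀ x y : U2 n, sgn (beta (k x) (k y)) * sgn (beta (k y) (k x)) = sgn (beta x y) * sgn (beta y x) := fun x y => by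
      have := congrArg sgn (hkq (x + y))
      rw [hk, beta_add_left, beta_add_right, beta_add_right, hkq, hkq, beta_add_left, beta_add_right x, beta_add_right y] at this
      simp only [sgn_add] at this
      calc sgn (beta (k x) (k y)) * sgn (beta (k y) (k x))
          = (sgn (beta x x) * sgn (beta x x)) * (sgn (beta y y) * sgn (beta y y)) * (sgn (beta (k x) (k y)) * sgn (beta (k y) (k x))) := by
            rw [sgn_sq, sgn_sq, one_mul, one_mul]
        _ = (sgn (beta x x) * sgn (beta y y)) * ((sgn (beta x x) * sgn (beta (k x) (k y))) * (sgn (beta (k y) (k x)) * sgn (beta y y))) := by ring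
        _ = (sgn (beta x x) * sgn (beta y y)) * ((sgn (beta x x) * sgn (beta x y)) * (sgn (beta y x) * sgn (beta y y))) := by rw [this]
        _ = (sgn (beta x x) * sgn (beta x x)) * (sgn (beta y y) * sgn (beta y y)) * (sgn (beta x y) * sgn (beta y x)) := by ring
        _ = _ := by rw [sgn_sq, sgn_sq, one_mul, one_mul]
    have key : ∀ a : ZMod 3, a * a = 1 → ∀ b, a * (a * b) = b := fun a ha b => by rw [← mul_assoc, ha, one_mul]
    obtain ⟨P, hP⟩ : ∃ P, P = sgn (beta (k v) (k u)) := ⟨_, rfl⟩
    have hP' : P = sgn (beta u v) * sgn (beta v u) * sgn (beta (k u) (k v)) := by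
      rw [← hp u v, hP]
      linear_combination (-(sgn (beta (k v) (k u)))) * sgn_sq (beta (k u) (k v))
    rw [← hP, hP']
    linear_combination (-(sgn (f u) * sgn (beta u u) * sgn (beta u v) * sgn (beta (k u) (k v)) * sgn (beta v v) * sgn (beta v u) * sgn (beta u v))) * sgn_sq (f v)
  -- some `A` gives a nonzero sum
  obtain ⟨A, hA⟩ : ∃ A : Matrix (W2 n) (W2 n) (ZMod 3),
      (∑ u, (sgn (f u) * sgn (beta u u)) • (mon (k u) * A * mon u)) ≠ 0 := by
    by_contra hall
    push Not at hall
    have htr : ∀ u : U2 n, u ≠ 0 → (mon u).trace = 0 := by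
      intro u hu
      by_cases hy : u.2 = 0
      · obtain ⟨i, hi⟩ := Function.ne_iff.1 (fun h => hu (Prod.ext h hy) : u.1 ≠ 0)
        have h1 : u.1 i = 1 := (by decide : ∀ a : ZMod 2, a ≠ 0 → a = 1) _ hi
        have h2 : (mon u).trace = -(mon u).trace := by
          rw [Matrix.trace, ← Finset.sum_neg_distrib]
          refine Fintype.sum_equiv (Equiv.addRight (Pi.single i 1)) _ _ fun v => ?_
          simp [Matrix.diag, mon, hy, dotProduct_add, dotProduct_single_one, h1, sgn_add]
          rw [show sgn 1 = -1 from rfl]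
          ring
        exact (by decide : ∀ a : ZMod 3, a = -a → a = 0) _ h2
      · refine Finset.sum_eq_zero fun v _ => ?_
        simp [Matrix.diag, mon, hy]
    have hzero : ∑ a, ∑ b, (∑ u, (sgn (f u) * sgn (beta u u)) • (mon (k u) * Matrix.single a b (1 : ZMod 3) * mon u) : Matrix (W2 n) (W2 n) (ZMod 3)) a b = 0 :=
      Finset.sum_eq_zero fun a _ => Finset.sum_eq_zero fun b _ => by rw [hall]; rfl
    have hentry : ∀ (M N : Matrix (W2 n) (W2 n) (ZMod 3)) (a b : W2 n), (M * Matrix.single a b (1 : ZMod 3) * N : Matrix (W2 n) (W2 n) (ZMod 3)) a b = M a a * N b b := by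
      intro M N a b
      rw [mul_apply, Finset.sum_eq_single b]
      · simp
      · intro c _ hc; simp [Matrix.mul_apply, Matrix.single_apply, Ne.symm hc]
      · simp
    simp only [Matrix.sum_apply, Matrix.smul_apply, hentry, smul_eq_mul] at hzero
    rw [Finset.sum_congr rfl fun a _ => Finset.sum_comm, Finset.sum_comm] at hzero
    simp only [← Finset.mul_sum, ← Finset.sum_mul] at hzero
    rw [Finset.sum_eq_single (0 : U2 n)] at hzero
    · rw [hf0, hk0, show beta (0 : U2 n) 0 = 0 by simp [beta], sgn_zero, mon_zero] at hzero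
      simp only [Matrix.one_apply_eq, Finset.sum_const, Finset.card_univ, nsmul_eq_mul, mul_one, one_mul] at hzero
      rw [Fintype.card_fun, ZMod.card, Fintype.card_fin, Nat.cast_pow, ← mul_pow] at hzero
      exact absurd (pow_eq_zero_iff'.1 hzero).1 (by decide)
    · intro u _ hu
      have := htr u hu
      simp only [Matrix.trace, Matrix.diag] at this
      rw [this]; simp
    · simp
  obtain ⟨T, hT⟩ : ∃ T, T = ∑ u, (sgn (f u) * sgn (beta u u)) • (mon (k u) * A * mon u) := ⟨_, rfl⟩
  rw [← hT] at hA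
  have hcomm' : ∀ v, T * mon v = sgn (f v) • (mon (k v) * T) := fun v => hT ▸ hcomm A v
  have hTinj : Function.Injective T.mulVec := by
    intro g g' h
    by_contra hne
    obtain ⟨d, hd⟩ : ∃ d, d = g - g' := ⟨_, rfl⟩
    have hd0 : d ≠ 0 := hd ▸ sub_ne_zero.2 hne
    have hTd : T *ᵥ d = 0 := by rw [hd, mulVec_sub, sub_eq_zero]; exact h
    have hinv : ∀ v x, T *ᵥ x = 0 → T *ᵥ (mon v *ᵥ x) = 0 := fun v x hx => by
      rw [mulVec_mulVec, hcomm', smul_mulVec, ← mulVec_mulVec, hx, mulVec_zero, smul_zero]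
    obtain ⟨w, hw⟩ := Function.ne_iff.1 hd0
    have hproj : (∑ x : W2 n, sgn (x ⬝ᵥ w) • (mon (x, 0) *ᵥ d)) = Pi.single w ((2 : ZMod 3) ^ n * d w) := by
      funext v
      rw [Finset.sum_apply]
      have e1 : ∀ x : W2 n, (sgn (x ⬝ᵥ w) • (mon (x, 0) *ᵥ d)) v = sgn (x ⬝ᵥ (w + v)) * d v := fun x => by
        rw [Pi.smul_apply, smul_eq_mul]
        show sgn (x ⬝ᵥ w) * (∑ b, mon (x, 0) v b * d b) = _
        rw [Finset.sum_eq_single v]
        · simp [mon, dotProduct_add, sgn_add, mul_assoc]
        · intro b _ hb; simp [mon, hb]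
        · simp
      simp only [e1, ← Finset.sum_mul]
      by_cases hv : v = w
      · subst hv
        simp [two_self', sgn_zero, Fintype.card_fin, ZMod.card]
      · rw [Pi.single_eq_of_ne hv]
        have hne' : w + v ≠ 0 := fun h => hv (by rw [← add_zero v, ← two_self' w, ← add_assoc, add_comm v, h, zero_add])
        obtain ⟨i, hi⟩ := Function.ne_iff.1 hne'
        have h1 : (w + v) i = 1 := (by decide : ∀ a : ZMod 2, a ≠ 0 → a = 1) _ hi
        have h2 : (∑ x : W2 n, sgn (x ⬝ᵥ (w + v))) = -(∑ x : W2 n, sgn (x ⬝ᵥ (w + v))) := by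
          rw [← Finset.sum_neg_distrib]
          refine Fintype.sum_equiv (Equiv.addRight (Pi.single i 1)) _ _ fun x => ?_
          simp only [Equiv.coe_addRight, add_dotProduct, single_one_dotProduct, h1, sgn_add]
          rw [show sgn 1 = -1 from rfl]
          ring
        rw [(by decide : ∀ a : ZMod 3, a = -a → a = 0) _ h2, zero_mul]
    have hw0 : T *ᵥ Pi.single w ((2 : ZMod 3) ^ n * d w) = 0 := by
      rw [← hproj, mulVec_sum]
      exact Finset.sum_eq_zero fun x _ => by rw [mulVec_smul, hinv _ _ hTd, smul_zero]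
    refine hA ?_
    ext a b
    have hmove : T *ᵥ (mon (0, b + w) *ᵥ Pi.single w ((2 : ZMod 3) ^ n * d w)) = 0 := hinv _ _ hw0
    rw [show mon ((0 : W2 n), b + w) *ᵥ Pi.single w ((2 : ZMod 3) ^ n * d w) = Pi.single b ((2 : ZMod 3) ^ n * d w) by
      funext v
      rw [mulVec_single]
      by_cases hv : v = b
      · subst hv
        simp [mon, sgn_zero, ← add_assoc, two_self']
      · rw [Pi.single_eq_of_ne hv]
        have hne' : ¬ w = v + (b + w) := fun h => hv (by
          calc v = v + (b + w) + (b + w) := by rw [add_assoc, two_self', add_zero]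
            _ = b + (w + w) := by rw [← h]; abel
            _ = b := by rw [two_self', add_zero])
        simp [mon, hne']] at hmove
    have := congrFun hmove a
    rw [mulVec_single] at this
    simpa [(by decide : (2 : ZMod 3) ≠ 0), show d w ≠ 0 from hw] using this
  obtain ⟨Tu, hTu⟩ := mulVec_injective_iff_isUnit.1 hTinj
  refine ⟨Tu, fun v => ⟨f v, ?_⟩⟩
  rw [mul_inv_eq_iff_eq_mul]
  refine Units.ext ?_
  rw [Units.val_mul, Units.val_mul, val_gen, val_gen, hTu, sgn_zero, one_smul, hcomm', smul_mul_assoc]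

/-- Commuting with all monomial matrices forces a sign. -/
theorem centralizer_gen (T : (Matrix (W2 n) (W2 n) (ZMod 3))ˣ) (h : ∀ u : U2 n, T * gen u 0 = gen u 0 * T) :
    ∃ a, T = gen 0 a := by
  classical
  have h' : ∀ u : U2 n, (T : Matrix (W2 n) (W2 n) (ZMod 3)) * mon u = mon u * T := fun u => by
    have := congrArg Units.val (h u)
    rwa [Units.val_mul, Units.val_mul, val_gen, sgn_zero, one_smul] at this
  have hoff : ∀ v w, v ≠ w → (T : Matrix (W2 n) (W2 n) (ZMod 3)) v w = 0 := fun v w hvw => by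
    obtain ⟨i, hi⟩ := Function.ne_iff.1 hvw
    have := congrFun (congrFun (h' (Pi.single i 1, 0)) v) w
    rw [mul_apply, mul_apply, Finset.sum_eq_single w (by intro b _ hb; simp [mon, Ne.symm hb]) (by simp),
      Finset.sum_eq_single v (by intro b _ hb; simp [mon, hb]) (by simp)] at this
    simp [mon, single_one_dotProduct] at this
    by_contra h1
    refine hi ((sgn_inj _ _ (mul_left_cancel₀ h1 ?_)).symm)
    rw [this, mul_comm]
  have hconst : ∀ v, (T : Matrix (W2 n) (W2 n) (ZMod 3)) v v = (T : Matrix (W2 n) (W2 n) (ZMod 3)) 0 0 := fun v => by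
    have := congrFun (congrFun (h' (0, v)) 0) v
    rw [mul_apply, mul_apply, Finset.sum_eq_single 0, Finset.sum_eq_single v] at this
    · simpa [mon, sgn_zero] using this.symm
    all_goals intros
    all_goals simp_all [mon]
  obtain ⟨c, hc⟩ : ∃ c, c = (T : Matrix (W2 n) (W2 n) (ZMod 3)) 0 0 := ⟨_, rfl⟩
  have hTc : (T : Matrix (W2 n) (W2 n) (ZMod 3)) = c • 1 := by
    ext v w
    by_cases hvw : v = w
    · subst hvw; simp [hconst v, hc]
    · simp [hoff v w hvw, hvw]
  have hc0 : c ≠ 0 := by
    intro h0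
    rw [h0, zero_smul] at hTc
    have h1 : (1 : Matrix (W2 n) (W2 n) (ZMod 3)) = 0 := by rw [← T.mul_inv, hTc, zero_mul]
    have := congrFun (congrFun h1 0) 0
    simp at this
  obtain ⟨a, ha⟩ : ∃ a, sgn a = c := (by decide : ∀ c : ZMod 3, c ≠ 0 → ∃ a, sgn a = c) c hc0
  exact ⟨a, Units.ext (by rw [val_gen, ha, mon_zero, hTc])⟩

end CfsgLib.LocalEvenB.Monomial
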