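import Cfsg.Agent.Lib.LocalEven.Generation
import Cfsg.Agent.Lib.Core.UniqueOrderP
import Cfsg.Agent.Lib.ZStar.QuatSylow
import Cfsg.Agent.Lib.ZStar.SLTwoThree
import Cfsg.Agent.Lib.LocalEvenB.ChermakDelgado
import Cfsg.Agent.Lib.PGroups.Basic

/-!
# An abelian group of operators on a 2-group whose centralizers have one involution
-/

set_option autoImplicit false
set_option linter.all false

namespace CfsgLib.LocalEvenB.OneInv

open Subgroup Cfsg
open scoped Pointwise

theorem q8_square_iff : ∀ x : QuaternionGroup 2, (∀ y, x * y = y * x) ↔ x * x = 1 := by decide +kernel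

theorem q8_cover : ∀ x : QuaternionGroup 2, x * x ≠ 1 → ∀ y : QuaternionGroup 2, y * y ≠ 1 →
    (x⁻¹ * y) * (x⁻¹ * y) ≠ 1 → ∀ v : QuaternionGroup 2,
      v = 1 ∨ v = x * x ∨ v = x ∨ v = x * (x * x) ∨ v = y ∨ v = y * (x * x) ∨ v = x * y ∨ v = x * y * (x * x) := by
  decide +kernel

theorem q8_classes : ∀ x : QuaternionGroup 2, x * x ≠ 1 → ∀ y : QuaternionGroup 2, y * y ≠ 1 →
    (x⁻¹ * y) * (x⁻¹ * y) ≠ 1 → ∀ v : QuaternionGroup 2, v * v ≠ 1 → (x⁻¹ * v) * (x⁻¹ * v) ≠ 1 →
      (y⁻¹ * v) * (y⁻¹ * v) ≠ 1 → ∀ w : QuaternionGroup 2, w * w ≠ 1 →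
      (x⁻¹ * w) * (x⁻¹ * w) = 1 ∨ (y⁻¹ * w) * (y⁻¹ * w) = 1 ∨ (v⁻¹ * w) * (v⁻¹ * w) = 1 := by
  decide +kernel

/-- An automorphism of odd order of the quaternion group of order 8. -/
theorem q8_aut {β : MulAut (QuaternionGroup 2)} {j : ℕ} (hj : Odd j) (hβ : β ^ j = 1) (hne : β ≠ 1) :
    β ^ 3 = 1 ∧ ∀ x, β x = x → x * x = 1 := by
  obtain ⟨c, hc, i, hi, h⟩ := CfsgLib.ZStar.exists_twist β hj hβ hne
  have hcs : Function.Surjective c := Finite.injective_iff_surjective.1 hc
  have h3 : (β ^ i) ^ 3 = 1 := by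
    refine MulEquiv.ext fun x => ?_
    obtain ⟨z, rfl⟩ := hcs x
    rw [pow_succ, pow_succ, pow_one, MulAut.mul_apply, MulAut.mul_apply, h, h, h, MulAut.one_apply]
    congr 1
    revert z; decide +kernel
  constructor
  · rw [← pow_mul] at h3
    have hd : orderOf β ∣ i * 3 := orderOf_dvd_of_pow_eq_one h3
    have ho : Odd (orderOf β) := hj.of_dvd_nat (orderOf_dvd_of_pow_eq_one hβ)
    apply orderOf_dvd_iff_pow_eq_one.1
    refine Nat.Coprime.dvd_of_dvd_mul_left ?_ hd
    rcases hi with rfl | rfl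
    · exact Nat.coprime_one_right _
    · exact Nat.coprime_two_right.2 ho
  · intro x hx
    obtain ⟨z, rfl⟩ := hcs x
    have hfix : (β ^ i) (c z) = c z := by
      rcases hi with rfl | rfl
      · rw [pow_one, hx]
      · rw [pow_two, MulAut.mul_apply, hx, hx]
    rw [h] at hfix
    have hz := hc hfix
    have h1 : ∀ z : QuaternionGroup 2, CfsgLib.ZStar.q8Sigma z = z → z * z = 1 := by decide +kernel
    rw [← map_mul, h1 z hz, map_one]

/-- Orders in `Q₈` moved through an isomorphism. -/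
theorem sq_iff {Q : Type*} [Group Q] (φ : Q ≃* QuaternionGroup 2) (x : Q) :
    φ x * φ x = 1 ↔ x * x = 1 := by
  rw [← map_mul, MulEquiv.map_eq_one_iff]

variable {W : Type*} [Group W]

/-- The fixed points of an automorphism. -/
def fix (e : MulAut W) : Subgroup W where
  carrier := {x | e x = x}
  one_mem' := map_one e
  mul_mem' {a b} ha hb := by show e (a * b) = a * b; rw [map_mul, ha, hb]
  inv_mem' {a} ha := by show e a⁻¹ = a⁻¹; rw [map_inv, ha]

theorem mem_fix {e : MulAut W} {x : W} : x ∈ fix e ↔ e x = x := Iff.rfl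

variable (E : Subgroup (MulAut W)) (hab : ∀ e ∈ E, ∀ f ∈ E, e * f = f * e)
include hab

theorem fix_invariant {e f : MulAut W} (he : e ∈ E) (hf : f ∈ E) {x : W} (hx : x ∈ fix e) : f x ∈ fix e := by
  show e (f x) = f x
  rw [← MulAut.mul_apply, hab e he f hf, MulAut.mul_apply, hx]

/-- The restriction to the fixed points. -/
noncomputable def res {e : MulAut W} (he : e ∈ E) : ↥E →* MulAut ↥(fix e) where
  toFun f :=
    { toFun := fun (x : ↥(fix e)) => (⟨(f : MulAut W) (x : W), fix_invariant E hab he f.2 x.2⟩ : ↥(fix e))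
      invFun := fun (x : ↥(fix e)) => (⟨((f : MulAut W)⁻¹ : MulAut W) (x : W), fix_invariant E hab he (inv_mem f.2) x.2⟩ : ↥(fix e))
      left_inv := fun x => Subtype.ext (MulAut.inv_apply_self W (f : MulAut W) x)
      right_inv := fun x => Subtype.ext (MulAut.apply_inv_self W (f : MulAut W) x)
      map_mul' := fun (x y : ↥(fix e)) => Subtype.ext (map_mul (f : MulAut W) (x : W) (y : W)) }
  map_one' := MulEquiv.ext fun x => Subtype.ext rfl
  map_mul' f g := MulEquiv.ext fun x => Subtype.ext rfl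

variable [Finite W] {p : ℕ} [hpF : Fact p.Prime]
variable (hW : IsPGroup 2 W) (hp : p ≠ 2) (hE : IsPGroup p ↥E) (hnc : ¬ IsCyclic ↥E)
include hW hp hE hnc

/-- Coprime generation by fixed points. -/
theorem le_of_fix_le {N Y : Subgroup W} (hN : ∀ f ∈ E, ∀ x ∈ N, f x ∈ N)
    (h : ∀ e ∈ E, e ≠ 1 → N ⊓ fix e ≤ Y) : N ≤ Y := by
  classical
  -- two subgroups of order `p`
  obtain ⟨H, K, hH, hK, hHK⟩ : ∃ H K : Subgroup ↥E, Nat.card H = p ∧ Nat.card K = p ∧ H ≠ K := by
    by_contra hno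
    push Not at hno
    rcases CfsgLib.Core.UniqueOrderP.isCyclic_or_quaternion_of_unique hE (fun H K h1 h2 => hno H K h1 h2) with
      h | ⟨h, -⟩
    · exact hnc h
    · exact hp h
  haveI : Finite ↥E := Subtype.finite
  letI G := W ⋊[E.subtype] ↥E
  haveI : Finite (W ⋊[E.subtype] ↥E) := Finite.of_equiv _ SemidirectProduct.equivProd.symm
  let A : Subgroup (W ⋊[E.subtype] ↥E) := (H ⊔ K).map SemidirectProduct.inr
  haveI hEc : IsMulCommutative ↥E := ⟨⟨fun a b => Subtype.ext (hab a a.2 b b.2)⟩⟩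
  haveI : IsMulCommutative ↥A := by
    refine ⟨⟨?_⟩⟩
    rintro ⟨_, a, ha, rfl⟩ ⟨_, b, hb, rfl⟩
    refine Subtype.ext ?_
    show SemidirectProduct.inr a * SemidirectProduct.inr b = SemidirectProduct.inr b * SemidirectProduct.inr a
    rw [← map_mul, ← map_mul, hEc.is_comm.comm]
  have hexpHK : ∀ a ∈ H ⊔ K, a ^ p = 1 := by
    intro a ha
    have hle : H ⊔ K ≤ ({ carrier := {a : ↥E | a ^ p = 1}
                          one_mem' := one_pow p
                          mul_mem' := fun {x y} hx hy => by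
                            show (x * y) ^ p = 1
                            rw [Commute.mul_pow (hEc.is_comm.comm x y), hx, hy, one_mul]
                          inv_mem' := fun {x} hx => by
                            show x⁻¹ ^ p = 1
                            rw [inv_pow, hx, inv_one] } : Subgroup ↥E) := by
      refine sup_le ?_ ?_
      · intro x hx
        have := pow_card_eq_one' (x := (⟨x, hx⟩ : H))
        rw [hH] at this
        exact congrArg Subtype.val this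
      · intro x hx
        have := pow_card_eq_one' (x := (⟨x, hx⟩ : K))
        rw [hK] at this
        exact congrArg Subtype.val this
    exact hle ha
  have hexp : ∀ a ∈ A, a ^ p = 1 := by
    rintro _ ⟨a, ha, rfl⟩
    rw [← map_pow, hexpHK a ha, map_one]
  have hcA : p ^ 2 ≤ Nat.card A := by
    rw [show Nat.card A = Nat.card ↥(H ⊔ K) from card_map_of_injective SemidirectProduct.inr_injective]
    have hlt : H < H ⊔ K := by
      refine lt_of_le_of_ne le_sup_left fun e => hHK ?_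
      have hKH : K ≤ H := le_sup_right.trans e.ge
      exact (eq_of_le_of_card_ge hKH (hH.trans hK.symm).le).symm
    obtain ⟨k, hk⟩ := IsPGroup.iff_card.1 (hE.to_subgroup (H ⊔ K))
    rw [hk]
    refine Nat.pow_le_pow_right hpF.out.pos ?_
    by_contra hk2
    have h1 : Nat.card ↥(H ⊔ K) ≤ Nat.card H := by
      rw [hk, hH]
      calc p ^ k ≤ p ^ 1 := Nat.pow_le_pow_right hpF.out.pos (by omega)
        _ = p := pow_one p
    exact hlt.ne (eq_of_le_of_card_ge hlt.le h1)
  let N' : Subgroup (W ⋊[E.subtype] ↥E) := N.map SemidirectProduct.inl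
  have hAN : A ≤ normalizer (N' : Set (W ⋊[E.subtype] ↥E)) := by
    rw [le_normalizer_iff]
    rintro _ ⟨a, ha, rfl⟩ _ ⟨x, hx, rfl⟩
    refine ⟨(a : MulAut W) x, hN a a.2 x hx, ?_⟩
    show _ = SemidirectProduct.inr a * SemidirectProduct.inl x * (SemidirectProduct.inr a)⁻¹
    rw [← map_inv, ← SemidirectProduct.inl_aut]
    rfl
  have hNc : ¬ p ∣ Nat.card N' := by
    rw [show Nat.card N' = Nat.card N from card_map_of_injective SemidirectProduct.inl_injective]
    intro hd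
    obtain ⟨k, hk⟩ := IsPGroup.iff_card.1 (hW.to_subgroup N)
    rw [hk] at hd
    exact hp ((Nat.prime_dvd_prime_iff_eq hpF.out Nat.prime_two).1 (hpF.out.dvd_of_dvd_pow hd))
  have := CfsgLib.LocalEven.le_of_centralizers_le (Y := Y.map SemidirectProduct.inl) hexp hcA hAN hNc ?_
  · intro x hx
    obtain ⟨y, hy, hyx⟩ := this (mem_map_of_mem SemidirectProduct.inl hx)
    exact SemidirectProduct.inl_injective hyx ▸ hy
  · rintro _ ⟨a, ha, rfl⟩ ha1 _ ⟨⟨x, hx, rfl⟩, hxc⟩
    refine mem_map_of_mem _ (h a a.2 (fun e => ha1 ?_) ⟨hx, ?_⟩)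
    · rw [show a = 1 from Subtype.ext e, map_one]
    · have h1 := mem_centralizer_iff.1 hxc _ rfl
      refine SemidirectProduct.inl_injective (φ := E.subtype) ?_
      show SemidirectProduct.inl ((E.subtype a) x) = SemidirectProduct.inl x
      rw [SemidirectProduct.inl_aut, h1, mul_assoc, ← map_mul, mul_inv_cancel, map_one, mul_one]

variable (hfix : ∀ e ∈ E, e ≠ 1 → ∀ x y : W, orderOf x = 2 → orderOf y = 2 → e x = x → e y = y → x = y)
include hfix

/-- Nontrivial action on fixed points means a quaternion group of order 8. -/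
theorem q8_of_active {e f : MulAut W} (he : e ∈ E) (he1 : e ≠ 1) (hf : f ∈ E) {x : W}
    (hx : x ∈ fix e) (hfx : f x ≠ x) : p = 3 ∧ Nonempty (↥(fix e) ≃* QuaternionGroup 2) := by
  set β := res E hab he ⟨f, hf⟩ with hβ
  have hβ1 : β ≠ 1 := fun h => hfx (congrArg Subtype.val (DFunLike.congr_fun h (⟨x, hx⟩ : ↥(fix e))))
  obtain ⟨k, hk⟩ := IsPGroup.iff_orderOf.1 hE ⟨f, hf⟩
  have hjo : Odd (p ^ k) := (hpF.out.odd_of_ne_two hp).pow
  have hβj : β ^ (p ^ k) = 1 := by rw [hβ, ← map_pow, ← hk, pow_orderOf_eq_one, map_one]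
  have hq : Nonempty (↥(fix e) ≃* QuaternionGroup 2) := by
    by_contra hne
    refine hβ1 (CfsgLib.ZStar.mulAut_eq_one_of_not_q8 (hW.to_subgroup _) (fun a b ha hb => ?_) hne hjo hβj)
    exact Subtype.ext (hfix e he he1 a b (by rw [Subgroup.orderOf_coe]; exact ha)
      (by rw [Subgroup.orderOf_coe]; exact hb) a.2 b.2)
  refine ⟨?_, hq⟩
  obtain ⟨φ⟩ := hq
  have hm : (MulAut.congr φ β) ^ 3 = 1 :=
    (q8_aut hjo (by rw [← map_pow, hβj, map_one]) (fun h => hβ1 ((MulAut.congr φ).injective (h.trans (map_one _).symm)))).1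
  rw [← map_pow] at hm
  have hβ3 : β ^ 3 = 1 := (MulAut.congr φ).injective (hm.trans (map_one _).symm)
  have h1 : orderOf β ∣ p ^ k := orderOf_dvd_of_pow_eq_one hβj
  obtain ⟨i, hi, hio⟩ := (Nat.dvd_prime_pow hpF.out).1 h1
  have h3 : orderOf β ∣ 3 := orderOf_dvd_of_pow_eq_one hβ3
  rw [hio] at h3
  have hi0 : i ≠ 0 := fun h => hβ1 (orderOf_eq_one_iff.1 (by rw [hio, h, pow_zero]))
  exact (Nat.prime_dvd_prime_iff_eq hpF.out Nat.prime_three).1 ((dvd_pow_self p hi0).trans h3)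

/-- The fixed elements of a nontrivially acting operator. -/
theorem fixed_square {e f : MulAut W} (he : e ∈ E) (he1 : e ≠ 1) (hf : f ∈ E) {x : W}
    (hx : x ∈ fix e) (hfx : f x ≠ x) :
    (∀ y ∈ fix e, f y = y → y * y = 1) ∧ (∀ y ∈ fix e, f (f (f y)) = y) := by
  obtain ⟨-, ⟨φ⟩⟩ := q8_of_active E hab hW hp hE hnc hfix he he1 hf hx hfx
  set β := res E hab he ⟨f, hf⟩ with hβ
  have hβ1 : β ≠ 1 := fun h => hfx (congrArg Subtype.val (DFunLike.congr_fun h (⟨x, hx⟩ : ↥(fix e))))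
  obtain ⟨k, hk⟩ := IsPGroup.iff_orderOf.1 hE ⟨f, hf⟩
  have hjo : Odd (p ^ k) := (hpF.out.odd_of_ne_two hp).pow
  have hβj : β ^ (p ^ k) = 1 := by rw [hβ, ← map_pow, ← hk, pow_orderOf_eq_one, map_one]
  obtain ⟨h3, hfx'⟩ := q8_aut hjo (β := MulAut.congr φ β) (by rw [← map_pow, hβj, map_one])
    (fun h => hβ1 ((MulAut.congr φ).injective (h.trans (map_one _).symm)))
  refine ⟨fun y hy hfy => ?_, fun y hy => ?_⟩
  · have h1 := hfx' (φ ⟨y, hy⟩) (by
      show φ (β (φ.symm (φ ⟨y, hy⟩))) = φ ⟨y, hy⟩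
      rw [φ.symm_apply_apply, show β ⟨y, hy⟩ = ⟨y, hy⟩ from Subtype.ext hfy])
    exact congrArg Subtype.val ((sq_iff φ ⟨y, hy⟩).1 h1)
  · rw [← map_pow] at h3
    have hβ3 : β ^ 3 = 1 := (MulAut.congr φ).injective (h3.trans (map_one _).symm)
    have := congrArg Subtype.val (DFunLike.congr_fun hβ3 ⟨y, hy⟩)
    exact this

/-- The structure. -/
theorem main : Nat.card ↥E = 9 ∧ Cfsg.IsExtraspecial 2 W ∧
    (Nat.card W = 2 ^ 5 ∨ Nat.card W = 2 ^ 7 ∨ Nat.card W = 2 ^ 9) ∧
    {x : W | ∀ e ∈ E, e x = x} = (Subgroup.center W : Set W) := by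
  classical
  haveI : Fact (Nat.Prime 2) := ⟨Nat.prime_two⟩
  haveI : Finite ↥E := Subtype.finite
  let D : Subgroup W := ⨅ e : ↥E, fix (e : MulAut W)
  have hD : ∀ x, x ∈ D ↔ ∀ e ∈ E, e x = x := fun x => by
    rw [mem_iInf]; exact ⟨fun h e he => h ⟨e, he⟩, fun h e => h e e.2⟩
  have hgen : ∀ {Y : Subgroup W}, (∀ e ∈ E, e ≠ 1 → fix e ≤ Y) → ∀ x, x ∈ Y := fun {Y} h x =>
    le_of_fix_le E hab hW hp hE hnc (N := ⊤) (fun _ _ _ _ => mem_top _) (fun e he h1 => inf_le_right.trans (h e he h1)) (mem_top x)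
  -- an active element
  obtain ⟨a, ha, ha1, hact⟩ : ∃ a ∈ E, a ≠ 1 ∧ ¬ fix a ≤ D := by
    by_contra hno
    push Not at hno
    apply hnc
    haveI : Subsingleton ↥E := ⟨fun u v => Subtype.ext (MulEquiv.ext fun x => by
      have := (hD x).1 (hgen hno x)
      rw [this _ u.2, this _ v.2])⟩
    infer_instance
  have hactive : ∀ {e : MulAut W}, e ∈ E → ¬ fix e ≤ D → ∃ f ∈ E, ∃ x ∈ fix e, f x ≠ x := by
    intro e he h
    obtain ⟨x, hx, hxD⟩ := SetLike.not_le_iff_exists.1 h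
    rw [hD] at hxD
    push Not at hxD
    obtain ⟨f, hf, hfx⟩ := hxD
    exact ⟨f, hf, x, hx, hfx⟩
  obtain ⟨f₀, hf₀, x₀, hx₀, hfx₀⟩ := hactive ha hact
  obtain ⟨hp3, ⟨φa⟩⟩ := q8_of_active E hab hW hp hE hnc hfix ha ha1 hf₀ hx₀ hfx₀
  subst hp3
  -- the central involution
  set z : W := ((φa.symm (QuaternionGroup.a 2) : ↥(fix a)) : W) with hzdef
  have hz2 : orderOf z = 2 := by
    rw [hzdef, Subgroup.orderOf_coe, MulEquiv.orderOf_eq]
    refine orderOf_eq_prime (by decide +kernel) (by decide +kernel)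
  have hza : z ∈ fix a := Subtype.prop _
  have hinvol : ∀ {y : W}, y * y = 1 → y = 1 ∨ orderOf y = 2 := fun {y} h => by
    by_cases h1 : y = 1
    · exact Or.inl h1
    · exact Or.inr (orderOf_eq_prime (by rwa [pow_two]) h1)
  have hzD : z ∈ D := (hD z).2 fun f hf => by
    refine hfix a ha ha1 _ _ ?_ hz2 (fix_invariant E hab ha hf hza) hza
    rw [MulEquiv.orderOf_eq, hz2]
  have hzfix : ∀ e ∈ E, z ∈ fix e := fun e he => (hD z).1 hzD e he
  have hz1 : z ≠ 1 := fun h => by rw [h, orderOf_one] at hz2; exact absurd hz2 (by norm_num)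
  have hzz : z * z = 1 := by rw [← pow_two, ← hz2, pow_orderOf_eq_one]
  have hsq : ∀ e ∈ E, e ≠ 1 → ∀ y ∈ fix e, y * y = 1 → y = 1 ∨ y = z := fun e he he1 y hy h =>
    (hinvol h).imp id fun h2 => hfix e he he1 y z h2 hz2 hy (hzfix e he)
  have hDz : ∀ x ∈ D, x = 1 ∨ x = z := fun x hx => hsq a ha ha1 x ((hD x).1 hx a ha)
    ((fixed_square E hab hW hp hE hnc hfix ha ha1 hf₀ hx₀ hfx₀).1 x ((hD x).1 hx a ha) ((hD x).1 hx f₀ hf₀))
  have hDcard : Nat.card D = 2 := by
    rw [Nat.card_eq_two_iff]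
    refine ⟨⟨1, one_mem D⟩, ⟨z, hzD⟩, fun h => hz1 (congrArg Subtype.val h).symm, ?_⟩
    ext ⟨x, hx⟩
    simp only [Set.mem_insert_iff, Set.mem_singleton_iff, Subtype.mk.injEq, Set.mem_univ, iff_true]
    exact hDz x hx
  -- each fixed point subgroup
  have hdich : ∀ e ∈ E, e ≠ 1 → fix e = D ∨ Nonempty (↥(fix e) ≃* QuaternionGroup 2) := by
    intro e he he1
    by_cases h : fix e ≤ D
    · exact Or.inl (le_antisymm h fun x hx => (hD x).1 hx e he)
    · obtain ⟨f, hf, x, hx, hfx⟩ := hactive he h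
      exact Or.inr (q8_of_active E hab hW hp hE hnc hfix he he1 hf hx hfx).2
  have hcard8 : ∀ e : MulAut W, Nonempty (↥(fix e) ≃* QuaternionGroup 2) → Nat.card (fix e) = 8 := by
    rintro e ⟨φ⟩
    rw [Nat.card_congr φ.toEquiv, Nat.card_eq_fintype_card]
    decide +kernel
  have hzcent : ∀ x : W, z * x = x * z := by
    refine fun x => mem_centralizer_singleton_iff.1 (hgen (Y := centralizer ({z} : Set W)) (fun e he he1 y hy => ?_) x) |>.symm
    rw [mem_centralizer_singleton_iff]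
    rcases hdich e he he1 with h | ⟨⟨φ⟩⟩
    · rcases hDz y (h ▸ hy) with rfl | rfl
      · rw [one_mul, mul_one]
      · rfl
    · have := (q8_square_iff (φ ⟨z, hzfix e he⟩)).2 ((sq_iff φ _).2 (Subtype.ext hzz)) (φ ⟨y, hy⟩)
      rw [← map_mul, ← map_mul] at this
      exact (congrArg Subtype.val (φ.injective this)).symm
  -- the three classes
  have hthree : ∀ e ∈ E, e ≠ 1 → ∀ f ∈ E, ∀ x ∈ fix e, f x ≠ x →
      (∀ h ∈ E, ∃ i < 3, ∀ y ∈ fix e, ((f ^ i)⁻¹ * h) y = y) ∧
      (∀ N : Subgroup W, z ∈ N → x ∈ N → f x ∈ N → fix e ≤ N) ∧ x * x ≠ 1 := by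
    intro e he he1 f hf x hx hfx
    obtain ⟨-, ⟨φ⟩⟩ := q8_of_active E hab hW hp hE hnc hfix he he1 hf hx hfx
    obtain ⟨hfsq, hf3⟩ := fixed_square E hab hW hp hE hnc hfix he he1 hf hx hfx
    have hxx : x * x ≠ 1 := by
      intro h
      rcases hsq e he he1 x hx h with rfl | rfl
      · exact hfx (map_one f)
      · exact hfx ((hD _).1 hzD f hf)
    -- congruent classes
    have hcong : ∀ {g : MulAut W}, g ∈ E → ∀ y ∈ fix e, y * y ≠ 1 → (y⁻¹ * g y) * (y⁻¹ * g y) = 1 →
        ∀ u ∈ fix e, g u = u := by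
      intro g hg y hy hyy hcg u hu
      by_contra hgu
      obtain ⟨hgsq, hg3⟩ := fixed_square E hab hW hp hE hnc hfix he he1 hg hu hgu
      apply hyy
      refine hgsq y hy ?_
      rcases hsq e he he1 _ (mul_mem (inv_mem hy) (fix_invariant E hab he hg hy)) hcg with h | h
      · exact (inv_mul_eq_one.1 h).symm
      · exfalso
        have h1 : g y = y * z := inv_mul_eq_iff_eq_mul.1 h
        have h2 := hg3 y hy
        rw [h1, map_mul, (hD z).1 hzD g hg, h1, map_mul, map_mul, (hD z).1 hzD g hg, h1, mul_assoc (y * z), hzz, mul_one] at h2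
        exact hz1 (by simpa using h2)
    have hfy : f x ∈ fix e := fix_invariant E hab he hf hx
    have hffy : f (f x) ∈ fix e := fix_invariant E hab he hf hfy
    have hsqf : ∀ {g : MulAut W} {y : W}, g y * g y = 1 → y * y = 1 := fun {g y} h => by
      rw [← map_mul, MulEquiv.map_eq_one_iff] at h; exact h
    have c1 : (x⁻¹ * f x) * (x⁻¹ * f x) ≠ 1 := fun h => hfx (hcong hf x hx hxx h x hx)
    have c2 : ((f x)⁻¹ * f (f x)) * ((f x)⁻¹ * f (f x)) ≠ 1 := fun h => c1 (by
      refine hsqf (g := f) ?_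
      simp only [map_mul, map_inv]; exact h)
    have c3 : (x⁻¹ * f (f x)) * (x⁻¹ * f (f x)) ≠ 1 := fun h => by
      have h1 := hcong (mul_mem hf hf) x hx hxx (by rw [MulAut.mul_apply]; exact h) x hx
      rw [MulAut.mul_apply] at h1
      have h2 := hf3 x hx
      rw [h1] at h2
      exact hfx h2
    refine ⟨fun h hh => ?_, fun N hzN hxN hfN y hy => ?_, hxx⟩
    · have hhx : h x ∈ fix e := fix_invariant E hab he hh hx
      have hcl := q8_classes (φ ⟨x, hx⟩) (fun h0 => hxx (congrArg Subtype.val ((sq_iff φ _).1 h0)))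
        (φ ⟨f x, hfy⟩) (fun h0 => hxx (hsqf (congrArg Subtype.val ((sq_iff φ _).1 h0))))
        (by rw [← map_inv, ← map_mul]; exact fun h0 => c1 (congrArg Subtype.val ((sq_iff φ _).1 h0)))
        (φ ⟨f (f x), hffy⟩) (fun h0 => hxx (hsqf (hsqf (congrArg Subtype.val ((sq_iff φ _).1 h0)))))
        (by rw [← map_inv, ← map_mul]; exact fun h0 => c3 (congrArg Subtype.val ((sq_iff φ _).1 h0)))
        (by rw [← map_inv, ← map_mul]; exact fun h0 => c2 (congrArg Subtype.val ((sq_iff φ _).1 h0)))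
        (φ ⟨h x, hhx⟩) (fun h0 => hxx (hsqf (congrArg Subtype.val ((sq_iff φ _).1 h0))))
      have key : ∀ i, i < 3 → ∀ (hyi : (f ^ i) x ∈ fix e),
          ((φ ⟨(f ^ i) x, hyi⟩)⁻¹ * φ ⟨h x, hhx⟩) * ((φ ⟨(f ^ i) x, hyi⟩)⁻¹ * φ ⟨h x, hhx⟩) = 1 →
          ∀ y ∈ fix e, ((f ^ i)⁻¹ * h) y = y := by
        intro i _ hyi h0
        rw [← map_inv, ← map_mul] at h0
        have h1 : (((f ^ i) x)⁻¹ * h x) * (((f ^ i) x)⁻¹ * h x) = 1 := congrArg Subtype.val ((sq_iff φ _).1 h0)
        refine hcong (mul_mem (inv_mem (pow_mem hf i)) hh) x hx hxx ?_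
        refine hsqf (g := f ^ i) ?_
        rw [map_mul (f ^ i), map_inv, MulAut.mul_apply, MulAut.apply_inv_self]
        exact h1
      rcases hcl with hc | hc | hc
      · exact ⟨0, by norm_num, key 0 (by norm_num) hx hc⟩
      · exact ⟨1, by norm_num, key 1 (by norm_num) hfy hc⟩
      · exact ⟨2, by norm_num, key 2 (by norm_num) hffy hc⟩
    · have hz' : x * x = z := (hsq e he he1 _ (mul_mem hx hx) (by
        have hh : ∀ q : QuaternionGroup 2, q * q * (q * q) = 1 := by decide +kernel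
        have := hh (φ ⟨x, hx⟩)
        rw [← map_mul, ← map_mul] at this
        exact congrArg Subtype.val ((MulEquiv.map_eq_one_iff φ).1 this))).resolve_left hxx
      have hcov := q8_cover (φ ⟨x, hx⟩) (fun h0 => hxx (congrArg Subtype.val ((sq_iff φ _).1 h0)))
        (φ ⟨f x, hfy⟩) (fun h0 => hxx (hsqf (congrArg Subtype.val ((sq_iff φ _).1 h0))))
        (by rw [← map_inv, ← map_mul]; exact fun h0 => c1 (congrArg Subtype.val ((sq_iff φ _).1 h0)))
        (φ ⟨y, hy⟩)
      simp only [← map_mul] at hcov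
      rw [MulEquiv.map_eq_one_iff] at hcov
      simp only [φ.injective.eq_iff, Subtype.ext_iff, Subgroup.coe_mul, OneMemClass.coe_one, hz'] at hcov
      rcases hcov with rfl | rfl | rfl | rfl | rfl | rfl | rfl | rfl
      exacts [one_mem _, hzN, hxN, mul_mem hxN hzN, hfN, mul_mem hfN hzN, mul_mem hxN hfN,
        mul_mem (mul_mem hxN hfN) hzN]
  -- a second active element with another fixed point subgroup
  have hsame : ∀ {e g : MulAut W}, e ∈ E → e ≠ 1 → g ∈ E → g ≠ 1 → Nat.card (fix e) = 8 →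
      (∀ y ∈ fix e, g y = y) → fix g = fix e := by
    intro e g he he1 hg hg1 h8 h
    have hle : fix e ≤ fix g := h
    refine (eq_of_le_of_card_ge hle ?_).symm
    rcases hdich g hg hg1 with h' | h'
    · rw [h', hDcard, h8]; norm_num
    · rw [hcard8 g h', h8]
  have ha8 := hcard8 a ⟨φa⟩
  obtain ⟨b, hb, hb1, hbact, hba⟩ : ∃ b ∈ E, b ≠ 1 ∧ ¬ fix b ≤ D ∧ fix b ≠ fix a := by
    by_contra hno
    push Not at hno
    have hall : ∀ x, x ∈ fix a := hgen fun e he he1 => by
      by_cases h : fix e ≤ D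
      · exact h.trans fun x hx => (hD x).1 hx a ha
      · exact (hno e he he1 h).le
    exact ha1 (MulEquiv.ext fun x => hall x)
  obtain ⟨f₁, hf₁, x₁, hx₁, hfx₁⟩ := hactive hb hbact
  obtain ⟨-, hqb⟩ := q8_of_active E hab hW hp hE hnc hfix hb hb1 hf₁ hx₁ hfx₁
  have hb8 := hcard8 b hqb
  -- the kernels
  let K : MulAut W → Subgroup ↥E := fun e =>
    { carrier := {g | ∀ y ∈ fix e, (g : MulAut W) y = y}
      one_mem' := fun _ _ => rfl
      mul_mem' := fun {g h} hg hh y hy => by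
        show ((g : MulAut W) * (h : MulAut W)) y = y
        rw [MulAut.mul_apply, hh y hy, hg y hy]
      inv_mem' := fun {g} hg y hy => by
        show ((g : MulAut W)⁻¹) y = y
        conv_lhs => rw [← hg y hy]
        exact MulAut.inv_apply_self W _ y }
  have hindex : ∀ {e : MulAut W}, e ∈ E → e ≠ 1 → ∀ f ∈ E, ∀ x ∈ fix e, f x ≠ x → (K e).index ≤ 3 := by
    intro e he he1 f hf x hx hfx
    obtain ⟨hcl, -, -⟩ := hthree e he he1 f hf x hx hfx
    have hsurj : Function.Surjective (fun i : Fin 3 => (QuotientGroup.mk ((⟨f, hf⟩ : ↥E) ^ (i : ℕ)) : ↥E ⧸ K e)) := by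
      intro q
      obtain ⟨h, rfl⟩ := QuotientGroup.mk_surjective q
      obtain ⟨i, hi, hi'⟩ := hcl h h.2
      exact ⟨⟨i, hi⟩, QuotientGroup.eq.2 hi'⟩
    rw [Subgroup.index_eq_card]
    exact (Nat.card_le_card_of_surjective _ hsurj).trans (by rw [Nat.card_fin])
  have hKab : K a ⊓ K b = ⊥ := by
    refine (eq_bot_iff_forall _).2 fun g hg => ?_
    by_contra hg1
    have hg1' : (g : MulAut W) ≠ 1 := fun h => hg1 (Subtype.ext h)
    exact hba ((hsame hb hb1 g.2 hg1' hb8 hg.2).symm.trans (hsame ha ha1 g.2 hg1' ha8 hg.1))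
  have hE9le : Nat.card ↥E ≤ 9 := by
    have h1 := (K a ⊓ K b).card_mul_index
    rw [hKab, card_bot, one_mul] at h1
    rw [← h1]
    have h2 := index_inf_le (H := K a) (K := K b)
    rw [hKab] at h2
    exact h2.trans (Nat.mul_le_mul (hindex ha ha1 f₀ hf₀ x₀ hx₀ hfx₀) (hindex hb hb1 f₁ hf₁ x₁ hx₁ hfx₁))
  obtain ⟨n, hn⟩ := IsPGroup.iff_card.1 hE
  have hn2 : n = 2 := by
    rcases Nat.lt_or_ge n 2 with h | h
    · exfalso
      apply hnc
      rcases Nat.eq_zero_or_pos n with rfl | hn0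
      · haveI := (Nat.card_eq_one_iff_unique.1 (hn.trans (pow_zero 3))).1
        infer_instance
      · exact isCyclic_of_prime_card (p := 3) (by rw [hn, show n = 1 by omega, pow_one])
    · by_contra hne
      have : 3 ^ 3 ≤ 3 ^ n := Nat.pow_le_pow_right (by norm_num) (by omega)
      rw [← hn] at this
      omega
  have hE9 : Nat.card ↥E = 9 := by rw [hn, hn2]; norm_num
  have hexp3 : ∀ g : ↥E, g ^ 3 = 1 := by
    intro g
    by_contra h
    apply hnc
    obtain ⟨i, hi, hio⟩ := (Nat.dvd_prime_pow Nat.prime_three).1 ((orderOf_dvd_natCard g).trans (by rw [hn]) : orderOf g ∣ 3 ^ n)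
    refine isCyclic_of_orderOf_eq_card g ?_
    rw [hio, hn]
    congr 1
    by_contra hne
    refine h (orderOf_dvd_iff_pow_eq_one.1 ?_)
    rw [hio]
    exact (pow_dvd_pow 3 (by omega : i ≤ 1)).trans (by norm_num)
  -- the two generators
  have htop : zpowers (⟨a, ha⟩ : ↥E) ⊔ zpowers (⟨b, hb⟩ : ↥E) = ⊤ := by
    have hca : Nat.card (zpowers (⟨a, ha⟩ : ↥E)) = 3 := by
      rw [Nat.card_zpowers]
      exact orderOf_eq_prime (hexp3 _) fun h => ha1 (congrArg Subtype.val h)
    have hna : (⟨b, hb⟩ : ↥E) ∉ zpowers (⟨a, ha⟩ : ↥E) := by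
      intro hm
      obtain ⟨k, hk⟩ := mem_zpowers_iff.1 hm
      have hle : zpowers (⟨a, ha⟩ : ↥E) ≤ K a := zpowers_le.2 fun y hy => hy
      exact hba (hsame ha ha1 hb hb1 ha8 (hle hm))
    have hlt : zpowers (⟨a, ha⟩ : ↥E) < zpowers (⟨a, ha⟩ : ↥E) ⊔ zpowers (⟨b, hb⟩ : ↥E) :=
      lt_of_le_of_ne le_sup_left fun e => hna (e ▸ mem_sup_right (mem_zpowers _))
    obtain ⟨m, hm⟩ := IsPGroup.iff_card.1 (hE.to_subgroup (zpowers (⟨a, ha⟩ : ↥E) ⊔ zpowers (⟨b, hb⟩ : ↥E)))
    have h3 : Nat.card (zpowers (⟨a, ha⟩ : ↥E)) < 3 ^ m := hm ▸ Set.Finite.card_lt_card (Set.toFinite _) hlt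
    refine eq_of_le_of_card_ge le_top ?_
    rw [card_top, hE9, hm]
    rw [hca] at h3
    rcases Nat.lt_or_ge m 2 with h | h
    · exfalso
      have : 3 ^ m ≤ 3 ^ 1 := Nat.pow_le_pow_right (by norm_num) (by omega)
      omega
    · exact le_trans (by norm_num) (Nat.pow_le_pow_right (by norm_num : 0 < 3) h)
  have hEgen : ∀ g ∈ E, ∃ i < 3, ∃ j < 3, g = a ^ i * b ^ j := by
    intro g hg
    have hm : (⟨g, hg⟩ : ↥E) ∈ zpowers (⟨a, ha⟩ : ↥E) ⊔ zpowers (⟨b, hb⟩ : ↥E) := htop ▸ mem_top _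
    haveI : IsMulCommutative ↥E := ⟨⟨fun a b => Subtype.ext (hab a a.2 b b.2)⟩⟩
    rw [← SetLike.mem_coe, coe_mul_of_right_le_normalizer_left _ _ (by
      intro u _
      exact CfsgLib.LocalEvenB.mem_normalizer_of_forall fun w hw => by
        rwa [IsMulCommutative.is_comm.comm u w, mul_inv_cancel_right])] at hm
    obtain ⟨u, hu, v, hv, he⟩ := Set.mem_mul.1 hm
    have red : ∀ w : ↥E, ∀ q ∈ zpowers w, ∃ i < 3, q = w ^ i := by
      intro w q hq
      obtain ⟨k, rfl⟩ := mem_zpowers_iff.1 hq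
      refine ⟨(k % 3).toNat, by omega, ?_⟩
      have h0 : 0 ≤ k % 3 := Int.emod_nonneg _ (by norm_num)
      rw [← zpow_natCast, Int.toNat_of_nonneg h0]
      conv_lhs => rw [← Int.emod_add_mul_ediv k 3, zpow_add, zpow_mul, show w ^ (3 : ℤ) = 1 by rw [show (3 : ℤ) = ((3 : ℕ) : ℤ) from rfl, zpow_natCast, hexp3 w], one_zpow, mul_one]
    obtain ⟨i, hi, rfl⟩ := red _ u hu
    obtain ⟨j, hj, rfl⟩ := red _ v hv
    exact ⟨i, hi, j, hj, (congrArg Subtype.val he).symm⟩
  have hfixD : ∀ {e : MulAut W}, (∀ g ∈ E, ∀ y, a y = y → e y = y → g y = y) → fix a ⊓ fix e ≤ D :=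
    fun {e} h y hy => (hD y).2 fun g hg => h g hg y hy.1 hy.2
  have hgab : ∀ g ∈ E, ∀ y, a y = y → b y = y → g y = y := by
    intro g hg y h1 h2
    obtain ⟨i, -, j, -, rfl⟩ := hEgen g hg
    have hp1 : ∀ {w : MulAut W}, w y = y → ∀ n : ℕ, (w ^ n) y = y := fun {w} hw n => by
      induction n with
      | zero => rfl
      | succ n ih => rw [pow_succ, MulAut.mul_apply, hw, ih]
    rw [MulAut.mul_apply, hp1 h2, hp1 h1]
  have ha3 : a ^ 3 = 1 := congrArg Subtype.val (hexp3 ⟨a, ha⟩)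
  have hb3 : b ^ 3 = 1 := congrArg Subtype.val (hexp3 ⟨b, hb⟩)
  -- the two further operators
  set c := a * b with hc
  set d := a * (b * b) with hd
  have hcE : c ∈ E := mul_mem ha hb
  have hdE : d ∈ E := mul_mem ha (mul_mem hb hb)
  have hp2 : ∀ {w : MulAut W}, w ^ 3 = 1 → ∀ {y : W}, w (w y) = y → w y = y := fun {w} h3 {y} h => by
    have h1 := DFunLike.congr_fun h3 y
    rw [pow_succ, pow_succ, pow_one, MulAut.mul_apply, MulAut.mul_apply, MulAut.one_apply] at h1
    rw [h] at h1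
    exact h1
  have hWgen : ∀ {Y : Subgroup W}, fix a ≤ Y → fix b ≤ Y → fix c ≤ Y → fix d ≤ Y → ∀ x, x ∈ Y := by
    intro Y h1 h2 h3 h4
    refine hgen fun e he he1 y hy => ?_
    obtain ⟨i, hi, j, hj, rfl⟩ := hEgen e he
    interval_cases i <;> interval_cases j
    · exact absurd (by simp) he1
    · exact h2 (by simpa using hy)
    · exact h2 (mem_fix.2 (hp2 hb3 (by simpa [pow_two, mem_fix] using hy)))
    · exact h1 (by simpa using hy)
    · exact h3 (by simpa [hc] using hy)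
    · exact h4 (by simpa [hd, pow_two] using hy)
    · exact h1 (mem_fix.2 (hp2 ha3 (by simpa [pow_two, mem_fix] using hy)))
    · refine h4 (mem_fix.2 (hp2 (congrArg Subtype.val (hexp3 ⟨d, hdE⟩)) ?_))
      have e : d * d = a ^ 2 * b ^ 1 := by
        calc d * d = a * ((b * b) * a) * (b * b) := by simp only [hd, mul_assoc]
          _ = a * (a * (b * b)) * (b * b) := by rw [hab _ (mul_mem hb hb) _ ha]
          _ = a ^ 2 * (b ^ 3 * b) := by simp only [pow_succ, pow_zero, one_mul, mul_assoc]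
          _ = _ := by rw [hb3, one_mul, pow_one]
      rw [← MulAut.mul_apply, e]
      exact hy
    · refine h3 (mem_fix.2 (hp2 (congrArg Subtype.val (hexp3 ⟨c, hcE⟩)) ?_))
      have e : c * c = a ^ 2 * b ^ 2 := by
        calc c * c = a * (b * a) * b := by simp only [hc, mul_assoc]
          _ = a * (a * b) * b := by rw [hab _ hb _ ha]
          _ = _ := by simp only [pow_two, mul_assoc]
      rw [← MulAut.mul_apply, e]
      exact hy
  -- `⟨z⟩`
  have hzle : ∀ e ∈ E, D ≤ fix e := fun e he x hx => (hD x).1 hx e he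
  have hDcent : D ≤ center W := fun x hx => by
    rcases hDz x hx with rfl | rfl
    · exact one_mem _
    · exact mem_center_iff.2 fun y => (hzcent y).symm
  -- invariant subgroups
  have hinv : ∀ N : Subgroup W, (∀ f ∈ E, ∀ x ∈ N, f x ∈ N) → z ∈ N → ¬ N ≤ D →
      ∃ e ∈ E, e ≠ 1 ∧ fix e ≤ N ∧ ¬ fix e ≤ D := by
    intro N hN hzN hND
    by_contra hno
    push Not at hno
    apply hND
    refine le_of_fix_le E hab hW hp hE hnc hN fun e he he1 x hx => ?_
    by_contra hxD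
    have h' : ¬ fix e ≤ D := fun h => hxD (h hx.2)
    rw [hD] at hxD
    push Not at hxD
    obtain ⟨f, hf, hfx⟩ := hxD
    exact h' (hno e he he1 ((hthree e he he1 f hf x hx.2 hfx).2.1 N hzN hx.1 (hN f hf x hx.1)))
  have hnonab : ∀ e ∈ E, e ≠ 1 → ¬ fix e ≤ D → ∃ u ∈ fix e, ∃ v ∈ fix e, u * v ≠ v * u := by
    intro e he he1 hn
    obtain ⟨f, hf, x, hx, hfx⟩ := hactive he hn
    obtain ⟨-, ⟨φ⟩⟩ := q8_of_active E hab hW hp hE hnc hfix he he1 hf hx hfx
    refine ⟨_, (φ.symm (QuaternionGroup.a 1)).2, _, (φ.symm (QuaternionGroup.xa 0)).2, fun h => ?_⟩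
    have h1 := congrArg φ (Subtype.ext h : φ.symm (QuaternionGroup.a 1) * φ.symm (QuaternionGroup.xa 0) =
      φ.symm (QuaternionGroup.xa 0) * φ.symm (QuaternionGroup.a 1))
    rw [map_mul, map_mul, φ.apply_symm_apply, φ.apply_symm_apply] at h1
    exact absurd h1 (by decide +kernel)
  -- class two
  haveI : Group.IsNilpotent W := hW.isNilpotent
  have hmap : ∀ (n : ℕ), ∀ f ∈ E, ∀ x ∈ (⊤ : Subgroup W).lowerCentralSeries n,
      f x ∈ (⊤ : Subgroup W).lowerCentralSeries n := fun n f hf x hx =>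
    (Subgroup.characteristic_iff_map_eq.1 (inferInstance : ((⊤ : Subgroup W).lowerCentralSeries n).Characteristic) f).le ⟨x, hx, rfl⟩
  have hderD : ⁅(⊤ : Subgroup W), ⊤⁆ ≤ D := by
    by_contra hnle
    obtain ⟨N, hN⟩ := Subgroup.nilpotent_iff_lowerCentralSeries.1 (inferInstance : Group.IsNilpotent W)
    have hex : ∃ n, (⊤ : Subgroup W).lowerCentralSeries (n + 2) ≤ D := by
      refine ⟨N, ?_⟩
      exact ((Subgroup.lowerCentralSeries_antitone _ (Nat.le_add_right N 2)).trans hN.le).trans bot_le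
    set m := Nat.find hex with hm
    have hm1 : (⊤ : Subgroup W).lowerCentralSeries (m + 2) ≤ D := Nat.find_spec hex
    set Γ := (⊤ : Subgroup W).lowerCentralSeries (m + 1) with hΓ
    have hΓD : ¬ Γ ≤ D := by
      intro h
      rcases Nat.eq_zero_or_pos m with h0 | h0
      · apply hnle
        rw [hΓ, h0, Subgroup.lowerCentralSeries_succ, Subgroup.lowerCentralSeries_zero] at h
        exact h
      · exact Nat.find_min hex (show m - 1 < m by omega) (by rwa [show m - 1 + 2 = m + 1 by omega])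
    obtain ⟨e, he, he1, hle, hn⟩ := hinv (Γ ⊔ D) (fun f hf x hx => by
      have hmp : (Γ ⊔ D).map (f : W ≃* W).toMonoidHom ≤ Γ ⊔ D := by
        rw [Subgroup.map_sup]
        refine sup_le_sup ?_ ?_
        · rintro _ ⟨y, hy, rfl⟩; exact hmap _ f hf y hy
        · rintro _ ⟨y, hy, rfl⟩
          show f y ∈ D
          rw [(hD y).1 hy f hf]; exact hy
      exact hmp ⟨x, hx, rfl⟩) (mem_sup_right hzD) (fun h => hΓD (le_sup_left.trans h))
    -- `[Γ, Γ] = 1`
    have h2 : ⁅⁅(⊤ : Subgroup W), Γ⁆, (⊤ : Subgroup W)⁆ = ⊥ := by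
      rw [commutator_eq_bot_iff_le_centralizer]
      refine le_trans ?_ ((hDcent).trans (center_le_centralizer _))
      rw [commutator_comm]
      rw [hΓ, ← Subgroup.lowerCentralSeries_succ]
      exact hm1
    have h2' : ⁅⁅Γ, (⊤ : Subgroup W)⁆, (⊤ : Subgroup W)⁆ = ⊥ := by rw [commutator_comm Γ]; exact h2
    have h3 := commutator_commutator_eq_bot_of_rotate h2 h2'
    have hΓle : Γ ≤ ⁅(⊤ : Subgroup W), ⊤⁆ := by
      rw [hΓ, show ⁅(⊤ : Subgroup W), (⊤ : Subgroup W)⁆ = (⊤ : Subgroup W).lowerCentralSeries 1 by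
        rw [Subgroup.lowerCentralSeries_succ, Subgroup.lowerCentralSeries_zero]]
      exact Subgroup.lowerCentralSeries_antitone _ (Nat.le_add_left 1 m)
    have hΓab : Γ ≤ centralizer (Γ : Set W) := by
      refine hΓle.trans (commutator_eq_bot_iff_le_centralizer.1 h3)
    have hsup : Γ ⊔ D ≤ centralizer ((Γ ⊔ D : Subgroup W) : Set W) := by
      rw [centralizer_sup]
      refine sup_le (le_inf hΓab ?_) (le_inf (hDcent.trans (center_le_centralizer _)) (hDcent.trans (center_le_centralizer _)))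
      exact le_centralizer_iff.1 (hDcent.trans (center_le_centralizer _))
    obtain ⟨u, hu, v, hv, huv⟩ := hnonab e he he1 hn
    exact huv (mem_centralizer_iff.1 (hsup (hle hv)) u (hle hu))
  have hcenter : center W = D := by
    refine le_antisymm ?_ hDcent
    by_contra h
    obtain ⟨e, he, he1, hle, hn⟩ := hinv (center W) (fun f hf x hx =>
      (Subgroup.characteristic_iff_map_eq.1 (inferInstance : (center W).Characteristic) f).le ⟨x, hx, rfl⟩) (hDcent hzD) h
    obtain ⟨u, hu, v, hv, huv⟩ := hnonab e he he1 hn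
    exact huv (mem_center_iff.1 (hle hv) u)
  have hcomm : commutator W = D := by
    refine le_antisymm hderD fun x hx => ?_
    obtain ⟨u, hu, v, hv, huv⟩ := hnonab b hb hb1 hbact
    have h1 : u * v * u⁻¹ * v⁻¹ ∈ commutator W := commutator_mem_commutator (mem_top u) (mem_top v)
    rcases hDz x hx with rfl | rfl
    · exact one_mem _
    · rcases hDz _ (hderD h1) with h | h
      · exact absurd (by rw [mul_inv_eq_one, mul_inv_eq_iff_eq_mul] at h; exact h) huv
      · rw [← h]; exact h1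
  have hsq' : ∀ x : W, x * x ∈ D := by
    let Y : Subgroup W :=
      { carrier := {x | x * x ∈ D}
        one_mem' := by rw [Set.mem_setOf_eq, one_mul]; exact one_mem _
        mul_mem' := fun {u v} hu hv => by
          show u * v * (u * v) ∈ D
          have hk : v * u * v⁻¹ * u⁻¹ ∈ D := hderD (commutator_mem_commutator (mem_top v) (mem_top u))
          have : u * v * (u * v) = u * (v * u * v⁻¹ * u⁻¹) * u⁻¹ * (u * u) * (v * v) := by group
          rw [this, ← mem_center_iff.1 (hDcent hk) u |>.symm, mul_assoc (v * u * v⁻¹ * u⁻¹), mul_inv_cancel, mul_one]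
          exact mul_mem (mul_mem hk hu) hv
        inv_mem' := fun {u} hu => by
          show u⁻¹ * u⁻¹ ∈ D
          rw [← mul_inv_rev]; exact inv_mem hu }
    intro x
    refine (show x ∈ Y from hgen (fun e he he1 y hy => ?_) x)
    show y * y ∈ D
    rcases hdich e he he1 with h | ⟨⟨φ⟩⟩
    · rw [h] at hy; exact mul_mem hy hy
    · have hh : ∀ q : QuaternionGroup 2, q * q * (q * q) = 1 := by decide +kernel
      have := hh (φ ⟨y, hy⟩)
      rw [← map_mul, ← map_mul] at this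
      rcases hsq e he he1 _ (mul_mem hy hy) (congrArg Subtype.val ((MulEquiv.map_eq_one_iff φ).1 this)) with h | h
      · rw [h]; exact one_mem _
      · rw [h]; exact hzD
  have hfr : frattini W = D := by
    refine le_antisymm ?_ (hcomm ▸ CfsgLib.PGroups.commutator_le_frattini' hW)
    haveI : D.Normal := by rw [← hcenter]; infer_instance
    exact CfsgLib.PGroups.frattini_le_of_elementary (p := 2) hderD (fun x => by rw [pow_two]; exact hsq' x)
  -- normality and orders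
  have hnorm : ∀ {N : Subgroup W}, D ≤ N → N.Normal := fun {N} h => ⟨fun n hn g => by
    have h1 : g * n * g⁻¹ * n⁻¹ ∈ N := h (hderD (commutator_mem_commutator (mem_top g) (mem_top n)))
    have := mul_mem h1 hn
    rwa [inv_mul_cancel_right] at this⟩
  have hstep : ∀ {e : MulAut W}, e ∈ E → ∀ {A B : Subgroup W}, (∀ y ∈ A, e y ∈ A) → (∀ y ∈ B, e y ∈ B) →
      A ⊓ B ≤ D → ∀ u ∈ A, ∀ v ∈ B, e (u * v) = u * v → e u = u ∧ e v = v := by
    intro e he A B hA hB hAB u hu v hv huv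
    rw [map_mul] at huv
    have h1 : u⁻¹ * e u = v * (e v)⁻¹ := by
      rw [eq_mul_inv_iff_mul_eq, mul_assoc, huv, inv_mul_cancel_left]
    have hmem : u⁻¹ * e u ∈ D := hAB (mem_inf.2 ⟨mul_mem (inv_mem hu) (hA u hu), h1 ▸ mul_mem hv (inv_mem (hB v hv))⟩)
    have he3 : (e : MulAut W) ^ 3 = 1 := congrArg Subtype.val (hexp3 ⟨e, he⟩)
    have hfixu : e u = u := by
      set k := u⁻¹ * e u with hk
      have e1 : e u = u * k := by rw [hk, mul_inv_cancel_left]
      have e2 := DFunLike.congr_fun he3 u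
      rw [pow_succ, pow_succ, pow_one, MulAut.mul_apply, MulAut.mul_apply, MulAut.one_apply, e1, map_mul,
        (hD k).1 hmem e he, e1, map_mul, map_mul, (hD k).1 hmem e he, e1] at e2
      rcases hDz k hmem with h | h
      · rw [e1, h, mul_one]
      · exfalso
        rw [h, mul_assoc (u * z), hzz, mul_one] at e2
        exact hz1 (by simpa using e2)
    refine ⟨hfixu, ?_⟩
    rw [hfixu] at huv
    exact mul_left_cancel huv
  have hinvfix : ∀ {e g : MulAut W}, e ∈ E → g ∈ E → ∀ y ∈ fix g, e y ∈ fix g := fun he hg y hy =>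
    fix_invariant E hab hg he hy
  have hbc : ∀ g ∈ E, ∀ y, b y = y → c y = y → g y = y := fun g hg y h1 h2 => by
    refine hgab g hg y ?_ h1
    rw [hc, MulAut.mul_apply, h1] at h2; exact h2
  have hbd : ∀ g ∈ E, ∀ y, b y = y → d y = y → g y = y := fun g hg y h1 h2 => by
    refine hgab g hg y ?_ h1
    rw [hd, MulAut.mul_apply, MulAut.mul_apply, h1, h1] at h2; exact h2
  have hac : ∀ g ∈ E, ∀ y, a y = y → c y = y → g y = y := fun g hg y h1 h2 => by
    refine hgab g hg y h1 ?_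
    rw [hc, hab a ha b hb, MulAut.mul_apply, h1] at h2; exact h2
  have had : ∀ g ∈ E, ∀ y, a y = y → d y = y → g y = y := fun g hg y h1 h2 => by
    refine hgab g hg y h1 (hp2 hb3 ?_)
    rw [hd, hab a ha (b * b) (mul_mem hb hb), MulAut.mul_apply, MulAut.mul_apply, h1] at h2; exact h2
  have hcd : ∀ g ∈ E, ∀ y, c y = y → d y = y → g y = y := fun g hg y h1 h2 => by
    have e : d = c * b := by rw [hd, hc, mul_assoc]
    have h3 : b y = y := by
      rw [e, MulAut.mul_apply] at h2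
      exact c.injective (h2.trans h1.symm)
    exact hbc g hg y h3 h1
  haveI := hnorm (hzle b hb)
  haveI := hnorm (hzle c hcE)
  haveI := hnorm (hzle d hdE)
  set A2 := fix a ⊔ fix b with hA2
  have hA2set : (A2 : Set W) = (fix a : Set W) * (fix b : Set W) := mul_normal _ _
  have hA2fix : ∀ {e : MulAut W}, e ∈ E → (∀ g ∈ E, ∀ y, a y = y → e y = y → g y = y) →
      (∀ g ∈ E, ∀ y, b y = y → e y = y → g y = y) → A2 ⊓ fix e ≤ D := by
    intro e he h1 h2 y hy
    obtain ⟨hy1, hy2⟩ := mem_inf.1 hy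
    rw [← SetLike.mem_coe, hA2set] at hy1
    obtain ⟨u, hu, v, hv, rfl⟩ := Set.mem_mul.1 hy1
    obtain ⟨e1, e2⟩ := hstep he (hinvfix he ha) (hinvfix he hb) (hfixD hgab) u hu v hv hy2
    exact mul_mem ((hD u).2 fun g hg => h1 g hg u hu e1) ((hD v).2 fun g hg => h2 g hg v hv e2)
  set A3 := A2 ⊔ fix c with hA3
  have hA3set : (A3 : Set W) = (A2 : Set W) * (fix c : Set W) := mul_normal _ _
  have hA2inv : ∀ {e : MulAut W}, e ∈ E → ∀ y ∈ A2, e y ∈ A2 := by
    intro e he y hy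
    rw [← SetLike.mem_coe, hA2set] at hy ⊢
    obtain ⟨u, hu, v, hv, rfl⟩ := Set.mem_mul.1 hy
    exact ⟨e u, hinvfix he ha u hu, e v, hinvfix he hb v hv, (map_mul e u v).symm⟩
  have hA3d : A3 ⊓ fix d ≤ D := by
    intro y hy
    obtain ⟨hy1, hy2⟩ := mem_inf.1 hy
    rw [← SetLike.mem_coe, hA3set] at hy1
    obtain ⟨u, hu, v, hv, rfl⟩ := Set.mem_mul.1 hy1
    obtain ⟨e1, e2⟩ := hstep hdE (hA2inv hdE) (hinvfix hdE hcE) (hA2fix hcE hac hbc) u hu v hv hy2
    exact mul_mem (hA2fix hdE had hbd (mem_inf.2 ⟨hu, e1⟩)) ((hD v).2 fun g hg => hcd g hg v hv e2)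
  have htopW : A3 ⊔ fix d = ⊤ := eq_top_iff.2 fun x _ => hWgen (le_sup_left.trans (le_sup_left.trans le_sup_left))
    (le_sup_right.trans (le_sup_left.trans le_sup_left)) (le_sup_right.trans le_sup_left) le_sup_right x
  have hcards : ∀ {A B : Subgroup W} [B.Normal], A ⊓ B ≤ D → D ≤ A → D ≤ B →
      Nat.card ↥(A ⊔ B) * 2 = Nat.card A * Nat.card B := by
    intro A B _ h1 h2 h3
    have := card_mul_set_eq A B
    rw [← mul_normal A B, le_antisymm h1 (le_inf h2 h3), hDcard] at this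
    exact this
  have c2 : Nat.card A2 * 2 = Nat.card (fix a) * Nat.card (fix b) :=
    hcards (hfixD hgab) (hzle a ha) (hzle b hb)
  have c3 : Nat.card A3 * 2 = Nat.card A2 * Nat.card (fix c) :=
    hcards (hA2fix hcE hac hbc) ((hzle a ha).trans le_sup_left) (hzle c hcE)
  have c4 : Nat.card W * 2 = Nat.card A3 * Nat.card (fix d) := by
    have := hcards hA3d (((hzle a ha).trans le_sup_left).trans le_sup_left) (hzle d hdE)
    rwa [htopW, card_top] at this
  have hc1 : c ≠ 1 := fun h => hba (hsame ha ha1 hb hb1 ha8 (fun y hy => hac b hb y hy (by rw [h]; rfl)))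
  have hd1 : d ≠ 1 := fun h => hba (hsame ha ha1 hb hb1 ha8 (fun y hy => had b hb y hy (by rw [h]; rfl)))
  have hsz : ∀ e ∈ E, e ≠ 1 → Nat.card (fix e) = 2 ∨ Nat.card (fix e) = 8 := fun e he he1 =>
    (hdich e he he1).imp (fun h => by rw [h, hDcard]) (hcard8 e)
  refine ⟨hE9, ⟨⟨hW, hfr.trans hcenter.symm, hcomm.trans hcenter.symm⟩, by rw [hcenter, hDcard]⟩, ?_, ?_⟩
  · rw [ha8, hb8] at c2
    have h32 : Nat.card A2 = 32 := by omega
    rw [h32] at c3
    rcases hsz c hcE hc1 with h | h <;> rw [h] at c3 <;> rcases hsz d hdE hd1 with h' | h' <;> rw [h'] at c4 <;>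
      norm_num <;> omega
  · ext x
    show (∀ e ∈ E, e x = x) ↔ x ∈ center W
    rw [hcenter, hD]

end CfsgLib.LocalEvenB.OneInv
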