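import Cfsg.Agent.Lib.LocalEvenB.OrderDLines
import Cfsg.Agent.Lib.Transfer.Fusion

/-!
# Normal `p`-complements from strongly closed subgroups of one order
-/

set_option autoImplicit false
set_option linter.all false

namespace CfsgLib.LocalEvenB

open Subgroup Cfsg
open scoped commutatorElement

variable {G : Type*} [Group G] [Finite G] {p : ℕ} [hp : Fact p.Prime]

/-- `P` is cyclic, or all subgroups of one intermediate order `p ^ j` (and `4`) are strongly closed in `P`. -/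
def OrderDClosed (p : ℕ) (P : Subgroup G) : Prop :=
  IsCyclic P ∨ ∃ j : ℕ, 0 < j ∧ p ^ j < Nat.card P ∧
    ∀ E : Subgroup G, E ≤ P → (Nat.card E = p ^ j ∨ (p ^ j = 2 ∧ Nat.card E = 4)) →
      ∀ g : G, ∀ x ∈ E, g * x * g⁻¹ ∈ P → g * x * g⁻¹ ∈ E

omit [Finite G] hp in
theorem isPGroup_zpowers_of_mem {P : Subgroup G} (hP : IsPGroup p P) {z : G} (hz : z ∈ P) :
    IsPGroup p (zpowers z) := hP.to_le (zpowers_le.2 hz)

/-- A subgroup with `gEg⁻¹ ∩ N(E) ≤ E` for all `g` is normal in every `p`-subgroup containing it. -/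
theorem le_normalizer_of_hSubgroup {P E : Subgroup G} (hP : IsPGroup p P) (hEP : E ≤ P)
    (hH : ∀ g : G, E.map (MulAut.conj g).toMonoidHom ⊓ normalizer (E : Set G) ≤ E) :
    P ≤ normalizer (E : Set G) := by
  haveI := hP.isNilpotent
  obtain ⟨N, hN⟩ : ∃ N, N = (normalizer (E : Set G)).subgroupOf P := ⟨_, rfl⟩
  rw [← subgroupOf_eq_top, ← hN]
  by_contra hne
  obtain ⟨y, hy, hyN⟩ := SetLike.exists_of_lt
    (Group.normalizerCondition_of_isNilpotent (G := P) N (lt_top_iff_ne_top.2 hne))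
  apply hyN
  have hsub : ∀ t : P, t ∈ normalizer (N : Set P) → ∀ x ∈ E, (t : G) * x * (t : G)⁻¹ ∈ E := by
    intro t ht x hx
    refine hH t ⟨⟨x, hx, rfl⟩, ?_⟩
    have h1 := (mem_normalizer_iff.1 ht ⟨x, hEP hx⟩).1 (hN ▸ mem_subgroupOf.2 (le_normalizer hx))
    rw [hN] at h1
    exact mem_subgroupOf.1 h1
  rw [hN, mem_subgroupOf, mem_normalizer_iff]
  intro x
  refine ⟨fun hx => hsub y hy x hx, fun hx => ?_⟩
  have h1 := hsub y⁻¹ (inv_mem hy) _ hx
  simpa [mul_assoc] using h1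

theorem orderDClosed_of_hSubgroups {P : Subgroup G} (hP : IsPGroup p P) {D : Subgroup G}
    (hDP : D ≤ P) (h1 : 1 < Nat.card D) (h2 : Nat.card D < Nat.card P)
    (hD : ∀ E : Subgroup G, E ≤ P → (Nat.card E = Nat.card D ∨ (Nat.card D = 2 ∧ Nat.card E = 4)) →
      ∀ g : G, E.map (MulAut.conj g).toMonoidHom ⊓ normalizer (E : Set G) ≤ E) :
    OrderDClosed p P := by
  obtain ⟨j, hj⟩ := IsPGroup.iff_card.1 (hP.to_le hDP)
  refine Or.inr ⟨j, Nat.pos_of_ne_zero fun h0 => ?_, hj ▸ h2, fun E hEP hE g x hx hgx => ?_⟩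
  · rw [hj, h0, pow_zero] at h1; exact lt_irrefl 1 h1
  · rw [← hj] at hE
    exact hD E hEP hE g ⟨⟨x, hx, rfl⟩, le_normalizer_of_hSubgroup hP hEP (hD E hEP hE) hgx⟩

theorem OrderDClosed.conj_mem {P : Subgroup G} {j : ℕ}
    (hsc : ∀ E : Subgroup G, E ≤ P → (Nat.card E = p ^ j ∨ (p ^ j = 2 ∧ Nat.card E = 4)) →
      ∀ g : G, ∀ x ∈ E, g * x * g⁻¹ ∈ P → g * x * g⁻¹ ∈ E)
    {R H : Subgroup G} (hRP : R ≤ P) (hH : H ≤ normalizer (R : Set G)) {E : Subgroup G} (hER : E ≤ R)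
    (hE : Nat.card E = p ^ j ∨ (p ^ j = 2 ∧ Nat.card E = 4)) : H ≤ normalizer (E : Set G) :=
  Subgroup.le_normalizer_iff.2 fun g hg x hx =>
    hsc E (hER.trans hRP) hE g x hx (hRP ((mem_normalizer_iff.1 (hH hg) x).1 (hER hx)))

/-- The local condition: `p'`-elements normalising `R ≤ P` act trivially modulo `Φ(P)`. -/
theorem OrderDClosed.local_trivial {P : Subgroup G} (hP : IsPGroup p P) (h : OrderDClosed p P)
    {R : Subgroup G} (hRP : R ≤ P) {g : G} (hg : g ∈ normalizer (R : Set G))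
    (hgc : Nat.Coprime (orderOf g) p) (hgq : Nat.Coprime (orderOf g) (p - 1)) :
    ∀ a ∈ R, g * a * g⁻¹ * a⁻¹ ∈ frattiniIn P := by
  have hH : zpowers g ≤ normalizer (R : Set G) := zpowers_le.2 hg
  have hgK := mem_powComm_zpowers (p := p) hgq
  have hcent : g ∈ centralizer (R : Set G) → ∀ a ∈ R, g * a * g⁻¹ * a⁻¹ ∈ frattiniIn P := by
    intro hc a ha
    rw [← mem_centralizer_iff.1 hc a ha, mul_inv_cancel_right, mul_inv_cancel]
    exact one_mem _
  rcases h with hcyc | ⟨j, hj, hlt, hsc⟩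
  · refine hcent ?_
    haveI : IsCyclic R := isCyclic_of_injective (Subgroup.inclusion hRP) (Subgroup.inclusion_injective hRP)
    obtain ⟨z, hz⟩ := (Subgroup.isCyclic_iff_exists_zpowers_eq_top (H := R)).1 inferInstance
    rw [← hz] at hH ⊢
    exact centralizes_zpowers (hz ▸ hP.to_le hRP) hH g hgK hgc
  rcases lt_or_ge (p ^ j) (Nat.card R) with hbig | hsmall
  · exact hcent (centralizes_of_orderD hj _ R rfl (hP.to_le hRP) hbig hH
      (fun E hER hE => conj_mem hsc hRP hH hER hE) g hgK hgc)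
  obtain ⟨m, hm⟩ := IsPGroup.iff_card.1 (hP.to_le hRP)
  have hmj : m ≤ j := (Nat.pow_le_pow_iff_right hp.out.one_lt).1 (hm ▸ hsmall)
  have hd : ∀ a ∈ R, a ^ p ^ j = 1 := fun a ha => orderOf_dvd_iff_pow_eq_one.1 ((hm ▸
    (Subgroup.orderOf_mk a ha ▸ orderOf_dvd_natCard (⟨a, ha⟩ : R)) : orderOf a ∣ p ^ m).trans
      (pow_dvd_pow p hmj))
  have hline : ∀ a ∈ R, ∀ t ∈ zpowers g, t * a * t⁻¹ ∈ zpowers a ⊔ frattiniIn P := by
    intro a ha t ht
    have hta := (mem_normalizer_iff.1 (hH ht) a).1 ha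
    exact line_of_overgroups hP hlt (hRP ha) (hd a ha) (hRP hta) fun E hEP hEc haE =>
      hsc E hEP (Or.inl hEc) t a haE (hRP hta)
  intro a ha
  refine frattini_line hP hRP hH (fun t ht z hz hzΦ => ?_) ha (hline a ha) g hgK
  exact (sup_le (zpowers_le.2 hzΦ) le_rfl) (hline z hz t ht)

/-- A Sylow subgroup whose subgroups of one order are strongly closed, for the smallest prime. -/
theorem hasNormalPComplement_of_orderDClosed (hmin : ∀ q : ℕ, q.Prime → q ∣ Nat.card G → p ≤ q)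
    (P : Sylow p G) (h : OrderDClosed p (P : Subgroup G)) : HasNormalPComplement p G := by
  have hP : IsPGroup p (P : Subgroup G) := P.2
  have hq : ∀ g : G, Nat.Coprime (orderOf g) p → Nat.Coprime (orderOf g) (p - 1) := by
    intro g hg
    refine Nat.coprime_of_dvd fun k hk h1 h2 => ?_
    have h3 := hmin k hk (h1.trans (orderOf_dvd_natCard g))
    have h4 : k ≠ p := fun e => hp.out.ne_one (Nat.eq_one_of_dvd_coprimes hg (e ▸ h1) dvd_rfl)
    have := hp.out.two_le
    have := Nat.le_of_dvd (by omega) h2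
    omega
  obtain ⟨C, hC⟩ : ∃ C, C = frattiniIn (P : Subgroup G) := ⟨_, rfl⟩
  have hPC : ∀ a ∈ (P : Subgroup G), ∀ b ∈ (P : Subgroup G), b * a * b⁻¹ * a⁻¹ ∈ C := by
    intro a ha b hb
    refine hC ▸ ⟨⁅(⟨b, hb⟩ : (P : Subgroup G)), ⟨a, ha⟩⁆, CfsgLib.PGroups.commutator_le_frattini' hP
      (commutator_mem_commutator (mem_top _) (mem_top _)), ?_⟩
    simp [commutatorElement_def]
  -- every fusion step is trivial modulo `Φ(P)`
  have hstep : ∀ (Q : Sylow p G), CfsgLib.Transfer.IsTameInter P Q →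
      ∀ y ∈ normalizer ((((P : Subgroup G) ⊓ (Q : Subgroup G)) : Subgroup G) : Set G),
      ∀ a ∈ (P : Subgroup G) ⊓ (Q : Subgroup G), y * a * y⁻¹ * a⁻¹ ∈ C := by
    intro Q ht
    obtain ⟨D, hD⟩ : ∃ D, D = (P : Subgroup G) ⊓ (Q : Subgroup G) := ⟨_, rfl⟩
    rw [← hD]
    have hloc : ∀ y ∈ normalizer (D : Set G), Nat.Coprime (orderOf y) p →
        ∀ a ∈ D, y * a * y⁻¹ * a⁻¹ ∈ C := fun y hy hyc =>
      hC ▸ h.local_trivial hP (hD ▸ inf_le_left) hy hyc (hq y hyc)
    let T : Submonoid G :=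
      { carrier := {y | y ∈ normalizer (D : Set G) ∧ ∀ a ∈ D, y * a * y⁻¹ * a⁻¹ ∈ C}
        one_mem' := ⟨one_mem _, fun a _ => by simp⟩
        mul_mem' := fun {y z} hy hz => ⟨mul_mem hy.1 hz.1, fun a ha => by
          have h1 := hy.2 _ ((mem_normalizer_iff.1 hz.1 a).1 ha)
          rw [show y * z * a * (y * z)⁻¹ * a⁻¹ =
            (y * (z * a * z⁻¹) * y⁻¹ * (z * a * z⁻¹)⁻¹) * (z * a * z⁻¹ * a⁻¹) by group]
          exact mul_mem h1 (hz.2 a ha)⟩ }
    intro y hy
    obtain ⟨s, hs, k, hk, rfl⟩ := CfsgLib.Transfer.exists_mul_of_sylow_normalizer P ht.1 (hD ▸ hy)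
    have hsT : s ∈ T := ⟨hD ▸ hs.2, fun a ha => hPC a (hD ▸ ha).1 s hs.1⟩
    have hkT : k ∈ T := by
      rw [← hD] at hk
      obtain ⟨k, hk, rfl⟩ := hk
      let S : Subgroup (normalizer (D : Set G)) :=
        { carrier := {w | (w : G) ∈ T}
          one_mem' := T.one_mem
          mul_mem' := fun hu hv => T.mul_mem hu hv
          inv_mem' := fun {w} hw => by
            obtain ⟨n, hn⟩ := (Submonoid.mem_powers_iff _ _).1
              (mem_powers_iff_mem_zpowers.2 (inv_mem (mem_zpowers (w : G))))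
            show ((w⁻¹ : normalizer (D : Set G)) : G) ∈ T
            rw [Subgroup.coe_inv, ← hn]
            exact T.pow_mem hw n }
      refine (CfsgLib.Transfer.pResidual_le_iff (K := S)).2 (fun w hw => ?_) hk
      exact ⟨w.2, hloc _ w.2 (by rwa [Subgroup.orderOf_coe])⟩
    exact (T.mul_mem hsT hkT).2
  have key : ∀ (A : Set G) (g : G), CfsgLib.Transfer.FusionPath P A g → A ⊆ (P : Set G) →
      ∀ x ∈ A, g⁻¹ * x * g * x⁻¹ ∈ C := by
    intro A g hpath
    induction hpath with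
    | one A => intro _ x _; simp
    | step A Q y g ht hy hA _ ih =>
        intro _ x hx
        have hxD := hA hx
        have hyD : y⁻¹ * x * y ∈ (P : Subgroup G) ⊓ (Q : Subgroup G) :=
          (mem_normalizer_iff''.mp hy x).mp hxD
        have h1 := ih (by
          rintro _ ⟨a, ha, rfl⟩
          exact ((mem_normalizer_iff''.mp hy a).mp (hA ha)).1) _ ⟨x, hx, rfl⟩
        have h2 := hstep Q ht y⁻¹ (inv_mem hy) x hxD
        rw [inv_inv] at h2
        convert mul_mem h1 h2 using 1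
        group
  refine CfsgLib.Transfer.hasNormalPComplement_of_inf_pResidual P ?_
  have hfoc : _root_.commutator G ⊓ (P : Subgroup G) ≤ C :=
    CfsgLib.Transfer.commutator_inf_le_of_fusion P C fun a ha g hg => by
      have h1 := key {a} g (CfsgLib.Transfer.exists_fusionPath P (Set.singleton_subset_iff.mpr ha)
        (by rw [Set.image_singleton]; exact Set.singleton_subset_iff.mpr hg))
        (Set.singleton_subset_iff.mpr ha) a rfl
      have hCn := conj_mem_frattiniIn (le_normalizer (inv_mem ha)) (hC ▸ h1)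
      rw [← hC] at hCn
      convert hCn using 1
      group
  have hres := CfsgLib.Transfer.inf_pResidual_le_of_focal P ⊥ bot_le fun L hLn hLi _ x hx => by
    obtain ⟨y, hy, hyx⟩ := hC ▸ hfoc ⟨mem_subgroupOf.1 hx, x.2⟩
    exact (Subtype.ext hyx : y = x) ▸ CfsgLib.Transfer.frattini_le_of_index_prime hLi hy
  rw [inf_comm]
  exact disjoint_iff.mp (subgroupOf_eq_bot.mp hres)

end CfsgLib.LocalEvenB
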