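import Cfsg.Agent.Lib.Core.Coprime
import Cfsg.Agent.Lib.PGroups.Basic
import Cfsg.Agent.Lib.Transfer.SmallOrder

/-!
# Operators fixing all subgroups of one given order of a `p`-group
-/

set_option autoImplicit false
set_option linter.all false

namespace CfsgLib.LocalEvenB

open Subgroup Cfsg
open scoped commutatorElement

variable {G : Type*} [Group G] [Finite G] {p : ℕ} [hp : Fact p.Prime]

/-- The Frattini subgroup of `K`, as a subgroup of `G`. -/
def frattiniIn (K : Subgroup G) : Subgroup G := (frattini K).map K.subtype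

theorem frattiniIn_le (K : Subgroup G) : frattiniIn K ≤ K := map_subtype_le _

theorem mem_frattiniIn {K : Subgroup G} {x : G} (hx : x ∈ K) :
    x ∈ frattiniIn K ↔ (⟨x, hx⟩ : K) ∈ frattini K :=
  ⟨fun ⟨y, hy, he⟩ => (Subtype.ext he : y = ⟨x, hx⟩) ▸ hy, fun h => ⟨_, h, rfl⟩⟩

theorem conj_mem_frattiniIn {K : Subgroup G} {g z : G} (hg : g ∈ normalizer (K : Set G))
    (hz : z ∈ frattiniIn K) : g * z * g⁻¹ ∈ frattiniIn K := by
  obtain ⟨y, hy, rfl⟩ := hz
  exact ⟨normalizerMonoidHom K ⟨g, hg⟩ y,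
    (characteristic_iff_map_eq.1 frattini_characteristic (normalizerMonoidHom K ⟨g, hg⟩)).le
      ⟨y, hy, rfl⟩, rfl⟩

/-- If every subgroup of order `d` through `x` contains `y`, then `y ∈ ⟨x⟩Φ(K)`. -/
theorem line_of_overgroups {K : Subgroup G} (hK : IsPGroup p K) {j : ℕ} (hj : p ^ j < Nat.card K)
    {x y : G} (hx : x ∈ K) (hxd : x ^ p ^ j = 1) (hy : y ∈ K)
    (h : ∀ E : Subgroup G, E ≤ K → Nat.card E = p ^ j → x ∈ E → y ∈ E) :
    y ∈ zpowers x ⊔ frattiniIn K := by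
  obtain ⟨S, hS⟩ : ∃ S, S = zpowers (⟨x, hx⟩ : K) ⊔ frattini K := ⟨_, rfl⟩
  by_contra hny
  have hyS : (⟨y, hy⟩ : K) ∉ S := by
    intro hyS
    apply hny
    have h1 := mem_map_of_mem K.subtype (hS ▸ hyS)
    rw [Subgroup.map_sup, MonoidHom.map_zpowers] at h1
    exact h1
  obtain ⟨M, ⟨hSM, hyM⟩, hmax⟩ :=
    (Set.toFinite {M : Subgroup K | S ≤ M ∧ (⟨y, hy⟩ : K) ∉ M}).exists_maximal ⟨S, le_rfl, hyS⟩
  have hΦM : frattini K ≤ M := (hS ▸ le_sup_right : frattini K ≤ S).trans hSM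
  haveI : M.Normal := ⟨fun m hm g => by
    have h1 : ⁅g, m⁆ ∈ M := hΦM (CfsgLib.PGroups.commutator_le_frattini' hK
      (commutator_mem_commutator (mem_top g) (mem_top m)))
    simpa [commutatorElement_def] using mul_mem h1 hm⟩
  have hbig : ∀ z : K, z ∉ M → (⟨y, hy⟩ : K) ∈ M ⊔ zpowers z := by
    intro z hz
    by_contra hyz
    exact hz ((hmax ⟨hSM.trans le_sup_left, hyz⟩ le_sup_left)
      (mem_sup_right (mem_zpowers z)))
  have hgen : ∀ z : K, z ∈ M ⊔ zpowers (⟨y, hy⟩ : K) := by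
    intro z
    by_cases hz : z ∈ M
    · exact mem_sup_left hz
    obtain ⟨m, hm, w, hw, he⟩ := mem_sup_of_normal_left.1 (hbig z hz)
    obtain ⟨i, rfl⟩ := mem_zpowers_iff.1 hw
    have hpi : IsCoprime (i : ℤ) (p : ℤ) := by
      rw [isCoprime_comm, (Nat.prime_iff_prime_int.1 hp.out).coprime_iff_not_dvd]
      rintro ⟨k, rfl⟩
      refine hyM ?_
      rw [← he, zpow_mul, zpow_natCast]
      exact mul_mem hm (M.zpow_mem (hΦM (CfsgLib.PGroups.pow_mem_frattini hK z)) k)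
    obtain ⟨a, b, hab⟩ := hpi
    have hzi : z ^ i ∈ M ⊔ zpowers (⟨y, hy⟩ : K) := by
      rw [show z ^ i = m⁻¹ * (⟨y, hy⟩ : K) by rw [← he, inv_mul_cancel_left]]
      exact mul_mem (mem_sup_left (inv_mem hm)) (mem_sup_right (mem_zpowers _))
    have : z = (z ^ i) ^ a * (z ^ p) ^ b := by
      rw [← zpow_natCast, ← zpow_mul, ← zpow_mul, ← zpow_add, mul_comm i a, mul_comm (p : ℤ) b,
        hab, zpow_one]
    rw [this]
    exact mul_mem (zpow_mem hzi a) (mem_sup_left (M.zpow_mem (hΦM (CfsgLib.PGroups.pow_mem_frattini hK z)) b))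
  have hidx : M.index ∣ p := by
    rw [index_eq_card]
    have h1 : zpowers ((⟨y, hy⟩ : K) : K ⧸ M) = ⊤ := by
      rw [eq_top_iff]
      rintro q -
      obtain ⟨z, rfl⟩ := QuotientGroup.mk'_surjective M q
      have h2 := mem_map_of_mem (QuotientGroup.mk' M) (hgen z)
      rwa [Subgroup.map_sup, QuotientGroup.map_mk'_self, bot_sup_eq, MonoidHom.map_zpowers] at h2
    rw [← card_top (G := K ⧸ M), ← h1, Nat.card_zpowers]
    refine orderOf_dvd_of_pow_eq_one ?_
    rw [← QuotientGroup.mk_pow, QuotientGroup.eq_one_iff]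
    exact hΦM (CfsgLib.PGroups.pow_mem_frattini hK _)
  obtain ⟨k, hk⟩ := IsPGroup.iff_card.1 hK
  obtain ⟨m, hm⟩ := IsPGroup.iff_card.1 (hK.to_subgroup M)
  have hjm : j ≤ m := by
    have h1 := M.card_mul_index
    rw [hm, hk] at h1
    rw [hk] at hj
    have h2 := (Nat.pow_lt_pow_iff_right hp.out.one_lt).1 hj
    rcases (Nat.dvd_prime hp.out).1 hidx with h3 | h3
    · rw [h3, mul_one] at h1
      have := Nat.pow_right_injective hp.out.two_le h1
      omega
    · rw [h3, ← pow_succ] at h1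
      have := Nat.pow_right_injective hp.out.two_le h1
      omega
  obtain ⟨i, hij, hi⟩ := (Nat.dvd_prime_pow hp.out).1 (orderOf_dvd_of_pow_eq_one hxd)
  have hxM : (⟨x, hx⟩ : K) ∈ M := hSM (hS ▸ mem_sup_left (mem_zpowers _))
  obtain ⟨E', hE', hxE⟩ := Sylow.exists_subgroup_card_pow_prime_le p (G := M) (n := i) (m := j)
    (by rw [hm]; exact pow_dvd_pow p hjm) (zpowers ⟨⟨x, hx⟩, hxM⟩)
    (by rw [Nat.card_zpowers, Subgroup.orderOf_mk, Subgroup.orderOf_mk, hi]) hij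
  have hyE := h ((E'.map M.subtype).map K.subtype) (map_subtype_le _)
    (by rw [card_map_of_injective K.subtype_injective, card_map_of_injective M.subtype_injective, hE'])
    ⟨_, ⟨_, hxE (mem_zpowers _), rfl⟩, rfl⟩
  obtain ⟨z, hz, hzy⟩ := hyE
  exact hyM ((Subtype.ext hzy : z = ⟨y, hy⟩) ▸ map_subtype_le _ hz)

/-- The normal subgroup generated by commutators and `(p-1)`-st powers. -/
def powComm (p : ℕ) (H : Subgroup G) : Subgroup G :=
  ⁅H, H⁆ ⊔ closure ((fun g : G => g ^ (p - 1)) '' (H : Set G))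

omit [Finite G] hp in
theorem powComm_le (H : Subgroup G) : powComm p H ≤ H :=
  sup_le (commutator_le.2 fun a ha b hb => by
      rw [commutatorElement_def]
      exact mul_mem (mul_mem (mul_mem ha hb) (inv_mem ha)) (inv_mem hb))
    ((closure_le _).2 (by rintro _ ⟨g, hg, rfl⟩; exact pow_mem hg _))

omit hp in
theorem mem_powComm_zpowers {h : G} (hh : Nat.Coprime (orderOf h) (p - 1)) :
    h ∈ powComm p (zpowers h) := by
  obtain ⟨i, hi⟩ := exists_pow_eq_self_of_coprime (x := h) (n := p - 1) (Nat.Coprime.symm hh)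
  have h1 : h ^ (p - 1) ∈ closure ((fun g : G => g ^ (p - 1)) '' (zpowers h : Set G)) :=
    subset_closure ⟨h, mem_zpowers h, rfl⟩
  have h2 := pow_mem h1 i
  rw [hi] at h2
  exact mem_sup_right h2

/-- Operators preserving a line modulo the Frattini subgroup act on it through an abelian group
of exponent dividing `p - 1`. -/
theorem frattini_line {K R H : Subgroup G} (hK : IsPGroup p K) (hRK : R ≤ K)
    (hH : H ≤ normalizer (R : Set G))
    (hΦ : ∀ g ∈ H, ∀ z ∈ R, z ∈ frattiniIn K → g * z * g⁻¹ ∈ frattiniIn K)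
    {x : G} (hx : x ∈ R) (hline : ∀ g ∈ H, g * x * g⁻¹ ∈ zpowers x ⊔ frattiniIn K) :
    ∀ g ∈ powComm p H, g * x * g⁻¹ * x⁻¹ ∈ frattiniIn K := by
  intro g₀ hg₀
  by_cases hxΦ : x ∈ frattiniIn K
  · exact mul_mem (hΦ _ (powComm_le H hg₀) x hx hxΦ) (inv_mem hxΦ)
  obtain ⟨π, hπ⟩ : ∃ π, π = QuotientGroup.mk' (frattini K) := ⟨_, rfl⟩
  obtain ⟨c, hc⟩ : ∃ c, c = π ⟨x, hRK hx⟩ := ⟨_, rfl⟩
  have hker : ∀ {z : G} (hz : z ∈ K), π ⟨z, hz⟩ = 1 ↔ z ∈ frattiniIn K := fun hz => by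
    rw [hπ, mem_frattiniIn hz]; exact QuotientGroup.eq_one_iff _
  have hcR : ∀ g ∈ H, g * x * g⁻¹ ∈ R := fun g hg => (mem_normalizer_iff.1 (hH hg) x).1 hx
  have hexist : ∀ g : H, ∃ k : ℤ, π ⟨g * x * (g : G)⁻¹, hRK (hcR g g.2)⟩ = c ^ k := by
    intro g
    have h1 := hline g g.2
    have e : zpowers x ⊔ frattiniIn K = (zpowers (⟨x, hRK hx⟩ : K) ⊔ frattini K).map K.subtype := by
      rw [Subgroup.map_sup, MonoidHom.map_zpowers]; rfl
    rw [e] at h1
    obtain ⟨w, hw, hwe⟩ := h1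
    obtain ⟨a, ha, b, hb, rfl⟩ := mem_sup_of_normal_right.1 hw
    obtain ⟨k, rfl⟩ := mem_zpowers_iff.1 ha
    refine ⟨k, ?_⟩
    rw [show (⟨g * x * (g : G)⁻¹, hRK (hcR g g.2)⟩ : K) = (⟨x, hRK hx⟩ : K) ^ k * b from Subtype.ext hwe.symm, map_mul, map_zpow, ← hc,
      show π b = 1 by rw [hπ]; exact (QuotientGroup.eq_one_iff b).2 hb, mul_one]
  choose κ hκ using hexist
  have hc1 : orderOf c = p := orderOf_eq_prime
    (by rw [hc, hπ, ← map_pow]; exact (QuotientGroup.eq_one_iff _).2 (CfsgLib.PGroups.pow_mem_frattini hK _))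
    (fun h => hxΦ ((hker (hRK hx)).1 (hc ▸ h)))
  have huniq : ∀ a b : ℤ, c ^ a = c ^ b → (a : ZMod p) = b := fun a b hab => by
    rw [ZMod.intCast_eq_intCast_iff]
    exact hc1 ▸ zpow_eq_zpow_iff_modEq.1 hab
  have h1 : ((κ 1 : ℤ) : ZMod p) = 1 := by
    rw [← Int.cast_one]
    refine huniq _ _ ?_
    rw [← hκ 1, zpow_one, hc]
    congr 2
    simp
  have hmul : ∀ a b : H, ((κ (a * b) : ℤ) : ZMod p) = (κ a : ZMod p) * (κ b : ZMod p) := by
    intro a b
    rw [← Int.cast_mul]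
    refine huniq _ _ ?_
    obtain ⟨s, hs⟩ : ∃ s : G, s = (x ^ κ b)⁻¹ * ((b : G) * x * (b : G)⁻¹) := ⟨_, rfl⟩
    have hsR : s ∈ R := hs ▸ mul_mem (inv_mem (zpow_mem hx _)) (hcR b b.2)
    have hsΦ : s ∈ frattiniIn K := by
      rw [← hker (hRK hsR), show (⟨s, hRK hsR⟩ : K) =
        ((⟨x, hRK hx⟩ : K) ^ κ b)⁻¹ * ⟨(b : G) * x * (b : G)⁻¹, hRK (hcR b b.2)⟩ from Subtype.ext hs,
        map_mul, map_inv, map_zpow, hκ b, ← hc, inv_mul_cancel]
    have hasΦ := hΦ a a.2 s hsR hsΦ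
    have e : (⟨((a * b : H) : G) * x * ((a * b : H) : G)⁻¹, hRK (hcR _ (a * b).2)⟩ : K) =
        (⟨(a : G) * x * (a : G)⁻¹, hRK (hcR a a.2)⟩ : K) ^ κ b *
          ⟨(a : G) * s * (a : G)⁻¹, frattiniIn_le K hasΦ⟩ := by
      refine Subtype.ext ?_
      show ((a * b : H) : G) * x * ((a * b : H) : G)⁻¹ = _
      simp only [Subgroup.coe_mul, Subgroup.coe_zpow, conj_zpow, hs]
      group
    rw [← hκ (a * b), e, map_mul, map_zpow, hκ a, (hker _).2 hasΦ, mul_one, ← zpow_mul]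
  let φ : H →* ZMod p :=
    { toFun := fun g => ((κ g : ℤ) : ZMod p), map_one' := h1, map_mul' := hmul }
  let ψ : H →* (ZMod p)ˣ := φ.toHomUnits
  have hK' : powComm p H ≤ ψ.ker.map H.subtype := by
    refine sup_le ?_ ((closure_le _).2 ?_)
    · refine commutator_le.2 fun a ha b hb => ⟨⁅(⟨a, ha⟩ : H), ⟨b, hb⟩⁆, ?_, rfl⟩
      show ψ _ = 1
      rw [map_commutatorElement]
      exact commutatorElement_eq_one_iff_mul_comm.2 (mul_comm _ _)
    · rintro _ ⟨g, hg, rfl⟩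
      refine ⟨(⟨g, hg⟩ : H) ^ (p - 1), ?_, rfl⟩
      show ψ _ = 1
      rw [map_pow]
      exact ZMod.units_pow_card_sub_one_eq_one p _
  obtain ⟨g, hg, rfl⟩ := hK' hg₀
  have hg1 : ((κ g : ℤ) : ZMod p) = 1 := congrArg Units.val (hg : ψ g = 1)
  have hcg : c ^ κ g = c := by
    conv_rhs => rw [← zpow_one c]
    rw [zpow_eq_zpow_iff_modEq, hc1, ← ZMod.intCast_eq_intCast_iff, hg1, Int.cast_one]
  show (g : G) * x * (g : G)⁻¹ * x⁻¹ ∈ frattiniIn K
  rw [← hker (K.mul_mem (hRK (hcR g g.2)) (inv_mem (hRK hx))),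
    show (⟨(g : G) * x * (g : G)⁻¹ * x⁻¹, _⟩ : K) =
      ⟨(g : G) * x * (g : G)⁻¹, hRK (hcR g g.2)⟩ * (⟨x, hRK hx⟩ : K)⁻¹ from rfl,
    map_mul, map_inv, hκ g, hcg, ← hc, mul_inv_cancel]

/-- A `p'`-element fixing generators of `R` modulo its Frattini subgroup centralises `R`. -/
theorem centralizes_of_gens {R : Subgroup G} (hR : IsPGroup p R) {g : G}
    (hg : g ∈ normalizer (R : Set G)) (hgc : Nat.Coprime (orderOf g) p) {X : Set G}
    (hXR : closure X = R) (hfix : ∀ x ∈ X, g * x * g⁻¹ * x⁻¹ ∈ frattiniIn R) :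
    g ∈ centralizer (R : Set G) := by
  have hn : ∀ a ∈ zpowers g, a ∈ normalizer (R : Set G) := fun a ha => zpowers_le.2 hg ha
  have htriv : ∀ a ∈ zpowers g, ∀ k ∈ R, a * k * a⁻¹ * k⁻¹ ∈ frattiniIn R := by
    have hstep : ∀ k ∈ R, g * k * g⁻¹ * k⁻¹ ∈ frattiniIn R := by
      intro k hk
      rw [← hXR] at hk
      induction hk using closure_induction with
      | mem x hx => exact hfix x hx
      | one => simp
      | mul a b ha hb iha ihb =>
        have haR : a ∈ R := hXR ▸ ha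
        have h1 := conj_mem_frattiniIn (le_normalizer haR) ihb
        rw [show g * (a * b) * g⁻¹ * (a * b)⁻¹ =
          g * a * g⁻¹ * a⁻¹ * (a * (g * b * g⁻¹ * b⁻¹) * a⁻¹) by group]
        exact mul_mem iha h1
      | inv a ha iha =>
        have haR : a ∈ R := hXR ▸ ha
        have h1 := inv_mem (conj_mem_frattiniIn (le_normalizer (inv_mem haR)) iha)
        rw [show g * a⁻¹ * g⁻¹ * a⁻¹⁻¹ = (a⁻¹ * (g * a * g⁻¹ * a⁻¹) * a⁻¹⁻¹)⁻¹ by group]
        exact h1
    intro a ha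
    obtain ⟨i, rfl⟩ := (Submonoid.mem_powers_iff _ _).1 (mem_powers_iff_mem_zpowers.2 ha)
    induction i with
    | zero => intro k _; simp
    | succ i ih =>
      intro k hk
      have hi : g ^ i * k * (g ^ i)⁻¹ ∈ R :=
        (mem_normalizer_iff.1 (hn _ (pow_mem (mem_zpowers g) i)) k).1 hk
      rw [show g ^ (i + 1) * k * (g ^ (i + 1))⁻¹ * k⁻¹ =
        (g * (g ^ i * k * (g ^ i)⁻¹) * g⁻¹ * (g ^ i * k * (g ^ i)⁻¹)⁻¹) *
          (g ^ i * k * (g ^ i)⁻¹ * k⁻¹) by rw [pow_succ']; group]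
      exact mul_mem (hstep _ hi) (ih (pow_mem (mem_zpowers g) i) k hk)
  refine CfsgLib.Core.centralizes_of_centralizes_frattini_quotient (zpowers_le.2 hg) ?_ htriv
    (mem_zpowers g)
  obtain ⟨m, hm⟩ := IsPGroup.iff_card.1 (hR.to_subgroup (frattini R))
  rw [hm, Nat.card_zpowers]
  exact hgc.pow_right m

/-- Operators fixing generating lines of `R` act through `G'G^(p-1)` as a `p`-group. -/
theorem centralizes_of_lines {R H : Subgroup G} (hR : IsPGroup p R)
    (hH : H ≤ normalizer (R : Set G)) {X : Set G} (hXR : closure X = R)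
    (hline : ∀ g ∈ H, ∀ x ∈ X, g * x * g⁻¹ ∈ zpowers x ⊔ frattiniIn R) :
    ∀ g ∈ powComm p H, Nat.Coprime (orderOf g) p → g ∈ centralizer (R : Set G) :=
  fun g hg hgc => centralizes_of_gens hR (hH (powComm_le H hg)) hgc hXR fun x hx =>
    frattini_line hR le_rfl hH (fun a ha z _ hz => conj_mem_frattiniIn (hH ha) hz)
      (hXR ▸ subset_closure hx) (fun a ha => hline a ha x hx) g hg

/-- The cyclic case. -/
theorem centralizes_zpowers {H : Subgroup G} {z : G} (hz : IsPGroup p (zpowers z))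
    (hH : H ≤ normalizer (zpowers z : Set G)) :
    ∀ g ∈ powComm p H, Nat.Coprime (orderOf g) p → g ∈ centralizer (zpowers z : Set G) :=
  centralizes_of_lines hz hH (X := {z}) (zpowers_eq_closure z).symm fun g hg x hx => by
    rw [Set.mem_singleton_iff.1 hx]
    exact mem_sup_left ((mem_normalizer_iff.1 (hH hg) z).1 (mem_zpowers z))

/-- Operators fixing every subgroup of order `p ^ j` (and `4`) of a larger `p`-group. -/
theorem centralizes_of_orderD {H : Subgroup G} {j : ℕ} (hj : 0 < j) :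
    ∀ (n : ℕ) (R : Subgroup G), Nat.card R = n → IsPGroup p R → p ^ j < n →
      H ≤ normalizer (R : Set G) →
      (∀ E : Subgroup G, E ≤ R → (Nat.card E = p ^ j ∨ (p ^ j = 2 ∧ Nat.card E = 4)) →
        H ≤ normalizer (E : Set G)) →
      ∀ g ∈ powComm p H, Nat.Coprime (orderOf g) p → g ∈ centralizer (R : Set G) := by
  intro n
  induction n using Nat.strong_induction_on with
  | _ n ih =>
  intro R hn hR hlt hH hE g hg hgc
  obtain ⟨X, hX⟩ : ∃ X, X = {x : G | x ∈ R ∧ x ^ p ^ j = 1} := ⟨_, rfl⟩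
  obtain ⟨R₀, hR₀⟩ : ∃ R₀, R₀ = closure X := ⟨_, rfl⟩
  have hR₀R : R₀ ≤ R := hR₀ ▸ (closure_le _).2 (hX ▸ fun x hx => hx.1)
  have hHR₀ : H ≤ normalizer (R₀ : Set G) := by
    rw [Subgroup.le_normalizer_iff]
    intro a ha r hr
    rw [hR₀] at hr ⊢
    induction hr using closure_induction with
    | mem x hx =>
      rw [hX] at hx ⊢
      exact subset_closure ⟨(mem_normalizer_iff.1 (hH ha) x).1 hx.1, by
        rw [conj_pow, hx.2, mul_one, mul_inv_cancel]⟩
    | one => simp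
    | mul b c _ _ hb hc => rw [show a * (b * c) * a⁻¹ = a * b * a⁻¹ * (a * c * a⁻¹) by group]; exact mul_mem hb hc
    | inv b _ hb => rw [show a * b⁻¹ * a⁻¹ = (a * b * a⁻¹)⁻¹ by group]; exact inv_mem hb
  by_cases htop : R₀ = R
  · refine centralizes_of_lines hR hH (X := X) (hR₀ ▸ htop) (fun a ha x hx => ?_) g hg hgc
    rw [hX] at hx
    refine line_of_overgroups hR (hn ▸ hlt) hx.1 hx.2 ((mem_normalizer_iff.1 (hH ha) x).1 hx.1) ?_
    exact fun E hER hEc hxE => (mem_normalizer_iff.1 (hE E hER (Or.inl hEc) ha) x).1 hxE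
  have hR₀lt : Nat.card R₀ < n :=
    hn ▸ lt_of_le_of_ne (card_dvd_of_le hR₀R |> Nat.le_of_dvd Nat.card_pos)
      fun h => htop (eq_of_le_of_card_ge hR₀R h.ge)
  have hgR₀ : g ∈ centralizer (R₀ : Set G) := by
    rcases lt_or_ge (p ^ j) (Nat.card R₀) with hbig | hsmall
    · exact ih _ hR₀lt R₀ rfl (hR.to_le hR₀R) hbig hHR₀ (fun E hER => hE E (hER.trans hR₀R)) g hg hgc
    · -- `R₀` is cyclic
      obtain ⟨z, hz, hzo⟩ : ∃ z ∈ R, ¬ orderOf z ∣ p ^ j := by
        by_contra h0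
        push Not at h0
        exact htop (le_antisymm hR₀R fun z hz =>
          hR₀ ▸ subset_closure (hX ▸ ⟨hz, orderOf_dvd_iff_pow_eq_one.1 (h0 z hz)⟩))
      obtain ⟨i, hi⟩ := IsPGroup.iff_orderOf.1 hR ⟨z, hz⟩
      rw [Subgroup.orderOf_mk] at hi
      have hji : j ≤ i := by
        by_contra h0
        exact hzo (hi ▸ pow_dvd_pow p (by omega))
      have hz' : orderOf (z ^ p ^ (i - j)) = p ^ j := by
        rw [orderOf_pow_of_dvd (pow_ne_zero _ hp.out.ne_zero) (hi ▸ pow_dvd_pow p (Nat.sub_le i j)), hi,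
          Nat.pow_div (Nat.sub_le i j) hp.out.pos]
        congr 1
        omega
      have hle : zpowers (z ^ p ^ (i - j)) ≤ R₀ := by
        rw [zpowers_le, hR₀]
        exact subset_closure (hX ▸ ⟨pow_mem hz _, hz' ▸ pow_orderOf_eq_one _⟩)
      have heq : R₀ = zpowers (z ^ p ^ (i - j)) :=
        (eq_of_le_of_card_ge hle (by rw [Nat.card_zpowers, hz']; exact hsmall)).symm
      rw [heq] at hHR₀ ⊢
      exact centralizes_zpowers (heq ▸ hR.to_le hR₀R) hHR₀ g hg hgc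
  have hfix : ∀ a ∈ R, CfsgLib.Transfer.IsSmall p a → g * a = a * g := by
    intro a ha hs
    by_cases haX : a ^ p ^ j = 1
    · exact (mem_centralizer_iff.1 hgR₀ a (hR₀ ▸ subset_closure (hX ▸ ⟨ha, haX⟩))).symm
    rcases hs with hs | ⟨rfl, hs⟩
    · exact absurd (by rw [← orderOf_dvd_iff_pow_eq_one]
                       exact (orderOf_dvd_of_pow_eq_one hs).trans (dvd_pow_self p (by omega))) haX
    · have hj1 : j = 1 := by
        by_contra h0
        refine haX (orderOf_dvd_iff_pow_eq_one.1 ((orderOf_dvd_of_pow_eq_one hs).trans ?_))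
        exact (pow_dvd_pow 2 (show 2 ≤ j by omega) : 2 ^ 2 ∣ 2 ^ j)
      subst hj1
      have ha2 : ¬ a ^ 2 = 1 := by simpa using haX
      have ho : orderOf a = 4 := orderOf_eq_prime_pow (p := 2) (n := 1) (by simpa using ha2) hs
      have hle : zpowers a ≤ R := zpowers_le.2 ha
      have hn2 := hE (zpowers a) hle (Or.inr ⟨by norm_num, by rw [Nat.card_zpowers, ho]⟩)
      exact (mem_centralizer_iff.1 (centralizes_zpowers (hR.to_le hle) hn2 g hg hgc) a
        (mem_zpowers a)).symm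
  refine CfsgLib.Transfer.centralizes_of_small_descends hR (hH (powComm_le H hg)) hgc
    (fun i => if i = 0 then {1} else Set.univ) 1 subset_rfl (fun _ _ _ => Set.mem_univ _) ?_
  intro i a ha hs _
  cases i with
  | zero => show g * a * g⁻¹ * a⁻¹ = 1; rw [hfix a ha hs]; group
  | succ i => exact Set.mem_univ _

end CfsgLib.LocalEvenB
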