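import Cfsg.Agent.Lib.LocalEvenB.OrderDComplement
import Cfsg.Agent.Lib.PGroups.IrredAction
import Cfsg.Agent.Lib.Core.MinNormal
import Cfsg.Agent.Lib.Core.Basic
import Cfsg.Agent.Lib.SolvStruct.Supersolvable

/-!
# Supersolvability from strongly closed subgroups of one order
-/

set_option autoImplicit false
set_option linter.all false

universe u

namespace CfsgLib.LocalEvenB

open Subgroup Cfsg
open scoped commutatorElement IsMulCommutative

variable {G : Type u} [Group G] [Finite G]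

theorem powComm_normal {p : ℕ} : (powComm p (⊤ : Subgroup G)).Normal := by
  refine ⟨fun k hk g => ?_⟩
  have h1 : ⁅g, k⁆ ∈ powComm p (⊤ : Subgroup G) :=
    mem_sup_left (commutator_mem_commutator (mem_top g) (mem_top k))
  simpa [commutatorElement_def] using mul_mem h1 hk

/-- `G'G^(p-1)` acts on `P` as a `p`-group. -/
def PowCommPrimeCentral (p : ℕ) (P : Subgroup G) : Prop :=
  ∀ g ∈ powComm p (⊤ : Subgroup G), Nat.Coprime (orderOf g) p → g ∈ centralizer (P : Set G)

theorem powCommPrimeCentral_of_orderDClosed {p : ℕ} [hp : Fact p.Prime] {P : Subgroup G}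
    [hPn : P.Normal] (hP : IsPGroup p P) (h : OrderDClosed p P) : PowCommPrimeCentral p P := by
  have htop : (⊤ : Subgroup G) ≤ normalizer (P : Set G) := (normalizer_eq_top_iff.2 hPn).ge
  rcases h with hcyc | ⟨j, hj, hlt, hsc⟩
  · obtain ⟨z, hz⟩ := (Subgroup.isCyclic_iff_exists_zpowers_eq_top (H := P)).1 hcyc
    rw [← hz] at htop hP ⊢
    exact centralizes_zpowers hP htop
  · exact centralizes_of_orderD hj _ P rfl hP hlt htop fun E hEP hE =>
      OrderDClosed.conj_mem hsc le_rfl htop hEP hE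

/-- A chief factor inside a subgroup on which `G'G^(p-1)` acts as a `p`-group is cyclic. -/
theorem isCyclic_of_powCommPrimeCentral {p : ℕ} [hp : Fact p.Prime] {P N : Subgroup G}
    (hP : IsPGroup p P) (hc : PowCommPrimeCentral p P) [hN : N.Normal] (hN1 : N ≠ ⊥) (hNP : N ≤ P)
    (hmin : ∀ M : Subgroup G, M.Normal → M ≤ N → M = ⊥ ∨ M = N) : IsCyclic N := by
  obtain ⟨K, hK⟩ : ∃ K, K = powComm p (⊤ : Subgroup G) := ⟨_, rfl⟩
  haveI hKn : K.Normal := hK ▸ powComm_normal
  haveI hNnil : Group.IsNilpotent N := (hP.to_le hNP).isNilpotent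
  -- a nontrivial common fixed point
  obtain ⟨T⟩ : Nonempty (Sylow p K) := inferInstance
  obtain ⟨S, hS⟩ := (T.2.map K.subtype).exists_le_sylow
  have hNS : N ≤ (S : Subgroup G) := (hP.to_le hNP).le_sylow_of_normal S
  haveI : (N.subgroupOf (S : Subgroup G)).Normal := hN.comap _
  obtain ⟨v, ⟨hvN, hvZ⟩, hv1⟩ := (Subgroup.bot_or_exists_ne_one _).resolve_left
    (CfsgLib.PGroups.inf_center_ne_bot S.2 (N := N.subgroupOf (S : Subgroup G)) (fun h0 => hN1 (by
      rw [subgroupOf_eq_bot] at h0; exact disjoint_self.1 (h0.mono_right hNS))))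
  have hvK : ∀ k ∈ K, k * (v : G) = v * k := by
    intro k hk
    obtain ⟨t, ht, r, hr, he⟩ := CfsgLib.Transfer.exists_mul_mem_pResidual T ⟨k, hk⟩
    have h1 : (t : G) * v = v * t :=
      congrArg Subtype.val (mem_center_iff.1 hvZ ⟨(t : G), hS (mem_map_of_mem _ ht)⟩)
    have h2 : (r : G) * v = v * r := by
      have hle : Cfsg.pResidual p K ≤ (centralizer {(v : G)}).subgroupOf K :=
        CfsgLib.Transfer.pResidual_le_iff.2 fun w hw => mem_subgroupOf.2
          (mem_centralizer_singleton_iff.2 (mem_centralizer_iff.1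
            (hc (w : G) (hK ▸ w.2) (by rwa [Subgroup.orderOf_coe])) v (hNP hvN)).symm)
      exact mem_centralizer_singleton_iff.1 (mem_subgroupOf.1 (hle hr))
    rw [show k = (t : G) * r from congrArg Subtype.val he, mul_assoc, h2, ← mul_assoc, h1, mul_assoc]
  have hNK : ∀ w ∈ N, ∀ k ∈ K, k * w = w * k := by
    rcases hmin (N ⊓ centralizer (K : Set G)) inferInstance inf_le_left with h0 | h0
    · have : (v : G) ∈ N ⊓ centralizer (K : Set G) := ⟨hvN, mem_centralizer_iff.2 hvK⟩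
      rw [h0, mem_bot] at this
      exact absurd (Subtype.ext this) hv1
    · intro w hw k hk
      exact mem_centralizer_iff.1 (h0.ge hw).2 k hk
  haveI : Group.IsSolvable N := inferInstance
  have hcom : IsMulCommutative N := by
    rw [CfsgLib.Core.isMulCommutative_iff_commutator_eq_bot]
    rcases hmin ⁅N, N⁆ inferInstance (Subgroup.commutator_le_self N) with h0 | h0
    · exact h0
    · exfalso
      haveI : Nontrivial N := (Subgroup.nontrivial_iff_ne_bot N).2 hN1
      refine (Group.IsSolvable.commutator_lt_top_of_nontrivial (G := N)).ne ?_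
      apply (Subgroup.map_injective N.subtype_injective)
      rw [map_subtype_commutator, h0, ← MonoidHom.range_eq_map, range_subtype]
  have hexp : ∀ w ∈ N, w ^ p = 1 := by
    obtain ⟨r, hr, hrp⟩ := CfsgLib.Core.exists_prime_pow_eq_one_of_minimal_normal N hcom hN1 hmin
    have hrp' : r = p := by
      obtain ⟨w, hw, hw1⟩ := (Subgroup.bot_or_exists_ne_one _).resolve_left hN1
      haveI := Fact.mk hr
      obtain ⟨i, hi⟩ := IsPGroup.iff_orderOf.1 hP ⟨w, hNP hw⟩
      rw [Subgroup.orderOf_mk, orderOf_eq_prime (hrp w hw) hw1] at hi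
      exact (Nat.prime_dvd_prime_iff_eq hr hp.out).1 (hr.dvd_of_dvd_pow hi.dvd)
    exact hrp' ▸ hrp
  -- the action generates a field of order `p`
  haveI := hcom
  let ρ : G → AddMonoid.End (Additive N) := fun g => MonoidHom.toAdditive
    (MulEquiv.toMonoidHom (MulAut.conjNormal g : MulAut N))
  have hρ : ∀ g (w : N), ((Additive.toMul (ρ g (Additive.ofMul w)) : N) : G) = g * w * g⁻¹ := fun g w => rfl
  have hρK : ∀ k ∈ K, ∀ g, ρ (g * k) = ρ g := by
    intro k hk g
    refine DFunLike.ext _ _ fun w => ?_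
    obtain ⟨w, rfl⟩ := Additive.ofMul.surjective w
    refine Additive.toMul.injective (Subtype.ext ?_)
    rw [hρ, hρ]
    calc g * k * (w : G) * (g * k)⁻¹ = g * (k * (w : G)) * k⁻¹ * g⁻¹ := by group
      _ = g * ((w : G) * k) * k⁻¹ * g⁻¹ := by rw [hNK _ w.2 k hk]
      _ = g * w * g⁻¹ := by group
  have hρmul : ∀ a b, ρ (a * b) = ρ a * ρ b := by
    intro a b
    refine DFunLike.ext _ _ fun w => ?_
    obtain ⟨w, rfl⟩ := Additive.ofMul.surjective w
    refine Additive.toMul.injective (Subtype.ext ?_)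
    rw [hρ]
    show a * b * (w : G) * (a * b)⁻¹ = a * (b * (w : G) * b⁻¹) * a⁻¹
    group
  have hρcomm : ∀ a b, ρ a * ρ b = ρ b * ρ a := by
    intro a b
    rw [← hρmul, ← hρmul, show a * b = b * a * ⁅a⁻¹, b⁻¹⁆ by simp [commutatorElement_def, mul_assoc],
      hρK _ (hK ▸ mem_sup_left (commutator_mem_commutator (mem_top _) (mem_top _)))]
  have hρpow : ∀ a, ρ a ^ p = ρ a := by
    intro a
    have h1 : ∀ n : ℕ, ρ (a ^ (n + 1)) = ρ a ^ (n + 1) := by
      intro n
      induction n with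
      | zero => rw [pow_one, pow_one]
      | succ n ih => rw [pow_succ, hρmul, ih, ← pow_succ]
    have h2 := hρK (a ^ (p - 1)) (hK ▸ mem_sup_right (subset_closure ⟨a, mem_top a, rfl⟩)) a
    obtain ⟨m, hm⟩ : ∃ m, p = m + 1 := ⟨p - 1, by have := hp.out.pos; omega⟩
    rw [hm, ← h1 m, pow_succ', show m = p - 1 by omega, h2]
  obtain ⟨R, hR⟩ : ∃ R, R = Subring.closure (Set.range ρ) := ⟨_, rfl⟩
  have hRcomm : ∀ r ∈ R, ∀ s ∈ R, r * s = s * r := by
    have h1 : Set.range ρ ⊆ Subring.centralizer (Set.range ρ) := by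
      rintro _ ⟨a, rfl⟩ _ ⟨b, rfl⟩
      exact hρcomm b a
    have h2 : R ≤ Subring.centralizer (Set.range ρ) := hR ▸ Subring.closure_le.2 h1
    have h3 : Set.range ρ ⊆ Subring.centralizer (R : Set (AddMonoid.End (Additive N))) := by
      rintro _ ⟨a, rfl⟩ s hs
      exact (h2 hs _ ⟨a, rfl⟩).symm
    intro r hr s hs
    have h4 := Subring.closure_le.2 h3
    rw [← hR] at h4
    exact h4 hs r hr
  letI : CommRing R := { (inferInstance : Ring R) with mul_comm := fun r s => Subtype.ext (hRcomm r r.2 s s.2) }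
  obtain ⟨v₀, hv₀⟩ : ∃ v₀ : Additive N, v₀ ≠ 0 := by
    obtain ⟨w, hw, hw1⟩ := (Subgroup.bot_or_exists_ne_one _).resolve_left hN1
    exact ⟨Additive.ofMul ⟨w, hw⟩, fun h0 => hw1 (congrArg Subtype.val (Additive.ofMul.injective h0))⟩
  haveI : Finite (AddMonoid.End (Additive N)) :=
    Finite.of_injective (fun f : AddMonoid.End (Additive N) => (f : Additive N → Additive N)) DFunLike.coe_injective
  have hinv : ∀ B : AddSubgroup (Additive N), (∀ g, ∀ b ∈ B, ρ g b ∈ B) → B = ⊥ ∨ B = ⊤ := by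
    intro B hB
    obtain ⟨M, hM⟩ : ∃ M, M = (AddSubgroup.toSubgroup' B).map N.subtype := ⟨_, rfl⟩
    have hMn : M.Normal := by
      refine hM ▸ ⟨fun x hx g => ?_⟩
      obtain ⟨w, hw, rfl⟩ := hx
      exact ⟨Additive.toMul (ρ g (Additive.ofMul w)), hB g _ hw, hρ g w⟩
    rcases hmin M hMn (hM ▸ map_subtype_le _) with h0 | h0
    · refine Or.inl (eq_bot_iff.2 fun b hb => ?_)
      have h1 : ((Additive.toMul b : N) : G) ∈ M := hM ▸ mem_map_of_mem _ hb
      rw [h0, mem_bot] at h1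
      exact AddSubgroup.mem_bot.2 (Additive.toMul.injective (Subtype.ext h1))
    · refine Or.inr (eq_top_iff.2 fun b _ => ?_)
      obtain ⟨w, hw, he⟩ := (hM ▸ h0.ge (Additive.toMul b : N).2 :
        ((Additive.toMul b : N) : G) ∈ (AddSubgroup.toSubgroup' B).map N.subtype)
      rw [Subtype.ext he] at hw
      exact hw
  have hker : ∀ r : R, r ≠ 0 → ∀ b, (r : AddMonoid.End (Additive N)) b = 0 → b = 0 := by
    intro r hr
    rcases hinv (AddMonoidHom.ker (r : AddMonoid.End (Additive N))) (fun g b hb => by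
        show (r : AddMonoid.End (Additive N)) (ρ g b) = 0
        have h1 := DFunLike.congr_fun
          (hRcomm r r.2 (ρ g) (hR ▸ Subring.subset_closure ⟨g, rfl⟩)) b
        rw [AddMonoid.End.coe_mul, AddMonoid.End.coe_mul] at h1
        simp only [Function.comp_apply] at h1
        rw [h1, show (r : AddMonoid.End (Additive N)) b = 0 from hb, map_zero]) with h0 | h0
    · intro b hb
      exact AddSubgroup.mem_bot.1 (h0.le hb)
    · exact absurd (Subtype.ext (DFunLike.ext _ _ fun b => AddMonoidHom.mem_ker.1 (h0.ge (AddSubgroup.mem_top b)))) hr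
  haveI : Nontrivial R := ⟨⟨1, 0, fun h0 => hv₀ (DFunLike.congr_fun (congrArg Subtype.val h0) v₀)⟩⟩
  haveI : NoZeroDivisors R := ⟨fun {a b} hab => by
    by_contra h0
    push Not at h0
    refine hv₀ (hker b h0.2 v₀ (hker a h0.1 _ ?_))
    exact DFunLike.congr_fun (congrArg Subtype.val hab) v₀⟩
  haveI : IsDomain R := NoZeroDivisors.to_isDomain R
  have hpR : (p : R) = 0 := by
    refine Subtype.ext (DFunLike.ext _ _ fun b => ?_)
    obtain ⟨w, rfl⟩ := Additive.ofMul.surjective b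
    rw [Subring.coe_natCast, AddMonoid.End.natCast_apply, ← ofMul_pow,
      show w ^ p = 1 from Subtype.ext (hexp w w.2), ofMul_one]
    rfl
  haveI : CharP R p := (CharP.charP_iff_prime_eq_zero hp.out).2 hpR
  have hpow : ∀ r : R, r ^ p = r := by
    intro r
    have hle : R ≤ (RingHom.eqLocus (frobenius R p) (RingHom.id R)).map R.subtype := by
      conv_lhs => rw [hR]
      refine Subring.closure_le.2 ?_
      rintro _ ⟨a, rfl⟩
      exact ⟨⟨ρ a, hR ▸ Subring.subset_closure ⟨a, rfl⟩⟩, Subtype.ext (by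
        show ((⟨ρ a, _⟩ : R) ^ p : R).1 = ρ a
        rw [SubmonoidClass.coe_pow]; exact hρpow a), rfl⟩
    obtain ⟨r', hr', he⟩ := hle r.2
    rw [← (Subtype.ext he : r' = r)]
    exact hr'
  have hcardR := CfsgLib.PGroups.IrredAction.card_le_of_forall_pow_eq hp.out.one_lt hpow
  let ev : R →+ Additive N :=
    { toFun := fun r => (r : AddMonoid.End (Additive N)) v₀
      map_zero' := rfl
      map_add' := fun _ _ => rfl }
  have hev : ev.range = ⊤ := by
    refine (hinv ev.range fun g b hb => ?_).resolve_left fun h0 => hv₀ ?_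
    · obtain ⟨r, rfl⟩ := hb
      exact ⟨⟨ρ g, hR ▸ Subring.subset_closure ⟨g, rfl⟩⟩ * r, rfl⟩
    · exact AddSubgroup.mem_bot.1 (h0.le ⟨1, rfl⟩)
  have hle : Nat.card N ≤ p := by
    refine le_trans ?_ hcardR
    rw [← Nat.card_congr (Additive.ofMul : N ≃ Additive N).symm]
    exact Nat.card_le_card_of_surjective ev (AddMonoidHom.range_eq_top.1 hev)
  obtain ⟨i, hi⟩ := IsPGroup.iff_card.1 (hP.to_le hNP)
  have hi1 : i ≠ 0 := fun h0 => hN1 (card_eq_one.1 (by rw [hi, h0, pow_zero]))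
  exact isCyclic_of_prime_card (p := p) (le_antisymm hle (hi ▸ Nat.le_self_pow hi1 p))

theorem isSupersolvable_of_powCommPrimeCentral {p : ℕ} [hp : Fact p.Prime] :
    ∀ (n : ℕ) (G : Type u) [Group G] [Finite G] (P : Subgroup G) [P.Normal], Nat.card P = n →
      IsPGroup p P → PowCommPrimeCentral p P → Cfsg.IsSupersolvable (G ⧸ P) →
        Cfsg.IsSupersolvable G := by
  intro n
  induction n using Nat.strong_induction_on with
  | _ n ih =>
  intro G _ _ P _ hn hP hc hq
  by_cases hPb : P = ⊥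
  · subst hPb
    exact (CfsgLib.SolvStruct.isSupersolvable_congr QuotientGroup.quotientBot).1 hq
  obtain ⟨N, hNn, hN1, hNP, hmin⟩ := CfsgLib.Core.exists_minimal_normal_le' P hPb
  haveI := hNn
  haveI := isCyclic_of_powCommPrimeCentral hP hc hN1 hNP hmin
  refine CfsgLib.SolvStruct.isSupersolvable_of_quotient_cyclic N ?_
  obtain ⟨π, hπ⟩ : ∃ π, π = QuotientGroup.mk' N := ⟨_, rfl⟩
  have hπs : Function.Surjective π := hπ ▸ QuotientGroup.mk'_surjective N
  refine ih _ ?_ (G ⧸ N) (P.map (QuotientGroup.mk' N)) rfl (hP.map _) ?_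
    ((CfsgLib.SolvStruct.isSupersolvable_congr (QuotientGroup.quotientQuotientEquivQuotient N P hNP)).2 hq)
  · rw [← hn]
    refine lt_of_le_of_ne (Nat.le_of_dvd Nat.card_pos (card_map_dvd P _)) fun h0 => hN1 ?_
    rw [eq_bot_iff]
    intro w hw
    have hinj : Function.Bijective ((QuotientGroup.mk' N).subgroupMap P) :=
      (Nat.bijective_iff_surjective_and_card _).2 ⟨MonoidHom.subgroupMap_surjective _ _, h0.symm⟩
    have := @hinj.1 ⟨w, hNP hw⟩ 1 (Subtype.ext (by
      show QuotientGroup.mk' N w = QuotientGroup.mk' N 1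
      rw [map_one]; exact (QuotientGroup.eq_one_iff w).2 hw))
    exact mem_bot.2 (congrArg Subtype.val this)
  intro g hg hgc
  rw [← hπ]
  have hmap : powComm p (⊤ : Subgroup (G ⧸ N)) ≤ (powComm p (⊤ : Subgroup G)).map π := by
    refine sup_le ?_ ((closure_le _).2 ?_)
    · rw [← map_top_of_surjective π hπs, ← map_commutator]
      exact map_mono le_sup_left
    · rintro _ ⟨x, -, rfl⟩
      obtain ⟨a, rfl⟩ := hπs x
      exact ⟨a ^ (p - 1), mem_sup_right (subset_closure ⟨a, mem_top a, rfl⟩), map_pow _ _ _⟩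
  obtain ⟨g₀, hg₀, rfl⟩ := hmap hg
  obtain ⟨a, m, hm, ham⟩ := Nat.exists_eq_pow_mul_and_not_dvd (orderOf_pos g₀).ne' p hp.out.ne_one
  obtain ⟨i, hi⟩ := exists_pow_eq_self_of_coprime (x := π g₀) (n := p ^ a) (hgc.pow_right a).symm
  rw [mem_centralizer_iff]
  rintro _ ⟨x, hx, rfl⟩
  rw [← hi, ← map_pow, ← map_pow]
  have h1 := hc ((g₀ ^ p ^ a) ^ i) (pow_mem (pow_mem hg₀ _) _) ?_
  · rw [← map_mul, ← map_mul, mem_centralizer_iff.1 h1 x hx]
  · refine Nat.Coprime.coprime_dvd_left (orderOf_dvd_of_pow_eq_one ?_)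
      ((hp.out.coprime_iff_not_dvd.2 hm).symm)
    rw [← pow_mul, mul_comm i m, pow_mul, ← pow_mul g₀, ← ham, pow_orderOf_eq_one, one_pow]

/-- The hypothesis on all Sylow subgroups of `E`. -/
def SylowsOrderDClosed (E : Subgroup G) : Prop :=
  ∀ (p : ℕ) [Fact p.Prime] (P : Subgroup G), P ≤ E → IsPGroup p P → ¬ p ∣ P.relIndex E → OrderDClosed p P

theorem SylowsOrderDClosed.exists_largest (q : ℕ) [hq : Fact q.Prime] :
    ∀ (n : ℕ) (M : Subgroup G), Nat.card M = n → SylowsOrderDClosed M →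
      (∀ r : ℕ, r.Prime → r ∣ Nat.card M → r ≤ q) →
      ∃ Q : Subgroup G, Q ≤ M ∧ IsPGroup q Q ∧ ¬ q ∣ Q.relIndex M ∧
        ∀ x ∈ M, IsPGroup q (zpowers x) → x ∈ Q := by
  intro n
  induction n using Nat.strong_induction_on with
  | _ n ih =>
  intro M hn hM hmax
  by_cases hM1 : Nat.card M = 1
  · exact ⟨M, le_rfl, IsPGroup.of_card (n := 0) (by simpa using hM1),
      by rw [relIndex_self]; exact hq.out.not_dvd_one, fun x hx _ => hx⟩
  obtain ⟨p, hpmem, hpmin⟩ := (Nat.card M).primeFactors.exists_min_image id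
    (Nat.nonempty_primeFactors.mpr (by have := Nat.card_pos (α := M); omega))
  haveI := Fact.mk (Nat.mem_primeFactors.mp hpmem).1
  have hmin : ∀ r : ℕ, r.Prime → r ∣ Nat.card M → p ≤ r := fun r hr hd =>
    hpmin r (Nat.mem_primeFactors.mpr ⟨hr, hd, Nat.card_pos.ne'⟩)
  by_cases hpq : p = q
  · subst hpq
    refine ⟨M, le_rfl, IsPGroup.of_card (n := (Nat.card M).factorization p) ?_,
      by rw [relIndex_self]; exact hq.out.not_dvd_one, fun x hx _ => hx⟩
    have h2 := Nat.eq_prime_pow_of_unique_prime_dvd (n := Nat.card M) (p := p) Nat.card_pos.ne'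
      (fun {r} hr hd => le_antisymm (hmax r hr hd) (hmin r hr hd))
    rw [h2, hq.out.factorization_pow, Finsupp.single_eq_same]
  obtain ⟨P⟩ : Nonempty (Sylow p M) := inferInstance
  have hcompl : Cfsg.HasNormalPComplement p M := by
    refine hasNormalPComplement_of_orderDClosed hmin P ?_
    rcases hM p ((P : Subgroup M).map M.subtype) (map_subtype_le _) (P.2.map _) (by
      rw [relIndex, subgroupOf, comap_map_eq_self_of_injective M.subtype_injective]
      exact P.not_dvd_index) with hcyc | ⟨j, hj, hlt, hsc⟩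
    · refine Or.inl ?_
      exact isCyclic_of_surjective _ ((P : Subgroup M).equivMapOfInjective _ M.subtype_injective).symm.surjective
    · refine Or.inr ⟨j, hj, by rwa [card_map_of_injective M.subtype_injective] at hlt, fun E hEP hE g x hx hgx => ?_⟩
      obtain ⟨z, hz, he⟩ := hsc (E.map M.subtype) (map_mono hEP)
        (by rwa [card_map_of_injective M.subtype_injective]) (g : G) (x : G) (mem_map_of_mem _ hx)
        (mem_map_of_mem M.subtype hgx)
      rwa [(Subtype.ext he : z = g * x * g⁻¹)] at hz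
  obtain ⟨L, hLn, hLc, hLp⟩ := CfsgLib.Transfer.hasNormalPComplement_iff_exists.mp hcompl
  haveI := hLn
  obtain ⟨L', hL'⟩ : ∃ L', L' = L.map M.subtype := ⟨_, rfl⟩
  have hL'M : L' ≤ M := hL' ▸ map_subtype_le _
  have hcard : Nat.card L' = Nat.card L := hL' ▸ card_map_of_injective M.subtype_injective
  have hidx : L'.relIndex M = L.index := by
    rw [hL', relIndex, subgroupOf, comap_map_eq_self_of_injective M.subtype_injective]
  have hlt : Nat.card L' < n := by
    rw [hcard, ← hn]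
    refine CfsgLib.Core.card_subgroup_lt L fun h0 => ?_
    rw [h0, card_top] at hLc
    exact (Nat.mem_primeFactors.mp hpmem).1.ne_one
      (Nat.eq_one_of_dvd_coprimes hLc (Nat.mem_primeFactors.mp hpmem).2.1 dvd_rfl)
  obtain ⟨k, hk⟩ := IsPGroup.iff_card.1 hLp
  rw [← index_eq_card] at hk
  have hLS : SylowsOrderDClosed L' := by
    intro r _ R hRL hR hRi
    by_cases hrp : r = p
    · subst hrp
      have hRb : R = ⊥ := by
        obtain ⟨i, hi⟩ := IsPGroup.iff_card.1 hR
        refine card_eq_one.1 (Nat.eq_one_of_dvd_coprimes ((hcard ▸ hLc : (Nat.card L').Coprime r).pow_right i)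
          (card_dvd_of_le hRL) (hi ▸ dvd_rfl))
      exact Or.inl (hRb ▸ inferInstance)
    · refine hM r R (hRL.trans hL'M) hR ?_
      rw [← relIndex_mul_relIndex R L' M hRL hL'M, hidx, hk]
      intro hd
      rcases (Fact.out : r.Prime).dvd_mul.1 hd with h | h
      · exact hRi h
      · exact hrp ((Nat.prime_dvd_prime_iff_eq (Fact.out : r.Prime) (Nat.mem_primeFactors.mp hpmem).1).1
          ((Fact.out : r.Prime).dvd_of_dvd_pow h))
  obtain ⟨Q, hQL, hQp, hQi, hQall⟩ := ih _ hlt L' rfl hLS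
    (fun r hr hd => hmax r hr (hd.trans (card_dvd_of_le hL'M)))
  refine ⟨Q, hQL.trans hL'M, hQp, ?_, fun x hx hxq => hQall x ?_ hxq⟩
  · rw [← relIndex_mul_relIndex Q L' M hQL hL'M, hidx, hk]
    intro hd
    rcases hq.out.dvd_mul.1 hd with h | h
    · exact hQi h
    · exact hpq ((Nat.prime_dvd_prime_iff_eq hq.out (Nat.mem_primeFactors.mp hpmem).1).1
        (hq.out.dvd_of_dvd_pow h)).symm
  · obtain ⟨i, hi⟩ := IsPGroup.iff_orderOf.1 hxq ⟨x, mem_zpowers x⟩
    rw [Subgroup.orderOf_mk] at hi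
    have h1 : orderOf (QuotientGroup.mk' L ⟨x, hx⟩) = 1 := by
      refine Nat.eq_one_of_dvd_coprimes
        ((Nat.coprime_primes hq.out (Nat.mem_primeFactors.mp hpmem).1).2 (Ne.symm hpq) |>.pow i k)
        ?_ ?_
      · exact (orderOf_map_dvd _ _).trans (by rw [Subgroup.orderOf_mk, hi])
      · rw [← hk, index_eq_card]; exact orderOf_dvd_natCard _
    rw [orderOf_eq_one_iff] at h1
    exact hL' ▸ mem_map_of_mem M.subtype ((QuotientGroup.eq_one_iff _).1 h1)

theorem SylowsOrderDClosed.quotient {E Q : Subgroup G} [hQn : Q.Normal] (hE : SylowsOrderDClosed E)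
    (hQE : Q ≤ E) {q : ℕ} [hq : Fact q.Prime] (hQ : IsPGroup q Q) (hQi : ¬ q ∣ Q.relIndex E) :
    SylowsOrderDClosed (E.map (QuotientGroup.mk' Q)) := by
  obtain ⟨π, hπ⟩ : ∃ π, π = QuotientGroup.mk' Q := ⟨_, rfl⟩
  have hker : π.ker = Q := hπ ▸ QuotientGroup.ker_mk' Q
  have hπs : Function.Surjective π := hπ ▸ QuotientGroup.mk'_surjective Q
  rw [← hπ]
  intro r _ Pb hPbE hPb hPbi
  obtain ⟨L, hL⟩ : ∃ L, L = Pb.comap π := ⟨_, rfl⟩
  have hQL : Q ≤ L := hL ▸ (hker.ge.trans (π.ker_le_comap Pb))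
  have hLE : L ≤ E := by
    rw [hL]
    exact (comap_mono hPbE).trans (comap_map_eq_self (hker.le.trans hQE)).le
  have hLmap : L.map π = Pb := hL ▸ map_comap_eq_self_of_surjective hπs Pb
  by_cases hrq : r = q
  · subst hrq
    have hLp : IsPGroup r L := hL ▸ hPb.comap_of_ker_isPGroup π (hker.symm ▸ hQ)
    have hLQ : L = Q := by
      refine le_antisymm (relIndex_eq_one.1 ?_) hQL
      obtain ⟨i, hi⟩ := IsPGroup.iff_card.1 hLp
      obtain ⟨a, -, ha⟩ := (Nat.dvd_prime_pow hq.out).1 (hi ▸ relIndex_dvd_card Q L : Q.relIndex L ∣ r ^ i)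
      rcases Nat.eq_zero_or_pos a with h0 | h0
      · rw [ha, h0, pow_zero]
      · exact absurd ((dvd_pow_self r h0.ne').trans (ha ▸ (dvd_mul_right _ _).trans
          (relIndex_mul_relIndex Q L E hQL hLE).dvd)) hQi
    refine Or.inl ?_
    rw [← hLmap, hLQ, (Subgroup.map_eq_bot_iff Q).2 hker.ge]
    infer_instance
  obtain ⟨S⟩ : Nonempty (Sylow r L) := inferInstance
  obtain ⟨P, hP⟩ : ∃ P, P = (S : Subgroup L).map L.subtype := ⟨_, rfl⟩
  have hPL : P ≤ L := hP ▸ map_subtype_le _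
  have hPr : IsPGroup r P := hP ▸ S.2.map _
  have hPi : ¬ r ∣ P.relIndex L := by
    rw [hP, relIndex, subgroupOf, comap_map_eq_self_of_injective L.subtype_injective]
    exact S.not_dvd_index
  have hPQ : P ⊓ Q = ⊥ := disjoint_iff.1 (IsPGroup.disjoint_of_ne r q hrq P Q hPr hQ)
  have hinj : Set.InjOn π P := by
    intro a ha b hb hab
    have h2 : a⁻¹ * b ∈ π.ker := by rw [MonoidHom.mem_ker, map_mul, map_inv, hab, inv_mul_cancel]
    have : a⁻¹ * b ∈ P ⊓ Q := mem_inf.2 ⟨P.mul_mem (P.inv_mem ha) hb, hker ▸ h2⟩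
    rw [hPQ, mem_bot, inv_mul_eq_one] at this
    exact this
  have hPmap : P.map π = Pb := by
    refine le_antisymm (hLmap ▸ map_mono hPL) (relIndex_eq_one.1 ?_)
    obtain ⟨i, hi⟩ := IsPGroup.iff_card.1 hPb
    obtain ⟨a, -, ha⟩ := (Nat.dvd_prime_pow (Fact.out : r.Prime)).1
      (hi ▸ relIndex_dvd_card (P.map π) Pb : (P.map π).relIndex Pb ∣ r ^ i)
    rcases Nat.eq_zero_or_pos a with h0 | h0
    · rw [ha, h0, pow_zero]
    · exact absurd ((dvd_pow_self r h0.ne').trans (by
        rw [← ha, ← hLmap, relIndex_map_map, hker, sup_eq_left.2 hQL]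
        exact relIndex_dvd_of_le_left L le_sup_left)) hPi
  have hPE : ¬ r ∣ P.relIndex E := by
    rw [← relIndex_mul_relIndex P L E hPL hLE]
    intro hd
    rcases (Fact.out : r.Prime).dvd_mul.1 hd with h | h
    · exact hPi h
    · refine hPbi ?_
      rwa [hL, ← comap_map_eq_self (hker.le.trans hQE), relIndex_comap,
        map_comap_eq_self_of_surjective hπs] at h
  have hcardF : ∀ F : Subgroup G, F ≤ P → Nat.card (F.map π) = Nat.card F := fun F hF =>
    Nat.card_congr (Equiv.Set.imageOfInjOn π (F : Set G) (hinj.mono hF)).symm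
  rcases hE r P (hPL.trans hLE) hPr hPE with hcyc | ⟨j, hj, hlt, hsc⟩
  · exact Or.inl (hPmap ▸ isCyclic_of_surjective _ (π.subgroupMap_surjective P))
  refine Or.inr ⟨j, hj, by rwa [← hPmap, hcardF P le_rfl], fun Eb hEb hEc gb xb hxb hgx => ?_⟩
  obtain ⟨F, hF⟩ : ∃ F, F = P ⊓ Eb.comap π := ⟨_, rfl⟩
  have hFP : F ≤ P := hF ▸ inf_le_left
  have hFmap : F.map π = Eb := by
    refine le_antisymm ?_ fun y hy => ?_
    · rintro _ ⟨y, hy, rfl⟩
      exact (hF ▸ hy : y ∈ P ⊓ Eb.comap π).2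
    · obtain ⟨z, hz, rfl⟩ := (hPmap.ge (hEb hy))
      exact ⟨z, hF ▸ ⟨hz, hy⟩, rfl⟩
  have hFc : Nat.card F = r ^ j ∨ (r ^ j = 2 ∧ Nat.card F = 4) := by
    rwa [← hFmap, hcardF F hFP] at hEc
  obtain ⟨x, hx, rfl⟩ := hFmap.ge hxb
  obtain ⟨g, rfl⟩ := hπs gb
  rw [← map_inv, ← map_mul, ← map_mul] at hgx ⊢
  have hyL : g * x * g⁻¹ ∈ L := hL ▸ hgx
  have hyp : IsPGroup r (zpowers (⟨g * x * g⁻¹, hyL⟩ : L)) := by
    obtain ⟨i, hi⟩ := IsPGroup.iff_orderOf.1 hPr ⟨x, hFP hx⟩
    rw [Subgroup.orderOf_mk] at hi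
    refine IsPGroup.of_card (n := i) ?_
    rw [Nat.card_zpowers, Subgroup.orderOf_mk, ← hi]
    exact orderOf_injective (MulAut.conj g).toMonoidHom (MulEquiv.injective _) x
  obtain ⟨S', hS'⟩ := hyp.exists_le_sylow
  obtain ⟨u, hu⟩ := MulAction.exists_smul_eq L S' S
  have huy : (u : G) * (g * x * g⁻¹) * (u : G)⁻¹ ∈ P := by
    have h1 : u * (⟨g * x * g⁻¹, hyL⟩ : L) * u⁻¹ ∈ (S : Subgroup L) := by
      rw [← hu, Sylow.coe_subgroup_smul]
      exact ⟨_, hS' (mem_zpowers _), rfl⟩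
    exact hP ▸ mem_map_of_mem L.subtype h1
  obtain ⟨a, ha, b, hb, hab⟩ : ∃ a ∈ P, ∃ b ∈ Q, a * b = (u : G) := by
    have h1 : (u : G) ∈ P ⊔ Q := by
      have h2 : π (u : G) ∈ P.map π := hPmap ▸ hLmap ▸ mem_map_of_mem π u.2
      have h3 : (u : G) ∈ (P.map π).comap π := h2
      rwa [comap_map_eq, hker] at h3
    exact mem_sup_of_normal_right.1 h1
  have hby : (b * g) * x * (b * g)⁻¹ ∈ P := by
    have := mul_mem (mul_mem (inv_mem ha) huy) ha
    rw [← hab] at this
    convert this using 1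
    group
  have hbF := hsc F hFP hFc (b * g) x hx hby
  refine hFmap ▸ ⟨_, hbF, ?_⟩
  have hb1 : π b = 1 := by rw [← MonoidHom.mem_ker, hker]; exact hb
  simp [hb1]

/-- **Supersolvability** from strongly closed subgroups of intermediate order. -/
theorem isSupersolvable_of_sylowsOrderDClosed :
    ∀ (n : ℕ) (G : Type u) [Group G] [Finite G] (E : Subgroup G) [E.Normal], Nat.card E = n →
      SylowsOrderDClosed E → Cfsg.IsSupersolvable (G ⧸ E) → Cfsg.IsSupersolvable G := by
  intro n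
  induction n using Nat.strong_induction_on with
  | _ n ih =>
  intro G _ _ E hEn hn hE hq
  by_cases hEb : E = ⊥
  · subst hEb
    exact (CfsgLib.SolvStruct.isSupersolvable_congr QuotientGroup.quotientBot).1 hq
  have hne : (Nat.card E).primeFactors.Nonempty := Nat.nonempty_primeFactors.mpr (by
    have := Nat.card_pos (α := E); have := mt card_eq_one.1 hEb; omega)
  obtain ⟨q, hqmem, hqmax⟩ := (Nat.card E).primeFactors.exists_max_image id hne
  haveI := Fact.mk (Nat.mem_primeFactors.mp hqmem).1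
  obtain ⟨Q, hQE, hQp, hQi, hQall⟩ := SylowsOrderDClosed.exists_largest q _ E rfl hE
    (fun r hr hd => hqmax r (Nat.mem_primeFactors.mpr ⟨hr, hd, Nat.card_pos.ne'⟩))
  haveI hQn : Q.Normal := ⟨fun x hx g => hQall _ (hEn.conj_mem x (hQE hx) g) (by
    obtain ⟨i, hi⟩ := IsPGroup.iff_orderOf.1 hQp ⟨x, hx⟩
    rw [Subgroup.orderOf_mk] at hi
    refine IsPGroup.of_card (n := i) ?_
    rw [Nat.card_zpowers, ← hi]
    exact orderOf_injective (MulAut.conj g).toMonoidHom (MulEquiv.injective _) x)⟩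
  refine isSupersolvable_of_powCommPrimeCentral _ G Q rfl hQp
    (powCommPrimeCentral_of_orderDClosed hQp (hE q Q hQE hQp hQi)) ?_
  haveI : (E.map (QuotientGroup.mk' Q)).Normal := hEn.map _ (QuotientGroup.mk'_surjective Q)
  refine ih _ ?_ (G ⧸ Q) (E.map (QuotientGroup.mk' Q)) rfl (hE.quotient hQE hQp hQi)
    ((CfsgLib.SolvStruct.isSupersolvable_congr (QuotientGroup.quotientQuotientEquivQuotient Q E hQE)).2 hq)
  rw [← hn]
  refine lt_of_le_of_ne (Nat.le_of_dvd Nat.card_pos (card_map_dvd E _)) fun h0 => ?_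
  have hinj : Function.Bijective ((QuotientGroup.mk' Q).subgroupMap E) :=
    (Nat.bijective_iff_surjective_and_card _).2 ⟨MonoidHom.subgroupMap_surjective _ _, h0.symm⟩
  have hQb : Q = ⊥ := by
    rw [eq_bot_iff]
    intro w hw
    have := @hinj.1 ⟨w, hQE hw⟩ 1 (Subtype.ext (by
      show QuotientGroup.mk' Q w = QuotientGroup.mk' Q 1
      rw [map_one]; exact (QuotientGroup.eq_one_iff w).2 hw))
    exact mem_bot.2 (congrArg Subtype.val this)
  refine hQi ?_
  rw [hQb, relIndex_bot_left]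
  exact (Nat.mem_primeFactors.mp hqmem).2.1

end CfsgLib.LocalEvenB
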