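import Cfsg.Agent.Lib.Core.Basic
import Cfsg.Agent.Lib.Core.Cores
import Cfsg.Agent.Lib.Core.MinNormal
import Cfsg.Agent.Lib.Components.FStar
import Cfsg.Agent.Lib.Components.Radicals
import Cfsg.Agent.Lib.PGroups.Basic
import Cfsg.Prelude.Def_SubgroupEmbedding

/-!
# A minimal counterexample for the Sidki pair condition
-/

set_option autoImplicit false
set_option linter.all false

universe u

namespace CfsgLib.LocalEvenB

open Subgroup Cfsg
open scoped commutatorElement IsMulCommutative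

variable {G : Type u} [Group G] [Finite G]

theorem eq_one_of_sq_of_odd {a : G} (h2 : a ^ 2 = 1) (ho : Odd (orderOf a)) : a = 1 := by
  rcases (Nat.dvd_prime Nat.prime_two).1 (orderOf_dvd_of_pow_eq_one h2) with h | h
  · exact orderOf_eq_one_iff.1 h
  · rw [h] at ho; exact absurd ho (by decide)

theorem odd_orderOf_mem {A : Subgroup G} (hA : Odd (Nat.card A)) {a : G} (ha : a ∈ A) : Odd (orderOf a) := by
  refine hA.of_dvd_nat ?_
  rw [← Subgroup.orderOf_mk _ ha]
  exact orderOf_dvd_natCard _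

/-- The hypotheses of the minimal counterexample. -/
structure SidkiMinimal (V : Subgroup G) : Prop where
  el : IsElementaryAbelian 2 V
  ne : V ≠ ⊥
  sidki : IsSidkiPair V
  inf : V ⊓ pCore 2 G = ⊥
  hmin : ∀ (H : Type u) [Group H] [Finite H] (W : Subgroup H), Nat.card H < Nat.card G →
    IsElementaryAbelian 2 W → W ≠ ⊥ → IsSidkiPair W → W ⊓ pCore 2 H ≠ ⊥

/-- The Sidki condition passes to a quotient meeting `V` trivially. -/
theorem sidki_map {V : Subgroup G} (hV : IsElementaryAbelian 2 V) (hS : IsSidkiPair V) (N : Subgroup G) [N.Normal]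
    (hVN : V ⊓ N = ⊥) : IsSidkiPair (V.map (QuotientGroup.mk' N)) := by
  rintro hb _ ⟨v, hv, rfl⟩ hodd hinv
  obtain ⟨g, rfl⟩ := QuotientGroup.mk'_surjective N hb
  obtain ⟨π, hπ⟩ : ∃ π, π = QuotientGroup.mk' N := ⟨_, rfl⟩
  rw [← hπ] at hodd hinv ⊢
  have hv2 : v⁻¹ = v := inv_eq_of_mul_eq_one_left (by rw [← pow_two]; exact hV.2 v hv)
  obtain ⟨q, hq⟩ : ∃ q, q = v * (g * v * g⁻¹) := ⟨_, rfl⟩
  have hqinv : v * q * v⁻¹ = q⁻¹ := by
    rw [hq, mul_inv_rev, mul_inv_rev, mul_inv_rev, inv_inv, hv2]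
    simp only [mul_assoc]
    rw [← mul_assoc v v, ← pow_two, hV.2 v hv, one_mul]
  have hπq : π q = (π g) ^ (-2 : ℤ) := by
    rw [hq]
    calc π (v * (g * v * g⁻¹)) = (π v * π g * (π v)⁻¹) * (π g)⁻¹ := by
          rw [map_mul, map_mul, map_mul, map_inv, ← map_inv π v, hv2]
          simp only [mul_assoc]
      _ = (π g) ^ (-2 : ℤ) := by rw [hinv]; group
  obtain ⟨a, r, hr, har⟩ := Nat.exists_eq_two_pow_mul_odd (orderOf_pos q).ne'
  obtain ⟨w, hw, hw1, hwc⟩ := hS (q ^ 2 ^ a) v hv (hr.of_dvd_nat (orderOf_dvd_of_pow_eq_one (by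
    rw [← pow_mul, ← har, pow_orderOf_eq_one]))) (by rw [← conj_pow, hqinv, inv_pow])
  refine ⟨π w, mem_map_of_mem _ hw, fun h => hw1 ?_, ?_⟩
  · have : w ∈ V ⊓ N := ⟨hw, (QuotientGroup.eq_one_iff w).1 (by rw [hπ] at h; exact h)⟩
    rwa [hVN, mem_bot] at this
  -- `π g` is a power of the image of `q ^ 2 ^ a`
  have hcop : (2 ^ (a + 1) : ℕ).Coprime (orderOf (π g)) := (Nat.coprime_two_left.2 hodd).pow_left _
  have h1 : π (q ^ 2 ^ a) = ((π g) ^ (2 ^ (a + 1) : ℕ))⁻¹ := by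
    rw [map_pow, hπq, ← zpow_natCast, ← zpow_mul, ← zpow_natCast (π g), ← zpow_neg]
    congr 1
    push_cast
    ring
  have h2 : Commute (π w) ((π g) ^ (2 ^ (a + 1) : ℕ)) := by
    rw [← Commute.inv_right_iff, ← h1]
    exact (show Commute w (q ^ 2 ^ a) from hwc).map π
  obtain ⟨k, hk⟩ := exists_pow_eq_self_of_coprime hcop
  rw [← hk]
  exact (h2.pow_right k).eq

namespace SidkiMinimal

variable {V : Subgroup G}

theorem inv_eq (h : SidkiMinimal V) {v : G} (hv : v ∈ V) : v⁻¹ = v :=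
  inv_eq_of_mul_eq_one_left (by rw [← pow_two]; exact h.el.2 v hv)

theorem comm (h : SidkiMinimal V) {v w : G} (hv : v ∈ V) (hw : w ∈ V) : v * w = w * v :=
  congrArg Subtype.val (h.el.1.is_comm.comm ⟨v, hv⟩ ⟨w, hw⟩)

/-- Minimality applied to a proper subgroup. -/
theorem not_sidki (h : SidkiMinimal V) {H W : Subgroup G} (hH : H ≠ ⊤) (hWH : W ≤ H) (hWV : W ≤ V) (hW : W ≠ ⊥)
    (hint : ∀ w (hwH : w ∈ H), w ∈ W → (⟨w, hwH⟩ : ↥H) ∈ pCore 2 ↥H → w = 1) :
    ∃ h₁ ∈ H, ∃ v ∈ W, Odd (orderOf h₁) ∧ v * h₁ * v⁻¹ = h₁⁻¹ ∧ ∀ w ∈ W, w * h₁ = h₁ * w → w = 1 := by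
  by_contra hno
  push Not at hno
  refine h.hmin ↥H (W.subgroupOf H) (CfsgLib.Core.card_subgroup_lt H hH) ⟨?_, ?_⟩ ?_ ?_ ?_
  · exact ⟨⟨fun a b => Subtype.ext (Subtype.ext (h.comm (hWV a.2) (hWV b.2)))⟩⟩
  · exact fun a ha => Subtype.ext (by rw [Subgroup.coe_pow]; exact h.el.2 _ (hWV ha))
  · rw [Ne, subgroupOf_eq_bot, disjoint_iff, inf_eq_left.2 hWH]
    exact hW
  · rintro ⟨x, hx⟩ ⟨v, hv'⟩ hv ho hinv
    obtain ⟨w, hw, hwc, hw1⟩ := hno x hx v hv (by rwa [Subgroup.orderOf_mk] at ho) (congrArg Subtype.val hinv)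
    exact ⟨⟨w, hWH hw⟩, hw, fun e => hw1 (congrArg Subtype.val e), Subtype.ext hwc⟩
  · rw [eq_bot_iff]
    rintro ⟨w, hwH⟩ ⟨hw1, hw2⟩
    exact mem_bot.2 (Subtype.ext (hint w hwH hw1 hw2))

/-- The whole of `V` in a proper subgroup is impossible when its `O_2` meets `V` trivially. -/
theorem false_of_le (h : SidkiMinimal V) {H : Subgroup G} (hH : H ≠ ⊤) (hVH : V ≤ H)
    (hint : ∀ w (hwH : w ∈ H), w ∈ V → (⟨w, hwH⟩ : ↥H) ∈ pCore 2 ↥H → w = 1) : False := by
  obtain ⟨x, -, v, hv, ho, hinv, hno⟩ := h.not_sidki hH hVH le_rfl h.ne hint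
  obtain ⟨w, hw, hw1, hwc⟩ := h.sidki x v hv ho hinv
  exact hw1 (hno w hw hwc)

theorem pCore_eq_bot (h : SidkiMinimal V) : pCore 2 G = ⊥ := by
  by_contra hne
  haveI : (pCore 2 G).Normal := CfsgLib.Core.normal_pCore 2 G
  refine h.hmin (G ⧸ pCore 2 G) (V.map (QuotientGroup.mk' (pCore 2 G))) (CfsgLib.Core.card_quotient_lt _ hne)
    ⟨?_, ?_⟩ ?_ (sidki_map h.el h.sidki _ h.inf) ?_
  · refine ⟨⟨?_⟩⟩
    rintro ⟨_, a, ha, rfl⟩ ⟨_, b, hb, rfl⟩
    refine Subtype.ext ?_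
    show QuotientGroup.mk' _ a * QuotientGroup.mk' _ b = QuotientGroup.mk' _ b * QuotientGroup.mk' _ a
    rw [← map_mul, ← map_mul, h.comm ha hb]
  · rintro _ ⟨a, ha, rfl⟩
    rw [← map_pow, h.el.2 a ha, map_one]
  · rw [Ne, Subgroup.map_eq_bot_iff, QuotientGroup.ker_mk']
    intro hle
    exact h.ne (le_bot_iff.1 (h.inf ▸ le_inf le_rfl hle))
  · rw [CfsgLib.Core.pCore_quotient_pCore, inf_bot_eq]

/-- Elements of `O_2` of an overgroup centralize subnormal subgroups. -/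
theorem centralizes (h : SidkiMinimal V) {A H : Subgroup G} (hA : A.IsSubnormal) (hAH : A ≤ H) {w : G}
    (hwH : w ∈ H) (hwA : w ∈ normalizer (A : Set G)) (hw : (⟨w, hwH⟩ : ↥H) ∈ pCore 2 ↥H) :
    ∀ a ∈ A, a * w = w * a := by
  intro a ha
  obtain ⟨M, hM⟩ : ∃ M, M = ((pCore 2 ↥H).map H.subtype).subgroupOf A := ⟨_, rfl⟩
  haveI : (pCore 2 ↥H).Normal := CfsgLib.Core.normal_pCore 2 _
  have hMn : M.Normal := by
    refine ⟨fun x hx g => ?_⟩
    rw [hM] at hx ⊢
    obtain ⟨y, hy, hyx⟩ := hx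
    exact ⟨⟨(g : G), hAH g.2⟩ * y * ⟨(g : G), hAH g.2⟩⁻¹, Normal.conj_mem inferInstance y hy _, by
      rw [map_mul, map_mul, map_inv, hyx]; rfl⟩
  have hMp : IsPGroup 2 ↥(M.map A.subtype) := by
    rw [hM, subgroupOf_map_subtype]
    exact ((CfsgLib.Core.isPGroup_pCore 2 ↥H).map _).to_le inf_le_left
  have hle := CfsgLib.Components.subnormal_pGroup_le_pCore
    ((CfsgLib.Components.isSubnormal_map_subtype_iff hA).2 hMn.isSubnormal) hMp
  rw [h.pCore_eq_bot, hM, subgroupOf_map_subtype] at hle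
  have hmem : a * w * a⁻¹ * w⁻¹ ∈ (pCore 2 ↥H).map H.subtype ⊓ A := by
    refine ⟨⟨⟨a, hAH ha⟩ * ⟨w, hwH⟩ * ⟨a, hAH ha⟩⁻¹ * ⟨w, hwH⟩⁻¹,
      (pCore 2 ↥H).mul_mem (Normal.conj_mem inferInstance _ hw _) ((pCore 2 ↥H).inv_mem hw), rfl⟩, ?_⟩
    rw [mul_assoc, mul_assoc, ← mul_assoc w]
    exact A.mul_mem ha ((mem_normalizer_iff.1 hwA a⁻¹).1 (A.inv_mem ha))
  have h1 := mem_bot.1 (hle hmem)
  rw [mul_inv_eq_one, mul_inv_eq_iff_eq_mul] at h1
  exact h1

theorem fitting_odd (h : SidkiMinimal V) : Odd (Nat.card ↥(fittingSubgroup G)) := by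
  haveI : (fittingSubgroup G).Normal := CfsgLib.Components.fitting_normal
  haveI := CfsgLib.Components.fitting_isNilpotent (G := G)
  by_contra hodd
  rw [Nat.not_odd_iff_even, even_iff_two_dvd] at hodd
  obtain ⟨S⟩ : Nonempty (Sylow 2 ↥(fittingSubgroup G)) := inferInstance
  haveI : (S : Subgroup ↥(fittingSubgroup G)).Normal := S.normal_of_normalizerCondition Group.normalizerCondition_of_isNilpotent
  have h1 := (map_mono (f := (fittingSubgroup G).subtype) (CfsgLib.Core.le_pCore S.2)).trans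
    (CfsgLib.Core.map_subtype_pCore_le (p := 2) (fittingSubgroup G))
  rw [h.pCore_eq_bot, le_bot_iff, map_eq_bot_iff_of_injective _ (fittingSubgroup G).subtype_injective] at h1
  exact S.ne_bot_of_dvd_card hodd h1

theorem eq_one_of_centralizes (h : SidkiMinimal V) {w : G} (hw : w ∈ V)
    (hc : ∀ a ∈ generalizedFittingSubgroup G, a * w = w * a) : w = 1 := by
  obtain ⟨Z, hZ⟩ : ∃ Z, Z = generalizedFittingSubgroup G ⊓ centralizer (generalizedFittingSubgroup G : Set G) := ⟨_, rfl⟩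
  haveI : (generalizedFittingSubgroup G).Normal := CfsgLib.Components.gFitting_normal
  haveI : Z.Normal := hZ ▸ inferInstance
  haveI : IsMulCommutative ↥Z := le_centralizer_iff_isMulCommutative.1
    ((hZ.le.trans inf_le_right).trans (centralizer_le (SetLike.coe_subset_coe.2 (hZ.le.trans inf_le_left))))
  have hwc : w ∈ centralizer (generalizedFittingSubgroup G : Set G) := mem_centralizer_iff.2 hc
  have hwZ : w ∈ Z := hZ ▸ ⟨CfsgLib.Components.centralizer_gFitting_le hwc, hwc⟩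
  have hwF : w ∈ fittingSubgroup G := CfsgLib.Components.le_fitting inferInstance inferInstance hwZ
  exact eq_one_of_sq_of_odd (h.el.2 w hw) (odd_orderOf_mem h.fitting_odd hwF)

theorem gFitting_sup (h : SidkiMinimal V) : generalizedFittingSubgroup G ⊔ V = ⊤ := by
  by_contra hne
  haveI : (generalizedFittingSubgroup G).Normal := CfsgLib.Components.gFitting_normal
  refine h.false_of_le hne le_sup_right fun w hwH hwV hw => h.eq_one_of_centralizes hwV ?_
  exact h.centralizes (Subgroup.Normal.isSubnormal inferInstance) le_sup_left hwH (le_normalizer_of_normal (mem_top w)) hw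

/-- The generalized Fitting subgroup is not a direct product of two nontrivial normal subgroups. -/
theorem indecomposable (h : SidkiMinimal V) {A B : Subgroup G} (hA : A.Normal) (hB : B.Normal)
    (hAB : A ⊔ B = generalizedFittingSubgroup G) (hinf : A ⊓ B = ⊥) (hA1 : A ≠ ⊥) (hB1 : B ≠ ⊥) : False := by
  haveI := hA
  haveI := hB
  have hcomm : ∀ a ∈ A, ∀ b ∈ B, a * b = b * a := by
    intro a ha b hb
    have h1 : a * b * a⁻¹ * b⁻¹ ∈ A ⊓ B := by
      refine ⟨?_, B.mul_mem (hB.conj_mem b hb a) (B.inv_mem hb)⟩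
      rw [mul_assoc, mul_assoc, ← mul_assoc b]
      exact A.mul_mem ha (hA.conj_mem _ (A.inv_mem ha) b)
    rw [hinf, mem_bot, mul_inv_eq_one, mul_inv_eq_iff_eq_mul] at h1
    exact h1
  have hne : ∀ A B : Subgroup G, A.Normal → B.Normal → A ⊓ B = ⊥ → A ≠ ⊥ → B ⊔ V ≠ ⊤ := by
    intro A B hA hB hinf hA1 ht
    haveI := hA
    haveI := hB
    have hAp : IsPGroup 2 ↥A := by
      have hVp : IsPGroup 2 ↥(V.map (QuotientGroup.mk' B)) :=
        (IsPGroup.map (p := 2) (fun v => ⟨1, Subtype.ext (by rw [pow_one]; exact h.el.2 _ v.2)⟩) _)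
      intro a
      have h1 : QuotientGroup.mk' B (a : G) ∈ V.map (QuotientGroup.mk' B) := by
        obtain ⟨b, hb, v, hv, e⟩ := mem_sup_of_normal_left.1 (ht.ge (mem_top (a : G)))
        exact ⟨v, hv, by rw [← e, map_mul, show QuotientGroup.mk' B b = 1 from (QuotientGroup.eq_one_iff b).2 hb, one_mul]⟩
      obtain ⟨k, hk⟩ := hVp ⟨_, h1⟩
      refine ⟨k, Subtype.ext ?_⟩
      have h2 : (a : G) ^ 2 ^ k ∈ A ⊓ B := by
        refine ⟨A.pow_mem a.2 _, ?_⟩
        refine (QuotientGroup.eq_one_iff _).1 ?_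
        exact (map_pow (QuotientGroup.mk' B) _ _).trans (congrArg Subtype.val hk)
      rw [hinf, mem_bot] at h2
      rw [Subgroup.coe_pow, h2]; rfl
    exact hA1 (le_bot_iff.1 (h.pCore_eq_bot ▸ CfsgLib.Core.le_pCore hAp))
  have hBV : B ⊔ V ≠ ⊤ := hne A B hA hB hinf hA1
  have hAV : A ⊔ V ≠ ⊤ := hne B A hB hA (inf_comm A B ▸ hinf) hB1
  have hFs : ∀ w : G, (∀ a ∈ A, a * w = w * a) → (∀ b ∈ B, b * w = w * b) →
      ∀ c ∈ generalizedFittingSubgroup G, c * w = w * c := by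
    intro w h1 h2 c hc
    rw [← hAB] at hc
    obtain ⟨a, ha, b, hb, rfl⟩ := mem_sup_of_normal_left.1 hc
    rw [mul_assoc, h2 b hb, ← mul_assoc, h1 a ha, mul_assoc]
  obtain ⟨VB, hVB⟩ : ∃ VB, VB = V ⊓ centralizer (B : Set G) := ⟨_, rfl⟩
  have hVBne : VB ≠ ⊥ := by
    intro h0
    refine h.false_of_le hBV le_sup_right fun w hwH hwV hw => ?_
    have h1 := h.centralizes hB.isSubnormal le_sup_left hwH (le_normalizer_of_normal (mem_top w)) hw
    have h2 : w ∈ VB := hVB ▸ ⟨hwV, mem_centralizer_iff.2 h1⟩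
    rwa [h0, mem_bot] at h2
  have hH1 : A ⊔ VB ≠ ⊤ := fun ht => hAV (top_le_iff.1 (ht.ge.trans (sup_le_sup_left (hVB ▸ inf_le_left) A)))
  obtain ⟨f, hfH, v, hv, hfo, hfinv, hfno⟩ := h.not_sidki hH1 le_sup_right (hVB ▸ inf_le_left) hVBne
    fun w hwH hwW hw => h.eq_one_of_centralizes (hVB.le hwW).1 (hFs w
      (h.centralizes hA.isSubnormal le_sup_left hwH (le_normalizer_of_normal (mem_top w)) hw)
      (mem_centralizer_iff.1 (hVB.le hwW).2))
  have hfA : f ∈ A := by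
    obtain ⟨a, ha, w, hw, e⟩ := mem_sup_of_normal_left.1 hfH
    have hfw : QuotientGroup.mk' A f = QuotientGroup.mk' A w := by
      rw [← e, map_mul, show QuotientGroup.mk' A a = 1 from (QuotientGroup.eq_one_iff a).2 ha, one_mul]
    rw [← QuotientGroup.eq_one_iff]
    refine eq_one_of_sq_of_odd (G := G ⧸ A) ?_ (hfo.of_dvd_nat (orderOf_map_dvd (QuotientGroup.mk' A) f))
    show (QuotientGroup.mk' A f) ^ 2 = 1
    rw [hfw, ← map_pow, h.el.2 w (hVB.le hw).1, map_one]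
  obtain ⟨X, hX⟩ : ∃ X, X = V ⊓ centralizer ({f} : Set G) := ⟨_, rfl⟩
  have hXne : X ≠ ⊥ := by
    intro h0
    obtain ⟨w, hw, hw1, hwc⟩ := h.sidki f v (hVB.le hv).1 hfo hfinv
    have h2 : w ∈ X := hX ▸ ⟨hw, mem_centralizer_singleton_iff.2 hwc⟩
    rw [h0, mem_bot] at h2
    exact hw1 h2
  have hH2 : B ⊔ X ≠ ⊤ := fun ht => hBV (top_le_iff.1 (ht.ge.trans (sup_le_sup_left (hX ▸ inf_le_left) B)))
  obtain ⟨g, hgH, x, hx, hgo, hginv, hgno⟩ := h.not_sidki hH2 le_sup_right (hX ▸ inf_le_left) hXne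
    fun w hwH hwX hw => hfno w (hVB ▸ ⟨(hX.le hwX).1, mem_centralizer_iff.2
      (h.centralizes hB.isSubnormal le_sup_left hwH (le_normalizer_of_normal (mem_top w)) hw)⟩)
      (mem_centralizer_singleton_iff.1 (hX.le hwX).2)
  have hgB : g ∈ B := by
    obtain ⟨b, hb, w, hw, e⟩ := mem_sup_of_normal_left.1 hgH
    have hgw : QuotientGroup.mk' B g = QuotientGroup.mk' B w := by
      rw [← e, map_mul, show QuotientGroup.mk' B b = 1 from (QuotientGroup.eq_one_iff b).2 hb, one_mul]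
    rw [← QuotientGroup.eq_one_iff]
    refine eq_one_of_sq_of_odd (G := G ⧸ B) ?_ (hgo.of_dvd_nat (orderOf_map_dvd (QuotientGroup.mk' B) g))
    show (QuotientGroup.mk' B g) ^ 2 = 1
    rw [hgw, ← map_pow, h.el.2 w (hX.le hw).1, map_one]
  have hxf : x * f * x⁻¹ = f := by
    rw [mem_centralizer_singleton_iff.1 (hX.le hx).2, mul_inv_cancel_right]
  have hvg : ∀ b ∈ B, v * b * v⁻¹ = b := fun b hb => by
    rw [← mem_centralizer_iff.1 (hVB.le hv).2 b hb, mul_inv_cancel_right]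
  have hfg : Commute f g := hcomm f hfA g hgB
  have hinv : (v * x) * (f * g) * (v * x)⁻¹ = (f * g)⁻¹ := by
    calc (v * x) * (f * g) * (v * x)⁻¹ = v * ((x * f * x⁻¹) * (x * g * x⁻¹)) * v⁻¹ := by group
      _ = (v * f * v⁻¹) * (v * g⁻¹ * v⁻¹) := by rw [hxf, hginv]; group
      _ = f⁻¹ * g⁻¹ := by rw [hfinv, hvg _ (B.inv_mem hgB)]
      _ = (f * g)⁻¹ := by rw [mul_inv_rev, hfg.inv_inv.eq]
  obtain ⟨w, hw, hw1, hwc⟩ := h.sidki (f * g) (v * x) (V.mul_mem (hVB.le hv).1 (hX.le hx).1)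
    ((hfo.mul hgo).of_dvd_nat hfg.orderOf_mul_dvd_mul_orderOf) hinv
  have h1 : f⁻¹ * (w * f * w⁻¹) = g * (w * g * w⁻¹)⁻¹ := by
    have e : (w * f * w⁻¹) * (w * g * w⁻¹) = f * g := by
      rw [show w * f * w⁻¹ * (w * g * w⁻¹) = w * (f * g) * w⁻¹ by group, hwc, mul_inv_cancel_right]
    calc f⁻¹ * (w * f * w⁻¹) = f⁻¹ * ((w * f * w⁻¹) * (w * g * w⁻¹)) * (w * g * w⁻¹)⁻¹ := by group
      _ = g * (w * g * w⁻¹)⁻¹ := by rw [e]; group
  have h2 : f⁻¹ * (w * f * w⁻¹) ∈ A ⊓ B :=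
    ⟨A.mul_mem (A.inv_mem hfA) (hA.conj_mem f hfA w), h1 ▸ B.mul_mem hgB (B.inv_mem (hB.conj_mem g hgB w))⟩
  rw [hinf, mem_bot] at h2
  have hwf : w * f = f * w := (mul_inv_eq_iff_eq_mul.1 (inv_mul_eq_one.1 h2).symm)
  rw [h2] at h1
  have hwg : w * g = g * w := (mul_inv_eq_iff_eq_mul.1 (mul_inv_eq_one.1 h1.symm).symm)
  exact hw1 (hgno w (hX ▸ ⟨hw, mem_centralizer_singleton_iff.2 hwf⟩) hwg)

theorem layer_inf_fitting (h : SidkiMinimal V) : layer G ⊓ fittingSubgroup G = ⊥ := by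
  by_contra hne
  haveI : (layer G).Normal := CfsgLib.Components.layer_normal
  haveI : (fittingSubgroup G).Normal := CfsgLib.Components.fitting_normal
  obtain ⟨Z, hZ⟩ : ∃ Z, Z = layer G ⊓ fittingSubgroup G := ⟨_, rfl⟩
  rw [← hZ] at hne
  haveI : Z.Normal := hZ ▸ inferInstance
  have hZodd : Odd (Nat.card Z) := h.fitting_odd.of_dvd_nat (card_dvd_of_le (hZ ▸ inf_le_right))
  have hVZ : V ⊓ Z = ⊥ := by
    rw [eq_bot_iff]
    rintro w ⟨hwV, hwZ⟩
    exact mem_bot.2 (eq_one_of_sq_of_odd (h.el.2 w hwV) (odd_orderOf_mem hZodd hwZ))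
  obtain ⟨π, hπ⟩ : ∃ π, π = QuotientGroup.mk' Z := ⟨_, rfl⟩
  have hker : π.ker = Z := hπ ▸ QuotientGroup.ker_mk' Z
  haveI := CfsgLib.Core.normal_pCore 2 (G ⧸ Z)
  have hne2 := h.hmin (G ⧸ Z) (V.map π) (CfsgLib.Core.card_quotient_lt _ hne) ⟨?_, ?_⟩ ?_
    (hπ ▸ sidki_map h.el h.sidki Z hVZ)
  rotate_left
  · refine ⟨⟨?_⟩⟩
    rintro ⟨_, a, ha, rfl⟩ ⟨_, b, hb, rfl⟩
    refine Subtype.ext ?_
    show π a * π b = π b * π a
    rw [← map_mul, ← map_mul, h.comm ha hb]
  · rintro _ ⟨a, ha, rfl⟩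
    rw [← map_pow, h.el.2 a ha, map_one]
  · rw [Ne, Subgroup.map_eq_bot_iff, hker]
    exact fun hle => h.ne (le_bot_iff.1 (hVZ ▸ le_inf le_rfl hle))
  apply hne2
  rw [eq_bot_iff]
  rintro _ ⟨⟨w, hw, rfl⟩, hwQ⟩
  rw [mem_bot]
  suffices w = 1 by rw [this, map_one]
  obtain ⟨M, hM⟩ : ∃ M, M = (pCore 2 (G ⧸ Z)).comap π := ⟨_, rfl⟩
  haveI : M.Normal := hM ▸ inferInstance
  have hwM : w ∈ M := hM ▸ hwQ
  have hLF : ∀ e ∈ layer G, ∀ f ∈ fittingSubgroup G, e * f = f * e := fun e he f hf =>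
    (mem_centralizer_iff.1 ((commutator_eq_bot_iff_le_centralizer.1 CfsgLib.Components.layer_commutes_fitting) he) f hf).symm
  have hZF : Z ≤ fittingSubgroup G := hZ ▸ inf_le_right
  have hZE : Z ≤ layer G := hZ ▸ inf_le_left
  have hsol : Group.IsSolvable ↥(M ⊓ layer G) := by
    haveI : Group.IsSolvable ↥(π.ker.subgroupOf M) := by
      haveI : IsMulCommutative ↥Z := le_centralizer_iff_isMulCommutative.1 fun z hz =>
        mem_centralizer_iff.2 fun y hy => hLF y (hZE hy) z (hZF hz)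
      haveI : Group.IsSolvable ↥π.ker := Group.isSolvable_of_comm fun a b =>
        Subtype.ext (setLike_mul_comm (hker.le a.2) (hker.le b.2))
      exact Group.isSolvable_of_isSolvable_injective
        (f := (M.subtype.comp (π.ker.subgroupOf M).subtype).codRestrict π.ker (fun x => x.2))
        (fun a b hab => Subtype.ext (Subtype.ext (by have h1 := congrArg Subtype.val hab; exact h1)))
    haveI : Group.IsSolvable ↥M := by
      let f : ↥M →* ↥(pCore 2 (G ⧸ Z)) := (π.comp M.subtype).codRestrict _ (fun x => hM.le x.2)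
      haveI : Group.IsNilpotent ↥(pCore 2 (G ⧸ Z)) := (CfsgLib.Core.isPGroup_pCore 2 (G ⧸ Z)).isNilpotent
      exact Group.isSolvable_of_ker_le_range (π.ker.subgroupOf M).subtype f
        (fun x hx => ⟨⟨x, congrArg Subtype.val hx⟩, rfl⟩)
    exact Group.isSolvable_of_isSolvable_injective (f := Subgroup.inclusion inf_le_left)
      (Subgroup.inclusion_injective inf_le_left)
  haveI : (M ⊓ layer G).Normal := inferInstance
  have hML : ∀ e ∈ layer G, ∀ m ∈ M ⊓ layer G, m * e = e * m := fun e he m hm =>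
    mem_centralizer_iff.1 ((commutator_eq_bot_iff_le_centralizer.1
      (CfsgLib.Components.layer_commutes_solvable_subnormal hsol (Subgroup.Normal.isSubnormal inferInstance))) he) m hm
  -- `w` centralizes the layer
  have hwE : ∀ e ∈ layer G, e * w = w * e := by
    obtain ⟨C, hC⟩ : ∃ C, C = M ⊓ layer G := ⟨_, rfl⟩
    have hd : ∀ e ∈ layer G, e⁻¹ * w * e * w⁻¹ ∈ C := fun e he => hC ▸ by
      refine ⟨M.mul_mem (by simpa using Normal.conj_mem inferInstance w hwM e⁻¹) (M.inv_mem hwM), ?_⟩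
      rw [mul_assoc e⁻¹, mul_assoc e⁻¹]
      exact (layer G).mul_mem ((layer G).inv_mem he) (Normal.conj_mem inferInstance e he w)
    have hcen : ∀ c ∈ C, ∀ e ∈ layer G, c * e = e * c := fun c hc e he => hML e he c (hC ▸ hc)
    have hC' : ∀ c ∈ C, c ∈ layer G := fun c hc => (hC.le hc).2
    let φ : ↥(layer G) →* ↥C := MonoidHom.mk' (fun e => ⟨(e : G)⁻¹ * w * (e : G) * w⁻¹, hd _ e.2⟩) (by
      intro a b
      refine Subtype.ext ?_
      show ((a : G) * (b : G))⁻¹ * w * ((a : G) * (b : G)) * w⁻¹ =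
        ((a : G)⁻¹ * w * (a : G) * w⁻¹) * ((b : G)⁻¹ * w * (b : G) * w⁻¹)
      have h1 := hcen _ (hd _ a.2) _ ((layer G).inv_mem b.2)
      calc ((a : G) * (b : G))⁻¹ * w * ((a : G) * (b : G)) * w⁻¹
          = ((b : G)⁻¹ * ((a : G)⁻¹ * w * (a : G) * w⁻¹)) * (w * (b : G) * w⁻¹) := by group
        _ = (((a : G)⁻¹ * w * (a : G) * w⁻¹) * (b : G)⁻¹) * (w * (b : G) * w⁻¹) := by rw [h1]
        _ = _ := by group)
    haveI : IsMulCommutative ↥C := ⟨⟨fun a b => Subtype.ext (hcen _ a.2 _ (hC' _ b.2))⟩⟩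
    intro e he
    have hperf : _root_.commutator ↥(layer G) = ⊤ := by
      refine map_injective (layer G).subtype_injective ?_
      rw [map_subtype_commutator, CfsgLib.Components.layer_perfect, ← MonoidHom.range_eq_map, range_subtype]
    have h1 : (⟨e, he⟩ : ↥(layer G)) ∈ φ.ker := Abelianization.commutator_subset_ker φ (hperf ▸ mem_top _)
    have h2 : e⁻¹ * w * e * w⁻¹ = 1 := congrArg Subtype.val (MonoidHom.mem_ker.1 h1)
    rw [mul_inv_eq_one, mul_assoc, inv_mul_eq_iff_eq_mul] at h2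
    exact h2.symm
  -- `w` centralizes the Fitting subgroup
  refine h.eq_one_of_centralizes hw ?_
  intro c hc
  rw [generalizedFittingSubgroup] at hc
  obtain ⟨e, he, f, hf, rfl⟩ := mem_sup_of_normal_left.1 hc
  have hwf : f * w = w * f := by
    obtain ⟨z, hz⟩ : ∃ z, z = f⁻¹ * w * f * w⁻¹ := ⟨_, rfl⟩
    have hzF : z ∈ fittingSubgroup G := by
      rw [hz, mul_assoc f⁻¹, mul_assoc f⁻¹]
      exact mul_mem (inv_mem hf) (Normal.conj_mem inferInstance f hf w)
    have hzM : z ∈ M := hz ▸ M.mul_mem (by simpa using Normal.conj_mem inferInstance w hwM f⁻¹) (M.inv_mem hwM)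
    have hzZ : z ∈ Z := by
      rw [← hker, MonoidHom.mem_ker]
      obtain ⟨k, hk⟩ := (CfsgLib.Core.isPGroup_pCore 2 (G ⧸ Z)) ⟨π z, hM.le hzM⟩
      have h1 : (π z) ^ 2 ^ k = 1 := congrArg Subtype.val hk
      have h2 : orderOf (π z) ∣ Nat.gcd (2 ^ k) (orderOf z) :=
        Nat.dvd_gcd (orderOf_dvd_of_pow_eq_one h1) (orderOf_map_dvd π z)
      rw [((Nat.coprime_two_left.2 (odd_orderOf_mem h.fitting_odd hzF)).pow_left k).gcd_eq_one,
        Nat.dvd_one, orderOf_eq_one_iff] at h2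
      exact h2
    have hzw : w * z = z * w := (hwE z (hZE hzZ)).symm
    have e1 : w * f * w⁻¹ = f * z := by rw [hz]; group
    have e2 : f = f * z * z := by
      calc f = w * (w * f * w⁻¹) * w⁻¹ := by
            rw [show w * (w * f * w⁻¹) * w⁻¹ = w ^ 2 * f * (w ^ 2)⁻¹ by rw [pow_two]; group, h.el.2 w hw]; group
        _ = (w * f * w⁻¹) * (w * z * w⁻¹) := by (conv_lhs => rw [e1]); group
        _ = f * z * z := by rw [e1, hzw, mul_inv_cancel_right]
    have hz1 : z = 1 := by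
      refine eq_one_of_sq_of_odd ?_ (odd_orderOf_mem h.fitting_odd hzF)
      rw [mul_assoc, left_eq_mul, ← pow_two] at e2
      exact e2
    rw [hz1, mul_one, mul_inv_eq_iff_eq_mul] at e1
    exact e1.symm
  rw [mul_assoc, hwf, ← mul_assoc, hwE e he, mul_assoc]

theorem layer_ne_bot (h : SidkiMinimal V) : layer G ≠ ⊥ := by
  intro hE
  haveI : (fittingSubgroup G).Normal := CfsgLib.Components.fitting_normal
  haveI := CfsgLib.Components.fitting_isNilpotent (G := G)
  obtain ⟨F, hF⟩ : ∃ F, F = fittingSubgroup G := ⟨_, rfl⟩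
  haveI : F.Normal := hF ▸ inferInstance
  haveI : Group.IsNilpotent ↥F := hF ▸ inferInstance
  have hgF : generalizedFittingSubgroup G = F := by rw [generalizedFittingSubgroup, hE, bot_sup_eq, hF]
  have hodd : Odd (Nat.card F) := hF ▸ h.fitting_odd
  haveI : Nontrivial G := (Subgroup.nontrivial_iff_ne_bot V).2 h.ne |>.exists_pair_ne |> fun ⟨a, b, hab⟩ =>
    ⟨⟨(a : G), (b : G), fun e => hab (Subtype.ext e)⟩⟩
  have hF1 : F ≠ ⊥ := hgF ▸ CfsgLib.Components.gFitting_ne_bot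
  -- `F` is abelian
  have hab : IsMulCommutative ↥F := by
    by_contra hnab
    obtain ⟨Z, hZ⟩ : ∃ Z, Z = ⁅F, F⁆ := ⟨_, rfl⟩
    have hne : Z ≠ ⊥ := fun h0 => hnab (CfsgLib.Core.isMulCommutative_iff_commutator_eq_bot.2 (hZ ▸ h0))
    haveI : Z.Normal := hZ ▸ inferInstance
    have hZF : Z ≤ F := hZ ▸ commutator_le_self F
    have hVZ : V ⊓ Z = ⊥ := by
      rw [eq_bot_iff]
      rintro w ⟨hwV, hwZ⟩
      exact mem_bot.2 (eq_one_of_sq_of_odd (h.el.2 w hwV) (odd_orderOf_mem hodd (hZF hwZ)))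
    obtain ⟨π, hπ⟩ : ∃ π, π = QuotientGroup.mk' Z := ⟨_, rfl⟩
    have hker : π.ker = Z := hπ ▸ QuotientGroup.ker_mk' Z
    haveI := CfsgLib.Core.normal_pCore 2 (G ⧸ Z)
    have hne2 := h.hmin (G ⧸ Z) (V.map π) (CfsgLib.Core.card_quotient_lt _ hne) ⟨?_, ?_⟩ ?_
      (hπ ▸ sidki_map h.el h.sidki Z hVZ)
    rotate_left
    · refine ⟨⟨?_⟩⟩
      rintro ⟨_, a, ha, rfl⟩ ⟨_, b, hb, rfl⟩
      refine Subtype.ext ?_
      show π a * π b = π b * π a
      rw [← map_mul, ← map_mul, h.comm ha hb]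
    · rintro _ ⟨a, ha, rfl⟩
      rw [← map_pow, h.el.2 a ha, map_one]
    · rw [Ne, Subgroup.map_eq_bot_iff, hker]
      exact fun hle => h.ne (le_bot_iff.1 (hVZ ▸ le_inf le_rfl hle))
    apply hne2
    rw [eq_bot_iff]
    rintro _ ⟨⟨w, hw, rfl⟩, hwQ⟩
    rw [mem_bot]
    suffices w = 1 by rw [this, map_one]
    obtain ⟨C, hC⟩ : ∃ C, C = F ⊓ centralizer ({w} : Set G) := ⟨_, rfl⟩
    have hCZ : ∀ f ∈ F, f ∈ C ⊔ Z := by
      intro f hf
      obtain ⟨z, hz⟩ : ∃ z, z = f⁻¹ * w * f * w⁻¹ := ⟨_, rfl⟩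
      have hzF : z ∈ F := by
        rw [hz, mul_assoc f⁻¹, mul_assoc f⁻¹]
        exact mul_mem (inv_mem hf) (Normal.conj_mem inferInstance f hf w)
      have hzZ : z ∈ Z := by
        rw [← hker, MonoidHom.mem_ker]
        obtain ⟨k, hk⟩ := (CfsgLib.Core.isPGroup_pCore 2 (G ⧸ Z)) ⟨π z, by
          rw [hz, map_mul, map_mul, map_mul, map_inv, map_inv]
          have := Normal.conj_mem (inferInstance : (pCore 2 (G ⧸ Z)).Normal) _ hwQ (π f)⁻¹
          rw [inv_inv] at this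
          exact mul_mem this (inv_mem hwQ)⟩
        have h1 : (π z) ^ 2 ^ k = 1 := congrArg Subtype.val hk
        have h2 : orderOf (π z) ∣ Nat.gcd (2 ^ k) (orderOf z) :=
          Nat.dvd_gcd (orderOf_dvd_of_pow_eq_one h1) (orderOf_map_dvd π z)
        rw [((Nat.coprime_two_left.2 (odd_orderOf_mem hodd hzF)).pow_left k).gcd_eq_one,
          Nat.dvd_one, orderOf_eq_one_iff] at h2
        exact h2
      have e1 : w * f * w⁻¹ = f * z := by rw [hz]; group
      have hww : ∀ a : G, w * (w * a * w⁻¹) * w⁻¹ = a := fun a => by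
        rw [show w * (w * a * w⁻¹) * w⁻¹ = w ^ 2 * a * (w ^ 2)⁻¹ by rw [pow_two]; group, h.el.2 w hw]; group
      have e2 : w * z * w⁻¹ = z⁻¹ := by
        have h1 : f * z * (w * z * w⁻¹) = f := by
          calc f * z * (w * z * w⁻¹) = w * (f * z) * w⁻¹ := by (conv_lhs => rw [← e1]); group
            _ = f := by rw [← e1, hww]
        calc w * z * w⁻¹ = z⁻¹ * f⁻¹ * (f * z * (w * z * w⁻¹)) := by group
          _ = z⁻¹ := by rw [h1]; group
      obtain ⟨m, hm⟩ := odd_orderOf_mem hodd hzF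
      have hsq : z ^ (m + 1) * z ^ (m + 1) = z := by
        rw [← pow_add, show m + 1 + (m + 1) = 1 + (2 * m + 1) by ring, ← hm, pow_add, pow_one,
          pow_orderOf_eq_one, mul_one]
      have hb : f * z ^ (m + 1) ∈ C := by
        refine hC ▸ ⟨mul_mem hf (pow_mem hzF _), mem_centralizer_singleton_iff.2 ?_⟩
        have h3 : w * (f * z ^ (m + 1)) * w⁻¹ = f * z ^ (m + 1) := by
          calc w * (f * z ^ (m + 1)) * w⁻¹ = (w * f * w⁻¹) * (w * z * w⁻¹) ^ (m + 1) := by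
                rw [conj_pow]; group
            _ = f * (z ^ (m + 1) * z ^ (m + 1)) * (z⁻¹) ^ (m + 1) := by rw [e1, e2, hsq]
            _ = f * z ^ (m + 1) := by rw [inv_pow]; group
        exact (mul_inv_eq_iff_eq_mul.1 h3).symm
      have := mul_mem (mem_sup_left hb : f * z ^ (m + 1) ∈ C ⊔ Z)
        (inv_mem (mem_sup_right (pow_mem hzZ (m + 1)) : z ^ (m + 1) ∈ C ⊔ Z))
      rwa [mul_inv_cancel_right] at this
    have hCF : C.subgroupOf F = ⊤ := by
      refine frattini_nongenerating (top_le_iff.1 fun x _ => ?_)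
      have h1 : C.subgroupOf F ⊔ _root_.commutator ↥F = ⊤ := by
        refine map_injective F.subtype_injective ?_
        rw [Subgroup.map_sup, subgroupOf_map_subtype, map_subtype_commutator, ← hZ, ← MonoidHom.range_eq_map,
          range_subtype, inf_eq_left.2 (hC ▸ inf_le_left)]
        exact le_antisymm (sup_le (hC ▸ inf_le_left) hZF) hCZ
      exact sup_le_sup_left CfsgLib.PGroups.commutator_le_frattini _ (h1.ge (mem_top x))
    refine h.eq_one_of_centralizes hw fun a ha => ?_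
    rw [hgF] at ha
    have h1 : (⟨a, ha⟩ : ↥F) ∈ C.subgroupOf F := hCF ▸ mem_top _
    exact mem_centralizer_singleton_iff.1 (hC.le h1).2
  haveI := hab
  have hFc : ∀ a ∈ F, ∀ b ∈ F, a * b = b * a := fun a ha b hb => congrArg Subtype.val (hab.is_comm.comm ⟨a, ha⟩ ⟨b, hb⟩)
  -- every nontrivial element of `V` inverts `F`
  have hinvF : ∀ v ∈ V, v ≠ 1 → ∀ f ∈ F, v * f * v⁻¹ = f⁻¹ := by
    intro v hv hv1
    obtain ⟨A, hA⟩ : ∃ A, A = F ⊓ centralizer ({v} : Set G) := ⟨_, rfl⟩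
    let B : Subgroup G :=
      { carrier := {f | f ∈ F ∧ v * f * v⁻¹ = f⁻¹}
        one_mem' := ⟨one_mem _, by simp⟩
        mul_mem' := fun {a b} ha hb => ⟨mul_mem ha.1 hb.1, by
          rw [← conj_mul, ha.2, hb.2, mul_inv_rev, hFc _ (inv_mem hb.1) _ (inv_mem ha.1)]⟩
        inv_mem' := fun {a} ha => ⟨inv_mem ha.1, by rw [← conj_inv, ha.2]⟩ }
    have hvv : ∀ a : G, v * (v * a * v⁻¹) * v⁻¹ = a := fun a => by
      rw [← mul_assoc v (v * a), ← mul_assoc v v, mul_assoc (v * v * a), ← mul_inv_rev, ← pow_two, h.el.2 v hv]; group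
    have hnormal : ∀ C : Subgroup G, C ≤ F → (∀ w ∈ V, ∀ c ∈ C, w * c * w⁻¹ ∈ C) → C.Normal := by
      intro C hCF hC
      refine ⟨fun c hc g => ?_⟩
      obtain ⟨f, hf, w, hw, rfl⟩ := mem_sup_of_normal_left.1 (hgF ▸ h.gFitting_sup.ge (mem_top g))
      have h1 := hC w hw c hc
      rw [show f * w * c * (f * w)⁻¹ = f * (w * c * w⁻¹) * f⁻¹ by group, hFc f hf _ (hCF h1), mul_inv_cancel_right]
      exact h1
    have hAn : A.Normal := by
      refine hnormal A (hA ▸ inf_le_left) fun w hw c hc => ?_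
      rw [hA] at hc ⊢
      refine ⟨Normal.conj_mem inferInstance c hc.1 w, mem_centralizer_singleton_iff.2 ?_⟩
      have h1 : c * v = v * c := mem_centralizer_singleton_iff.1 hc.2
      have h2 := h.comm hw hv
      have h5 : w⁻¹ * v = v * w⁻¹ := by rw [h.inv_eq hw, h2]
      calc w * c * w⁻¹ * v = w * (c * v) * w⁻¹ := by rw [mul_assoc (w * c), h5]; group
        _ = (w * v) * c * w⁻¹ := by rw [h1]; group
        _ = v * (w * c * w⁻¹) := by rw [h2]; group
    have hBn : B.Normal := by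
      refine hnormal B (fun c hc => hc.1) fun w hw c hc => ⟨Normal.conj_mem inferInstance c hc.1 w, ?_⟩
      have h2 := h.comm hw hv
      calc v * (w * c * w⁻¹) * v⁻¹ = (v * w) * c * (v * w)⁻¹ := by group
        _ = w * (v * c * v⁻¹) * w⁻¹ := by rw [← h2]; group
        _ = (w * c * w⁻¹)⁻¹ := by rw [hc.2]; group
    have hABinf : A ⊓ B = ⊥ := by
      rw [eq_bot_iff]
      rintro c ⟨hc1, hc2⟩
      rw [hA] at hc1
      have h1 : c * v = v * c := mem_centralizer_singleton_iff.1 hc1.2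
      have h3 := hc2.2
      rw [← h1, mul_inv_cancel_right] at h3
      exact mem_bot.2 (eq_one_of_sq_of_odd (by rw [pow_two]; exact eq_inv_iff_mul_eq_one.1 h3) (odd_orderOf_mem hodd hc1.1))
    have hsup : A ⊔ B = generalizedFittingSubgroup G := by
      rw [hgF]
      refine le_antisymm (sup_le (hA ▸ inf_le_left) fun c hc => hc.1) fun f hf => ?_
      obtain ⟨z, hz⟩ : ∃ z, z = f⁻¹ * (v * f * v⁻¹) := ⟨_, rfl⟩
      have hzF : z ∈ F := hz ▸ mul_mem (inv_mem hf) (Normal.conj_mem inferInstance f hf v)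
      have e1 : v * f * v⁻¹ = f * z := by rw [hz]; group
      have e2 : v * z * v⁻¹ = z⁻¹ := by
        rw [hz, ← conj_mul, ← conj_inv, hvv]
        group
      obtain ⟨m, hm⟩ := odd_orderOf_mem hodd hzF
      have hsq : z ^ (m + 1) * z ^ (m + 1) = z := by
        rw [← pow_add, show m + 1 + (m + 1) = 1 + (2 * m + 1) by ring, ← hm, pow_add, pow_one,
          pow_orderOf_eq_one, mul_one]
      have hb : f * z ^ (m + 1) ∈ A := by
        refine hA ▸ ⟨mul_mem hf (pow_mem hzF _), mem_centralizer_singleton_iff.2 ?_⟩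
        have h3 : v * (f * z ^ (m + 1)) * v⁻¹ = f * z ^ (m + 1) := by
          calc v * (f * z ^ (m + 1)) * v⁻¹ = (v * f * v⁻¹) * (v * z * v⁻¹) ^ (m + 1) := by
                rw [conj_pow]; group
            _ = f * (z ^ (m + 1) * z ^ (m + 1)) * (z⁻¹) ^ (m + 1) := by rw [e1, e2, hsq]
            _ = f * z ^ (m + 1) := by rw [inv_pow]; group
        exact (mul_inv_eq_iff_eq_mul.1 h3).symm
      have hzB : (z ^ (m + 1))⁻¹ ∈ B := inv_mem ⟨pow_mem hzF _, by rw [← conj_pow, e2, inv_pow]⟩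
      have := mul_mem (mem_sup_left hb : f * z ^ (m + 1) ∈ A ⊔ B) (mem_sup_right hzB : (z ^ (m + 1))⁻¹ ∈ A ⊔ B)
      rwa [mul_inv_cancel_right] at this
    by_cases hA1 : A = ⊥
    · intro f hf
      rw [hA1, bot_sup_eq, hgF] at hsup
      exact (hsup.ge hf : f ∈ B).2
    by_cases hB1 : B = ⊥
    · exfalso
      refine hv1 (h.eq_one_of_centralizes hv fun a ha => ?_)
      rw [hB1, sup_bot_eq] at hsup
      exact mem_centralizer_singleton_iff.1 (hA.le (hsup.ge ha)).2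
    exact absurd (h.indecomposable hAn hBn hsup hABinf hA1 hB1) id
  obtain ⟨v, hv, hv1⟩ := (Subgroup.bot_or_exists_ne_one _).resolve_left h.ne
  obtain ⟨f, hf, hf1⟩ := (Subgroup.bot_or_exists_ne_one _).resolve_left hF1
  obtain ⟨w, hw, hw1, hwc⟩ := h.sidki f v hv (odd_orderOf_mem hodd hf) (hinvF v hv hv1 f hf)
  have h1 := hinvF w hw hw1 f hf
  rw [hwc, mul_inv_cancel_right] at h1
  exact hf1 (eq_one_of_sq_of_odd (by rw [pow_two]; exact eq_inv_iff_mul_eq_one.1 h1) (odd_orderOf_mem hodd hf))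

theorem conj_component {K : Subgroup G} (hK : IsComponent K) (g : G) :
    IsComponent (K.map (MulAut.conj g).toMonoidHom) :=
  CfsgLib.Components.isComponent_conj hK g

/-- The structure of the minimal counterexample. -/
theorem structure_theorem (h : SidkiMinimal V) :
    IsSimpleGroup ↥(generalizedFittingSubgroup G) ∧ ¬ IsMulCommutative ↥(generalizedFittingSubgroup G) ∧
      V ⊔ generalizedFittingSubgroup G = ⊤ := by
  haveI hEn : (layer G).Normal := CfsgLib.Components.layer_normal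
  haveI hFn : (fittingSubgroup G).Normal := CfsgLib.Components.fitting_normal
  have hF : fittingSubgroup G = ⊥ := by
    by_contra hne
    exact h.indecomposable hEn hFn rfl h.layer_inf_fitting h.layer_ne_bot hne
  have hgE : generalizedFittingSubgroup G = layer G := by rw [generalizedFittingSubgroup, hF, sup_bot_eq]
  obtain ⟨K, hK⟩ : ∃ K : Subgroup G, IsComponent K := by
    by_contra hno
    push Not at hno
    exact h.layer_ne_bot (CfsgLib.Components.layer_eq_bot_iff.2 hno)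
  have hZ : ∀ K : Subgroup G, IsComponent K → K ⊓ centralizer (K : Set G) = ⊥ := by
    intro K hK
    haveI : IsMulCommutative ↥(K ⊓ centralizer (K : Set G)) := le_centralizer_iff_isMulCommutative.1
      (inf_le_right.trans (centralizer_le (SetLike.coe_subset_coe.2 inf_le_left)))
    haveI hn : ((K ⊓ centralizer (K : Set G)).subgroupOf K).Normal := by
      refine ⟨fun x hx g => ?_⟩
      rw [mem_subgroupOf] at hx ⊢
      have e : ((g * x * g⁻¹ : ↥K) : G) = (x : G) := by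
        push_cast
        rw [mem_centralizer_iff.1 hx.2 (g : G) g.2, mul_inv_cancel_right]
      rw [e]; exact hx
    have h1 := CfsgLib.Components.subnormal_nilpotent_le_fitting
      ((CfsgLib.Components.isSubnormal_map_subtype_iff hK.1).2 hn.isSubnormal) (by
        rw [subgroupOf_map_subtype, inf_eq_left.2 (inf_le_left : K ⊓ centralizer (K : Set G) ≤ K)]
        infer_instance)
    rw [hF, subgroupOf_map_subtype, inf_eq_left.2 (inf_le_left : K ⊓ centralizer (K : Set G) ≤ K), le_bot_iff] at h1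
    exact h1
  have hcom : ∀ {K L : Subgroup G}, IsComponent K → IsComponent L → K ≠ L → L ≤ centralizer (K : Set G) :=
    fun hK hL hne => commutator_eq_bot_iff_le_centralizer.1 (CfsgLib.Components.components_commute hL hK hne.symm)
  have hdisj : ∀ {K L : Subgroup G}, IsComponent K → IsComponent L → K ≠ L → ∀ x ∈ K, x ∈ L → x = 1 := by
    intro K L hK hL hne x hxK hxL
    exact mem_bot.1 (hZ K hK ▸ (⟨hxK, hcom hK hL hne hxL⟩ : x ∈ K ⊓ centralizer (K : Set G)))
  suffices hone : ∀ L : Subgroup G, IsComponent L → L = K by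
    have hlay : layer G = K := le_antisymm (CfsgLib.Components.layer_le_iff.2 fun L hL => (hone L hL).le)
      (CfsgLib.Components.le_layer hK)
    have hsimple : IsSimpleGroup ↥K := by
      have hc : center ↥K = ⊥ := by
        rw [eq_bot_iff]
        intro z hz
        have h1 : (z : G) ∈ K ⊓ centralizer (K : Set G) :=
          ⟨z.2, mem_centralizer_iff.2 fun y hy => congrArg Subtype.val (mem_center_iff.1 hz ⟨y, hy⟩)⟩
        rw [hZ K hK, mem_bot] at h1
        exact mem_bot.2 (Subtype.ext h1)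
      haveI := hK.2.2
      exact ((QuotientGroup.quotientMulEquivOfEq hc).trans QuotientGroup.quotientBot).symm.isSimpleGroup
    refine ⟨hgE ▸ hlay ▸ hsimple, fun hc => ?_, sup_comm _ V ▸ h.gFitting_sup⟩
    rw [hgE, hlay] at hc
    apply CfsgLib.Components.IsComponent.ne_bot hK
    rw [← CfsgLib.Components.IsComponent.commutator_eq_self hK]
    exact CfsgLib.Core.isMulCommutative_iff_commutator_eq_bot.1 hc
  by_contra hno
  push Not at hno
  obtain ⟨L₀, hL₀, hL₀K⟩ := hno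
  -- transitivity of `V` on components
  obtain ⟨O₁, hO₁⟩ : ∃ O₁ : Set (Subgroup G), O₁ = {L | ∃ v ∈ V, L = K.map (MulAut.conj v).toMonoidHom} := ⟨_, rfl⟩
  have hnorm : ∀ S : Set (Subgroup G), (∀ L ∈ S, IsComponent L) →
      (∀ v ∈ V, ∀ L ∈ S, L.map (MulAut.conj v).toMonoidHom ∈ S) → (sSup S).Normal := by
    intro S hS hSV
    have hVN : V ≤ normalizer ((sSup S : Subgroup G) : Set G) := by
      intro v hv
      refine mem_normalizer_iff_map_conj_eq.2 (eq_of_le_of_card_ge ?_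
        (Subgroup.card_map_of_injective (MulAut.conj v).injective).ge)
      exact map_le_iff_le_comap.2 (sSup_le fun L hL => map_le_iff_le_comap.1 (le_sSup (hSV v hv L hL)))
    have hEN : layer G ≤ normalizer ((sSup S : Subgroup G) : Set G) := by
      refine CfsgLib.Components.layer_le_iff.2 fun L hL x hx => ?_
      refine mem_normalizer_iff_map_conj_eq.2 (eq_of_le_of_card_ge ?_
        (Subgroup.card_map_of_injective (MulAut.conj x).injective).ge)
      refine map_le_iff_le_comap.2 (sSup_le fun L' hL' => map_le_iff_le_comap.1 (le_trans ?_ (le_sSup hL')))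
      exact (mem_normalizer_iff_map_conj_eq.1
        (CfsgLib.Components.component_le_normalizer_component hL (hS L' hL') hx)).le
    rw [← normalizer_eq_top_iff, eq_top_iff, ← h.gFitting_sup, hgE]
    exact sup_le hEN hVN
  have htrans : ∀ L : Subgroup G, IsComponent L → L ∈ O₁ := by
    by_contra hno
    push Not at hno
    obtain ⟨L₁, hL₁, hL₁O⟩ := hno
    obtain ⟨O₂, hO₂⟩ : ∃ O₂ : Set (Subgroup G), O₂ = {L | IsComponent L ∧ L ∉ O₁} := ⟨_, rfl⟩
    have hO₁c : ∀ L ∈ O₁, IsComponent L := by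
      rw [hO₁]; rintro _ ⟨v, -, rfl⟩; exact conj_component hK v
    have hmapc : ∀ (a b : G) (L : Subgroup G),
        (L.map (MulAut.conj a).toMonoidHom).map (MulAut.conj b).toMonoidHom = L.map (MulAut.conj (b * a)).toMonoidHom := by
      intro a b L
      rw [map_map]
      congr 1
      ext y
      simp [mul_assoc]
    have h1V : ∀ v ∈ V, ∀ L ∈ O₁, L.map (MulAut.conj v).toMonoidHom ∈ O₁ := by
      rw [hO₁]
      rintro v hv _ ⟨u, hu, rfl⟩
      exact ⟨v * u, V.mul_mem hv hu, hmapc u v K⟩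
    have h2V : ∀ v ∈ V, ∀ L ∈ O₂, L.map (MulAut.conj v).toMonoidHom ∈ O₂ := by
      rw [hO₂]
      rintro v hv L ⟨hL, hLn⟩
      refine ⟨conj_component hL v, fun hm => hLn ?_⟩
      have := h1V v⁻¹ (V.inv_mem hv) _ hm
      rwa [hmapc, inv_mul_cancel, map_one, show (1 : MulAut G).toMonoidHom = MonoidHom.id G from rfl, map_id] at this
    have hn1 := hnorm O₁ hO₁c h1V
    have hn2 := hnorm O₂ (fun L hL => (hO₂.le hL).1) h2V
    have hKO : K ∈ O₁ := hO₁ ▸ ⟨1, V.one_mem, by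
      rw [map_one, show (1 : MulAut G).toMonoidHom = MonoidHom.id G from rfl, map_id]⟩
    refine h.indecomposable hn1 hn2 ?_ ?_
      (fun h0 => CfsgLib.Components.IsComponent.ne_bot hK (le_bot_iff.1 (h0 ▸ le_sSup hKO)))
      (fun h0 => CfsgLib.Components.IsComponent.ne_bot hL₁ (le_bot_iff.1 (h0 ▸ le_sSup (hO₂ ▸ ⟨hL₁, hL₁O⟩))))
    · rw [hgE]
      refine le_antisymm (sup_le (sSup_le fun L hL => CfsgLib.Components.le_layer (hO₁c L hL))
        (sSup_le fun L hL => CfsgLib.Components.le_layer (hO₂.le hL).1)) ?_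
      refine CfsgLib.Components.layer_le_iff.2 fun L hL => ?_
      by_cases hLO : L ∈ O₁
      · exact le_sup_of_le_left (le_sSup hLO)
      · exact le_sup_of_le_right (le_sSup (hO₂ ▸ ⟨hL, hLO⟩))
    · have hcc : sSup O₁ ≤ centralizer ((sSup O₂ : Subgroup G) : Set G) := by
        refine sSup_le fun L hL => le_centralizer_iff.1 (sSup_le fun L' hL' => ?_)
        exact hcom (hO₁c L hL) (hO₂.le hL').1 fun e => (hO₂.le hL').2 (e ▸ hL)
      haveI := hn1
      haveI := hn2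
      haveI : IsMulCommutative ↥(sSup O₁ ⊓ sSup O₂) := le_centralizer_iff_isMulCommutative.1
        ((inf_le_left.trans hcc).trans (centralizer_le (SetLike.coe_subset_coe.2 inf_le_right)))
      exact le_bot_iff.1 (hF ▸ CfsgLib.Components.le_fitting inferInstance inferInstance)
  have hrep : ∀ L : Subgroup G, IsComponent L → ∃ v ∈ V, L = K.map (MulAut.conj v).toMonoidHom := fun L hL =>
    hO₁.le (htrans L hL)
  obtain ⟨B₀, hB₀⟩ : ∃ B₀, B₀ = V ⊓ normalizer (K : Set G) := ⟨_, rfl⟩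
  have hmoves : ∀ v ∈ V, v ∉ B₀ → K.map (MulAut.conj v).toMonoidHom ≠ K := fun v hv hn e =>
    hn (hB₀ ▸ ⟨hv, mem_normalizer_iff_map_conj_eq.2 e⟩)
  by_cases hB : B₀ = ⊥
  · -- regular action
    obtain ⟨v, hv, hv1⟩ := (Subgroup.bot_or_exists_ne_one _).resolve_left h.ne
    have hvB : v ∉ B₀ := by rw [hB, mem_bot]; exact hv1
    obtain ⟨x, hxK, hx1, hxo⟩ : ∃ x ∈ K, x ≠ 1 ∧ Odd (orderOf x) := by
      by_contra hno
      push Not at hno
      refine CfsgLib.Components.IsComponent.ne_bot hK (le_bot_iff.1 (h.pCore_eq_bot ▸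
        CfsgLib.Components.subnormal_pGroup_le_pCore hK.1 fun x => ?_))
      obtain ⟨a, r, hr, har⟩ := Nat.exists_eq_two_pow_mul_odd (orderOf_pos (x : G)).ne'
      refine ⟨a, Subtype.ext ?_⟩
      by_contra hne
      refine (Nat.not_even_iff_odd.2 (hr.of_dvd_nat (orderOf_dvd_of_pow_eq_one ?_)))
        (Nat.not_odd_iff_even.1 (hno ((x : G) ^ 2 ^ a) (K.pow_mem x.2 _) (by simpa using hne)))
      rw [← pow_mul, ← har, pow_orderOf_eq_one]
    obtain ⟨L, hL⟩ : ∃ L, L = K.map (MulAut.conj v).toMonoidHom := ⟨_, rfl⟩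
    have hLc : IsComponent L := hL ▸ conj_component hK v
    have hKL : K ≠ L := fun e => hmoves v hv hvB (hL ▸ e.symm)
    obtain ⟨y, hy⟩ : ∃ y, y = v * x * v⁻¹ := ⟨_, rfl⟩
    have hyL : y ∈ L := hy ▸ hL ▸ ⟨x, hxK, rfl⟩
    have hxy : Commute x y := mem_centralizer_iff.1 (hcom hK hLc hKL hyL) x hxK
    have hyo : orderOf y = orderOf x := hy ▸ (orderOf_injective (MulAut.conj v).toMonoidHom (MulAut.conj v).injective x)
    have hvy : v * y * v⁻¹ = x := by
      rw [hy, ← mul_assoc v (v * x), ← mul_assoc v v, mul_assoc (v * v * x), ← mul_inv_rev, ← pow_two, h.el.2 v hv]; group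
    obtain ⟨w, hw, hw1, hwc⟩ := h.sidki (x * y⁻¹) v hv
      ((hxo.mul (by rw [orderOf_inv, hyo]; exact hxo)).of_dvd_nat hxy.inv_right.orderOf_mul_dvd_mul_orderOf)
      (by rw [← conj_mul, ← conj_inv, ← hy, hvy, mul_inv_rev, inv_inv])
    have hwB : w ∉ B₀ := by rw [hB, mem_bot]; exact hw1
    obtain ⟨x', hx'⟩ : ∃ x', x' = w * x * w⁻¹ := ⟨_, rfl⟩
    obtain ⟨y', hy'⟩ : ∃ y', y' = w * y * w⁻¹ := ⟨_, rfl⟩
    have e : x' * y'⁻¹ = x * y⁻¹ := by
      rw [hx', hy', conj_inv, conj_mul, hwc, mul_inv_cancel_right]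
    have hx'K : x' ∈ K.map (MulAut.conj w).toMonoidHom := hx' ▸ ⟨x, hxK, rfl⟩
    have hy'L : y' ∈ L.map (MulAut.conj w).toMonoidHom := hy' ▸ ⟨y, hyL, rfl⟩
    have hy'K : y' ∈ K.map (MulAut.conj (w * v)).toMonoidHom := ⟨x, hxK, by rw [hy', hy]; simp [mul_assoc]⟩
    by_cases hwv : w = v
    · subst hwv
      rw [hx', ← hy, hy', hvy] at e
      have h1 : (x * y⁻¹) ^ 2 = 1 := by
        rw [pow_two]
        nth_rewrite 1 [← e]
        group
      have h2 := eq_one_of_sq_of_odd h1 ((hxo.mul (by rw [orderOf_inv, hyo]; exact hxo)).of_dvd_nat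
        hxy.inv_right.orderOf_mul_dvd_mul_orderOf)
      rw [mul_inv_eq_one] at h2
      exact hx1 (hdisj hK hLc hKL x hxK (h2 ▸ hyL))
    have hwvB : w * v ∉ B₀ := by
      rw [hB, mem_bot, ← h.inv_eq hv, mul_inv_eq_one]
      exact hwv
    have hc1 := hcom hK (conj_component hK w) (hmoves w hw hwB).symm hx'K
    have hc2 := hcom hK (conj_component hK (w * v)) (hmoves _ (V.mul_mem hw hv) hwvB).symm hy'K
    have hc3 := hcom hK hLc hKL hyL
    have hxc : x ∈ centralizer (K : Set G) := by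
      have h4 : x = x' * y'⁻¹ * y := by rw [e]; group
      rw [h4]
      exact mul_mem (mul_mem hc1 (inv_mem hc2)) hc3
    exact hx1 (mem_bot.1 (hZ K hK ▸ (⟨hxK, hxc⟩ : x ∈ K ⊓ centralizer (K : Set G))))
  · -- a nontrivial stabilizer
    have hH : K ⊔ B₀ ≠ ⊤ := by
      intro ht
      have hKn : K.Normal := by
        rw [← normalizer_eq_top_iff, eq_top_iff, ← ht]
        exact sup_le le_normalizer (hB₀ ▸ inf_le_right)
      obtain ⟨v, hv, rfl⟩ := hrep L₀ hL₀
      exact hL₀K (mem_normalizer_iff_map_conj_eq.1 (by rw [normalizer_eq_top_iff.2 hKn]; exact mem_top v))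
    obtain ⟨x, hxH, b, hb, hxo, hinv, hno⟩ := h.not_sidki hH le_sup_right (hB₀ ▸ inf_le_left) hB
      fun w hwH hwB hw => by
        have hwV : w ∈ V := (hB₀.le hwB).1
        have hwK := h.centralizes hK.1 le_sup_left hwH (hB₀.le hwB).2 hw
        refine h.eq_one_of_centralizes hwV fun c hc => ?_
        rw [hgE] at hc
        have hle : layer G ≤ centralizer ({w} : Set G) := by
          refine CfsgLib.Components.layer_le_iff.2 fun L hL => ?_
          obtain ⟨v, hv, rfl⟩ := hrep L hL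
          rintro _ ⟨a, ha, rfl⟩
          refine mem_centralizer_singleton_iff.2 ?_
          show v * a * v⁻¹ * w = w * (v * a * v⁻¹)
          have h2 := h.comm hwV hv
          have h5 : v⁻¹ * w = w * v⁻¹ := by rw [h.inv_eq hv, h2]
          calc v * a * v⁻¹ * w = v * (a * w) * v⁻¹ := by rw [mul_assoc (v * a), h5]; group
            _ = v * (w * a) * v⁻¹ := by rw [hwK a ha]
            _ = w * (v * a * v⁻¹) := by rw [← mul_assoc v w a, ← h2]; group
        exact mem_centralizer_singleton_iff.1 (hle hc)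
    have hxK : x ∈ K := by
      have hBn : B₀ ≤ normalizer (K : Set G) := hB₀ ▸ inf_le_right
      rw [← SetLike.mem_coe, coe_mul_of_right_le_normalizer_left _ _ hBn] at hxH
      obtain ⟨a, ha, c, hc, rfl⟩ := Set.mem_mul.1 hxH
      have hc2 : c ^ 2 = 1 := h.el.2 c (hB₀.le hc).1
      obtain ⟨m, hm⟩ := hxo
      have hsq : (a * c) ^ 2 ∈ K := by
        have : (a * c) ^ 2 = a * (c * a * c⁻¹) * c ^ 2 := by rw [pow_two, pow_two]; group
        rw [this, hc2, mul_one]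
        exact mul_mem ha ((mem_normalizer_iff.1 (hBn hc) a).1 ha)
      have := pow_mem hsq (m + 1)
      rwa [← pow_mul, show 2 * (m + 1) = (2 * m + 1) + 1 by ring, ← hm, pow_succ, pow_orderOf_eq_one, one_mul] at this
    obtain ⟨w, hw, hw1, hwc⟩ := h.sidki x b (hB₀.le hb).1 hxo hinv
    by_cases hwB : w ∈ B₀
    · exact hw1 (hno w hwB hwc)
    have hx1 : x = 1 := hdisj hK (conj_component hK w) (hmoves w hw hwB).symm x hxK
      ⟨x, hxK, show w * x * w⁻¹ = x by rw [hwc, mul_inv_cancel_right]⟩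
    obtain ⟨u, hu, hu1⟩ := (Subgroup.bot_or_exists_ne_one _).resolve_left hB
    exact hu1 (hno u hu (by rw [hx1, mul_one, one_mul]))

end SidkiMinimal

end CfsgLib.LocalEvenB
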