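import Cfsg.Agent.Lib.LocalEvenB.StronglyClosedComplement
import Cfsg.Agent.Lib.PLocal.PConstrained
import Cfsg.Agent.Lib.Transfer.Alperin
import Cfsg.Agent.Lib.Transfer.Conj
import Cfsg.Agent.Lib.Transfer.ZJControl

/-!
# Fusion control by a characteristic subgroup of a strongly closed subgroup
-/

set_option autoImplicit false
set_option linter.all false

open scoped commutatorElement

universe w

namespace CfsgLib.LocalEvenB

open Subgroup Cfsg CfsgLib.PLocal
open scoped Pointwise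

variable {p : ℕ} [Fact p.Prime]

/-- `p`-stability in the normalizer form passes to quotients of subgroups by normal `p'`-subgroups. -/
theorem stableAt_quotient_of_normalizerPStable {G : Type*} [Group G] [Finite G]
    (hs : IsNormalizerPStable p G) (H : Subgroup G) (O : Subgroup ↥H) [O.Normal]
    (hO : (Nat.card O).Coprime p) (S : Sylow p ↥H) :
    StableAt p ((S : Subgroup ↥H).map (QuotientGroup.mk' O)) := by
  intro Pb hPbn hPb
  rintro _ ⟨a, ha, rfl⟩ hq
  obtain ⟨π, hπ⟩ : ∃ π, π = QuotientGroup.mk' O := ⟨_, rfl⟩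
  rw [← hπ] at hq ⊢
  have hπs : Function.Surjective π := hπ ▸ QuotientGroup.mk'_surjective O
  have hker : π.ker = O := hπ ▸ QuotientGroup.ker_mk' O
  obtain ⟨M, hM⟩ : ∃ M, M = Pb.comap π := ⟨_, rfl⟩
  haveI : M.Normal := hM ▸ hPbn.comap _
  have hOM : O ≤ M := hM ▸ hker.symm.trans_le (ker_le_comap _ _)
  obtain ⟨k, hk⟩ := IsPGroup.iff_card.1 hPb
  have hrel : O.relIndex M = p ^ k := by
    have h0 := relIndex_ker π (K := M)
    rw [hker, hM, map_comap_eq_self_of_surjective hπs] at h0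
    rw [hM, h0, hk]
  obtain ⟨Pt, hPt⟩ : ∃ Pt, Pt = (S : Subgroup ↥H) ⊓ M := ⟨_, rfl⟩
  have hPtO : Pt ⊔ O = M := hPt ▸ pGroup_mod_eq_sup hOM ⟨k, hrel⟩ S
  have hPtp : IsPGroup p Pt := S.2.to_le (hPt ▸ inf_le_left)
  have hPtmap : Pt.map π = Pb := by
    have h1 := congrArg (Subgroup.map π) hPtO
    rwa [Subgroup.map_sup, (Subgroup.map_eq_bot_iff O).2 hker.ge, sup_bot_eq, hM,
      map_comap_eq_self_of_surjective hπs] at h1
  have haN : a ∈ normalizer (Pt : Set ↥H) :=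
    hPt ▸ inf_normalizer_le_normalizer_inf ⟨le_normalizer ha, le_normalizer_of_normal ha⟩
  -- quadratic upstairs
  have hdisj : Disjoint Pt π.ker := by rw [hker]; exact disjoint_of_isPGroup hO hPtp
  have hcle : ⁅Pt, zpowers a⁆ ≤ Pt :=
    le_normalizer_iff_commutator_le_left.1 (zpowers_le.2 haN)
  have hq1 : ⁅⁅Pt, zpowers a⁆, zpowers a⁆ = ⊥ := by
    refine le_bot_iff.1 ?_
    rw [← hdisj.eq_bot]
    refine le_inf ((commutator_mono hcle le_rfl).trans hcle) ?_
    rw [← Subgroup.map_eq_bot_iff, map_commutator, map_commutator, hPtmap, MonoidHom.map_zpowers]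
    exact hq
  -- push to `G`
  obtain ⟨P₀, hP₀⟩ : ∃ P₀, P₀ = Pt.map H.subtype := ⟨_, rfl⟩
  have hP₀p : IsPGroup p P₀ := hP₀ ▸ hPtp.map _
  have hιmem : ∀ x : ↥H, x ∈ normalizer (Pt : Set ↥H) → (x : G) ∈ normalizer (P₀ : Set G) := fun x hx =>
    hP₀ ▸ le_normalizer_map H.subtype (mem_map_of_mem _ hx)
  have hq2 : ⁅⁅P₀, zpowers (a : G)⁆, zpowers (a : G)⁆ = ⊥ := by
    have h1 := congrArg (Subgroup.map H.subtype) hq1
    rwa [map_commutator, map_commutator, Subgroup.map_bot, MonoidHom.map_zpowers, ← hP₀] at h1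
  have hmem := hs P₀ hP₀p (a : G) (hιmem a haN) hq2
  obtain ⟨NG, hNG⟩ : ∃ NG, NG = normalizer (P₀ : Set G) := ⟨_, rfl⟩
  subst hNG
  obtain ⟨NH, hNH⟩ : ∃ NH, NH = normalizer (Pt : Set ↥H) := ⟨_, rfl⟩
  let q := QuotientGroup.mk' ((centralizer (P₀ : Set G)).subgroupOf (normalizer (P₀ : Set G)))
  let ι : ↥NH →* ↥(normalizer (P₀ : Set G)) :=
    ((H.subtype).comp NH.subtype).codRestrict _ (fun x => hιmem x (hNH.le x.2))
  let ψ : ↥NH →* (↥H ⧸ O) ⧸ centralizer (Pb : Set (↥H ⧸ O)) :=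
    (QuotientGroup.mk' _).comp (π.comp NH.subtype)
  have hNHmap : NH.map π = ⊤ := by
    rw [hNH, hπ, map_normalizer_eq O hO hPtp, ← hπ, hPtmap, normalizer_eq_top_iff]
    exact hPbn
  have hψ : Function.Surjective ψ := by
    intro z
    obtain ⟨y, rfl⟩ := QuotientGroup.mk'_surjective _ z
    obtain ⟨x, hx, rfl⟩ := hNHmap.ge (mem_top y)
    exact ⟨⟨x, hx⟩, rfl⟩
  obtain ⟨Y, hY⟩ : ∃ Y, Y = ((pCore p _).comap (q.comp ι)).map ψ := ⟨_, rfl⟩
  haveI : (pCore p (↥(normalizer (P₀ : Set G)) ⧸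
      (centralizer (P₀ : Set G)).subgroupOf (normalizer (P₀ : Set G)))).Normal :=
    CfsgLib.Core.normal_pCore p _
  haveI hYn : Y.Normal := hY ▸ (Subgroup.Normal.map (Normal.comap inferInstance _) ψ hψ)
  have hYp : IsPGroup p Y := by
    rintro ⟨y, hy⟩
    rw [hY] at hy
    obtain ⟨x, hx, rfl⟩ := hy
    obtain ⟨j, hj⟩ := CfsgLib.Core.isPGroup_pCore p _ ⟨_, hx⟩
    refine ⟨j, Subtype.ext ?_⟩
    have h1 : (q.comp ι) (x ^ p ^ j) = 1 := by rw [map_pow]; exact congrArg Subtype.val hj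
    have h2 : ((x ^ p ^ j : ↥NH) : ↥H) ∈ centralizer (Pt : Set ↥H) := by
      have h3 : (((x ^ p ^ j : ↥NH) : ↥H) : G) ∈ centralizer (P₀ : Set G) :=
        (QuotientGroup.eq_one_iff (ι (x ^ p ^ j))).1 h1
      refine mem_centralizer_iff.2 fun z hz => Subtype.ext ?_
      exact mem_centralizer_iff.1 h3 _ (hP₀ ▸ mem_map_of_mem H.subtype hz)
    show (ψ x) ^ p ^ j = 1
    rw [← map_pow]
    refine (QuotientGroup.eq_one_iff _).2 ?_
    rw [← hPtmap]
    exact mem_centralizer_iff.2 fun z ⟨t, ht, hz⟩ => by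
      rw [← hz]
      show π t * π _ = π _ * π t
      rw [← map_mul, ← map_mul]
      exact congrArg π (mem_centralizer_iff.1 h2 t ht)
  exact CfsgLib.Core.le_pCore hYp (hY ▸ ⟨⟨a, hNH.ge haN⟩, hmem, rfl⟩)

/-- `y` acts on `U` as an element of `N`. -/
def ActsAsMember {G : Type*} [Group G] (N U : Subgroup G) (y : G) : Prop :=
  ∃ r ∈ N, ∀ u ∈ U, r * u * r⁻¹ = y * u * y⁻¹

/-- A functor on subgroups whose value on a strongly closed subgroup is normal in stable `p`-constrained groups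
yields control of fusion. -/
theorem controlsFusion_of_stronglyClosed (hp : p ≠ 2)
    (W : ∀ {K : Type w} [Group K] [Finite K], Subgroup K → Subgroup K)
    (hle : ∀ {K : Type w} [Group K] [Finite K] (S : Subgroup K), W S ≤ S)
    (hmap : ∀ {K L : Type w} [Group K] [Finite K] [Group L] [Finite L] (f : K →* L)
      (S : Subgroup K), Disjoint S f.ker → (W S).map f = W (S.map f))
    (hne : ∀ {K : Type w} [Group K] [Finite K] (S : Subgroup K), IsPGroup p S → S ≠ ⊥ → W S ≠ ⊥)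
    (hnormal : ∀ {K : Type w} [Group K] [Finite K], centralizer (pCore p K : Set K) ≤ pCore p K →
      ∀ (Q : Sylow p K) (D : Subgroup K), IsStronglyClosed D (Q : Subgroup K) →
        StableAt p (Q : Subgroup K) → (W D).Normal)
    {G : Type w} [Group G] [Finite G] (P : Sylow p G) (D : Subgroup G)
    (hD : IsStronglyClosed D (P : Subgroup G)) (hst : IsNormalizerPStable p G)
    (hc : ∀ U : Subgroup G, U ≤ (P : Subgroup G) → U ≠ ⊥ → IsPConstrained p ↥(normalizer (U : Set G)))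
    (A : Set G) (hA : A ⊆ (P : Subgroup G)) :
    ControlsStrongFusionOf (normalizer ((W D : Subgroup G) : Set G)) (P : Subgroup G) A := by
  refine ⟨hA, fun g hg => ?_⟩
  obtain ⟨N, hN⟩ : ∃ N, N = normalizer ((W D : Subgroup G) : Set G) := ⟨_, rfl⟩
  rw [← hN]
  by_cases hD0 : D = ⊥
  · refine ⟨g, ?_, fun a _ => rfl⟩
    rw [hN, show W D = ⊥ from le_bot_iff.1 ((hle D).trans hD0.le), normalizer_eq_top]
    exact mem_top g
  have hWfix : ∀ (T : Subgroup G), normalizer (T : Set G) ≤ normalizer ((W T : Subgroup G) : Set G) := by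
    intro T g hg
    rw [mem_normalizer_iff_map_conj_eq] at hg ⊢
    have h := hmap (MulAut.conj g).toMonoidHom T
      (by rw [(MonoidHom.ker_eq_bot_iff _).2 (MulAut.conj g).injective]; exact disjoint_bot_right)
    rw [show T.map (MulAut.conj g).toMonoidHom = T from hg] at h
    exact h
  have hPD : ∀ s ∈ (P : Subgroup G), ∀ d ∈ D, s * d * s⁻¹ ∈ D := fun s hs d hd =>
    hD.2 d hd s ((P : Subgroup G).mul_mem ((P : Subgroup G).mul_mem hs (hD.1 hd)) ((P : Subgroup G).inv_mem hs))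
  suffices main : ∀ (k : ℕ) (U : Subgroup G), Nat.card G - Nat.card U < k → U ≤ (P : Subgroup G) →
      ∀ y : G, (∀ u ∈ U, y * u * y⁻¹ ∈ (P : Subgroup G)) → ActsAsMember N U y by
    have hgU : ∀ u ∈ Subgroup.closure A, g * u * g⁻¹ ∈ (P : Subgroup G) := by
      intro u hu
      have h1 : Subgroup.closure A ≤ (P : Subgroup G).comap (MulAut.conj g).toMonoidHom :=
        (closure_le _).2 fun a ha => hg ⟨a, ha, rfl⟩
      exact h1 hu
    obtain ⟨r, hr, hr'⟩ := main _ (Subgroup.closure A) (Nat.lt_succ_self _) ((closure_le _).2 hA) g hgU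
    exact ⟨r, hr, fun a ha => (hr' a (subset_closure ha)).symm⟩
  intro k
  induction k with
  | zero => intro U h; omega
  | succ k ih =>
  intro U hk hUP y hy
  by_cases hUb : U = ⊥
  · exact ⟨1, one_mem _, fun u hu => by rw [hUb, mem_bot] at hu; simp [hu]⟩
  have hbig : ∀ V : Subgroup G, V ≤ (P : Subgroup G) → Nat.card U < Nat.card V → ∀ y : G,
      (∀ u ∈ V, y * u * y⁻¹ ∈ (P : Subgroup G)) → ActsAsMember N V y := fun V hV hlt =>
    ih V (by have := card_le_card_group V; omega) hV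
  -- the local step
  have hloc : ∀ (j : ℕ) (V : Subgroup G), Nat.card G - Nat.card ↥(D ⊓ normalizer (V : Set G)) < j →
      V ≤ (P : Subgroup G) → V ≠ ⊥ →
      ¬ p ∣ ((P : Subgroup G) ⊓ normalizer (V : Set G)).relIndex (normalizer (V : Set G)) →
      ∀ U₁ : Subgroup G, U₁ ≤ (P : Subgroup G) ⊓ normalizer (V : Set G) → Nat.card U₁ = Nat.card U →
        ∀ y ∈ normalizer (V : Set G), y ∈ normalizer (U₁ : Set G) → ActsAsMember N U₁ y := by
    intro j
    induction j with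
    | zero => intro V h; omega
    | succ j ihj =>
    intro V hj hVP hVb hsyl U₁ hU₁ hcard y hyV hyU
    obtain ⟨H, hH⟩ : ∃ H, H = normalizer (V : Set G) := ⟨_, rfl⟩
    rw [← hH] at hj hsyl hU₁ hyV
    have hcH : IsPConstrained p ↥H := hH ▸ hc V hVP hVb
    obtain ⟨O, hO⟩ : ∃ O, O = pPrimeCore p ↥H := ⟨_, rfl⟩
    haveI : O.Normal := hO ▸ CfsgLib.Core.normal_pPrimeCore p _
    have hOc : (Nat.card O).Coprime p := hO ▸ CfsgLib.Core.coprime_card_pPrimeCore p _
    have hcK : centralizer (pCore p (↥H ⧸ O) : Set (↥H ⧸ O)) ≤ pCore p (↥H ⧸ O) :=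
      centralizer_pCore_le_congr (QuotientGroup.quotientMulEquivOfEq hO.symm) (isPConstrained_iff.1 hcH)
    obtain ⟨S, hS⟩ : ∃ S : Sylow p ↥H, (S : Subgroup ↥H) = (P : Subgroup G).subgroupOf H := by
      refine ⟨(P.2.comap_subtype (K := H)).toSylow ?_, rfl⟩
      intro hd
      apply hsyl
      rwa [inf_relIndex_right]
    obtain ⟨DH, hDH⟩ : ∃ DH, DH = D.subgroupOf H := ⟨_, rfl⟩
    have hDHS : IsStronglyClosed DH (S : Subgroup ↥H) := by rw [hS, hDH]; exact subgroupOf_isStronglyClosed H hD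
    obtain ⟨π, hπ⟩ : ∃ π, π = QuotientGroup.mk' O := ⟨_, rfl⟩
    have hπs : Function.Surjective π := hπ ▸ QuotientGroup.mk'_surjective O
    have hker : π.ker = O := hπ ▸ QuotientGroup.ker_mk' O
    have hdisj : Disjoint DH π.ker := by rw [hker]; exact disjoint_of_isPGroup hOc (S.2.to_le hDHS.1)
    have hWn : ((W DH).map π).Normal := by
      rw [hmap π DH hdisj]
      refine hnormal hcK (S.mapSurjective hπs) _ ?_ ?_
      · rw [Sylow.coe_mapSurjective]
        exact map_isStronglyClosed π hπs (hker.symm ▸ hOc) S hDHS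
      · rw [Sylow.coe_mapSurjective, hπ]
        exact stableAt_quotient_of_normalizerPStable hst H O hOc S
    have hWp : IsPGroup p ↥(W DH) := S.2.to_le ((hle DH).trans hDHS.1)
    have htop : normalizer ((W DH : Subgroup ↥H) : Set ↥H) ⊔ O = ⊤ := by
      have h1 : (normalizer ((W DH : Subgroup ↥H) : Set ↥H)).map π = ⊤ := by
        rw [hπ, map_normalizer_eq O hOc hWp, ← hπ, normalizer_eq_top_iff]
        exact hWn
      have h2 := congrArg (Subgroup.comap π) h1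
      rwa [comap_map_eq, hker, comap_top] at h2
    obtain ⟨ZV, hZV⟩ : ∃ ZV, ZV = W (D ⊓ H) := ⟨_, rfl⟩
    have hZmap : (W DH).map H.subtype = ZV := by
      rw [hmap H.subtype DH (by rw [H.ker_subtype]; exact disjoint_bot_right), hDH, subgroupOf_map_subtype, hZV]
    obtain ⟨o₀, ho₀, m₀, hm₀, hom⟩ := mem_sup_of_normal_left.1
      ((sup_comm _ _).trans htop |>.ge (mem_top (⟨y, hyV⟩ : ↥H)))
    obtain ⟨o, ho⟩ : ∃ o : G, o = o₀ := ⟨_, rfl⟩
    obtain ⟨m, hm⟩ : ∃ m : G, m = m₀ := ⟨_, rfl⟩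
    have hyom : y = o * m := by rw [ho, hm]; exact (congrArg Subtype.val hom).symm
    obtain ⟨M, hM⟩ : ∃ M, M = H ⊓ normalizer (ZV : Set G) := ⟨_, rfl⟩
    have hmM : m ∈ M := by
      rw [hM, hm]
      exact ⟨m₀.2, hZmap ▸ le_normalizer_map H.subtype (mem_map_of_mem _ hm₀)⟩
    have hPDH : (P : Subgroup G) ⊓ H ≤ normalizer ((D ⊓ H : Subgroup G) : Set G) := by
      refine le_normalizer_iff.2 fun s hs d hd => ⟨hPD s hs.1 d hd.1, ?_⟩
      exact H.mul_mem (H.mul_mem hs.2 hd.2) (H.inv_mem hs.2)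
    have hUM : U₁ ≤ M := hM ▸ le_inf (hU₁.trans inf_le_right) (hZV ▸ hU₁.trans (hPDH.trans (hWfix _)))
    -- absorb the core
    obtain ⟨O₁, hO₁⟩ : ∃ O₁, O₁ = O.map H.subtype := ⟨_, rfl⟩
    have hO₁c : (Nat.card O₁).Coprime p := by
      rw [hO₁, Subgroup.card_map_of_injective H.subtype_injective]; exact hOc
    have hO₁n : H ≤ normalizer (O₁ : Set G) := by
      refine le_normalizer_iff.2 ?_
      rw [hO₁]
      rintro h hh _ ⟨v, hv, rfl⟩
      exact ⟨⟨h, hh⟩ * v * ⟨h, hh⟩⁻¹, Normal.conj_mem inferInstance v hv _, rfl⟩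
    obtain ⟨R, hR⟩ : ∃ R, R = O₁ ⊓ M := ⟨_, rfl⟩
    have hUR : U₁ ≤ normalizer (R : Set G) := hR ▸
      (le_inf ((hU₁.trans inf_le_right).trans hO₁n) (hUM.trans le_normalizer)).trans inf_normalizer_le_normalizer_inf
    have hU₁p : IsPGroup p U₁ := P.2.to_le (hU₁.trans inf_le_left)
    have hconj : ∀ u ∈ U₁, m * u * m⁻¹ ∈ U₁ ⊔ R := by
      intro u hu
      have hv := (mem_normalizer_iff.1 hyU u).1 hu
      have hoO : o ∈ O₁ := by rw [hO₁, ho]; exact mem_map_of_mem _ ho₀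
      have hvH : y * u * y⁻¹ ∈ H := hU₁.trans inf_le_right hv
      have e : m * u * m⁻¹ = (y * u * y⁻¹) * (((y * u * y⁻¹)⁻¹ * o⁻¹ * (y * u * y⁻¹)⁻¹⁻¹) * o) := by
        rw [hyom]; group
      rw [e]
      refine mul_mem_sup hv ?_
      rw [hR]
      refine ⟨O₁.mul_mem ((mem_normalizer_iff.1 (hO₁n (H.inv_mem hvH)) _).1 (O₁.inv_mem hoO)) hoO, ?_⟩
      have h2 : m * u * m⁻¹ ∈ M := M.mul_mem (M.mul_mem hmM (hUM hu)) (M.inv_mem hmM)
      rw [e] at h2
      have h3 := M.mul_mem (M.inv_mem (hUM hv)) h2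
      rwa [inv_mul_cancel_left] at h3
    have hidx : ¬ p ∣ U₁.relIndex (U₁ ⊔ R) := by
      intro hd
      have e1 := CfsgLib.Core.card_sup_mul_card_inf U₁ R hUR
      have e2 := (U₁.subgroupOf (U₁ ⊔ R)).card_mul_index
      rw [Nat.card_congr (subgroupOfEquivOfLe le_sup_left).toEquiv] at e2
      rw [← e2, mul_assoc] at e1
      have h2 : p ∣ Nat.card R := hd.trans ⟨_, (Nat.eq_of_mul_eq_mul_left Nat.card_pos e1).symm⟩
      have h3 : p ∣ Nat.card O₁ := h2.trans (hR ▸ card_dvd_of_le inf_le_left)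
      exact (Fact.out : p.Prime).not_dvd_one (hO₁c ▸ Nat.dvd_gcd h3 dvd_rfl)
    obtain ⟨b, hb, hbU⟩ := CfsgLib.Transfer.exists_conj_le (S := U₁.map (MulAut.conj m).toMonoidHom) hU₁p hidx
      (by rintro _ ⟨u, hu, rfl⟩; exact hconj u hu) (hU₁p.map _)
    rw [sup_comm, ← SetLike.mem_coe, coe_mul_of_right_le_normalizer_left _ _ hUR] at hb
    obtain ⟨c, hc', a, ha, rfl⟩ := Set.mem_mul.1 hb
    rw [hR] at hc'
    obtain ⟨m₁, hm₁⟩ : ∃ m₁, m₁ = c⁻¹ * m := ⟨_, rfl⟩
    have hm₁M : m₁ ∈ M := hm₁ ▸ M.mul_mem (M.inv_mem hc'.2) hmM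
    have hm₁U : ∀ u ∈ U₁, m₁ * u * m₁⁻¹ ∈ U₁ := by
      intro u hu
      have h1 := hbU _ ⟨u, hu, rfl⟩
      have h2 := U₁.mul_mem (U₁.mul_mem ha h1) (U₁.inv_mem ha)
      convert h2 using 1
      show _ = a * ((c * a)⁻¹ * (m * u * m⁻¹) * (c * a)) * a⁻¹
      rw [hm₁]; group
    have hagree : ∀ u ∈ U₁, m₁ * u * m₁⁻¹ = y * u * y⁻¹ := by
      intro u hu
      obtain ⟨w, hw⟩ : ∃ w, w = m₁ * u * m₁⁻¹ := ⟨_, rfl⟩
      have hwU : w ∈ U₁ := hw ▸ hm₁U u hu
      have hoc : o * c ∈ O₁ := O₁.mul_mem (by rw [hO₁, ho]; exact mem_map_of_mem _ ho₀) hc'.1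
      have hv : y * u * y⁻¹ = (o * c) * w * (o * c)⁻¹ := by rw [hw, hm₁, hyom]; group
      have h1 : (o * c) * w * (o * c)⁻¹ * w⁻¹ ∈ O₁ := by
        rw [show (o * c) * w * (o * c)⁻¹ * w⁻¹ = (o * c) * (w * (o * c)⁻¹ * w⁻¹) by group]
        exact O₁.mul_mem hoc ((mem_normalizer_iff.1 (hO₁n (hU₁.trans inf_le_right hwU)) _).1 (O₁.inv_mem hoc))
      have h2 : (o * c) * w * (o * c)⁻¹ * w⁻¹ ∈ U₁ :=
        U₁.mul_mem (hv ▸ (mem_normalizer_iff.1 hyU u).1 hu) (U₁.inv_mem hwU)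
      have h3 := disjoint_def.1 (disjoint_of_isPGroup hO₁c hU₁p) h2 h1
      rw [← hw, hv, mul_inv_eq_one.1 h3]
    have hm₁Z : m₁ ∈ normalizer (ZV : Set G) := (hM ▸ hm₁M : m₁ ∈ H ⊓ normalizer (ZV : Set G)).2
    by_cases hDle : D ≤ H
    · refine ⟨m₁, ?_, hagree⟩
      rw [hN]
      rwa [hZV, inf_eq_left.2 hDle] at hm₁Z
    -- enlarge the intersection with `D`
    obtain ⟨ND, hND⟩ : ∃ ND, ND = D ⊓ normalizer ((D ⊓ H : Subgroup G) : Set G) := ⟨_, rfl⟩
    have hDlt : D ⊓ H < ND :=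
      hND ▸ CfsgLib.Transfer.lt_inf_normalizer (P.2.to_le hD.1) (lt_of_le_of_ne inf_le_left fun e => hDle (inf_eq_left.1 e))
    obtain ⟨NP, hNP⟩ : ∃ NP, NP = (P : Subgroup G) ⊓ normalizer (ZV : Set G) := ⟨_, rfl⟩
    have hNDP : ND ≤ NP := by
      rw [hND, hNP, hZV]
      exact le_inf (inf_le_left.trans hD.1) (inf_le_right.trans (hWfix _))
    have hU₁NP : U₁ ≤ NP := hNP ▸ le_inf (hU₁.trans inf_le_left) (hUM.trans (hM ▸ inf_le_right))
    have hNPlt : Nat.card U < Nat.card NP := by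
      rw [← hcard]
      refine CfsgLib.Transfer.card_lt_of_lt (lt_of_le_of_ne hU₁NP fun e => hDlt.not_ge ?_)
      refine le_inf (hND ▸ inf_le_left) ?_
      exact (e ▸ hNDP).trans (hU₁.trans inf_le_right)
    have hDb : D ⊓ H ≠ ⊥ := by
      haveI : (D.subgroupOf (P : Subgroup G)).Normal :=
        (normal_subgroupOf_iff_le_normalizer hD.1).2 (le_normalizer_iff.2 fun s hs d hd => hPD s hs d hd)
      obtain ⟨z, hz, hzc, hzo⟩ := CfsgLib.Transfer.exists_mem_center_orderOf_eq P.2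
        (Z := D.subgroupOf (P : Subgroup G)) (fun h0 => hD0 (by
          have := map_subgroupOf_eq_of_le hD.1
          rwa [h0, Subgroup.map_bot, eq_comm] at this))
      intro h0
      have hzH : (z : G) ∈ H := by
        rw [hH]
        refine centralizer_le_normalizer _ (mem_centralizer_iff.2 fun v hv => ?_)
        exact congrArg Subtype.val (mem_center_iff.1 hzc ⟨v, hVP hv⟩)
      have : (z : G) ∈ D ⊓ H := ⟨hz, hzH⟩
      rw [h0, mem_bot] at this
      rw [← Subgroup.orderOf_coe, this, orderOf_one] at hzo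
      exact (Fact.out : p.Prime).ne_one hzo.symm
    have hZVle : ZV ≤ D ⊓ H := hZV ▸ hle _
    have hZVb : ZV ≠ ⊥ := hZV ▸ hne _ (P.2.to_le (inf_le_left.trans hD.1)) hDb
    have hZNP : ZV ≤ NP := hNP ▸ le_inf (hZVle.trans (inf_le_left.trans hD.1)) le_normalizer
    obtain ⟨Rs, hRs⟩ := ((P.2.to_le (hNP ▸ inf_le_left : NP ≤ (P : Subgroup G))).comap_subtype
      (K := normalizer (ZV : Set G))).exists_le_sylow
    obtain ⟨Q, hQ⟩ := (Rs.2.map (normalizer (ZV : Set G)).subtype).exists_le_sylow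
    obtain ⟨a', ha'⟩ := MulAction.exists_smul_eq G Q P
    have hmove : ∀ x : G, x ∈ (Rs : Subgroup _).map (normalizer (ZV : Set G)).subtype →
        a' * x * a'⁻¹ ∈ (P : Subgroup G) := fun x hx => ha' ▸ ⟨x, hQ hx, rfl⟩
    have hNPRs : NP ≤ (Rs : Subgroup _).map (normalizer (ZV : Set G)).subtype := fun x hx =>
      ⟨⟨x, (hNP.le hx).2⟩, hRs hx, rfl⟩
    obtain ⟨n, hn, hna⟩ := hbig NP (hNP ▸ inf_le_left) hNPlt a' fun u hu => hmove u (hNPRs hu)
    obtain ⟨V', hV'⟩ : ∃ V', V' = ZV.map (MulAut.conj a').toMonoidHom := ⟨_, rfl⟩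
    have hNV' : normalizer (V' : Set G) = (normalizer (ZV : Set G)).map (MulAut.conj a').toMonoidHom := by
      rw [hV']; exact (map_equiv_normalizer_eq ZV (MulAut.conj a')).symm
    have hRsP : ((Rs : Subgroup _).map (normalizer (ZV : Set G)).subtype).map (MulAut.conj a').toMonoidHom ≤
        (P : Subgroup G) ⊓ normalizer (V' : Set G) := by
      rintro _ ⟨x, hx, rfl⟩
      exact ⟨hmove x hx, hNV' ▸ mem_map_of_mem _ (map_subtype_le _ hx)⟩
    have hj' : Nat.card G - Nat.card ↥(D ⊓ normalizer (V' : Set G)) < j := by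
      have h1 : Nat.card ND ≤ Nat.card ↥(D ⊓ normalizer (V' : Set G)) := by
        rw [← Subgroup.card_map_of_injective (f := (MulAut.conj a').toMonoidHom) (K := ND) (MulAut.conj a').injective]
        refine card_le_of_le ?_
        rintro _ ⟨x, hx, rfl⟩
        have h2 := hRsP ⟨x, hNPRs (hNDP hx), rfl⟩
        exact ⟨hD.2 x (hND.le hx).1 a' h2.1, h2.2⟩
      have h2 := CfsgLib.Transfer.card_lt_of_lt hDlt
      have h3 := card_le_card_group (D ⊓ normalizer (V' : Set G))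
      omega
    have hsyl' : ¬ p ∣ ((P : Subgroup G) ⊓ normalizer (V' : Set G)).relIndex (normalizer (V' : Set G)) := by
      intro hd
      have h1 := hd.trans (relIndex_dvd_of_le_left (normalizer (V' : Set G)) hRsP)
      rw [hNV', relIndex_map_map_of_injective _ _ (MulAut.conj a').injective, relIndex, subgroupOf,
        comap_map_eq_self_of_injective (normalizer (ZV : Set G)).subtype_injective] at h1
      exact Rs.not_dvd_index h1
    have hV'b : V' ≠ ⊥ := fun h0 => hZVb ((map_eq_bot_iff_of_injective _ (MulAut.conj a').injective).1 (hV' ▸ h0))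
    obtain ⟨r, hr, hr'⟩ := ihj V' hj'
      (hV' ▸ (map_mono (hZNP.trans hNPRs)).trans (hRsP.trans inf_le_left)) hV'b hsyl'
      (U₁.map (MulAut.conj a').toMonoidHom) ((map_mono (hU₁NP.trans hNPRs)).trans hRsP)
      ((Subgroup.card_map_of_injective (MulAut.conj a').injective).trans hcard)
      (a' * m₁ * a'⁻¹) (hNV' ▸ ⟨m₁, hm₁Z, rfl⟩) (le_normalizer_map (MulAut.conj a').toMonoidHom
        ⟨m₁, mem_normalizer_iff_map_conj_eq.2 (eq_of_le_of_card_ge
          (by rintro _ ⟨u, hu, rfl⟩; exact hm₁U u hu)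
          (Subgroup.card_map_of_injective (MulAut.conj m₁).injective).ge), rfl⟩)
    refine ⟨n⁻¹ * r * n, N.mul_mem (N.mul_mem (N.inv_mem hn) hr) hn, fun u hu => ?_⟩
    calc n⁻¹ * r * n * u * (n⁻¹ * r * n)⁻¹ = n⁻¹ * (r * (n * u * n⁻¹) * r⁻¹) * n := by group
      _ = n⁻¹ * (r * (a' * u * a'⁻¹) * r⁻¹) * n := by rw [hna u (hU₁NP hu)]
      _ = n⁻¹ * (a' * (m₁ * u * m₁⁻¹) * a'⁻¹) * n := by
        rw [show r * (a' * u * a'⁻¹) * r⁻¹ = _ from hr' _ ⟨u, hu, rfl⟩]; group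
      _ = n⁻¹ * (n * (m₁ * u * m₁⁻¹) * n⁻¹) * n := by rw [hna _ (hU₁NP (hm₁U u hu))]
      _ = y * u * y⁻¹ := by rw [hagree u hu]; group
  -- Alperin paths
  have hpath := CfsgLib.Transfer.exists_fusionPath P (A := (U : Set G)) (g := y⁻¹) (fun u hu => hUP hu)
    (by rintro _ ⟨u, hu, rfl⟩; show y⁻¹⁻¹ * u * y⁻¹ ∈ (P : Subgroup G); rw [inv_inv]; exact hy u hu)
  suffices walk : ∀ (B : Set G) (g : G), CfsgLib.Transfer.FusionPath P B g →
      ∀ V : Subgroup G, (V : Set G) = B → Nat.card V = Nat.card U →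
        ∃ r ∈ N, ∀ v ∈ V, r * v * r⁻¹ = g⁻¹ * v * g by
    obtain ⟨r, hr, hr'⟩ := walk _ _ hpath U rfl rfl
    exact ⟨r, hr, fun u hu => by rw [hr' u hu]; group⟩
  intro B g h
  induction h with
  | one B => exact fun V _ _ => ⟨1, one_mem _, fun v _ => by simp⟩
  | step B Q x g ht hx hB _ ihp =>
    intro V hV hcV
    obtain ⟨I, hI⟩ : ∃ I, I = (P : Subgroup G) ⊓ (Q : Subgroup G) := ⟨_, rfl⟩
    have hVI : V ≤ I := fun v hv => hI ▸ hB (hV ▸ hv)
    have hxI : x⁻¹ ∈ normalizer (I : Set G) := hI ▸ inv_mem hx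
    have hstep : ActsAsMember N I x⁻¹ := by
      rcases lt_or_eq_of_le (hcV ▸ card_le_of_le hVI) with hlt | he
      · exact hbig I (hI ▸ inf_le_left) hlt x⁻¹ fun u hu => (hI.le ((mem_normalizer_iff.1 hxI u).1 hu)).1
      · refine hloc _ I (Nat.lt_succ_self _) (hI ▸ inf_le_left) ?_ (hI ▸ ht.1) I
          (le_inf (hI ▸ inf_le_left) le_normalizer) he.symm x⁻¹ hxI hxI
        intro h0
        rw [h0, card_bot] at he
        exact hUb (card_eq_one.1 he)
    obtain ⟨r₁, hr₁, hr₁'⟩ := hstep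
    obtain ⟨r₂, hr₂, hr₂'⟩ := ihp (V.map (MulAut.conj x⁻¹).toMonoidHom) (by
      rw [coe_map, hV]
      exact Set.image_congr fun a _ => by simp)
      ((Subgroup.card_map_of_injective (MulAut.conj x⁻¹).injective).trans hcV)
    refine ⟨r₂ * r₁, N.mul_mem hr₂ hr₁, fun v hv => ?_⟩
    calc r₂ * r₁ * v * (r₂ * r₁)⁻¹ = r₂ * (r₁ * v * r₁⁻¹) * r₂⁻¹ := by group
      _ = r₂ * (x⁻¹ * v * x⁻¹⁻¹) * r₂⁻¹ := by rw [hr₁' v (hVI hv)]
      _ = g⁻¹ * (x⁻¹ * v * x⁻¹⁻¹) * g := hr₂' _ ⟨v, hv, rfl⟩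
      _ = (x * g)⁻¹ * v * (x * g) := by group

theorem omega_centerThompsonOf_ne_bot {K : Type w} [Group K] [Finite K] (S : Subgroup K)
    (hS : IsPGroup p S) (hne : S ≠ ⊥) : Cfsg.omegaOne p (Cfsg.centerThompsonOf p S) ≠ ⊥ := by
  intro h0
  have hZ := CfsgLib.Transfer.centerThompsonOf_ne_bot hS hne
  have hZp : IsPGroup p ↥(Cfsg.centerThompsonOf p S) := hS.to_le (CfsgLib.Transfer.centerThompsonOf_le S)
  haveI : Nontrivial ↥(Cfsg.centerThompsonOf p S) := (nontrivial_iff_ne_bot _).2 hZ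
  obtain ⟨x, hx⟩ := exists_prime_orderOf_dvd_card' p
    (hZp.card_eq_or_dvd.resolve_left Finite.one_lt_card.ne')
  have hmem : (x : K) ∈ Cfsg.omegaOne p (Cfsg.centerThompsonOf p S) :=
    subset_closure ⟨x.2, congrArg Subtype.val (show x ^ p = 1 from orderOf_dvd_iff_pow_eq_one.1 hx.dvd)⟩
  rw [h0, mem_bot] at hmem
  rw [← Subgroup.orderOf_coe, hmem, orderOf_one] at hx
  exact (Fact.out : p.Prime).ne_one hx.symm

theorem controlsFusion_centerThompsonA_stronglyClosed (hp : p ≠ 2) {G : Type w} [Group G] [Finite G]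
    (P : Sylow p G) (D : Subgroup G) (hD : IsStronglyClosed D (P : Subgroup G)) (hst : IsNormalizerPStable p G)
    (hc : ∀ U : Subgroup G, U ≤ (P : Subgroup G) → U ≠ ⊥ → IsPConstrained p ↥(normalizer (U : Set G)))
    (A : Set G) (hA : A ⊆ (P : Subgroup G)) :
    ControlsStrongFusionOf (normalizer ((centerThompsonAOf D : Subgroup G) : Set G)) (P : Subgroup G) A := by
  refine controlsFusion_of_stronglyClosed hp (fun S => centerThompsonAOf S) (fun S => centerThompsonA_le S)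
    (fun f S hf => centerThompsonA_map f S hf) (fun S hS hne => centerThompsonA_ne_bot hS hne) ?_ P D hD hst hc A hA
  intro K _ _ hc' Q D' hD' hst'
  have := zCore_normal_of_closed hp (goodPred_abelian p) hc' Q hD' hst'
  rwa [zCore_abelian_eq] at this

theorem controlsFusion_omegaCenterThompson_stronglyClosed (hp : p ≠ 2) {G : Type w} [Group G] [Finite G]
    (P : Sylow p G) (D : Subgroup G) (hD : IsStronglyClosed D (P : Subgroup G)) (hst : IsNormalizerPStable p G)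
    (hc : ∀ U : Subgroup G, U ≤ (P : Subgroup G) → U ≠ ⊥ → IsPConstrained p ↥(normalizer (U : Set G)))
    (A : Set G) (hA : A ⊆ (P : Subgroup G)) :
    ControlsStrongFusionOf (normalizer ((Cfsg.omegaOne p (Cfsg.centerThompsonOf p D) : Subgroup G) : Set G))
      (P : Subgroup G) A := by
  refine controlsFusion_of_stronglyClosed hp (fun S => Cfsg.omegaOne p (Cfsg.centerThompsonOf p S))
    (fun S => omega_centerThompsonOf_le S) (fun f S hf => omega_centerThompsonOf_map f S hf)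
    (fun S hS hne => omega_centerThompsonOf_ne_bot S hS hne) ?_ P D hD hst hc A hA
  intro K _ _ hc' Q D' hD' hst'
  have := zCore_normal_of_closed hp (goodPred_elementary p) hc' Q hD' hst'
  rwa [zCore_elementary_eq, ← omega_centerThompsonOf_eq] at this

end CfsgLib.LocalEvenB
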