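import Cfsg.Agent.Lib.LocalEvenB.ZJLocalFree
import Cfsg.Agent.Lib.PLocal.SLTwo.QdFree

/-!
# Fusion control by a characteristic subgroup of a strongly closed subgroup, `Qd(p)`-free groups
-/

set_option autoImplicit false
set_option linter.all false

open scoped commutatorElement

universe w

namespace CfsgLib.LocalEvenB

open Subgroup Cfsg CfsgLib.PLocal
open scoped Pointwise

variable {p : ℕ} [Fact p.Prime]

theorem normalizer_le_normalizer_of_map {W : ∀ {K : Type w} [Group K] [Finite K], Subgroup K → Subgroup K}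
    (hmap : ∀ {K L : Type w} [Group K] [Finite K] [Group L] [Finite L] (f : K →* L)
      (S : Subgroup K), Disjoint S f.ker → (W S).map f = W (S.map f))
    {G : Type w} [Group G] [Finite G] (T : Subgroup G) :
    normalizer (T : Set G) ≤ normalizer ((W T : Subgroup G) : Set G) := by
  intro g hg
  rw [mem_normalizer_iff_map_conj_eq] at hg ⊢
  have h := hmap (MulAut.conj g).toMonoidHom T
    (by rw [(MonoidHom.ker_eq_bot_iff _).2 (MulAut.conj g).injective]; exact disjoint_bot_right)
  rw [show T.map (MulAut.conj g).toMonoidHom = T from hg] at h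
  exact h

/-- A functor on subgroups, normal at strongly closed subgroups of stable constrained groups, controls fusion in
`Qd(p)`-free groups. -/
theorem controlsFusion_of_stronglyClosed_noQd (hp : p ≠ 2)
    (W : ∀ {K : Type w} [Group K] [Finite K], Subgroup K → Subgroup K)
    (hle : ∀ {K : Type w} [Group K] [Finite K] (S : Subgroup K), W S ≤ S)
    (hmap : ∀ {K L : Type w} [Group K] [Finite K] [Group L] [Finite L] (f : K →* L)
      (S : Subgroup K), Disjoint S f.ker → (W S).map f = W (S.map f))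
    (hne : ∀ {K : Type w} [Group K] [Finite K] (S : Subgroup K), IsPGroup p S → S ≠ ⊥ → W S ≠ ⊥)
    (hnormal : ∀ {K : Type w} [Group K] [Finite K], centralizer (pCore p K : Set K) ≤ pCore p K →
      ∀ (Q : Sylow p K) (D : Subgroup K), IsStronglyClosed D (Q : Subgroup K) →
        StableAt p (Q : Subgroup K) → (W D).Normal)
    {G : Type w} [Group G] [Finite G] (S : Sylow p G) (D : Subgroup G)
    (hD : IsStronglyClosed D (S : Subgroup G)) (hfree : SLTwo.NoQd p G) (U : Subgroup G)
    (hU : U ≤ (S : Subgroup G)) (y : G) (hy : ∀ u ∈ U, y * u * y⁻¹ ∈ (S : Subgroup G)) :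
    ActsAsMember (normalizer ((W D : Subgroup G) : Set G)) U y := by
  suffices ∀ (n : ℕ) (G : Type w) [Group G] [Finite G], Nat.card G = n → ∀ (S : Sylow p G) (D : Subgroup G),
      IsStronglyClosed D (S : Subgroup G) → SLTwo.NoQd p G → ∀ U : Subgroup G, U ≤ (S : Subgroup G) → ∀ y : G,
        (∀ u ∈ U, y * u * y⁻¹ ∈ (S : Subgroup G)) →
        ActsAsMember (normalizer ((W D : Subgroup G) : Set G)) U y from
    this _ G rfl S D hD hfree U hU y hy
  intro n
  induction n using Nat.strong_induction_on with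
  | _ n ihn =>
  intro G _ _ hn S D hD hfree
  obtain ⟨N, hN⟩ : ∃ N, N = normalizer ((W D : Subgroup G) : Set G) := ⟨_, rfl⟩
  rw [← hN]
  have hWfix : ∀ (T : Subgroup G), normalizer (T : Set G) ≤ normalizer ((W T : Subgroup G) : Set G) := by
    intro T g hg
    rw [mem_normalizer_iff_map_conj_eq] at hg ⊢
    have h := hmap (MulAut.conj g).toMonoidHom T
      (by rw [(MonoidHom.ker_eq_bot_iff _).2 (MulAut.conj g).injective]; exact disjoint_bot_right)
    rw [show T.map (MulAut.conj g).toMonoidHom = T from hg] at h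
    exact h
  have hPD : ∀ s ∈ (S : Subgroup G), ∀ d ∈ D, s * d * s⁻¹ ∈ D := fun s hs d hd =>
    hD.2 d hd s ((S : Subgroup G).mul_mem ((S : Subgroup G).mul_mem hs (hD.1 hd)) ((S : Subgroup G).inv_mem hs))
  have hSD : (S : Subgroup G) ≤ normalizer (D : Set G) := le_normalizer_iff.2 hPD
  have hSN : (S : Subgroup G) ≤ N := hN ▸ hSD.trans (hWfix D)
  by_cases hDQ : D ≤ pCore p G
  · intro U _ y _
    refine ⟨y, ?_, fun u _ => rfl⟩
    have hDn : D.Normal := ⟨fun d hd g => hD.2 d hd g
      (CfsgLib.Core.pCore_le_sylow S ((CfsgLib.Core.normal_pCore p G).conj_mem d (hDQ hd) g))⟩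
    rw [hN]
    exact hWfix D (by rw [normalizer_eq_top_iff.2 hDn]; exact mem_top y)
  -- fusion in proper subgroups
  have hsub : ∀ M : Subgroup G, M ≠ ⊤ → ¬ p ∣ ((S : Subgroup G) ⊓ M).relIndex M →
      ∀ U : Subgroup G, U ≤ (S : Subgroup G) ⊓ M → ∀ y ∈ M, (∀ u ∈ U, y * u * y⁻¹ ∈ (S : Subgroup G)) →
        ActsAsMember (M ⊓ normalizer ((W (D ⊓ M) : Subgroup G) : Set G)) U y := by
    intro M hM hsyl U hU y hyM hy
    obtain ⟨T, hT⟩ : ∃ T : Sylow p ↥M, (T : Subgroup ↥M) = (S : Subgroup G).subgroupOf M := by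
      refine ⟨(S.2.comap_subtype (K := M)).toSylow ?_, rfl⟩
      intro hd
      apply hsyl
      rwa [inf_relIndex_right]
    obtain ⟨r, hr, hr'⟩ := ihn _ (hn ▸ CfsgLib.Core.card_subgroup_lt M hM) ↥M rfl T (D.subgroupOf M)
      (hT ▸ subgroupOf_isStronglyClosed M hD) (SLTwo.noQd_subgroup hfree M)
      (U.subgroupOf M) (hT ▸ fun u hu => (hU hu).1) ⟨y, hyM⟩ (hT ▸ fun u hu => hy _ hu)
    refine ⟨(r : G), ⟨r.2, ?_⟩, fun u hu => congrArg Subtype.val (hr' ⟨u, (hU hu).2⟩ hu)⟩
    have h1 := le_normalizer_map M.subtype (mem_map_of_mem M.subtype hr)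
    rwa [hmap M.subtype _ (by rw [M.ker_subtype]; exact disjoint_bot_right),
      subgroupOf_map_subtype] at h1
  -- subgroups containing `S`
  have hover : ∀ M : Subgroup G, M ≠ ⊤ → (S : Subgroup G) ≤ M →
      ∀ U : Subgroup G, U ≤ (S : Subgroup G) → ∀ y ∈ M, (∀ u ∈ U, y * u * y⁻¹ ∈ (S : Subgroup G)) →
        ActsAsMember N U y := by
    intro M hM hSM U hU y hyM hy
    obtain ⟨r, hr, hr'⟩ := hsub M hM (by
      rw [inf_eq_left.2 hSM]
      exact fun hd => S.not_dvd_index (hd.trans (relIndex_dvd_index_of_le hSM)))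
      U (le_inf hU (hU.trans hSM)) y hyM hy
    rw [inf_eq_left.2 (hD.1.trans hSM), ← hN] at hr
    exact ⟨r, hr.2, hr'⟩
  suffices main : ∀ (k : ℕ) (U : Subgroup G), Nat.card G - Nat.card U < k → U ≤ (S : Subgroup G) →
      ∀ y : G, (∀ u ∈ U, y * u * y⁻¹ ∈ (S : Subgroup G)) → ActsAsMember N U y from
    fun U hU y hy => main _ U (Nat.lt_succ_self _) hU y hy
  intro k
  induction k with
  | zero => intro U h; omega
  | succ k ih =>
  intro U hk hUP y hy
  by_cases hUb : U = ⊥
  · exact ⟨1, one_mem _, fun u hu => by rw [hUb, mem_bot] at hu; simp [hu]⟩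
  have hbig : ∀ V : Subgroup G, V ≤ (S : Subgroup G) → Nat.card U < Nat.card V → ∀ y : G,
      (∀ u ∈ V, y * u * y⁻¹ ∈ (S : Subgroup G)) → ActsAsMember N V y := fun V hV hlt =>
    ih V (by have := card_le_card_group V; omega) hV
  -- the chain of local subgroups, without normal `p`-subgroups
  have hloc : pCore p G = ⊥ → ∀ (j : ℕ) (V : Subgroup G),
      Nat.card G - Nat.card ↥(D ⊓ normalizer (V : Set G)) < j →
      V ≤ (S : Subgroup G) → V ≠ ⊥ →
      ¬ p ∣ ((S : Subgroup G) ⊓ normalizer (V : Set G)).relIndex (normalizer (V : Set G)) →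
      ∀ U₁ : Subgroup G, U₁ ≤ (S : Subgroup G) ⊓ normalizer (V : Set G) → Nat.card U₁ = Nat.card U →
        ∀ y ∈ normalizer (V : Set G), y ∈ normalizer (U₁ : Set G) → ActsAsMember N U₁ y := by
    intro hQ0 j
    induction j with
    | zero => intro V h; omega
    | succ j ihj =>
    intro V hj hVP hVb hsyl U₁ hU₁ hcard y hyV hyU
    obtain ⟨H, hH⟩ : ∃ H, H = normalizer (V : Set G) := ⟨_, rfl⟩
    rw [← hH] at hj hsyl hU₁ hyV
    have hHtop : H ≠ ⊤ := by
      intro ht
      haveI : V.Normal := normalizer_eq_top_iff.1 (hH ▸ ht)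
      exact hVb (le_bot_iff.1 (hQ0 ▸ CfsgLib.Core.le_pCore (S.2.to_le hVP)))
    obtain ⟨ZV, hZV⟩ : ∃ ZV, ZV = W (D ⊓ H) := ⟨_, rfl⟩
    obtain ⟨m₁, hm₁, hagree⟩ := hsub H hHtop hsyl U₁ hU₁ y hyV
      fun u hu => (hU₁ (conj_mem_of_normalizer hyU u hu)).1
    have hm₁U : ∀ u ∈ U₁, m₁ * u * m₁⁻¹ ∈ U₁ := fun u hu => hagree u hu ▸ conj_mem_of_normalizer hyU u hu
    rw [← hZV] at hm₁
    have hm₁Z : m₁ ∈ normalizer (ZV : Set G) := hm₁.2
    by_cases hDle : D ≤ H
    · refine ⟨m₁, ?_, hagree⟩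
      rw [hN]
      rwa [hZV, inf_eq_left.2 hDle] at hm₁Z
    obtain ⟨ND, hND⟩ : ∃ ND, ND = D ⊓ normalizer ((D ⊓ H : Subgroup G) : Set G) := ⟨_, rfl⟩
    have hDlt : D ⊓ H < ND :=
      hND ▸ CfsgLib.Transfer.lt_inf_normalizer (S.2.to_le hD.1) (lt_of_le_of_ne inf_le_left fun e => hDle (inf_eq_left.1 e))
    obtain ⟨NP, hNP⟩ : ∃ NP, NP = (S : Subgroup G) ⊓ normalizer (ZV : Set G) := ⟨_, rfl⟩
    have hNDP : ND ≤ NP := by
      rw [hND, hNP, hZV]
      exact le_inf (inf_le_left.trans hD.1) (inf_le_right.trans (hWfix _))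
    have hSHN : (S : Subgroup G) ⊓ H ≤ normalizer ((D ⊓ H : Subgroup G) : Set G) :=
      (inf_le_inf hSD le_normalizer).trans inf_normalizer_le_normalizer_inf
    have hU₁NP : U₁ ≤ NP :=
      hNP ▸ le_inf (hU₁.trans inf_le_left) (hZV ▸ hU₁.trans (hSHN.trans (hWfix _)))
    have hNPlt : Nat.card U < Nat.card NP := by
      rw [← hcard]
      refine CfsgLib.Transfer.card_lt_of_lt (lt_of_le_of_ne hU₁NP fun e => hDlt.not_ge ?_)
      refine le_inf (hND ▸ inf_le_left) ?_
      exact (e ▸ hNDP).trans (hU₁.trans inf_le_right)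
    have hDb : D ⊓ H ≠ ⊥ := by
      haveI : (D.subgroupOf (S : Subgroup G)).Normal :=
        (normal_subgroupOf_iff_le_normalizer hD.1).2 hSD
      obtain ⟨z, hz, hzc, hzo⟩ := CfsgLib.Transfer.exists_mem_center_orderOf_eq S.2
        (Z := D.subgroupOf (S : Subgroup G)) (fun h0 => hDQ (by
          have := map_subgroupOf_eq_of_le hD.1
          rw [h0, Subgroup.map_bot] at this
          exact this ▸ bot_le))
      intro h0
      have hzH : (z : G) ∈ H := by
        rw [hH]
        refine centralizer_le_normalizer _ (mem_centralizer_iff.2 fun v hv => ?_)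
        exact congrArg Subtype.val (mem_center_iff.1 hzc ⟨v, hVP hv⟩)
      have : (z : G) ∈ D ⊓ H := ⟨hz, hzH⟩
      rw [h0, mem_bot] at this
      rw [← Subgroup.orderOf_coe, this, orderOf_one] at hzo
      exact (Fact.out : p.Prime).ne_one hzo.symm
    have hZVle : ZV ≤ D ⊓ H := hZV ▸ hle _
    have hZVb : ZV ≠ ⊥ := hZV ▸ hne _ (S.2.to_le (inf_le_left.trans hD.1)) hDb
    have hZNP : ZV ≤ NP := hNP ▸ le_inf (hZVle.trans (inf_le_left.trans hD.1)) le_normalizer
    obtain ⟨Rs, hRs⟩ := ((S.2.to_le (hNP ▸ inf_le_left : NP ≤ (S : Subgroup G))).comap_subtype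
      (K := normalizer (ZV : Set G))).exists_le_sylow
    obtain ⟨Q, hQ⟩ := (Rs.2.map (normalizer (ZV : Set G)).subtype).exists_le_sylow
    obtain ⟨a', ha'⟩ := MulAction.exists_smul_eq G Q S
    have hmove : ∀ x : G, x ∈ (Rs : Subgroup _).map (normalizer (ZV : Set G)).subtype →
        a' * x * a'⁻¹ ∈ (S : Subgroup G) := fun x hx => ha' ▸ ⟨x, hQ hx, rfl⟩
    have hNPRs : NP ≤ (Rs : Subgroup _).map (normalizer (ZV : Set G)).subtype := fun x hx =>
      ⟨⟨x, (hNP.le hx).2⟩, hRs hx, rfl⟩
    obtain ⟨n', hn', hna⟩ := hbig NP (hNP ▸ inf_le_left) hNPlt a' fun u hu => hmove u (hNPRs hu)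
    obtain ⟨V', hV'⟩ : ∃ V', V' = ZV.map (MulAut.conj a').toMonoidHom := ⟨_, rfl⟩
    have hNV' : normalizer (V' : Set G) = (normalizer (ZV : Set G)).map (MulAut.conj a').toMonoidHom := by
      rw [hV']; exact (map_equiv_normalizer_eq ZV (MulAut.conj a')).symm
    have hRsP : ((Rs : Subgroup _).map (normalizer (ZV : Set G)).subtype).map (MulAut.conj a').toMonoidHom ≤
        (S : Subgroup G) ⊓ normalizer (V' : Set G) := by
      rintro _ ⟨x, hx, rfl⟩
      exact ⟨hmove x hx, hNV' ▸ mem_map_of_mem _ (map_subtype_le _ hx)⟩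
    have hj' : Nat.card G - Nat.card ↥(D ⊓ normalizer (V' : Set G)) < j := by
      have h1 : Nat.card ND ≤ Nat.card ↥(D ⊓ normalizer (V' : Set G)) := by
        rw [← Subgroup.card_map_of_injective (f := (MulAut.conj a').toMonoidHom) (K := ND) (MulAut.conj a').injective]
        refine card_le_of_le ?_
        rintro _ ⟨x, hx, rfl⟩
        have h2 := hRsP ⟨x, hNPRs (hNDP hx), rfl⟩
        exact ⟨hD.2 x (hND.le hx).1 a' h2.1, h2.2⟩
      have h2 := CfsgLib.Transfer.card_lt_of_lt hDlt
      have h3 := card_le_card_group (D ⊓ normalizer (V' : Set G))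
      omega
    have hsyl' : ¬ p ∣ ((S : Subgroup G) ⊓ normalizer (V' : Set G)).relIndex (normalizer (V' : Set G)) := by
      intro hd
      have h1 := hd.trans (relIndex_dvd_of_le_left (normalizer (V' : Set G)) hRsP)
      rw [hNV', relIndex_map_map_of_injective _ _ (MulAut.conj a').injective, relIndex, subgroupOf,
        comap_map_eq_self_of_injective (normalizer (ZV : Set G)).subtype_injective] at h1
      exact Rs.not_dvd_index h1
    have hV'b : V' ≠ ⊥ := fun h0 => hZVb ((map_eq_bot_iff_of_injective _ (MulAut.conj a').injective).1 (hV' ▸ h0))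
    obtain ⟨r, hr, hr'⟩ := ihj V' hj'
      (hV' ▸ (map_mono (hZNP.trans hNPRs)).trans (hRsP.trans inf_le_left)) hV'b hsyl'
      (U₁.map (MulAut.conj a').toMonoidHom) ((map_mono (hU₁NP.trans hNPRs)).trans hRsP)
      ((Subgroup.card_map_of_injective (MulAut.conj a').injective).trans hcard)
      (a' * m₁ * a'⁻¹) (hNV' ▸ ⟨m₁, hm₁Z, rfl⟩) (le_normalizer_map (MulAut.conj a').toMonoidHom
        ⟨m₁, mem_normalizer_iff_map_conj_eq.2 (eq_of_le_of_card_ge
          (by rintro _ ⟨u, hu, rfl⟩; exact hm₁U u hu)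
          (Subgroup.card_map_of_injective (MulAut.conj m₁).injective).ge), rfl⟩)
    refine ⟨n'⁻¹ * r * n', N.mul_mem (N.mul_mem (N.inv_mem hn') hr) hn', fun u hu => ?_⟩
    calc n'⁻¹ * r * n' * u * (n'⁻¹ * r * n')⁻¹ = n'⁻¹ * (r * (n' * u * n'⁻¹) * r⁻¹) * n' := by group
      _ = n'⁻¹ * (r * (a' * u * a'⁻¹) * r⁻¹) * n' := by rw [hna u (hU₁NP hu)]
      _ = n'⁻¹ * (a' * (m₁ * u * m₁⁻¹) * a'⁻¹) * n' := by
        rw [show r * (a' * u * a'⁻¹) * r⁻¹ = _ from hr' _ ⟨u, hu, rfl⟩]; group
      _ = n'⁻¹ * (n' * (m₁ * u * m₁⁻¹) * n'⁻¹) * n' := by rw [hna _ (hU₁NP (hm₁U u hu))]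
      _ = y * u * y⁻¹ := by rw [hagree u hu]; group
  -- with a nontrivial `O_p`
  obtain ⟨Q, hQ⟩ : ∃ Q, Q = pCore p G := ⟨_, rfl⟩
  haveI hQn : Q.Normal := hQ ▸ CfsgLib.Core.normal_pCore p G
  have hQp : IsPGroup p Q := hQ ▸ CfsgLib.Core.isPGroup_pCore p G
  have hQS : Q ≤ (S : Subgroup G) := hQ ▸ CfsgLib.Core.pCore_le_sylow S
  have hcore : Q ≠ ⊥ → ∀ I : Subgroup G, I ≤ (S : Subgroup G) →
      ¬ p ∣ ((S : Subgroup G) ⊓ normalizer (I : Set G)).relIndex (normalizer (I : Set G)) →
      Nat.card I = Nat.card U → ∀ z ∈ normalizer (I : Set G), ActsAsMember N I z := by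
    intro hQb I hIS hsyl hcard z hz
    obtain ⟨H, hH⟩ : ∃ H, H = normalizer (I : Set G) := ⟨_, rfl⟩
    rw [← hH] at hsyl
    by_cases hQI : ¬ Q ≤ I
    · have hlt : I < I ⊔ Q := lt_of_le_of_ne le_sup_left fun e => hQI (le_sup_right.trans e.ge)
      have hle : I ⊔ Q ≤ (S : Subgroup G) := sup_le hIS hQS
      have hzN : z ∈ normalizer ((I ⊔ Q : Subgroup G) : Set G) :=
        normalizer_inf_le_normalizer_sup hz (le_normalizer_of_normal (mem_top z))
      obtain ⟨r, hr, hr'⟩ := hbig _ hle (hcard ▸ CfsgLib.Transfer.card_lt_of_lt hlt) z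
        fun u hu => hle (conj_mem_of_normalizer hzN u hu)
      exact ⟨r, hr, fun u hu => hr' u (mem_sup_left hu)⟩
    push Not at hQI
    obtain ⟨CS, hCS⟩ : ∃ CS, CS = centralizer (Q : Set G) ⊓ (S : Subgroup G) := ⟨_, rfl⟩
    by_cases hCSQ : CS ≤ Q
    · -- constrained modulo the core
      obtain ⟨O, hO⟩ : ∃ O, O = pPrimeCore p G := ⟨_, rfl⟩
      haveI : O.Normal := hO ▸ CfsgLib.Core.normal_pPrimeCore p _
      have hOc : (Nat.card O).Coprime p := hO ▸ CfsgLib.Core.coprime_card_pPrimeCore p _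
      obtain ⟨C, hC⟩ : ∃ C, C = centralizer (Q : Set G) := ⟨_, rfl⟩
      haveI : C.Normal := hC ▸ inferInstance
      have hCO : C ≤ Q ⊔ O := by
        -- `C ∩ S` is central in `C`
        have hd : ¬ p ∣ CS.relIndex C := by
          rw [hCS, ← hC, inf_comm, inf_relIndex_right]
          exact fun hd => S.not_dvd_index (hd.trans (CfsgLib.HallGen.relIndex_dvd_index_right _ _))
        haveI : (CS.subgroupOf C).Normal := by
          refine ⟨fun x hx g => ?_⟩
          have hxQ : (x : G) ∈ Q := hCSQ hx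
          have h1 : (g : G) * (x : G) = (x : G) * (g : G) :=
            (mem_centralizer_iff.1 (hC ▸ g.2 : (g : G) ∈ centralizer (Q : Set G)) _ hxQ).symm
          rw [mem_subgroupOf, Subgroup.coe_mul, Subgroup.coe_mul, Subgroup.coe_inv, h1, mul_inv_cancel_right]
          exact hx
        have hcs : IsPGroup p ↥(CS.subgroupOf C) := (S.2.to_le (hCS ▸ inf_le_right)).comap_subtype
        have hcop : (Nat.card (CS.subgroupOf C)).Coprime (CS.subgroupOf C).index := by
          obtain ⟨i, hi⟩ := IsPGroup.iff_card.1 hcs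
          rw [hi]
          exact ((Nat.Prime.coprime_iff_not_dvd Fact.out).2 hd).pow_left i
        obtain ⟨K, hK⟩ := exists_right_complement'_of_coprime hcop
        have hKn : K.Normal := by
          rw [← normalizer_eq_top_iff, eq_top_iff, ← hK.sup_eq_top]
          refine sup_le (le_trans ?_ (centralizer_le_normalizer _)) le_normalizer
          intro x hx
          rw [mem_centralizer_iff]
          intro t _
          exact Subtype.ext (mem_centralizer_iff.1 (hC ▸ t.2 : (t : G) ∈ centralizer (Q : Set G)) _ (hCSQ hx)).symm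
        have hKc : (Nat.card K).Coprime p := by
          rw [← hK.symm.index_eq_card]
          exact ((Nat.Prime.coprime_iff_not_dvd Fact.out).2 hd).symm
        haveI := hKn
        intro x hx
        have h1 := congrArg (Subgroup.map C.subtype) hK.sup_eq_top
        rw [Subgroup.map_sup, ← MonoidHom.range_eq_map, range_subtype, subgroupOf_map_subtype] at h1
        rw [← h1] at hx
        refine sup_le_sup (inf_le_left.trans hCSQ) ?_ hx
        rw [hO]
        exact (map_mono (CfsgLib.Core.le_pPrimeCore hKc)).trans (CfsgLib.Core.map_subtype_pPrimeCore_le C)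
      obtain ⟨π, hπ⟩ : ∃ π, π = QuotientGroup.mk' O := ⟨_, rfl⟩
      have hπs : Function.Surjective π := hπ ▸ QuotientGroup.mk'_surjective O
      have hker : π.ker = O := hπ ▸ QuotientGroup.ker_mk' O
      have hcK : centralizer (pCore p (G ⧸ O) : Set (G ⧸ O)) ≤ pCore p (G ⧸ O) := by
        have h1 : Q.map π ≤ pCore p (G ⧸ O) := by
          haveI : (Q.map π).Normal := hQn.map π hπs
          exact CfsgLib.Core.le_pCore (hQp.map _)
        refine (centralizer_le (SetLike.coe_subset_coe.2 h1)).trans (le_trans ?_ h1)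
        rw [hπ, ← map_centralizer_eq O hOc hQp, ← hπ, ← hC, map_le_iff_le_comap, comap_map_eq, hker]
        exact hCO
      have hdisj : Disjoint D π.ker := by rw [hker]; exact disjoint_of_isPGroup hOc (S.2.to_le hD.1)
      have hZn : ((W D).map π).Normal := by
        rw [hmap π D hdisj]
        refine hnormal hcK (S.mapSurjective hπs) _ ?_
          (SLTwo.stableAt_of_noQd hp (SLTwo.noQd_of_surjective π hπs hfree) _)
        rw [Sylow.coe_mapSurjective]
        exact map_isStronglyClosed π hπs (hker.symm ▸ hOc) S hD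
      have htop : N ⊔ O = ⊤ := by
        have h1 : N.map π = ⊤ := by
          rw [hN, hπ, map_normalizer_eq O hOc (S.2.to_le ((hle D).trans hD.1)), ← hπ, normalizer_eq_top_iff]
          exact hZn
        have h2 := congrArg (Subgroup.comap π) h1
        rwa [comap_map_eq, hker, comap_top] at h2
      exact absorb_core hOc htop (S.2.to_le hIS) (hIS.trans hSN) hz
    -- the centralizer of `Q` is not inside
    by_cases hCSI : CS ≤ I
    · obtain ⟨R, hR⟩ : ∃ R, R = I ⊓ (Q ⊔ centralizer (Q : Set G)) := ⟨_, rfl⟩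
      have hRS : R = (S : Subgroup G) ⊓ (Q ⊔ centralizer (Q : Set G)) := by
        refine le_antisymm (hR ▸ inf_le_inf_right _ hIS) ?_
        rw [hR]
        rintro x ⟨hxS, hxC⟩
        refine ⟨?_, hxC⟩
        obtain ⟨a, ha, b, hb, rfl⟩ := mem_sup_of_normal_left.1 hxC
        have hbS : b ∈ (S : Subgroup G) := by
          have := (S : Subgroup G).mul_mem ((S : Subgroup G).inv_mem (hQS ha)) hxS
          rwa [inv_mul_cancel_left] at this
        exact I.mul_mem (hQI ha) (hCSI (hCS.ge ⟨hb, hbS⟩))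
      have hRtop : normalizer (R : Set G) ≠ ⊤ := by
        intro ht
        haveI : R.Normal := normalizer_eq_top_iff.1 ht
        refine hCSQ ?_
        intro x hx
        have h1 : x ∈ R := hRS.ge ⟨(hCS.le hx).2, mem_sup_right (hCS.le hx).1⟩
        exact hQ.ge (CfsgLib.Core.le_pCore (S.2.to_le (hRS.le.trans inf_le_left)) h1)
      refine hover _ hRtop ?_ I hIS z ?_ fun u hu => hIS (conj_mem_of_normalizer hz u hu)
      · rw [hRS]
        exact (le_inf le_normalizer le_normalizer_of_normal).trans inf_normalizer_le_normalizer_inf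
      · rw [hR]
        exact inf_normalizer_le_normalizer_inf ⟨hz, le_normalizer_of_normal (mem_top z)⟩
    -- the part of the centralizer in the normalizer
    obtain ⟨CT, hCT⟩ : ∃ CT, CT = centralizer (Q : Set G) ⊓ ((S : Subgroup G) ⊓ H) := ⟨_, rfl⟩
    have hCTI : ¬ CT ≤ I := by
      intro hle
      apply hCSI
      haveI : (centralizer (Q : Set G)).Normal := inferInstance
      have hIn : I ≤ normalizer (CS : Set G) := by
        rw [hCS]
        exact (le_inf le_normalizer_of_normal (hIS.trans le_normalizer)).trans inf_normalizer_le_normalizer_inf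
      by_contra hne
      have hlt : I < I ⊔ CS := lt_of_le_of_ne le_sup_left fun e => hne (le_sup_right.trans e.ge)
      have hle2 : I ⊔ CS ≤ (S : Subgroup G) := sup_le hIS (hCS ▸ inf_le_right)
      have h1 := CfsgLib.Transfer.lt_inf_normalizer (S.2.to_le hle2) hlt
      refine h1.not_ge ?_
      rintro x ⟨hx, hxN⟩
      have hx' : x ∈ ((CS : Set G) * (I : Set G)) := by
        rw [← coe_mul_of_right_le_normalizer_left _ _ hIn, ← sup_comm]
        exact hx
      obtain ⟨c, hc, u, hu, rfl⟩ := Set.mem_mul.1 hx'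
      have hcN : c ∈ normalizer (I : Set G) := by
        have := (normalizer (I : Set G)).mul_mem hxN (inv_mem (le_normalizer hu))
        rwa [mul_inv_cancel_right] at this
      exact I.mul_mem (hle (hCT.ge ⟨(hCS.le hc).1, (hCS.le hc).2, hH.ge hcN⟩)) hu
    -- quotient argument when `G = C(Q) S`
    have hcase : ∀ w ∈ normalizer (I : Set G), w ∈ centralizer (Q : Set G) ⊔ (S : Subgroup G) → ActsAsMember N I w := by
      intro w hw hwM
      by_cases hM : centralizer (Q : Set G) ⊔ (S : Subgroup G) ≠ ⊤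
      · exact hover _ hM le_sup_right I hIS w hwM fun u hu => hIS (conj_mem_of_normalizer hw u hu)
      push Not at hM
      obtain ⟨π, hπ⟩ : ∃ π, π = QuotientGroup.mk' Q := ⟨_, rfl⟩
      have hπs : Function.Surjective π := hπ ▸ QuotientGroup.mk'_surjective Q
      have hker : π.ker = Q := hπ ▸ QuotientGroup.ker_mk' Q
      obtain ⟨Sb, hSb⟩ : ∃ Sb : Sylow p (G ⧸ Q), (Sb : Subgroup (G ⧸ Q)) = (S : Subgroup G).map π :=
        ⟨S.mapSurjective hπs, Sylow.coe_mapSurjective _ _⟩
      have hlt : Nat.card (G ⧸ Q) < n := hn ▸ CfsgLib.Core.card_quotient_lt _ hQb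
      have hDb : IsStronglyClosed (D.map π) (Sb : Subgroup (G ⧸ Q)) := by
        rw [hSb]
        refine ⟨map_mono hD.1, ?_⟩
        rintro _ ⟨d, hd, rfl⟩ gb hgb
        obtain ⟨g, rfl⟩ := hπs gb
        rw [← map_inv, ← map_mul, ← map_mul] at hgb ⊢
        obtain ⟨s, hs, hsg⟩ := hgb
        refine mem_map_of_mem _ (hD.2 d hd g ?_)
        have h1 : s⁻¹ * (g * d * g⁻¹) ∈ Q := by
          rw [← hker, MonoidHom.mem_ker, map_mul, map_inv, hsg, inv_mul_cancel]
        have h2 := (S : Subgroup G).mul_mem hs (hQS h1)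
        rwa [mul_inv_cancel_left] at h2
      obtain ⟨rb, hrb, hrb'⟩ := ihn _ hlt (G ⧸ Q) rfl Sb (D.map π) hDb (SLTwo.noQd_of_surjective π hπs hfree)
        (I.map π) (hSb ▸ map_mono hIS) (π w) (by
          rintro _ ⟨u, hu, rfl⟩
          rw [hSb, ← map_mul, ← map_inv, ← map_mul]
          exact mem_map_of_mem _ (hIS (conj_mem_of_normalizer hw u hu)))
      obtain ⟨Zb, hZb⟩ : ∃ Zb, Zb = W (D.map π) := ⟨_, rfl⟩
      rw [← hZb] at hrb
      obtain ⟨M, hM'⟩ : ∃ M, M = (normalizer (Zb : Set (G ⧸ Q))).comap π := ⟨_, rfl⟩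
      obtain ⟨r, rfl⟩ := hπs rb
      have hSM : (S : Subgroup G) ≤ M := by
        rw [hM']
        intro s hs
        rw [mem_comap, hZb]
        refine normalizer_le_normalizer_of_map hmap _ ?_
        exact le_normalizer_map π (mem_map_of_mem π (hSD hs))
      have hDQ' : ¬ D ≤ Q := hQ ▸ hDQ
      have hMtop : M ≠ ⊤ := by
        intro ht
        have hX : normalizer ((Zb.comap π : Subgroup G) : Set G) = ⊤ := by
          rw [← comap_normalizer_eq_of_surjective _ hπs, ← hM', ht]
        haveI : (Zb.comap π).Normal := normalizer_eq_top_iff.1 hX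
        have hZp : IsPGroup p ↥(Zb.comap π) :=
          (((S.2.to_le hD.1).map π).to_le (hZb ▸ hle _)).comap_of_ker_isPGroup π (by rw [hker]; exact hQp)
        have hZb0 : Zb ≠ ⊥ := hZb ▸ hne _ ((S.2.to_le hD.1).map π) (by
          rw [Ne, Subgroup.map_eq_bot_iff, hker]; exact hDQ')
        refine hZb0 ?_
        rw [← map_comap_eq_self_of_surjective hπs Zb, Subgroup.map_eq_bot_iff, hker]
        exact (CfsgLib.Core.le_pCore hZp).trans hQ.ge
      have hmod : ∀ u ∈ I, (w * u * w⁻¹)⁻¹ * (r * u * r⁻¹) ∈ Q := by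
        intro u hu
        rw [← hker, MonoidHom.mem_ker, map_mul, map_inv]
        have h1 := hrb' _ ⟨u, hu, rfl⟩
        simp only [map_mul, map_inv]
        rw [h1, inv_mul_cancel]
      have hrI : ∀ u ∈ I, r * u * r⁻¹ ∈ I := by
        intro u hu
        have := I.mul_mem (conj_mem_of_normalizer hw u hu) (hQI (hmod u hu))
        rwa [mul_inv_cancel_left] at this
      have hrN : r ∈ normalizer (I : Set G) := mem_normalizer_iff_map_conj_eq.2 (eq_of_le_of_card_ge
        (by rintro _ ⟨u, hu, rfl⟩; exact hrI u hu) (Subgroup.card_map_of_injective (MulAut.conj r).injective).ge)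
      obtain ⟨v, hv⟩ : ∃ v, v = r⁻¹ * w := ⟨_, rfl⟩
      have hvN : v ∈ normalizer (I : Set G) := hv ▸ mul_mem (inv_mem hrN) hw
      -- elements acting trivially on `I / Q`
      let L : Subgroup ↥(normalizer (I : Set G)) :=
        { carrier := {x | ∀ u ∈ I, π ((x : G) * u * (x : G)⁻¹) = π u}
          one_mem' := fun u hu => by simp
          mul_mem' := fun {a b} ha hb u hu => by
            have e : ((a * b : ↥(normalizer (I : Set G))) : G) * u * ((a * b : ↥(normalizer (I : Set G))) : G)⁻¹ =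
                (a : G) * ((b : G) * u * (b : G)⁻¹) * (a : G)⁻¹ := by push_cast; group
            rw [e, ha _ (conj_mem_of_normalizer b.2 u hu), hb u hu]
          inv_mem' := fun {a} ha u hu => by
            have h2 := ha _ (conj_mem_of_normalizer (inv_mem a.2) u hu)
            have e : (a : G) * ((a : G)⁻¹ * u * (a : G)⁻¹⁻¹) * (a : G)⁻¹ = u := by group
            rw [e] at h2
            simpa using h2.symm }
      obtain ⟨CI, hCI⟩ : ∃ CI, CI = (centralizer (I : Set G)).subgroupOf (normalizer (I : Set G)) := ⟨_, rfl⟩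
      haveI : CI.Normal := by
        rw [hCI]
        refine ⟨fun x hx g => mem_centralizer_iff.2 fun u hu => ?_⟩
        have h1 : ((g : G)⁻¹ * u * (g : G)⁻¹⁻¹) * (x : G) = (x : G) * ((g : G)⁻¹ * u * (g : G)⁻¹⁻¹) :=
          mem_centralizer_iff.1 hx _ (conj_mem_of_normalizer (inv_mem g.2) u hu)
        push_cast
        calc u * ((g : G) * (x : G) * (g : G)⁻¹) = (g : G) * (((g : G)⁻¹ * u * (g : G)⁻¹⁻¹) * (x : G)) * (g : G)⁻¹ := by group
          _ = (g : G) * ((x : G) * ((g : G)⁻¹ * u * (g : G)⁻¹⁻¹)) * (g : G)⁻¹ := by rw [h1]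
          _ = (g : G) * (x : G) * (g : G)⁻¹ * u := by group
      have hCIL : CI ≤ L := by
        intro x hx u hu
        rw [hCI] at hx
        have h1 : u * (x : G) = (x : G) * u := mem_centralizer_iff.1 hx u hu
        rw [← h1, mul_inv_cancel_right]
      haveI hLn : L.Normal := by
        refine ⟨fun x hx g u hu => ?_⟩
        have h2 := congrArg (fun t => π (g : G) * t * π (g : G)⁻¹)
          (hx _ (conj_mem_of_normalizer (inv_mem g.2) u hu))
        simp only [← map_mul] at h2
        convert h2 using 2 <;> push_cast <;> group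
      have hLp : IsPGroup p ↥(L.map (QuotientGroup.mk' CI)) := by
        rintro ⟨_, x, hx, rfl⟩
        -- a power centralizes `Q`
        obtain ⟨j₁, hj₁⟩ : ∃ j, ((x : G)) ^ p ^ j ∈ centralizer (Q : Set G) := by
          have hp' : IsPGroup p ↥((S : Subgroup G).map (QuotientGroup.mk' (centralizer (Q : Set G)))) := S.2.map _
          have htop : (S : Subgroup G).map (QuotientGroup.mk' (centralizer (Q : Set G))) = ⊤ := by
            refine eq_top_iff.2 fun z _ => ?_
            obtain ⟨g, rfl⟩ := QuotientGroup.mk'_surjective _ z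
            obtain ⟨c, hc, s, hs, rfl⟩ := mem_sup_of_normal_left.1 (hM.ge (mem_top g))
            exact ⟨s, hs, by rw [map_mul, (QuotientGroup.eq_one_iff c).2 hc |> fun e => show QuotientGroup.mk' _ c = 1 from e, one_mul]⟩
          obtain ⟨j, hj⟩ := hp' ⟨QuotientGroup.mk' _ (x : G), htop.ge (mem_top _)⟩
          refine ⟨j, (QuotientGroup.eq_one_iff _).1 ?_⟩
          exact (map_pow (QuotientGroup.mk' (centralizer (Q : Set G))) _ _).trans (congrArg Subtype.val hj)
        obtain ⟨j₂, hj₂⟩ := IsPGroup.iff_card.1 hQp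
        refine ⟨j₁ + j₂, Subtype.ext ?_⟩
        show (QuotientGroup.mk' CI x) ^ p ^ (j₁ + j₂) = 1
        rw [← map_pow]
        refine (QuotientGroup.eq_one_iff _).2 ?_
        rw [hCI, mem_subgroupOf, mem_centralizer_iff]
        intro u hu
        obtain ⟨a, ha⟩ : ∃ a, a = (x : G) ^ p ^ j₁ := ⟨_, rfl⟩
        obtain ⟨q, hq⟩ : ∃ q, q = u⁻¹ * (a * u * a⁻¹) := ⟨_, rfl⟩
        have hqQ : q ∈ Q := by
          have hxL : x ^ p ^ j₁ ∈ L := pow_mem hx _
          have h3 := hxL u hu
          rw [Subgroup.coe_pow, ← ha] at h3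
          rw [hq, ← hker, MonoidHom.mem_ker, map_mul, h3, ← map_mul, inv_mul_cancel, map_one]
        have haq : a * q * a⁻¹ = q := by
          rw [← mem_centralizer_iff.1 (ha ▸ hj₁) q hqQ, mul_inv_cancel_right]
        have hpow : ∀ i : ℕ, a ^ i * u * (a ^ i)⁻¹ = u * q ^ i := by
          intro i
          induction i with
          | zero => simp
          | succ i ih' =>
            have hqi : a * q ^ i * a⁻¹ = q ^ i := by rw [← conj_pow, haq]
            calc a ^ (i + 1) * u * (a ^ (i + 1))⁻¹ = a * (a ^ i * u * (a ^ i)⁻¹) * a⁻¹ := by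
                  rw [pow_succ']; group
              _ = (a * u * a⁻¹) * (a * q ^ i * a⁻¹) := by rw [ih']; simp [mul_assoc]
              _ = u * q ^ (i + 1) := by
                  rw [hqi, show a * u * a⁻¹ = u * q by rw [hq]; group, pow_succ', mul_assoc]
        have hq1 : q ^ p ^ j₂ = 1 := by
          rw [← hj₂]
          exact congrArg Subtype.val (pow_card_eq_one' (x := (⟨q, hqQ⟩ : ↥Q)))
        have h4 := hpow (p ^ j₂)
        rw [hq1, mul_one, ha, ← pow_mul, ← pow_add, mul_inv_eq_iff_eq_mul] at h4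
        rw [Subgroup.coe_pow]
        exact h4.symm
      obtain ⟨T, hT⟩ : ∃ T : Sylow p ↥(normalizer (I : Set G)), (T : Subgroup ↥(normalizer (I : Set G))) = (S : Subgroup G).subgroupOf (normalizer (I : Set G)) := by
        refine ⟨(S.2.comap_subtype (K := normalizer (I : Set G))).toSylow ?_, rfl⟩
        intro hd
        apply hsyl
        rw [hH]
        rwa [inf_relIndex_right]
      obtain ⟨j₃, hj₃⟩ := IsPGroup.iff_card.1 hLp
      have hdec := pGroup_mod_eq_sup hCIL ⟨j₃, by
        have h0 := relIndex_ker (QuotientGroup.mk' CI) (K := L)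
        rw [QuotientGroup.ker_mk'] at h0
        rw [h0, hj₃]⟩ T
      have hvL : (⟨v, hvN⟩ : ↥(normalizer (I : Set G))) ∈ L := by
        intro u hu
        show π (v * u * v⁻¹) = π u
        have h1 := hrb' _ ⟨u, hu, rfl⟩
        rw [hv]
        simp only [map_mul, map_inv, mul_inv_rev, inv_inv]
        rw [show (π r)⁻¹ * π w * π u * ((π w)⁻¹ * π r) = (π r)⁻¹ * (π w * π u * (π w)⁻¹) * π r by group, ← h1]
        group
      rw [← hdec] at hvL
      obtain ⟨s, hs, c, hc, hsc⟩ := mem_sup_of_normal_right.1 hvL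
      have hsS : (s : G) ∈ (S : Subgroup G) := by
        have := hs.1
        rw [hT] at this
        exact this
      have hvs : ∀ u ∈ I, (r * (s : G)) * u * (r * (s : G))⁻¹ = w * u * w⁻¹ := by
        intro u hu
        have h1 : w = r * ((s : G) * (c : G)) := by
          rw [show (s : G) * (c : G) = v from congrArg Subtype.val hsc, hv, mul_inv_cancel_left]
        have h3 : u * (c : G) = (c : G) * u :=
          mem_centralizer_iff.1 (hCI ▸ hc : c ∈ (centralizer (I : Set G)).subgroupOf _) u hu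
        have h2 : (c : G) * u * (c : G)⁻¹ = u := by rw [← h3, mul_inv_cancel_right]
        rw [h1, show r * ((s : G) * (c : G)) * u * (r * ((s : G) * (c : G)))⁻¹ =
          (r * (s : G)) * ((c : G) * u * (c : G)⁻¹) * (r * (s : G))⁻¹ by group, h2]
      obtain ⟨t, ht, ht'⟩ := hover M hMtop hSM I hIS (r * (s : G)) (M.mul_mem (hM' ▸ hrb) (hSM hsS))
        fun u hu => hvs u hu ▸ hIS (conj_mem_of_normalizer hw u hu)
      exact ⟨t, ht, fun u hu => (ht' u hu).trans (hvs u hu)⟩
    -- decompose `z`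
    obtain ⟨CH, hCH⟩ : ∃ CH, CH = (centralizer (Q : Set G)).subgroupOf H := ⟨_, rfl⟩
    haveI : CH.Normal := hCH ▸ (inferInstance : (centralizer (Q : Set G)).Normal).comap _
    obtain ⟨T, hT⟩ : ∃ T : Sylow p ↥H, (T : Subgroup ↥H) = (S : Subgroup G).subgroupOf H := by
      refine ⟨(S.2.comap_subtype (K := H)).toSylow ?_, rfl⟩
      intro hd
      apply hsyl
      rwa [inf_relIndex_right]
    have hTi : ¬ p ∣ (T : Subgroup ↥H).relIndex CH := fun hd =>
      T.not_dvd_index (hd.trans (CfsgLib.HallGen.relIndex_dvd_index_right _ _))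
    let T' : Sylow p ↥CH := (T.2.comap_subtype (K := CH)).toSylow hTi
    have hFr := Sylow.normalizer_sup_eq_top T'
    obtain ⟨m, hm, c, hc, hmc⟩ := mem_sup_of_normal_right.1 (hFr.ge (mem_top (⟨z, hH ▸ hz⟩ : ↥H)))
    have hcQ : (c : G) ∈ centralizer (Q : Set G) := by rw [hCH] at hc; exact hc
    have hcI : (c : G) ∈ normalizer (I : Set G) := hH ▸ c.2
    have hmI : (m : G) ∈ normalizer (I : Set G) := hH ▸ m.2
    have hmCT : (m : G) ∈ normalizer (CT : Set G) := by
      have e : ((T' : Subgroup ↥CH).map CH.subtype).map H.subtype = CT := by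
        show (((T : Subgroup ↥H).subgroupOf CH).map CH.subtype).map H.subtype = CT
        rw [subgroupOf_map_subtype, hT, hCH, hCT, Subgroup.map_inf _ _ _ H.subtype_injective, subgroupOf_map_subtype,
          subgroupOf_map_subtype]
        ac_rfl
      rw [← e]
      exact le_normalizer_map H.subtype ⟨m, hm, rfl⟩
    have hmAct : ActsAsMember N I m := by
      have hlt : I < I ⊔ CT := lt_of_le_of_ne le_sup_left fun e => hCTI (le_sup_right.trans e.ge)
      have hle : I ⊔ CT ≤ (S : Subgroup G) := sup_le hIS (hCT ▸ inf_le_right.trans inf_le_left)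
      obtain ⟨r, hr, hr'⟩ := hbig _ hle (hcard ▸ CfsgLib.Transfer.card_lt_of_lt hlt) (m : G)
        fun u hu => hle (conj_mem_of_normalizer (normalizer_inf_le_normalizer_sup hmI hmCT) u hu)
      exact ⟨r, hr, fun u hu => hr' u (mem_sup_left hu)⟩
    have hzmc : z = (m : G) * (c : G) := (congrArg Subtype.val hmc).symm
    rw [hzmc]
    exact (hcase _ hcI (mem_sup_left hcQ)).trans hmAct (conj_mem_of_normalizer hcI)
  -- Alperin paths
  have hpath := CfsgLib.Transfer.exists_fusionPath S (A := (U : Set G)) (g := y⁻¹) (fun u hu => hUP hu)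
    (by rintro _ ⟨u, hu, rfl⟩; show y⁻¹⁻¹ * u * y⁻¹ ∈ (S : Subgroup G); rw [inv_inv]; exact hy u hu)
  suffices walk : ∀ (B : Set G) (g : G), CfsgLib.Transfer.FusionPath S B g →
      ∀ V : Subgroup G, (V : Set G) = B → Nat.card V = Nat.card U →
        ∃ r ∈ N, ∀ v ∈ V, r * v * r⁻¹ = g⁻¹ * v * g by
    obtain ⟨r, hr, hr'⟩ := walk _ _ hpath U rfl rfl
    exact ⟨r, hr, fun u hu => by rw [hr' u hu]; group⟩
  intro B g h
  induction h with
  | one B => exact fun V _ _ => ⟨1, one_mem _, fun v _ => by simp⟩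
  | step B R x g ht hx hB _ ihp =>
    intro V hV hcV
    obtain ⟨I, hI⟩ : ∃ I, I = (S : Subgroup G) ⊓ (R : Subgroup G) := ⟨_, rfl⟩
    have hVI : V ≤ I := fun v hv => hI ▸ hB (hV ▸ hv)
    have hxI : x⁻¹ ∈ normalizer (I : Set G) := hI ▸ inv_mem hx
    have hIS : I ≤ (S : Subgroup G) := hI ▸ inf_le_left
    have hstep : ActsAsMember N I x⁻¹ := by
      rcases lt_or_eq_of_le (hcV ▸ card_le_of_le hVI) with hlt | he
      · exact hbig I hIS hlt x⁻¹ fun u hu => hIS ((mem_normalizer_iff.1 hxI u).1 hu)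
      · by_cases hQb : Q = ⊥
        · refine hloc (hQ ▸ hQb) _ I (Nat.lt_succ_self _) hIS ?_ (hI ▸ ht.1) I
            (le_inf hIS le_normalizer) he.symm x⁻¹ hxI hxI
          intro h0
          rw [h0, card_bot] at he
          exact hUb (card_eq_one.1 he)
        · exact hcore hQb I hIS (hI ▸ ht.1) he.symm x⁻¹ hxI
    obtain ⟨r₁, hr₁, hr₁'⟩ := hstep
    obtain ⟨r₂, hr₂, hr₂'⟩ := ihp (V.map (MulAut.conj x⁻¹).toMonoidHom) (by
      rw [coe_map, hV]
      exact Set.image_congr fun a _ => by simp)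
      ((Subgroup.card_map_of_injective (MulAut.conj x⁻¹).injective).trans hcV)
    refine ⟨r₂ * r₁, N.mul_mem hr₂ hr₁, fun v hv => ?_⟩
    calc r₂ * r₁ * v * (r₂ * r₁)⁻¹ = r₂ * (r₁ * v * r₁⁻¹) * r₂⁻¹ := by group
      _ = r₂ * (x⁻¹ * v * x⁻¹⁻¹) * r₂⁻¹ := by rw [hr₁' v (hVI hv)]
      _ = g⁻¹ * (x⁻¹ * v * x⁻¹⁻¹) * g := hr₂' _ ⟨v, hv, rfl⟩
      _ = (x * g)⁻¹ * v * (x * g) := by group

theorem controlsFusion_centerThompsonA_noQd (hp : p ≠ 2) {G : Type w} [Group G] [Finite G]
    (P : Sylow p G) (D : Subgroup G) (hD : IsStronglyClosed D (P : Subgroup G)) (hqd : SLTwo.NoQd p G)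
    (U : Subgroup G) (hU : U ≤ (P : Subgroup G)) (y : G) (hy : ∀ u ∈ U, y * u * y⁻¹ ∈ (P : Subgroup G)) :
    ActsAsMember (normalizer ((centerThompsonAOf D : Subgroup G) : Set G)) U y := by
  refine controlsFusion_of_stronglyClosed_noQd hp (fun S => centerThompsonAOf S) (fun S => centerThompsonA_le S)
    (fun f S hf => centerThompsonA_map f S hf) (fun S hS hne => centerThompsonA_ne_bot hS hne) ?_ P D hD hqd U hU y hy
  intro K _ _ hc' Q D' hD' hst'
  have := zCore_normal_of_closed hp (goodPred_abelian p) hc' Q hD' hst'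
  rwa [zCore_abelian_eq] at this

theorem controlsFusion_omegaCenterThompson_noQd (hp : p ≠ 2) {G : Type w} [Group G] [Finite G]
    (P : Sylow p G) (D : Subgroup G) (hD : IsStronglyClosed D (P : Subgroup G)) (hqd : SLTwo.NoQd p G)
    (U : Subgroup G) (hU : U ≤ (P : Subgroup G)) (y : G) (hy : ∀ u ∈ U, y * u * y⁻¹ ∈ (P : Subgroup G)) :
    ActsAsMember (normalizer ((Cfsg.omegaOne p (Cfsg.centerThompsonOf p D) : Subgroup G) : Set G)) U y := by
  refine controlsFusion_of_stronglyClosed_noQd hp (fun S => Cfsg.omegaOne p (Cfsg.centerThompsonOf p S))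
    (fun S => omega_centerThompsonOf_le S) (fun f S hf => omega_centerThompsonOf_map f S hf)
    (fun S hS hne => omega_centerThompsonOf_ne_bot S hS hne) ?_ P D hD hqd U hU y hy
  intro K _ _ hc' Q D' hD' hst'
  have := zCore_normal_of_closed hp (goodPred_elementary p) hc' Q hD' hst'
  rwa [zCore_elementary_eq, ← omega_centerThompsonOf_eq] at this

end CfsgLib.LocalEvenB
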