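import Cfsg.Agent.Lib.Components.Subnormal
import Cfsg.Agent.Lib.LocalEvenB.SubnormalSylow
import Cfsg.Agent.Lib.LocalEvenB.Basic
import Mathlib.GroupTheory.Transfer
import Mathlib.GroupTheory.SpecificGroups.Cyclic

/-!
A Sylow subgroup of a join of subnormal subgroups is the join of the Sylow subgroups of the members.
-/

set_option autoImplicit false

open scoped commutatorElement

namespace CfsgLib.LocalEvenB

universe u

variable {p : ℕ} [Fact p.Prime]

theorem le_of_pGroup_of_not_dvd {G : Type*} [Group G] [Finite G] {T₀ T₁ A : Subgroup G}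
    (h01 : T₀ ≤ T₁) (h1A : T₁ ≤ A) (hp : IsPGroup p T₁) (hd : ¬ p ∣ T₀.relIndex A) : T₁ ≤ T₀ := by
  obtain ⟨n, hn⟩ := IsPGroup.iff_card.mp hp
  have h1 : T₀.relIndex T₁ ∣ p ^ n := hn ▸ Subgroup.index_dvd_card (T₀.subgroupOf T₁)
  have h2 : T₀.relIndex T₁ ∣ T₀.relIndex A := Dvd.intro _ (Subgroup.relIndex_mul_relIndex T₀ T₁ A h01 h1A)
  obtain ⟨i, -, hi⟩ := (Nat.dvd_prime_pow (Fact.out : p.Prime)).1 h1
  rcases Nat.eq_zero_or_pos i with hi0 | hi0
  · exact Subgroup.relIndex_eq_one.1 (by rw [hi, hi0, pow_zero])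
  · exact absurd ((dvd_pow_self p hi0.ne').trans (hi ▸ h2)) hd

/-- The join of `S ⊓ A` over the members. -/
def sylowPartsJoin {G : Type*} [Group G] (S : Subgroup G) (F : Set (Subgroup G)) : Subgroup G :=
  ⨆ A ∈ F, S ⊓ A

theorem le_sylowPartsJoin {G : Type*} [Group G] (S : Subgroup G) {F : Set (Subgroup G)} {A : Subgroup G} (hA : A ∈ F) :
    S ⊓ A ≤ sylowPartsJoin S F :=
  le_iSup₂_of_le A hA le_rfl

theorem sylowPartsJoin_le {G : Type*} [Group G] (S : Subgroup G) (F : Set (Subgroup G)) : sylowPartsJoin S F ≤ S :=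
  iSup₂_le fun _ _ => inf_le_left

/-- Transfer the statement from a subgroup `H'` considered as a group. -/
theorem inf_le_join_of_subgroup {G : Type*} [Group G] [Finite G] (S : Sylow p G) {H' : Subgroup G}
    (hH' : H'.IsSubnormal)
    (ih : ∀ (Q : Sylow p H') (F : Set (Subgroup H')), (∀ A ∈ F, A.IsSubnormal) → sSup F = ⊤ →
      (Q : Subgroup H') ≤ sylowPartsJoin (Q : Subgroup H') F)
    (F : Set (Subgroup G)) (hF : ∀ A ∈ F, A.IsSubnormal) (hsup : sSup F = H')
    (T : Subgroup G) (hT : ∀ A ∈ F, (S : Subgroup G) ⊓ A ≤ T) : (S : Subgroup G) ⊓ H' ≤ T := by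
  have hi := not_dvd_relIndex_inf_of_subnormal S hH'
  rw [← Subgroup.inf_relIndex_right, inf_assoc, inf_idem, Subgroup.inf_relIndex_right] at hi
  let Q : Sylow p H' := ((S.2.comap_subtype (K := H'))).toSylow hi
  have hle : ∀ A ∈ F, A ≤ H' := fun A hA => hsup ▸ le_sSup hA
  set F' : Set (Subgroup H') := (fun A => A.subgroupOf H') '' F with hF'
  have h1 : sSup F' = ⊤ := by
    refine eq_top_iff.2 ?_
    rw [← Subgroup.map_le_map_iff_of_injective H'.subtype_injective, ← MonoidHom.range_eq_map, Subgroup.range_subtype]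
    calc H' = sSup F := hsup.symm
      _ ≤ (sSup F').map H'.subtype := by
          refine sSup_le fun A hA => ?_
          refine le_trans ?_ (Subgroup.map_mono (le_sSup ⟨A, hA, rfl⟩))
          rw [Subgroup.subgroupOf_map_subtype]
          exact le_inf le_rfl (hle A hA)
  have h2 := ih Q F' (by rintro _ ⟨A, hA, rfl⟩; exact (hF A hA).subgroupOf) h1
  intro x hx
  have hxQ : (⟨x, hx.2⟩ : H') ∈ (Q : Subgroup H') := hx.1
  have h3 : (sylowPartsJoin (Q : Subgroup H') F').map H'.subtype ≤ T := by
    rw [Subgroup.map_le_iff_le_comap]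
    refine iSup₂_le ?_
    rintro _ ⟨A, hA, rfl⟩ y ⟨hy1, hy2⟩
    exact hT A hA ⟨hy1, hy2⟩
  exact h3 (Subgroup.mem_map_of_mem _ (h2 hxQ))

theorem sylow_le_join_aux : ∀ (n : ℕ) {G : Type u} [Group G] [Finite G], Nat.card G ≤ n → ∀ (S : Sylow p G)
    (F : Set (Subgroup G)), (∀ A ∈ F, A.IsSubnormal) → sSup F = ⊤ →
      (S : Subgroup G) ≤ sylowPartsJoin (S : Subgroup G) F := by
  intro n
  induction n using Nat.strong_induction_on with
  | _ n ih =>
    intro G _ _ hn S F hF hsup
    classical
    have hpr : p.Prime := Fact.out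
    set T := sylowPartsJoin (S : Subgroup G) F with hTdef
    have ihG : ∀ {H : Type u} [Group H] [Finite H], Nat.card H < Nat.card G → ∀ (Q : Sylow p H)
        (E : Set (Subgroup H)), (∀ A ∈ E, A.IsSubnormal) → sSup E = ⊤ →
          (Q : Subgroup H) ≤ sylowPartsJoin (Q : Subgroup H) E := by
      intro H _ _ hlt
      exact ih (Nat.card H) (lt_of_lt_of_le hlt hn) le_rfl
    rcases subsingleton_or_nontrivial G with hs | hs
    · intro x _
      rw [Subsingleton.elim x 1]
      exact one_mem _
    obtain ⟨M, hMn, hM1, hmin⟩ := CfsgLib.Components.exists_minimal_normal (G := G)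
    haveI := hMn
    by_cases hMtop : M = ⊤
    · -- `G` is simple
      have hF' : ∀ A ∈ F, A = ⊥ ∨ A = ⊤ := fun A hA => by
        haveI : IsSimpleGroup G := ⟨fun K hK => by
          rcases hmin K hK (hMtop ▸ le_top) with h | h
          · exact Or.inl h
          · exact Or.inr (h.trans hMtop)⟩
        exact (hF A hA).eq_bot_or_top_of_isSimpleGroup inferInstance
      by_cases htop : (⊤ : Subgroup G) ∈ F
      · exact le_trans (le_inf le_rfl le_top) (le_sylowPartsJoin _ htop)
      · exfalso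
        have : sSup F ≤ ⊥ := sSup_le fun A hA => ((hF' A hA).resolve_right fun h => htop (h ▸ hA)).le
        rw [hsup] at this
        exact hM1 (le_bot_iff.1 (le_top.trans this))
    -- quotient by `M`
    have hcover : (S : Subgroup G) ≤ T ⊔ M := by
      let π := QuotientGroup.mk' M
      have hπ : Function.Surjective π := QuotientGroup.mk'_surjective M
      have hlt : Nat.card (G ⧸ M) < Nat.card G := CfsgLib.Components.card_quotient_lt hM1
      have h1 := ihG hlt (S.mapSurjective hπ) ((fun A => A.map π) '' F)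
        (by rintro _ ⟨A, hA, rfl⟩; exact (hF A hA).map hπ)
        (by
          refine eq_top_iff.2 ?_
          rw [← Subgroup.map_top_of_surjective π hπ, ← hsup, sSup_eq_iSup, Subgroup.map_iSup]
          refine iSup_le fun A => ?_
          rw [Subgroup.map_iSup]
          exact iSup_le fun hA => le_sSup ⟨A, hA, rfl⟩)
      have h2 : sylowPartsJoin ((S.mapSurjective hπ : Sylow p (G ⧸ M)) : Subgroup (G ⧸ M)) ((fun A => A.map π) '' F)
          ≤ T.map π := by
        refine iSup₂_le ?_
        rintro _ ⟨A, hA, rfl⟩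
        refine le_trans ?_ (Subgroup.map_mono (le_sylowPartsJoin (S : Subgroup G) hA))
        refine le_of_pGroup_of_not_dvd (p := p) (A := A.map π) ?_ inf_le_right ?_ ?_
        · exact le_inf (Subgroup.map_mono inf_le_left) (Subgroup.map_mono inf_le_right)
        · exact (S.mapSurjective hπ).2.to_le inf_le_left
        · intro hd
          apply not_dvd_relIndex_inf_of_subnormal S (hF A hA)
          refine hd.trans ?_
          have h3 := Subgroup.index_map_dvd (H := ((S : Subgroup G) ⊓ A).subgroupOf A) (f := π.subgroupMap A)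
            (π.subgroupMap_surjective A)
          refine dvd_trans (dvd_of_eq ?_) h3
          rw [Subgroup.relIndex]
          congr 1
          ext y
          constructor
          · intro hy
            obtain ⟨x, hx, hxy⟩ := Subgroup.mem_map.1 (Subgroup.mem_subgroupOf.1 hy)
            exact ⟨⟨x, hx.2⟩, hx, Subtype.ext hxy⟩
          · rintro ⟨⟨x, hxA⟩, hx, rfl⟩
            exact Subgroup.mem_subgroupOf.2 ⟨x, hx, rfl⟩
      intro x hx
      have h3 : π x ∈ T.map π := h2 (h1 (Subgroup.mem_map_of_mem π hx))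
      obtain ⟨t, ht, htx⟩ := h3
      have : t⁻¹ * x ∈ M := by
        rw [← QuotientGroup.eq]
        exact htx
      have := Subgroup.mul_mem_sup ht this
      rwa [mul_inv_cancel_left] at this
    -- `M` normalizes every member
    have hMA : ∀ A ∈ F, M ≤ Subgroup.normalizer (A : Set G) := fun A hA =>
      CfsgLib.Components.minimal_normal_le_normalizer_subnormal hMn hmin (hF A hA)
    set R := ⨆ A ∈ F, M ⊓ A with hR
    have hRM : R ≤ M := iSup₂_le fun A _ => inf_le_left
    have hcomm : ∀ A ∈ F, ∀ a ∈ A, ∀ m ∈ M, a * m * a⁻¹ * m⁻¹ ∈ M ⊓ A := by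
      intro A hA a ha m hm
      refine ⟨M.mul_mem (hMn.conj_mem m hm a) (M.inv_mem hm), ?_⟩
      have : m * a⁻¹ * m⁻¹ ∈ A := (Subgroup.mem_normalizer_iff.1 (hMA A hA hm) _).1 (A.inv_mem ha)
      simpa [mul_assoc] using A.mul_mem ha this
    have hRn : R.Normal := by
      refine Subgroup.normalizer_eq_top_iff.1 (eq_top_iff.2 (hsup ▸ sSup_le fun A hA a ha => ?_))
      have hstep : ∀ b ∈ A, ∀ m ∈ R, b * m * b⁻¹ ∈ R := fun b hb m hm => by
        have h1 : b * m * b⁻¹ * m⁻¹ ∈ R := le_iSup₂_of_le (f := fun A (_ : A ∈ F) => M ⊓ A) A hA le_rfl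
          (hcomm A hA b hb m (hRM hm))
        simpa [mul_assoc] using R.mul_mem h1 hm
      refine Subgroup.mem_normalizer_iff.2 fun m => ⟨hstep a ha m, fun h => ?_⟩
      simpa [mul_assoc] using hstep a⁻¹ (A.inv_mem ha) _ h
    rcases hmin R hRn hRM with hR1 | hR1
    swap
    · -- `M` is generated by its intersections with the members
      have h1 : (S : Subgroup G) ⊓ M ≤ T := by
        refine inf_le_join_of_subgroup S hMn.isSubnormal
          (ihG (CfsgLib.Components.card_lt_of_ne_top hMtop)) ((fun A => M ⊓ A) '' F) ?_ ?_ T ?_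
        · rintro _ ⟨A, hA, rfl⟩; exact hMn.isSubnormal.inf (hF A hA)
        · rw [sSup_image]
          exact hR1
        · rintro _ ⟨A, hA, rfl⟩
          exact (inf_le_inf_left _ inf_le_right).trans (le_sylowPartsJoin _ hA)
      intro x hx
      have hxTM : x ∈ ((T ⊔ M : Subgroup G) : Set G) := hcover hx
      rw [Subgroup.mul_normal] at hxTM
      obtain ⟨t, ht, m, hm, rfl⟩ := Set.mem_mul.1 hxTM
      have hmS : m ∈ (S : Subgroup G) := by
        have := (S : Subgroup G).mul_mem ((S : Subgroup G).inv_mem (sylowPartsJoin_le _ F ht)) hx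
        rwa [inv_mul_cancel_left] at this
      exact T.mul_mem ht (h1 ⟨hmS, hm⟩)
    -- `M` is central
    have hMZ : ∀ m ∈ M, ∀ g : G, g * m = m * g := by
      intro m hm g
      have hle : sSup F ≤ Subgroup.centralizer ({m} : Set G) := sSup_le fun A hA a ha => by
        refine Subgroup.mem_centralizer_singleton_iff.2 ?_
        have h0 : a * m * a⁻¹ * m⁻¹ ∈ R :=
          le_iSup₂_of_le (f := fun A (_ : A ∈ F) => M ⊓ A) A hA le_rfl (hcomm A hA a ha m hm)
        rw [hR1, Subgroup.mem_bot] at h0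
        exact mul_inv_eq_iff_eq_mul.1 (mul_inv_eq_one.1 h0)
      exact Subgroup.mem_centralizer_singleton_iff.1 (hle (hsup ▸ Subgroup.mem_top g))
    -- a proper normal subgroup of `p`-power index finishes the proof
    have finish : ∀ H : Subgroup G, H.Normal → H ≠ ⊤ → (∃ k, H.index = p ^ k) → (S : Subgroup G) ≤ T := by
      intro H hHn hH hidx
      haveI := hHn
      obtain ⟨k, hk⟩ := hidx
      have hAS : ∀ A ∈ F, A ≤ (A ⊓ H) ⊔ ((S : Subgroup G) ⊓ A) := by
        intro A hA
        refine Subgroup.relIndex_eq_one.1 ?_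
        have d1 : ((A ⊓ H) ⊔ ((S : Subgroup G) ⊓ A)).relIndex A ∣ ((S : Subgroup G) ⊓ A).relIndex A :=
          Subgroup.relIndex_dvd_of_le_left A le_sup_right
        have d2 : ((A ⊓ H) ⊔ ((S : Subgroup G) ⊓ A)).relIndex A ∣ p ^ k := by
          refine (Subgroup.relIndex_dvd_of_le_left A le_sup_left).trans ?_
          rw [inf_comm, Subgroup.inf_relIndex_right, ← hk]
          exact Subgroup.relIndex_dvd_index_of_normal H A
        obtain ⟨i, -, hi⟩ := (Nat.dvd_prime_pow hpr).1 d2
        rcases Nat.eq_zero_or_pos i with hi0 | hi0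
        · rw [hi, hi0, pow_zero]
        · exact absurd ((dvd_pow_self p hi0.ne').trans (hi ▸ d1)) (not_dvd_relIndex_inf_of_subnormal S (hF A hA))
      set E : Set (Subgroup G) := {B | ∃ A ∈ F, ∃ t ∈ T, B = (A ⊓ H).map (MulAut.conj t).toMonoidHom} with hE
      set H' := sSup E with hH'
      have hH'H : H' ≤ H := sSup_le (by
        rintro _ ⟨A, hA, t, ht, rfl⟩ _ ⟨x, hx, rfl⟩
        exact hHn.conj_mem x hx.2 t)
      have hTn : T ≤ Subgroup.normalizer (H' : Set G) := by
        intro s hs
        refine map_conj_eq_self_iff_mem_normalizer.1 ?_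
        have hle : ∀ r ∈ T, H'.map (MulAut.conj r).toMonoidHom ≤ H' := by
          intro r hr
          rw [Subgroup.map_le_iff_le_comap]
          refine sSup_le ?_
          rintro _ ⟨A, hA, t, ht, rfl⟩
          rw [← Subgroup.map_le_iff_le_comap, map_conj_map_conj]
          exact le_sSup ⟨A, hA, r * t, T.mul_mem hr ht, rfl⟩
        refine le_antisymm (hle s hs) fun x hx => ?_
        have := hle s⁻¹ (T.inv_mem hs) (Subgroup.mem_map_of_mem _ hx)
        exact ⟨_, this, by simp [mul_assoc]⟩
      have htop : H' ⊔ T = ⊤ := by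
        refine eq_top_iff.2 (hsup ▸ sSup_le fun A hA => (hAS A hA).trans (sup_le ?_ ?_))
        · refine le_sup_of_le_left (le_sSup ⟨A, hA, 1, T.one_mem, ?_⟩)
          exact (map_conj_eq_self_iff_mem_normalizer.2 (Subgroup.one_mem _)).symm
        · exact le_sup_of_le_right (le_sylowPartsJoin _ hA)
      have hH'n : H'.Normal := Subgroup.normalizer_eq_top_iff.1 (eq_top_iff.2 (htop ▸ sup_le Subgroup.le_normalizer hTn))
      haveI := hH'n
      have hH'top : H' ≠ ⊤ := fun h => hH (eq_top_iff.2 (h ▸ hH'H))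
      have h1 : (S : Subgroup G) ⊓ H' ≤ T := by
        refine inf_le_join_of_subgroup S hH'n.isSubnormal (ihG (CfsgLib.Components.card_lt_of_ne_top hH'top))
          E ?_ hH'.symm T ?_
        · rintro _ ⟨A, hA, t, ht, rfl⟩
          exact ((hF A hA).inf hHn.isSubnormal).map (MulAut.conj t).surjective
        · rintro _ ⟨A, hA, t, ht, rfl⟩ x ⟨hxS, hx⟩
          obtain ⟨y, hy, rfl⟩ := hx
          have htS : t ∈ (S : Subgroup G) := sylowPartsJoin_le _ F ht
          have hyS : y ∈ (S : Subgroup G) := by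
            have := (S : Subgroup G).mul_mem ((S : Subgroup G).mul_mem ((S : Subgroup G).inv_mem htS) hxS) htS
            simpa [mul_assoc] using this
          exact T.mul_mem (T.mul_mem ht (le_sylowPartsJoin _ hA ⟨hyS, hy.1⟩)) (T.inv_mem ht)
      intro x hx
      have hx' : x ∈ ((H' ⊔ T : Subgroup G) : Set G) := htop ▸ Subgroup.mem_top x
      rw [Subgroup.normal_mul] at hx'
      obtain ⟨h, hh, t, ht, rfl⟩ := Set.mem_mul.1 hx'
      have hhS : h ∈ (S : Subgroup G) := by
        have := (S : Subgroup G).mul_mem hx ((S : Subgroup G).inv_mem (sylowPartsJoin_le _ F ht))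
        rwa [mul_inv_cancel_right] at this
      exact T.mul_mem (h1 ⟨hhS, hh⟩) ht
    by_contra hnot
    obtain ⟨x, hxS, hxT⟩ := SetLike.not_le_iff_exists.1 hnot
    have hx' : x ∈ ((T ⊔ M : Subgroup G) : Set G) := hcover hxS
    rw [Subgroup.mul_normal] at hx'
    obtain ⟨t, ht, m, hm, rfl⟩ := Set.mem_mul.1 hx'
    have hmS : m ∈ (S : Subgroup G) := by
      have := (S : Subgroup G).mul_mem ((S : Subgroup G).inv_mem (sylowPartsJoin_le _ F ht)) hxS
      rwa [inv_mul_cancel_left] at this
    have hmT : m ∉ T := fun h => hxT (T.mul_mem ht h)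
    -- the quotient `S ⧸ T`
    set T' := T.subgroupOf (S : Subgroup G) with hT'
    have hT'n : T'.Normal := by
      refine ⟨fun y hy g => ?_⟩
      have hg : (g : G) ∈ ((T ⊔ M : Subgroup G) : Set G) := hcover g.2
      rw [Subgroup.mul_normal] at hg
      obtain ⟨a, ha, c, hc, hac⟩ := Set.mem_mul.1 hg
      rw [Subgroup.mem_subgroupOf] at hy ⊢
      have : ((g * y * g⁻¹ : (S : Subgroup G)) : G) = a * (y : G) * a⁻¹ := by
        push_cast
        rw [← hac]
        calc a * c * (y : G) * (a * c)⁻¹ = a * (c * (y : G)) * c⁻¹ * a⁻¹ := by group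
          _ = a * (y : G) * a⁻¹ := by rw [← hMZ c hc]; group
      rw [this]
      exact T.mul_mem (T.mul_mem ha hy) (T.inv_mem ha)
    haveI := hT'n
    have hab : ∀ a b : (S : Subgroup G) ⧸ T', a * b = b * a := by
      have hex : ∀ a : (S : Subgroup G) ⧸ T', ∃ c : (S : Subgroup G), (c : G) ∈ M ∧ (QuotientGroup.mk c : (S : Subgroup G) ⧸ T') = a := by
        intro a
        obtain ⟨g, rfl⟩ := QuotientGroup.mk_surjective a
        have hg : (g : G) ∈ ((T ⊔ M : Subgroup G) : Set G) := hcover g.2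
        rw [Subgroup.mul_normal] at hg
        obtain ⟨u, hu, c, hc, hac⟩ := Set.mem_mul.1 hg
        have hcS : c ∈ (S : Subgroup G) := by
          have := (S : Subgroup G).mul_mem ((S : Subgroup G).inv_mem (sylowPartsJoin_le _ F hu)) g.2
          rwa [← hac, inv_mul_cancel_left] at this
        refine ⟨⟨c, hcS⟩, hc, QuotientGroup.eq.2 ?_⟩
        rw [Subgroup.mem_subgroupOf]
        push_cast
        rw [← hac]
        have : c⁻¹ * (u * c) = u := by
          rw [hMZ c hc u, inv_mul_cancel_left]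
        rw [this]; exact hu
      intro a b
      obtain ⟨c, hc, rfl⟩ := hex a
      obtain ⟨d, _, rfl⟩ := hex b
      rw [← QuotientGroup.mk_mul, ← QuotientGroup.mk_mul]
      congr 1
      exact Subtype.ext (hMZ c hc d).symm
    letI : CommGroup ((S : Subgroup G) ⧸ T') := { (inferInstance : Group ((S : Subgroup G) ⧸ T')) with mul_comm := hab }
    have key : ∀ (k : ℕ) (g₀ : G), g₀⁻¹ * m ^ k * g₀ ∈ (S : Subgroup G) → g₀⁻¹ * m ^ k * g₀ = m ^ k := by
      intro k g₀ _
      rw [mul_assoc, ← hMZ _ (M.pow_mem hm k) g₀, inv_mul_cancel_left]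
    let φ : (S : Subgroup G) →* (S : Subgroup G) ⧸ T' := QuotientGroup.mk' T'
    let τ : G →* (S : Subgroup G) ⧸ T' := MonoidHom.transfer φ
    have hτm : τ m ≠ 1 := by
      show MonoidHom.transfer φ m ≠ 1
      rw [MonoidHom.transfer_eq_pow φ m key]
      intro h
      apply hmT
      have h' : m ^ (S : Subgroup G).index ∈ T :=
        Subgroup.mem_subgroupOf.1 ((QuotientGroup.eq_one_iff (N := T') _).1 h)
      obtain ⟨i, hi⟩ := S.2 ⟨m, hmS⟩
      have hi' : m ^ (p ^ i) = 1 := congrArg Subtype.val hi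
      have hcop : Nat.Coprime ((S : Subgroup G).index) (p ^ i) :=
        (hpr.coprime_iff_not_dvd.2 S.not_dvd_index).symm.pow_right i
      have hg := Nat.gcd_eq_gcd_ab (S : Subgroup G).index (p ^ i)
      rw [hcop.gcd_eq_one] at hg
      have h'' : m ^ ((1 : ℕ) : ℤ) ∈ T := by
        rw [hg, zpow_add, zpow_mul, zpow_mul, zpow_natCast, zpow_natCast, hi', one_zpow, mul_one]
        exact T.zpow_mem h' _
      simpa using h''
    refine hnot (finish τ.ker inferInstance (fun h => hτm ?_) ?_)
    · exact MonoidHom.mem_ker.1 (h ▸ Subgroup.mem_top m)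
    · rw [Subgroup.index_ker]
      obtain ⟨i, hi⟩ := IsPGroup.iff_card.mp ((S.2.to_quotient T').to_subgroup τ.range)
      exact ⟨i, hi⟩

/-- A Sylow subgroup meets a join of subnormal subgroups in the join of its intersections. -/
theorem sylow_inf_sSup {G : Type u} [Group G] [Finite G] (S : Sylow p G) (F : Set (Subgroup G))
    (hF : ∀ A ∈ F, A.IsSubnormal) : (S : Subgroup G) ⊓ sSup F = sylowPartsJoin (S : Subgroup G) F := by
  refine le_antisymm ?_ (iSup₂_le fun A hA => inf_le_inf_left _ (le_sSup hA))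
  exact inf_le_join_of_subgroup S (CfsgLib.Components.isSubnormal_sSup hF)
    (fun Q E hE hE' => sylow_le_join_aux _ le_rfl Q E hE hE') F hF rfl _ fun A hA => le_sylowPartsJoin _ hA

end CfsgLib.LocalEvenB
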