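import Cfsg.Agent.Lib.LocalEvenB.SylowControl
import Cfsg.Agent.Lib.Transfer.ZJFull
import Cfsg.Prelude.Def_SylowChains

/-!
# Chains of Sylow subgroups through normalizer families
-/

set_option autoImplicit false
set_option linter.all false

namespace CfsgLib.LocalEvenB

open Subgroup Cfsg
open scoped Pointwise

variable {G : Type*} [Group G] {p : ℕ}

/-- One link of a chain controlling the subgroup `D`. -/
def ChainStep (p : ℕ) (𝓕 : Set (Subgroup G)) (D : Subgroup G) (S T : Sylow p G) : Prop :=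
  ∃ (X : Subgroup G) (x : G), X ∈ sylowMembers p 𝓕 (S : Subgroup G) ∧ X ∈ sylowMembers p 𝓕 (T : Subgroup G) ∧
    x ∈ X ∧ subgroupConjRight x (T : Subgroup G) = (S : Subgroup G) ∧ D ≤ (T : Subgroup G) ⊓ X

/-- Reachability by links. -/
def ChainRel (p : ℕ) (𝓕 : Set (Subgroup G)) (D : Subgroup G) : Sylow p G → Sylow p G → Prop :=
  Relation.ReflTransGen (ChainStep p 𝓕 D)

theorem ChainRel.mono {𝓕 𝓕' : Set (Subgroup G)} {D D' : Subgroup G} (hF : 𝓕 ⊆ 𝓕') (hD : D ≤ D') {S T : Sylow p G}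
    (h : ChainRel p 𝓕 D' S T) : ChainRel p 𝓕' D S T := by
  induction h with
  | refl => exact Relation.ReflTransGen.refl
  | tail _ hs ih =>
    obtain ⟨X, x, h1, h2, h3, h4, h5⟩ := hs
    exact ih.tail ⟨X, x, ⟨hF h1.1, h1.2⟩, ⟨hF h2.1, h2.2⟩, h3, h4, hD.trans h5⟩

theorem ChainRel.exists_fin {𝓕 : Set (Subgroup G)} {D : Subgroup G} {S T : Sylow p G}
    (h : ChainRel p 𝓕 D S T) :
    ∃ (n : ℕ) (c : Fin (n + 1) → Sylow p G) (X : Fin n → Subgroup G) (x : Fin n → G),
      c 0 = S ∧ c (Fin.last n) = T ∧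
      ∀ i : Fin n,
        X i ∈ sylowMembers p 𝓕 (c i.castSucc : Subgroup G) ∧ X i ∈ sylowMembers p 𝓕 (c i.succ : Subgroup G) ∧
        x i ∈ X i ∧ subgroupConjRight (x i) (c i.succ : Subgroup G) = (c i.castSucc : Subgroup G) ∧
        D ≤ (c i.succ : Subgroup G) ⊓ X i := by
  induction h with
  | refl => exact ⟨0, fun _ => S, Fin.elim0, Fin.elim0, rfl, rfl, fun i => i.elim0⟩
  | @tail U T' _ hs ih =>
    obtain ⟨n, c, X, x, h0, hn, hi⟩ := ih
    obtain ⟨Y, y, hy⟩ := hs
    refine ⟨n + 1, Fin.snoc c T', Fin.snoc X Y, Fin.snoc x y, ?_, Fin.snoc_last _ _, Fin.lastCases ?_ ?_⟩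
    · rw [← Fin.castSucc_zero, Fin.snoc_castSucc, h0]
    · rw [Fin.snoc_last, Fin.snoc_last, Fin.snoc_castSucc, hn, Fin.succ_last, Fin.snoc_last]
      exact hy
    · intro i
      rw [Fin.snoc_castSucc, Fin.snoc_castSucc, Fin.snoc_castSucc, Fin.succ_castSucc, Fin.snoc_castSucc]
      exact hi i

theorem controls_of_chainRel {𝓕 : Set (Subgroup G)}
    (h : ∀ (D : Subgroup G) (S T : Sylow p G), D ≠ ⊥ → D ≤ (S : Subgroup G) → D ≤ (T : Subgroup G) →
      ChainRel p 𝓕 D S T) : ControlsSylowIntersections p 𝓕 :=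
  fun S T _ hne => (h _ S T hne inf_le_left inf_le_right).exists_fin

theorem le_and_card_of_sylowMember [Finite G] [Fact p.Prime] {R P : Sylow p G} {X : Subgroup G}
    {𝓕 : Set (Subgroup G)} (hR : (R : Subgroup G) ≤ X) (hX : X ∈ sylowMembers p 𝓕 (P : Subgroup G)) :
    (P : Subgroup G) ≤ X := by
  obtain ⟨-, Q, hQ⟩ := hX
  have h1 : Nat.card ↥(P : Subgroup G) ≤ Nat.card ↥((P : Subgroup G) ⊓ X) := by
    rw [← hQ, Subgroup.card_map_of_injective X.subtype_injective, P.card_eq_multiplicity,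
      ← R.card_eq_multiplicity, Q.card_eq_multiplicity, ← (R.subtype hR).card_eq_multiplicity]
    exact (Nat.card_congr (subgroupOfEquivOfLe hR).toEquiv).ge
  exact inf_eq_left.1 (eq_of_le_of_card_ge inf_le_left h1)

theorem mem_sylowMembers_of_le [Finite G] [Fact p.Prime] {P : Sylow p G} {X : Subgroup G}
    {𝓕 : Set (Subgroup G)} (hX : X ∈ 𝓕) (hP : (P : Subgroup G) ≤ X) : X ∈ sylowMembers p 𝓕 (P : Subgroup G) :=
  ⟨hX, P.subtype hP, by rw [Sylow.coe_subtype, subgroupOf_map_subtype]⟩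

theorem functor_member_of_sylow {f : Subgroup G → Set (Subgroup G)} (R : Sylow p G) {F : Subgroup G}
    (hF : F ∈ f (R : Subgroup G)) : normalizer (F : Set G) ∈ functorFamily p f ⊤ :=
  ⟨R.subtype le_top, F, by rwa [Sylow.coe_subtype, subgroupOf_map_subtype, inf_top_eq], by rw [top_inf_eq]⟩

theorem functor_family_le [Finite G] [Fact p.Prime] {f : Subgroup G → Set (Subgroup G)} (hf : IsNormalizerFunctor p f)
    {M : Subgroup G} {R : Sylow p ↥M} {F : Subgroup G} (hF : F ∈ f ((R : Subgroup ↥M).map M.subtype)) :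
    (R : Subgroup ↥M) ≤ (M ⊓ normalizer (F : Set G)).subgroupOf M := by
  intro r hr
  exact ⟨r.2, ((hf _ (R.2.map _)).1 F hF).2 (le_normalizer (mem_map_of_mem _ hr))⟩

/-- Extraction of the chain inside a regular subgroup. -/
theorem regular_chain [Finite G] [Fact p.Prime] {f : Subgroup G → Set (Subgroup G)} (hf : IsNormalizerFunctor p f)
    {M : Subgroup G} (hM : IsFunctorRegular p f M) {D : Subgroup G} (hD : D ≠ ⊥) (hDM : D ≤ M)
    {P Q : Sylow p ↥M} (hP : D.subgroupOf M ≤ (P : Subgroup ↥M)) (hQ : D.subgroupOf M ≤ (Q : Subgroup ↥M))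
    {r : Sylow p ↥M → Sylow p ↥M → Prop} (hrefl : ∀ U, r U U) (htrans : ∀ {U V W}, r U V → r V W → r U W)
    (hstep : ∀ (U V R : Sylow p ↥M) (F : Subgroup G) (x : ↥M), F ∈ f ((R : Subgroup ↥M).map M.subtype) →
      (U : Subgroup ↥M).map M.subtype ≤ normalizer (F : Set G) →
      (V : Subgroup ↥M).map M.subtype ≤ normalizer (F : Set G) →
      (x : G) ∈ normalizer (F : Set G) → subgroupConjRight x (V : Subgroup ↥M) = (U : Subgroup ↥M) →
      D.subgroupOf M ≤ (U : Subgroup ↥M) → D.subgroupOf M ≤ (V : Subgroup ↥M) → r U V) : r P Q := by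
  by_cases hPQ : P = Q
  · exact hPQ ▸ hrefl P
  have hne : (P : Subgroup ↥M) ⊓ (Q : Subgroup ↥M) ≠ ⊥ := by
    intro h0
    apply hD
    have := le_inf hP hQ
    rw [h0, le_bot_iff, subgroupOf_eq_bot, disjoint_iff, inf_eq_left.2 hDM] at this
    exact this
  obtain ⟨n, c, X, x, h0, hn, hi⟩ := hM P Q hPQ hne
  have hDc : ∀ i : Fin (n + 1), D.subgroupOf M ≤ (c i : Subgroup ↥M) := Fin.cases (h0 ▸ hP) fun i =>
    (le_inf hP hQ).trans ((hi i).2.2.2.2.trans inf_le_left)
  have key : ∀ k (hk : k < n + 1), r P (c ⟨k, hk⟩) := by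
    intro k
    induction k with
    | zero => intro hk; exact h0 ▸ hrefl _
    | succ k ih =>
      intro hk
      refine htrans (ih (by omega)) ?_
      obtain ⟨h1, h2, h3, h4, -⟩ := hi ⟨k, by omega⟩
      obtain ⟨⟨X', ⟨R, F, hF, rfl⟩, hX⟩, -⟩ := id h1
      have hR : (R : Subgroup ↥M) ≤ X ⟨k, by omega⟩ := hX ▸ functor_family_le hf hF
      have hU := le_and_card_of_sylowMember hR h1
      have hV := le_and_card_of_sylowMember hR h2
      rw [← hX] at h3 hU hV
      refine hstep _ _ R F (x ⟨k, by omega⟩) hF ?_ ?_ h3.2 h4 (hDc _) (hDc _)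
      · exact map_le_iff_le_comap.2 fun u hu => (hU hu).2
      · exact map_le_iff_le_comap.2 fun u hu => (hV hu).2
  exact hn ▸ key n (Nat.lt_succ_self n)

theorem functor_ne_bot_map [Fact p.Prime] {M : Subgroup G} {D : Subgroup G} (hD : D ≠ ⊥) (hDM : D ≤ M)
    {R : Subgroup ↥M} (hR : D.subgroupOf M ≤ R) : R.map M.subtype ≠ ⊥ := by
  intro h0
  apply hD
  have := map_mono (f := M.subtype) hR
  rwa [subgroupOf_map_subtype, inf_eq_left.2 hDM, h0, le_bot_iff] at this

theorem conjRight_map_subtype {M : Subgroup G} (x : ↥M) (V : Subgroup ↥M) :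
    subgroupConjRight (x : G) (V.map M.subtype) = (subgroupConjRight x V).map M.subtype := by
  simp only [subgroupConjRight, map_map]
  congr 1

/-- Normalizers of functor values and singular maximal locals control Sylow intersections. -/
theorem functor_family_controls [Finite G] [Fact p.Prime] {f : Subgroup G → Set (Subgroup G)}
    (hf : IsNormalizerFunctor p f) (hf1 : ∀ P : Subgroup G, IsPGroup p ↥P → P ≠ ⊥ → ∀ F ∈ f P, F ≠ ⊥) :
    ControlsSylowIntersections p
      (functorFamily p f ⊤ ∪ {M | IsMaximalPLocal p M ∧ ¬ IsFunctorRegular p f M}) := by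
  refine controls_of_chainRel ?_
  obtain ⟨𝓕, h𝓕⟩ : ∃ 𝓕, 𝓕 = functorFamily p f ⊤ ∪ {M | IsMaximalPLocal p M ∧ ¬ IsFunctorRegular p f M} := ⟨_, rfl⟩
  rw [← h𝓕]
  suffices main : ∀ (k : ℕ) (D : Subgroup G), Nat.card G - Nat.card D < k → D ≠ ⊥ → ∀ S T : Sylow p G,
      D ≤ (S : Subgroup G) → D ≤ (T : Subgroup G) → ChainRel p 𝓕 D S T from
    fun D S T hD => main _ D (Nat.lt_succ_self _) hD S T
  intro k
  induction k with
  | zero => intro D h; omega
  | succ k ih =>
    intro D hk hD S T hS hT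
    -- subgroups properly containing `D` are handled
    have hbig : ∀ (E : Subgroup G), D < E → ∀ S T : Sylow p G, E ≤ (S : Subgroup G) → E ≤ (T : Subgroup G) →
        ChainRel p 𝓕 D S T := fun E hE S T hS hT => by
      refine (ih E ?_ (ne_bot_of_gt hE) S T hS hT).mono subset_rfl hE.le
      have h1 := CfsgLib.Transfer.card_lt_of_lt hE
      have h2 := card_le_card_group E
      omega
    suffices loc : ∀ (j : ℕ) (L : Subgroup G), Nat.card G - (Nat.card L).factorization p < j → IsPLocal p L → D ≤ L →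
        ∀ S T : Sylow p G, D ≤ (S : Subgroup G) → D ≤ (T : Subgroup G) →
          D < (S : Subgroup G) ⊓ L → D < (T : Subgroup G) ⊓ L → ChainRel p 𝓕 D S T by
      by_cases hST : S = T
      · exact hST ▸ Relation.ReflTransGen.refl
      rcases eq_or_lt_of_le (le_inf hS hT) with he | hlt
      · have hlt : ∀ U : Sylow p G, D ≤ (U : Subgroup G) → D ≠ (U : Subgroup G) →
            D < (U : Subgroup G) ⊓ normalizer (D : Set G) := fun U hU hne =>
          CfsgLib.Transfer.lt_inf_normalizer U.2 (lt_of_le_of_ne hU hne)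
        refine loc _ (normalizer (D : Set G)) (Nat.lt_succ_self _) ⟨D, S.2.to_le hS, hD, rfl⟩ le_normalizer S T hS hT
          (hlt S hS fun e => hST ?_) (hlt T hT fun e => hST ?_)
        · exact Sylow.ext (S.3 T.2 (e ▸ hT)).symm
        · exact Sylow.ext (T.3 S.2 (e ▸ hS))
      · exact hbig _ hlt S T inf_le_left inf_le_right
    intro j
    induction j with
    | zero => intro L h; omega
    | succ j ihj =>
      intro L hj hL hDL S T hS hT hSL hTL
      obtain ⟨M, hLM, hM⟩ := Finite.exists_le_maximal (p := IsPLocal p) hL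
      have hMmax : IsMaximalPLocal p M := ⟨hM.1, fun N hN hle => (hM.eq_of_le hN hle).symm⟩
      have hDM : D ≤ M := hDL.trans hLM
      -- move to Sylow subgroups containing Sylow subgroups of `M`
      have hmove : ∀ S : Sylow p G, D < (S : Subgroup G) ⊓ L → ∃ (P : Sylow p ↥M) (S' : Sylow p G),
          (P : Subgroup ↥M).map M.subtype ≤ (S' : Subgroup G) ∧ D.subgroupOf M ≤ (P : Subgroup ↥M) ∧
            D < (P : Subgroup ↥M).map M.subtype ∧
            ChainRel p 𝓕 D S S' ∧ ChainRel p 𝓕 D S' S := by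
        intro S hlt
        obtain ⟨P, hP⟩ := ((S.2.to_le (inf_le_left : (S : Subgroup G) ⊓ M ≤ _)).comap_subtype (K := M)).exists_le_sylow
        obtain ⟨S', hS'⟩ := (P.2.map M.subtype).exists_le_sylow
        have h1 : (((S : Subgroup G) ⊓ M).subgroupOf M).map M.subtype ≤ (P : Subgroup ↥M).map M.subtype := map_mono hP
        rw [subgroupOf_map_subtype, inf_eq_left.2 inf_le_right] at h1
        have h2 : (S : Subgroup G) ⊓ L ≤ (P : Subgroup ↥M).map M.subtype := (inf_le_inf_left _ hLM).trans h1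
        refine ⟨P, S', hS', ?_, lt_of_lt_of_le hlt h2, hbig _ hlt S S' inf_le_left (h2.trans hS'),
          hbig _ hlt S' S (h2.trans hS') inf_le_left⟩
        exact fun d hd => hP ⟨hlt.le.trans inf_le_left hd, hDM hd⟩
      obtain ⟨P, S', hPS, hDP, hDlt, hr1, -⟩ := hmove S hSL
      obtain ⟨Q, T', hQT, hDQ, hDlt', -, hr2⟩ := hmove T hTL
      refine Relation.ReflTransGen.trans (Relation.ReflTransGen.trans hr1 ?_) hr2
      -- `U` a Sylow subgroup of `M`
      have hgtD : ∀ U : Sylow p ↥M, D.subgroupOf M ≤ (U : Subgroup ↥M) → D < (U : Subgroup ↥M).map M.subtype := by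
        intro U hU
        have h1 := map_mono (f := M.subtype) hU
        rw [subgroupOf_map_subtype, inf_eq_left.2 hDM] at h1
        refine lt_of_le_of_ne h1 fun e => ?_
        have h2 := CfsgLib.Transfer.card_lt_of_lt hDlt
        rw [e, Subgroup.card_map_of_injective M.subtype_injective, Subgroup.card_map_of_injective M.subtype_injective,
          U.card_eq_multiplicity, P.card_eq_multiplicity] at h2
        exact lt_irrefl _ h2
      by_cases hreg : IsFunctorRegular p f M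
      · refine regular_chain hf hreg hD hDM hDP hDQ
          (r := fun U V => ∀ S T : Sylow p G, D.subgroupOf M ≤ (U : Subgroup ↥M) →
            (U : Subgroup ↥M).map M.subtype ≤ (S : Subgroup G) →
            (V : Subgroup ↥M).map M.subtype ≤ (T : Subgroup G) →
            ChainRel p 𝓕 D S T ∧ D.subgroupOf M ≤ (V : Subgroup ↥M))
          (fun U S T hU h1 h2 => ⟨hbig _ (hgtD U hU) S T h1 h2, hU⟩) ?_ ?_ S' T' hDP hPS hQT |>.1
        · intro U V W h1 h2 S T hU hUS hWT
          obtain ⟨T₁, hT₁⟩ := (V.2.map M.subtype).exists_le_sylow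
          obtain ⟨h3, h4⟩ := h1 S T₁ hU hUS hT₁
          obtain ⟨h5, h6⟩ := h2 T₁ T h4 hT₁ hWT
          exact ⟨h3.trans h5, h6⟩
        intro U V R F x hF hUF hVF hxF hconj hU hV S T _ hUS hVT
        refine ⟨?_, hV⟩
        have hRne : (R : Subgroup ↥M).map M.subtype ≠ ⊥ := by
          intro h0
          have h1 := CfsgLib.Transfer.card_lt_of_lt (hgtD U hU)
          have h2 : Nat.card ↥((U : Subgroup ↥M).map M.subtype) = Nat.card ↥((R : Subgroup ↥M).map M.subtype) := by
            rw [Subgroup.card_map_of_injective M.subtype_injective, Subgroup.card_map_of_injective M.subtype_injective,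
              U.card_eq_multiplicity, R.card_eq_multiplicity]
          rw [h2, h0, card_bot] at h1
          have := (Nat.card_pos : 0 < Nat.card D)
          omega
        obtain ⟨hFR, hNF⟩ := (hf _ (R.2.map _)).1 F hF
        obtain ⟨T₀, hT₀⟩ := (R.2.map M.subtype).exists_le_sylow
        rcases eq_or_lt_of_le hT₀ with he | hlt
        · -- Sylow subgroups of `M` are Sylow subgroups of `G`
          have heq : ∀ (W : Sylow p ↥M) (W' : Sylow p G), (W : Subgroup ↥M).map M.subtype ≤ (W' : Subgroup G) →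
              (W : Subgroup ↥M).map M.subtype = (W' : Subgroup G) := fun W W' hle =>
            eq_of_le_of_card_ge hle (by
              rw [W'.card_eq_multiplicity, ← T₀.card_eq_multiplicity, ← he,
                Subgroup.card_map_of_injective M.subtype_injective, Subgroup.card_map_of_injective M.subtype_injective,
                W.card_eq_multiplicity, R.card_eq_multiplicity])
          have hmem : normalizer (F : Set G) ∈ 𝓕 := h𝓕 ▸ Or.inl (functor_member_of_sylow T₀ (he ▸ hF))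
          refine Relation.ReflTransGen.single ⟨_, (x : G), mem_sylowMembers_of_le hmem (heq U S hUS ▸ hUF),
            mem_sylowMembers_of_le hmem (heq V T hVT ▸ hVF), hxF, ?_, ?_⟩
          · rw [← heq U S hUS, ← heq V T hVT, conjRight_map_subtype, hconj]
          · exact le_inf ((hgtD V hV).le.trans hVT) ((hgtD V hV).le.trans hVF)
        · -- the normalizer of `F` has larger Sylow subgroups
          have hFl : IsPLocal p (normalizer (F : Set G)) :=
            ⟨F, (R.2.map _).to_le hFR, hf1 _ (R.2.map _) hRne F hF, rfl⟩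
          have h1 := CfsgLib.Transfer.lt_inf_normalizer T₀.2 hlt
          have hfac : (Nat.card L).factorization p < (Nat.card ↥(normalizer (F : Set G))).factorization p := by
            obtain ⟨W, hW⟩ := ((T₀.2.to_le (inf_le_left (b := normalizer (F : Set G)))).comap_subtype
              (K := normalizer (F : Set G))).exists_le_sylow
            have h2 : Nat.card ↥((R : Subgroup ↥M).map M.subtype) < Nat.card ↥(W : Subgroup ↥(normalizer (F : Set G))) := by
              refine lt_of_lt_of_le (CfsgLib.Transfer.card_lt_of_lt h1) (le_trans ?_ (card_le_of_le hW))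
              show _ ≤ Nat.card ↥(((T₀ : Subgroup G) ⊓ normalizer (F : Set G)).subgroupOf (normalizer (F : Set G)))
              rw [Nat.card_congr (subgroupOfEquivOfLe inf_le_right).toEquiv]
              exact card_le_of_le (inf_le_inf_left _ hNF)
            rw [Subgroup.card_map_of_injective M.subtype_injective, R.card_eq_multiplicity, W.card_eq_multiplicity] at h2
            have h3 := (Nat.pow_lt_pow_iff_right (Fact.out : p.Prime).one_lt).1 h2
            have h4 : (Nat.card L).factorization p ≤ (Nat.card M).factorization p :=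
              (Nat.factorization_le_iff_dvd Nat.card_pos.ne' Nat.card_pos.ne').2 (card_dvd_of_le hLM) p
            omega
          refine ihj _ ?_ hFl ((hgtD U hU).le.trans hUF) S T ((hgtD U hU).le.trans hUS) ((hgtD V hV).le.trans hVT)
            (lt_of_lt_of_le (hgtD U hU) (le_inf hUS hUF)) (lt_of_lt_of_le (hgtD V hV) (le_inf hVT hVF))
          have h5 : (Nat.card ↥(normalizer (F : Set G))).factorization p ≤ Nat.card G :=
            (Nat.factorization_lt p Nat.card_pos.ne').le.trans (card_le_card_group _)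
          omega
      · have hmem : M ∈ 𝓕 := h𝓕 ▸ Or.inr ⟨hMmax, hreg⟩
        obtain ⟨x, hx⟩ := MulAction.exists_smul_eq ↥M Q P
        let S'' : Sylow p G := (x : G) • T'
        have hPQ : (P : Subgroup ↥M).map M.subtype = ((Q : Subgroup ↥M).map M.subtype).map (MulAut.conj (x : G)).toMonoidHom := by
          rw [← hx, Sylow.coe_subgroup_smul]
          ext y
          constructor <;> rintro ⟨_, ⟨q, hq, rfl⟩, rfl⟩ <;> exact ⟨_, ⟨q, hq, rfl⟩, rfl⟩
        have hS'' : (P : Subgroup ↥M).map M.subtype ≤ (S'' : Subgroup G) := by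
          rw [hPQ]; exact map_mono hQT
        refine Relation.ReflTransGen.trans (hbig _ hDlt S' S'' hPS hS'') (Relation.ReflTransGen.single ⟨M, (x : G)⁻¹⁻¹ ⁻¹, ?_⟩)
        have hint : ∀ (W : Sylow p ↥M) (W' : Sylow p G), (W : Subgroup ↥M).map M.subtype ≤ (W' : Subgroup G) →
            M ∈ sylowMembers p 𝓕 (W' : Subgroup G) := fun W W' hle => by
          refine ⟨hmem, W, le_antisymm (le_inf hle (map_subtype_le _)) ?_⟩
          have h1 : (W : Subgroup ↥M) = (W' : Subgroup G).subgroupOf M :=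
            (W.3 (W'.2.comap_subtype) (map_le_iff_le_comap.1 hle)).symm
          rw [h1, subgroupOf_map_subtype]
        refine ⟨hint P S'' hS'', hint Q T' hQT, M.inv_mem (by simpa using x.2), ?_, le_inf (hDlt'.le.trans hQT) hDM⟩
        show (T' : Subgroup G).map _ = _
        rw [inv_inv, inv_inv]
        rfl

theorem isNormalSet_functorFamily_top [Finite G] [Fact p.Prime] {f : Subgroup G → Set (Subgroup G)}
    (hf : IsNormalizerFunctor p f) : IsNormalSet (functorFamily p f ⊤) := by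
  rintro X ⟨P, F, hF, rfl⟩ g
  let P₀ : Sylow p G := (P.2.map (⊤ : Subgroup G).subtype).toSylow (by
    rw [index_map_subtype, index_top, mul_one]; exact P.not_dvd_index)
  rw [top_inf_eq]
  have h1 := (hf _ P₀.2).2 g⁻¹
  have hmem : F.map (MulAut.conj g⁻¹).toMonoidHom ∈ f ((g⁻¹ • P₀ : Sylow p G) : Subgroup G) := by
    show _ ∈ f ((P₀ : Subgroup G).map (MulAut.conj g⁻¹).toMonoidHom)
    rw [h1]
    exact ⟨F, hF, rfl⟩
  have h2 := functor_member_of_sylow _ hmem
  have h3 : (normalizer (F : Set G)).map (MulAut.conj g⁻¹).toMonoidHom =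
      normalizer ((F.map (MulAut.conj g⁻¹).toMonoidHom : Subgroup G) : Set G) :=
    map_equiv_normalizer_eq F (MulAut.conj g⁻¹)
  rw [← h3] at h2
  exact h2

/-- A factorization into two regular subgroups containing a Sylow subgroup gives regularity. -/
theorem regular_of_factorization [Finite G] [Fact p.Prime] {f : Subgroup G → Set (Subgroup G)}
    (hf : IsNormalizerFunctor p f) (S₀ : Sylow p G) {G₁ G₂ : Subgroup G} (h₁ : (S₀ : Subgroup G) ≤ G₁)
    (h₂ : (S₀ : Subgroup G) ≤ G₂) (hprod : ∀ g : G, ∃ g₁ ∈ G₁, ∃ g₂ ∈ G₂, g = g₁ * g₂)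
    (hr₁ : IsFunctorRegular p f G₁) (hr₂ : IsFunctorRegular p f G₂) :
    ControlsSylowIntersections p (functorFamily p f ⊤) := by
  refine controls_of_chainRel ?_
  obtain ⟨𝓕, h𝓕⟩ : ∃ 𝓕, 𝓕 = functorFamily p f ⊤ := ⟨_, rfl⟩
  rw [← h𝓕]
  have hconj : ∀ (a : G) {D : Subgroup G} {U V : Sylow p G}, ChainRel p 𝓕 D U V →
      ChainRel p 𝓕 (D.map (MulAut.conj a).toMonoidHom) (a • U) (a • V) := by
    intro a D U V h
    induction h with
    | refl => exact Relation.ReflTransGen.refl
    | @tail U V _ hs ih =>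
    refine ih.tail ?_
    obtain ⟨X, x, h1, h2, h3, h4, h5⟩ := hs
    have hN : IsNormalSet 𝓕 := h𝓕 ▸ isNormalSet_functorFamily_top hf
    refine ⟨subgroupConjRight a⁻¹ X, a * x * a⁻¹, ?_, ?_, ?_, ?_, ?_⟩
    · rw [coe_smul_sylow]; exact sylowMembers_conjRight hN _ h1
    · rw [coe_smul_sylow]; exact sylowMembers_conjRight hN _ h2
    · rw [mem_conjRight_subgroup]; simpa [mul_assoc] using h3
    · rw [coe_smul_sylow, coe_smul_sylow, conjRight_subgroup_mul, ← h4, conjRight_subgroup_mul]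
      simp [mul_assoc]
    · rw [coe_smul_sylow]
      refine (map_mono h5).trans ?_
      show _ ≤ (V : Subgroup G).map _ ⊓ X.map _
      rw [inv_inv]
      exact map_inf_le _ _ _
  -- inside a regular subgroup containing two Sylow subgroups
  have hin : ∀ (H : Subgroup G), IsFunctorRegular p f H → ∀ (D : Subgroup G) (U V : Sylow p G), D ≠ ⊥ →
      (U : Subgroup G) ≤ H → (V : Subgroup G) ≤ H → D ≤ (U : Subgroup G) → D ≤ (V : Subgroup G) →
      ChainRel p 𝓕 D U V := by
    intro H hH D U V hD hUH hVH hDU hDV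
    have hDH := hDU.trans hUH
    refine regular_chain hf hH hD hDH (P := U.subtype hUH) (Q := V.subtype hVH) (fun d hd => hDU hd) (fun d hd => hDV hd)
      (r := fun A B => ∀ S T : Sylow p G, (S : Subgroup G) = (A : Subgroup ↥H).map H.subtype →
        (T : Subgroup G) = (B : Subgroup ↥H).map H.subtype → ChainRel p 𝓕 D S T)
      (fun A S T e1 e2 => by rw [Sylow.ext (e1.trans e2.symm)]; exact Relation.ReflTransGen.refl) ?_ ?_ U V
      (by rw [Sylow.coe_subtype, subgroupOf_map_subtype, inf_eq_left.2 hUH])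
      (by rw [Sylow.coe_subtype, subgroupOf_map_subtype, inf_eq_left.2 hVH])
    · intro A B C hAB hBC S T e1 e2
      have hcardeq : Nat.card ↥((B : Subgroup ↥H).map H.subtype) = p ^ (Nat.card G).factorization p := by
        rw [Subgroup.card_map_of_injective H.subtype_injective, B.card_eq_multiplicity,
          ← (U.subtype hUH).card_eq_multiplicity, ← U.card_eq_multiplicity]
        exact Nat.card_congr (subgroupOfEquivOfLe hUH).toEquiv
      exact (hAB S (Sylow.ofCard _ hcardeq) e1 rfl).trans (hBC (Sylow.ofCard _ hcardeq) T rfl e2)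
    intro A B R F x hF hAF hBF hxF hcj hA hB S T e1 e2
    have hcardeq : Nat.card ↥((R : Subgroup ↥H).map H.subtype) = p ^ (Nat.card G).factorization p := by
      rw [Subgroup.card_map_of_injective H.subtype_injective, R.card_eq_multiplicity,
        ← (U.subtype hUH).card_eq_multiplicity, ← U.card_eq_multiplicity]
      exact Nat.card_congr (subgroupOfEquivOfLe hUH).toEquiv
    have hmem : normalizer (F : Set G) ∈ 𝓕 := h𝓕 ▸ functor_member_of_sylow (Sylow.ofCard _ hcardeq) hF
    refine Relation.ReflTransGen.single ⟨_, (x : G), mem_sylowMembers_of_le hmem (e1 ▸ hAF),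
      mem_sylowMembers_of_le hmem (e2 ▸ hBF), hxF, ?_, le_inf ?_ ?_⟩
    · rw [e1, e2, conjRight_map_subtype, hcj]
    · rw [e2]
      exact fun d hd => ⟨⟨d, hDH hd⟩, hB hd, rfl⟩
    · exact fun d hd => hBF ⟨⟨d, hDH hd⟩, hB hd, rfl⟩
  -- reduce to chains starting at the given Sylow subgroup
  suffices base : ∀ (D : Subgroup G) (T : Sylow p G), D ≠ ⊥ → D ≤ (S₀ : Subgroup G) → D ≤ (T : Subgroup G) →
      ChainRel p 𝓕 D S₀ T by
    intro D S T hD hS hT
    obtain ⟨a, ha⟩ := MulAction.exists_smul_eq G S S₀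
    have hne : D.map (MulAut.conj a).toMonoidHom ≠ ⊥ := fun h0 =>
      hD ((map_eq_bot_iff_of_injective _ (MulAut.conj a).injective).1 h0)
    have h1 := hconj a⁻¹ (base _ (a • T) hne (ha ▸ map_mono hS) (map_mono hT))
    have e : (MulAut.conj a⁻¹).toMonoidHom.comp (MulAut.conj a).toMonoidHom = MonoidHom.id G := by
      ext y
      simp [mul_assoc]
    rw [← ha, inv_smul_smul, inv_smul_smul, map_map, e, map_id] at h1
    exact h1
  intro D T hD hS hT
  obtain ⟨g, rfl⟩ := MulAction.exists_smul_eq G S₀ T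
  obtain ⟨g₁, hg₁, g₂, hg₂, rfl⟩ := hprod g
  have hsm : ∀ {a : G} {W : Sylow p G} {H : Subgroup G}, a ∈ H → (W : Subgroup G) ≤ H →
      ((a • W : Sylow p G) : Subgroup G) ≤ H := by
    rintro a W H ha hW _ ⟨w, hw, rfl⟩
    exact H.mul_mem (H.mul_mem ha (hW hw)) (H.inv_mem ha)
  obtain ⟨E, hE⟩ : ∃ E, E = D.map (MulAut.conj g₁⁻¹).toMonoidHom := ⟨_, rfl⟩
  have hE12 : E ≤ G₁ ⊓ G₂ := by
    rw [hE]
    rintro _ ⟨d, hd, rfl⟩
    refine ⟨G₁.mul_mem (G₁.mul_mem (G₁.inv_mem hg₁) (h₁ (hS hd))) (G₁.inv_mem (G₁.inv_mem hg₁)), ?_⟩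
    have hd' : d ∈ (((g₁ * g₂) • S₀ : Sylow p G) : Subgroup G) := hT hd
    obtain ⟨w, hw, rfl⟩ := hd'
    have : g₁⁻¹ * (g₁ * g₂ * w * (g₁ * g₂)⁻¹) * g₁⁻¹⁻¹ = g₂ * w * g₂⁻¹ := by group
    show g₁⁻¹ * (g₁ * g₂ * w * (g₁ * g₂)⁻¹) * g₁⁻¹⁻¹ ∈ G₂
    rw [this]
    exact G₂.mul_mem (G₂.mul_mem hg₂ (h₂ hw)) (G₂.inv_mem hg₂)
  have hEp : IsPGroup p E := hE ▸ (S₀.2.to_le hS).map _
  obtain ⟨W, hW⟩ := (hEp.comap_subtype (K := G₁ ⊓ G₂)).exists_le_sylow
  obtain ⟨c, hc⟩ := MulAction.exists_smul_eq ↥(G₁ ⊓ G₂) (S₀.subtype (le_inf h₁ h₂)) W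
  have hEc : E ≤ (((c : G) • S₀ : Sylow p G) : Subgroup G) := by
    intro e he
    have h0 : (⟨e, hE12 he⟩ : ↥(G₁ ⊓ G₂)) ∈ (W : Subgroup ↥(G₁ ⊓ G₂)) := hW he
    rw [← hc] at h0
    obtain ⟨w, hw, hwe⟩ := h0
    exact ⟨w, hw, congrArg Subtype.val hwe⟩
  have hDU : D ≤ (((g₁ * c) • S₀ : Sylow p G) : Subgroup G) := by
    intro d hd
    obtain ⟨w, hw, hwd⟩ := hEc (hE ▸ ⟨d, hd, rfl⟩ : g₁⁻¹ * d * g₁⁻¹⁻¹ ∈ E)
    refine ⟨w, hw, ?_⟩
    show g₁ * c * w * (g₁ * c)⁻¹ = d
    have hwd' : (c : G) * w * (c : G)⁻¹ = g₁⁻¹ * d * g₁⁻¹⁻¹ := hwd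
    calc g₁ * c * w * (g₁ * c)⁻¹ = g₁ * ((c : G) * w * (c : G)⁻¹) * g₁⁻¹ := by group
      _ = d := by rw [hwd']; group
  refine (hin G₁ hr₁ D S₀ _ hD h₁ (hsm (G₁.mul_mem hg₁ c.2.1) h₁) hS hDU).trans ?_
  have hEne : E ≠ ⊥ := fun h0 => hD ((map_eq_bot_iff_of_injective _ (MulAut.conj g₁⁻¹).injective).1 (hE ▸ h0))
  have hET : E ≤ ((g₂ • S₀ : Sylow p G) : Subgroup G) := by
    rw [hE]
    rintro _ ⟨d, hd, rfl⟩
    obtain ⟨w, hw, hwd⟩ := hT hd
    refine ⟨w, hw, ?_⟩
    show g₂ * w * g₂⁻¹ = g₁⁻¹ * d * g₁⁻¹⁻¹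
    rw [← hwd]
    show g₂ * w * g₂⁻¹ = g₁⁻¹ * (g₁ * g₂ * w * (g₁ * g₂)⁻¹) * g₁⁻¹⁻¹
    group
  have h1 := hconj g₁ (hin G₂ hr₂ E _ _ hEne (hsm c.2.2 h₂) (hsm hg₂ h₂) hEc hET)
  have e : (MulAut.conj g₁).toMonoidHom.comp (MulAut.conj g₁⁻¹).toMonoidHom = MonoidHom.id G := by
    ext y
    simp [mul_assoc]
  rw [smul_smul, smul_smul, hE, map_map, e, map_id] at h1
  exact h1

end CfsgLib.LocalEvenB
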