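import Cfsg.Agent.Lib.LocalEvenB.EightPoints
import Cfsg.Agent.Lib.Classical.OrthogonalTwoSmall

/-!
# A Sylow 2-subgroup of `O₆⁻(2)` on eight vectors
-/

set_option autoImplicit false
set_option linter.all false
set_option maxRecDepth 8000
set_option synthInstance.maxSize 2000

namespace CfsgLib.LocalEvenB.EightPoints

open Equiv
open scoped Matrix

/-- The index type. -/
abbrev Ix := (Fin 2 ⊕ Fin 2) ⊕ Fin 2

/-- Coordinates in the order `x₀ x₁ y₀ y₁ z₀ z₁`. -/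
def ix : Ix → Fin 6
  | .inl (.inl i) => ![0, 1] i
  | .inl (.inr i) => ![2, 3] i
  | .inr i => ![4, 5] i

/-- Vectors from coordinate lists. -/
def vec (r : Fin 6 → ZMod 2) : Ix → ZMod 2 := fun i => r (ix i)

/-- Matrices from coordinate lists. -/
def mat (r : Fin 6 → Fin 6 → ZMod 2) : Matrix Ix Ix (ZMod 2) := Matrix.of fun i j => r (ix i) (ix j)

/-- The form. -/
abbrev q6 : (Ix → ZMod 2) → ZMod 2 := Cfsg.quadFormMinus 2 (ZMod 2) 1 1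

/-- The eight vectors. -/
def pts6 : Fin 8 → Ix → ZMod 2 := ![vec ![0, 0, 0, 1, 0, 0],
    vec ![1, 0, 0, 1, 0, 0],
    vec ![0, 1, 0, 0, 0, 0],
    vec ![1, 1, 0, 0, 0, 0],
    vec ![0, 1, 0, 1, 0, 1],
    vec ![1, 1, 0, 1, 0, 1],
    vec ![0, 1, 0, 1, 1, 0],
    vec ![1, 1, 0, 1, 1, 0]]

/-- Generators. -/
def gens8 : Fin 7 → Perm (Fin 8) := ![swap 0 1, swap 2 3, swap 4 5, swap 6 7, swap 0 2 * swap 1 3, swap 4 6 * swap 5 7, swap 0 4 * swap 1 5 * swap 2 6 * swap 3 7]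

/-- Witnesses. -/
def wit6 : Fin 7 → Matrix Ix Ix (ZMod 2) := ![
  mat ![![1, 0, 1, 1, 1, 1], ![0, 1, 1, 0, 0, 0], ![0, 0, 1, 0, 0, 0], ![0, 0, 0, 1, 0, 0], ![0, 0, 1, 0, 1, 0], ![0, 0, 1, 0, 0, 1]],
  mat ![![1, 1, 1, 0, 1, 1], ![0, 1, 0, 0, 0, 0], ![0, 0, 1, 0, 0, 0], ![0, 0, 1, 1, 0, 0], ![0, 0, 1, 0, 1, 0], ![0, 0, 1, 0, 0, 1]],
  mat ![![1, 0, 1, 0, 0, 1], ![0, 1, 0, 0, 0, 0], ![0, 0, 1, 0, 0, 0], ![0, 0, 0, 1, 0, 0], ![0, 0, 1, 0, 1, 0], ![0, 0, 0, 0, 0, 1]],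
  mat ![![1, 0, 1, 0, 1, 0], ![0, 1, 0, 0, 0, 0], ![0, 0, 1, 0, 0, 0], ![0, 0, 0, 1, 0, 0], ![0, 0, 0, 0, 1, 0], ![0, 0, 1, 0, 0, 1]],
  mat ![![1, 0, 0, 0, 0, 0], ![0, 0, 0, 1, 0, 0], ![0, 0, 1, 0, 0, 0], ![0, 1, 0, 0, 0, 0], ![0, 0, 0, 0, 1, 0], ![0, 0, 0, 0, 0, 1]],
  mat ![![1, 0, 0, 0, 0, 0], ![0, 1, 0, 0, 0, 0], ![0, 0, 1, 0, 0, 0], ![0, 0, 0, 1, 0, 0], ![0, 0, 0, 0, 0, 1], ![0, 0, 0, 0, 1, 0]],
  mat ![![1, 0, 0, 0, 0, 0], ![0, 1, 0, 1, 1, 0], ![0, 0, 1, 0, 0, 0], ![0, 1, 0, 1, 0, 1], ![0, 1, 0, 0, 1, 1], ![0, 0, 0, 1, 1, 1]]]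

/-- Inverse witnesses. -/
def witInv6 : Fin 7 → Matrix Ix Ix (ZMod 2) := ![
  mat ![![1, 0, 1, 1, 1, 1], ![0, 1, 1, 0, 0, 0], ![0, 0, 1, 0, 0, 0], ![0, 0, 0, 1, 0, 0], ![0, 0, 1, 0, 1, 0], ![0, 0, 1, 0, 0, 1]],
  mat ![![1, 1, 1, 0, 1, 1], ![0, 1, 0, 0, 0, 0], ![0, 0, 1, 0, 0, 0], ![0, 0, 1, 1, 0, 0], ![0, 0, 1, 0, 1, 0], ![0, 0, 1, 0, 0, 1]],
  mat ![![1, 0, 1, 0, 0, 1], ![0, 1, 0, 0, 0, 0], ![0, 0, 1, 0, 0, 0], ![0, 0, 0, 1, 0, 0], ![0, 0, 1, 0, 1, 0], ![0, 0, 0, 0, 0, 1]],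
  mat ![![1, 0, 1, 0, 1, 0], ![0, 1, 0, 0, 0, 0], ![0, 0, 1, 0, 0, 0], ![0, 0, 0, 1, 0, 0], ![0, 0, 0, 0, 1, 0], ![0, 0, 1, 0, 0, 1]],
  mat ![![1, 0, 0, 0, 0, 0], ![0, 0, 0, 1, 0, 0], ![0, 0, 1, 0, 0, 0], ![0, 1, 0, 0, 0, 0], ![0, 0, 0, 0, 1, 0], ![0, 0, 0, 0, 0, 1]],
  mat ![![1, 0, 0, 0, 0, 0], ![0, 1, 0, 0, 0, 0], ![0, 0, 1, 0, 0, 0], ![0, 0, 0, 1, 0, 0], ![0, 0, 0, 0, 0, 1], ![0, 0, 0, 0, 1, 0]],
  mat ![![1, 0, 0, 0, 0, 0], ![0, 1, 0, 1, 1, 0], ![0, 0, 1, 0, 0, 0], ![0, 1, 0, 1, 0, 1], ![0, 1, 0, 0, 1, 1], ![0, 0, 0, 1, 1, 1]]]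

theorem wit6_inv : ∀ i, wit6 i * witInv6 i = 1 ∧ witInv6 i * wit6 i = 1 := by decide +kernel

theorem wit6_pres : ∀ i, ∀ v, q6 (wit6 i *ᵥ v) = q6 v := by decide +kernel

theorem wit6_pts : ∀ i k, wit6 i *ᵥ pts6 k = pts6 (gens8 i k) := by decide +kernel

theorem pts6_inj : Function.Injective pts6 := by decide +kernel

theorem fix_hyperplane (c : Ix → ZMod 2) :
    q6 c = 0 → (∀ v : Ix → ZMod 2, v (.inl (.inr 0)) = 0 → q6 (c + v) = q6 (vec ![0, 0, 1, 0, 0, 0] + v)) →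
      c = vec ![0, 0, 1, 0, 0, 0] := by
  revert c
  decide +kernel

/-- All parameters. -/
def bools7 : List (Fin 7 → Bool) :=
  let t := [false, true]
  t.flatMap fun a => t.flatMap fun b => t.flatMap fun c => t.flatMap fun d => t.flatMap fun e => t.flatMap fun f =>
    t.map fun g => ![a, b, c, d, e, f, g]

theorem card_gens8 : Nat.card ↥(Subgroup.closure (Set.range gens8)) = 2 ^ 7 := by
  refine card_closure_range gens8 (isPGroup_closure_range gens8 (by decide +kernel) (by decide +kernel)) bools7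
    (by decide) (by decide +kernel) fun k hk => ?_
  have h := hk.trans (Subgroup.card_subgroup_dvd_card _)
  rw [Nat.card_perm, Nat.card_fin, Nat.prime_two.pow_dvd_iff_le_factorization (Nat.factorial_ne_zero 8)] at h
  have h7 : (Nat.factorial 8).factorization 2 = 7 := by
    rw [show Nat.factorial 8 = 2 ^ 7 * 315 by decide, Nat.factorization_mul (by norm_num) (by norm_num),
      Nat.prime_two.factorization_pow, Finsupp.add_apply, Finsupp.single_eq_same,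
      Nat.factorization_eq_zero_of_not_dvd (by norm_num)]
  omega

theorem factorization_of_eq {n k r : ℕ} (h : n = 2 ^ k * r) (hr : ¬ 2 ∣ r) : n.factorization 2 = k := by
  have hr0 : r ≠ 0 := fun h0 => hr (h0 ▸ dvd_zero 2)
  rw [h, Nat.factorization_mul (by positivity) hr0, Nat.prime_two.factorization_pow, Finsupp.add_apply,
    Finsupp.single_eq_same, Nat.factorization_eq_zero_of_not_dvd hr, add_zero]

theorem sylow_symm_eight (P : Sylow 2 (Perm (Fin 8))) :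
    Nonempty (↥(Subgroup.closure (Set.range gens8)) ≃* ↥(P : Subgroup (Perm (Fin 8)))) := by
  refine nonempty_equiv_sylow (MonoidHom.id _) (fun x => ⟨x, rfl⟩) (fun g v => g v) (fun _ _ _ => rfl) (fun _ => rfl)
    id Function.injective_id gens8 (fun i => ⟨gens8 i, fun _ => rfl⟩) (fun x => ?_) ?_ P
  · exact ⟨fun h => Perm.ext h, fun h k => by rw [show x = 1 from h]; rfl⟩
  · rw [card_gens8, Nat.card_perm, Nat.card_fin, factorization_of_eq (show Nat.factorial 8 = 2 ^ 7 * 315 by decide) (by norm_num)]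

theorem sylow_minus_six (P : Sylow 2 ↥(Cfsg.isometryGroup (ZMod 2) q6)) :
    Nonempty (↥(Subgroup.closure (Set.range gens8)) ≃* ↥(P : Subgroup ↥(Cfsg.isometryGroup (ZMod 2) q6))) := by
  refine nonempty_equiv_sylow (G := ↥(Cfsg.isometryGroup (ZMod 2) q6)) (MonoidHom.id _) (fun x => ⟨x, rfl⟩)
    (fun g v => ((g : GL Ix (ZMod 2)) : Matrix Ix Ix (ZMod 2)) *ᵥ v)
    (fun g h v => by simp [Matrix.mulVec_mulVec]) (fun v => by simp) pts6 pts6_inj gens8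
    (fun i => ⟨⟨⟨wit6 i, witInv6 i, (wit6_inv i).1, (wit6_inv i).2⟩, fun v _ => wit6_pres i v⟩, wit6_pts i⟩)
    (fun x => ?_) ?_ P
  · refine ⟨fun h => ?_, fun h k => by rw [show x = 1 from h]; simp⟩
    obtain ⟨⟨M, M', e1, e2⟩, hx⟩ := x
    have hq : ∀ v, q6 (M *ᵥ v) = q6 v := fun v => hx v v
    have he : M *ᵥ vec ![1, 0, 0, 0, 0, 0] = vec ![1, 0, 0, 0, 0, 0] := by
      rw [show vec ![1, 0, 0, 0, 0, 0] = pts6 0 + pts6 1 by decide +kernel, Matrix.mulVec_add, h 0, h 1]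
    have hspan : ∀ v : Ix → ZMod 2, v (.inl (.inr 0)) = 0 →
        v = v (.inl (.inl 0)) • vec ![1, 0, 0, 0, 0, 0] + (v (.inl (.inr 1)) + v (.inr 0) + v (.inr 1)) • pts6 0 +
          (v (.inl (.inl 1)) + v (.inr 0) + v (.inr 1)) • pts6 2 + v (.inr 1) • pts6 4 + v (.inr 0) • pts6 6 := by
      decide +kernel
    have hfix : ∀ v : Ix → ZMod 2, v (.inl (.inr 0)) = 0 → M *ᵥ v = v := fun v hv => by
      rw [hspan v hv]
      simp only [Matrix.mulVec_add, Matrix.mulVec_smul, he, h 0, h 2, h 4, h 6]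
    have hc : M *ᵥ vec ![0, 0, 1, 0, 0, 0] = vec ![0, 0, 1, 0, 0, 0] := by
      refine fix_hyperplane _ ?_ fun v hv => ?_
      · rw [hq]; decide +kernel
      · conv_lhs => rw [← hfix v hv, ← Matrix.mulVec_add, hq]
    have hM : M = 1 := by
      refine Matrix.ext_of_mulVec_single fun i => ?_
      rw [Matrix.one_mulVec]
      by_cases hi : (Pi.single i 1 : Ix → ZMod 2) (.inl (.inr 0)) = 0
      · exact hfix _ hi
      · have : i = .inl (.inr 0) := by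
          by_contra hne
          exact hi (Pi.single_eq_of_ne (Ne.symm hne) _)
        subst this
        rw [show (Pi.single (Sum.inl (Sum.inr 0)) 1 : Ix → ZMod 2) = vec ![0, 0, 1, 0, 0, 0] by decide +kernel]
        exact hc
    exact Subtype.ext (Units.ext hM)
  · rw [card_gens8, Classical.Quad.card_isometryGroup_eq (Classical.Quad.qMinus 2 (ZMod 2) 1 1)
      (Classical.Quad.coe_qMinus 2 (ZMod 2) 1 1), Classical.Quad.card_OQ_qMinus (ZMod.card 2) 2 (by decide +kernel),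
      factorization_of_eq (k := 7) (r := 405) (by simp [Finset.prod_range_succ]) (by norm_num)]

end CfsgLib.LocalEvenB.EightPoints
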