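import Cfsg.Agent.Lib.LocalEvenB.EightPoints
import Cfsg.Agent.Lib.Classical.Symplectic.MatrixStructure
import Cfsg.Prelude.Def_Classical

/-!
# A Sylow 2-subgroup of `PSp₄(3)` on eight Lagrangian planes
-/

set_option autoImplicit false
set_option linter.all false
set_option maxRecDepth 8000
set_option maxHeartbeats 1000000

namespace CfsgLib.LocalEvenB.EightPoints

open Equiv
open scoped Matrix

/-- Coordinates in the order `p₀ p₁ q₀ q₁`. -/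
def ix4 : Fin 2 ⊕ Fin 2 → Fin 4
  | .inl i => ![0, 1] i
  | .inr i => ![2, 3] i

/-- The slopes. -/
def slope : Fin 8 → Fin 2 → Fin 2 → ZMod 3 := ![![![1, 0], ![0, 2]], ![![2, 0], ![0, 1]], ![![0, 1], ![1, 0]], ![![0, 2], ![2, 0]], ![![1, 2], ![1, 1]], ![![2, 1], ![2, 2]], ![![2, 2], ![1, 2]], ![![1, 1], ![2, 1]]]

/-- Membership in the plane of a slope. -/
def OnPlane (k : Fin 8) (v : Fin 2 ⊕ Fin 2 → ZMod 3) : Prop :=
  v (.inl 1) = slope k 0 0 * v (.inl 0) + slope k 0 1 * v (.inr 0) ∧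
    v (.inr 1) = slope k 1 0 * v (.inl 0) + slope k 1 1 * v (.inr 0)

instance (k : Fin 8) (v : Fin 2 ⊕ Fin 2 → ZMod 3) : Decidable (OnPlane k v) := by unfold OnPlane; infer_instance

/-- The planes. -/
def plane (k : Fin 8) : Finset (Fin 2 ⊕ Fin 2 → ZMod 3) := Finset.univ.filter (OnPlane k)

/-- A basis of a plane. -/
def planeBasis (k : Fin 8) (c : Fin 2) : Fin 2 ⊕ Fin 2 → ZMod 3 := fun i =>
  ![![1, slope k 0 0, 0, slope k 1 0], ![0, slope k 0 1, 1, slope k 1 1]] c (ix4 i)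

/-- Generators. -/
def gens6 : Fin 6 → Perm (Fin 8) := ![swap 0 1 * swap 2 3 * swap 4 5 * swap 6 7, swap 0 2 * swap 2 1 * swap 1 3 * swap 4 7 * swap 7 5 * swap 5 6, swap 0 6 * swap 6 1 * swap 1 7 * swap 2 5 * swap 5 3 * swap 3 4, swap 0 2 * swap 2 1 * swap 1 3 * swap 4 6 * swap 6 5 * swap 5 7, swap 0 4 * swap 4 1 * swap 1 5 * swap 2 7 * swap 7 3 * swap 3 6, swap 4 6 * swap 5 7]

/-- Witnesses. -/
def wit4 : Fin 6 → Matrix (Fin 2 ⊕ Fin 2) (Fin 2 ⊕ Fin 2) (ZMod 3) := ![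
  Matrix.of fun i j => (![![2, 0, 0, 0], ![0, 1, 0, 0], ![0, 0, 2, 0], ![0, 0, 0, 1]] : Fin 4 → Fin 4 → ZMod 3) (ix4 i) (ix4 j),
  Matrix.of fun i j => (![![0, 0, 2, 0], ![0, 1, 0, 0], ![1, 0, 0, 0], ![0, 0, 0, 1]] : Fin 4 → Fin 4 → ZMod 3) (ix4 i) (ix4 j),
  Matrix.of fun i j => (![![1, 0, 1, 0], ![0, 1, 0, 0], ![1, 0, 2, 0], ![0, 0, 0, 1]] : Fin 4 → Fin 4 → ZMod 3) (ix4 i) (ix4 j),
  Matrix.of fun i j => (![![1, 0, 0, 0], ![0, 0, 0, 2], ![0, 0, 1, 0], ![0, 1, 0, 0]] : Fin 4 → Fin 4 → ZMod 3) (ix4 i) (ix4 j),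
  Matrix.of fun i j => (![![1, 0, 0, 0], ![0, 1, 0, 1], ![0, 0, 1, 0], ![0, 1, 0, 2]] : Fin 4 → Fin 4 → ZMod 3) (ix4 i) (ix4 j),
  Matrix.of fun i j => (![![0, 1, 0, 0], ![1, 0, 0, 0], ![0, 0, 0, 1], ![0, 0, 1, 0]] : Fin 4 → Fin 4 → ZMod 3) (ix4 i) (ix4 j)]

theorem wit4_mem : ∀ i, wit4 i * Matrix.J (Fin 2) (ZMod 3) * (wit4 i)ᵀ = Matrix.J (Fin 2) (ZMod 3) := by
  decide +kernel

theorem wit4_planes : ∀ i k, (plane k).image (wit4 i *ᵥ ·) = plane (gens6 i k) := by decide +kernel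

theorem plane_inj : Function.Injective plane := by decide +kernel

theorem planeBasis_mem : ∀ k c, planeBasis k c ∈ plane k := by decide +kernel

theorem scalar_of_fix (g : Matrix (Fin 2 ⊕ Fin 2) (Fin 2 ⊕ Fin 2) (ZMod 3))
    (hb : ∀ k c, OnPlane k (g *ᵥ planeBasis k c)) :
    g = g (.inl 0) (.inl 0) • (1 : Matrix (Fin 2 ⊕ Fin 2) (Fin 2 ⊕ Fin 2) (ZMod 3)) := by
  have three : (3 : ZMod 3) = 0 := rfl
  have h0 := (hb 0 0).1
  have h1 := (hb 0 0).2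
  have h2 := (hb 0 1).1
  have h3 := (hb 0 1).2
  have h4 := (hb 1 0).1
  have h5 := (hb 1 0).2
  have h6 := (hb 1 1).1
  have h7 := (hb 1 1).2
  have h8 := (hb 2 0).1
  have h9 := (hb 2 0).2
  have h10 := (hb 2 1).1
  have h11 := (hb 2 1).2
  have h12 := (hb 3 0).1
  have h13 := (hb 3 0).2
  have h14 := (hb 3 1).1
  have h15 := (hb 3 1).2
  have h16 := (hb 4 0).1
  have h17 := (hb 4 0).2
  have h18 := (hb 4 1).1
  have h19 := (hb 4 1).2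
  have h20 := (hb 6 0).1
  have h21 := (hb 6 0).2
  have h22 := (hb 6 1).1
  have h23 := (hb 6 1).2
  simp [planeBasis, slope, ix4, Matrix.mulVec, dotProduct, Fintype.sum_sum_type, Fin.sum_univ_two] at h0 h1 h2 h3 h4 h5 h6 h7 h8 h9 h10 h11 h12 h13 h14 h15 h16 h17 h18 h19 h20 h21 h22 h23
  have z1 : g (.inl 0) (.inl 1) = 0 := by linear_combination h0 + 2 * h2 + h4 + h5 + h6 + h7 + 2 * h8 + h10 + 2 * h11 + 2 * h14 + 2 * h17 + 2 * h20 + ((3 : ZMod 3) * g (.inl 0) (.inl 0) + (6 : ZMod 3) * g (.inl 0) (.inl 1) + (2 : ZMod 3) * g (.inl 0) (.inr 0) + (4 : ZMod 3) * g (.inl 0) (.inr 1) + (-2 : ZMod 3) * g (.inl 1) (.inl 0) + (-4 : ZMod 3) * g (.inl 1) (.inl 1) + (-2 : ZMod 3) * g (.inl 1) (.inr 0) + (-3 : ZMod 3) * g (.inl 1) (.inr 1) + (3 : ZMod 3) * g (.inr 0) (.inl 0) + (7 : ZMod 3) * g (.inr 0) (.inl 1) + (2 : ZMod 3) * g (.inr 0) (.inr 0) + (3 : ZMod 3) * g (.inr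 0) (.inr 1) + (-1 : ZMod 3) * g (.inr 1) (.inl 0) + (-2 : ZMod 3) * g (.inr 1) (.inl 1) + (-1 : ZMod 3) * g (.inr 1) (.inr 0) + (-1 : ZMod 3) * g (.inr 1) (.inr 1)) * three
  have z2 : g (.inl 0) (.inr 0) = 0 := by linear_combination h0 + 2 * h2 + h4 + 2 * h5 + h6 + 2 * h7 + 2 * h8 + 2 * h10 + h11 + h14 + 2 * h16 + h17 + ((2 : ZMod 3) * g (.inl 0) (.inl 0) + (3 : ZMod 3) * g (.inl 0) (.inl 1) + (2 : ZMod 3) * g (.inl 0) (.inr 0) + (3 : ZMod 3) * g (.inl 0) (.inr 1) + (-2 : ZMod 3) * g (.inl 1) (.inl 0) + (-3 : ZMod 3) * g (.inl 1) (.inl 1) + (-2 : ZMod 3) * g (.inl 1) (.inr 0) + (-3 : ZMod 3) * g (.inl 1) (.inr 1) + (3 : ZMod 3) * g (.inr 0) (.inl 0) + (5 : ZMod 3) * g (.inr 0) (.inl 1) + (2 : ZMod 3) * g (.inr 0) (.inr 0) + (3 : ZMod 3) * g (.inr 0) (.inr 1) + (-1 : ZMod 3) * g (.inr 1) (.inl 0) + (-2 : ZMod 3) * g (.inr 1) (.inl 1) + (-1 : ZMod 3) * g (.inr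 1) (.inr 0) + (-1 : ZMod 3) * g (.inr 1) (.inr 1)) * three
  have z3 : g (.inl 0) (.inr 1) = 0 := by linear_combination h0 + h2 + 2 * h4 + h6 + 2 * h10 + 2 * h14 + 2 * h16 + h20 + ((3 : ZMod 3) * g (.inl 0) (.inl 0) + (5 : ZMod 3) * g (.inl 0) (.inl 1) + (1 : ZMod 3) * g (.inl 0) (.inr 0) + (3 : ZMod 3) * g (.inl 0) (.inr 1) + (-2 : ZMod 3) * g (.inl 1) (.inl 0) + (-5 : ZMod 3) * g (.inl 1) (.inl 1) + (-2 : ZMod 3) * g (.inl 1) (.inr 0) + (-2 : ZMod 3) * g (.inl 1) (.inr 1) + (2 : ZMod 3) * g (.inr 0) (.inl 0) + (6 : ZMod 3) * g (.inr 0) (.inl 1) + (2 : ZMod 3) * g (.inr 0) (.inr 0) + (2 : ZMod 3) * g (.inr 0) (.inr 1)) * three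
  have z4 : g (.inl 1) (.inl 0) = 0 := by linear_combination 2 * h2 + h5 + h6 + h7 + 2 * h8 + h10 + 2 * h11 + 2 * h14 + 2 * h17 + 2 * h20 + ((2 : ZMod 3) * g (.inl 0) (.inl 0) + (4 : ZMod 3) * g (.inl 0) (.inl 1) + (2 : ZMod 3) * g (.inl 0) (.inr 0) + (4 : ZMod 3) * g (.inl 0) (.inr 1) + (-1 : ZMod 3) * g (.inl 1) (.inl 0) + (-3 : ZMod 3) * g (.inl 1) (.inl 1) + (-2 : ZMod 3) * g (.inl 1) (.inr 0) + (-3 : ZMod 3) * g (.inl 1) (.inr 1) + (3 : ZMod 3) * g (.inr 0) (.inl 0) + (7 : ZMod 3) * g (.inr 0) (.inl 1) + (2 : ZMod 3) * g (.inr 0) (.inr 0) + (3 : ZMod 3) * g (.inr 0) (.inr 1) + (-1 : ZMod 3) * g (.inr 1) (.inl 0) + (-2 : ZMod 3) * g (.inr 1) (.inl 1) + (-1 : ZMod 3) * g (.inr 1) (.inr 0) + (-1 : ZMod 3) * g (.inr 1) (.inr 1)) * three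
  have z5 : g (.inl 1) (.inl 1) = g (.inl 0) (.inl 0) := by linear_combination 2 * h0 + h4 + ((1 : ZMod 3) * g (.inl 0) (.inl 0) + (2 : ZMod 3) * g (.inl 0) (.inl 1) + (-1 : ZMod 3) * g (.inl 1) (.inl 0) + (-1 : ZMod 3) * g (.inl 1) (.inl 1)) * three
  have z6 : g (.inl 1) (.inr 0) = 0 := by linear_combination 2 * h0 + h2 + h4 + h6 + h10 + h14 + h16 + 2 * h20 + ((3 : ZMod 3) * g (.inl 0) (.inl 0) + (5 : ZMod 3) * g (.inl 0) (.inl 1) + (1 : ZMod 3) * g (.inl 0) (.inr 0) + (3 : ZMod 3) * g (.inl 0) (.inr 1) + (-2 : ZMod 3) * g (.inl 1) (.inl 0) + (-4 : ZMod 3) * g (.inl 1) (.inl 1) + (-1 : ZMod 3) * g (.inl 1) (.inr 0) + (-2 : ZMod 3) * g (.inl 1) (.inr 1) + (2 : ZMod 3) * g (.inr 0) (.inl 0) + (5 : ZMod 3) * g (.inr 0) (.inl 1) + (1 : ZMod 3) * g (.inr 0) (.inr 0) + (2 : ZMod 3) * g (.inr 0) (.inr 1)) * three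
  have z7 : g (.inl 1) (.inr 1) = 0 := by linear_combination 2 * h0 + 2 * h2 + 2 * h4 + h5 + h6 + h7 + h8 + h10 + 2 * h11 + 2 * h14 + h16 + 2 * h17 + ((3 : ZMod 3) * g (.inl 0) (.inl 0) + (5 : ZMod 3) * g (.inl 0) (.inl 1) + (2 : ZMod 3) * g (.inl 0) (.inr 0) + (3 : ZMod 3) * g (.inl 0) (.inr 1) + (-2 : ZMod 3) * g (.inl 1) (.inl 0) + (-4 : ZMod 3) * g (.inl 1) (.inl 1) + (-2 : ZMod 3) * g (.inl 1) (.inr 0) + (-2 : ZMod 3) * g (.inl 1) (.inr 1) + (2 : ZMod 3) * g (.inr 0) (.inl 0) + (5 : ZMod 3) * g (.inr 0) (.inl 1) + (2 : ZMod 3) * g (.inr 0) (.inr 0) + (2 : ZMod 3) * g (.inr 0) (.inr 1) + (-1 : ZMod 3) * g (.inr 1) (.inl 0) + (-2 : ZMod 3) * g (.inr 1) (.inl 1) + (-1 : ZMod 3) * g (.inr 1) (.inr 0) + (-1 : ZMod 3) * g (.inr 1) (.inr 1)) * three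
  have z8 : g (.inr 0) (.inl 0) = 0 := by linear_combination 2 * h0 + h2 + 2 * h3 + h4 + 2 * h5 + h6 + h7 + 2 * h8 + 2 * h9 + h10 + h16 + 2 * h17 + ((3 : ZMod 3) * g (.inl 0) (.inl 0) + (3 : ZMod 3) * g (.inl 0) (.inl 1) + (1 : ZMod 3) * g (.inl 0) (.inr 0) + (3 : ZMod 3) * g (.inl 0) (.inr 1) + (-2 : ZMod 3) * g (.inl 1) (.inl 0) + (-2 : ZMod 3) * g (.inl 1) (.inl 1) + (-1 : ZMod 3) * g (.inl 1) (.inr 0) + (-2 : ZMod 3) * g (.inl 1) (.inr 1) + (3 : ZMod 3) * g (.inr 0) (.inl 0) + (3 : ZMod 3) * g (.inr 0) (.inl 1) + (2 : ZMod 3) * g (.inr 0) (.inr 0) + (5 : ZMod 3) * g (.inr 0) (.inr 1) + (-2 : ZMod 3) * g (.inr 1) (.inl 0) + (-2 : ZMod 3) * g (.inr 1) (.inl 1) + (-1 : ZMod 3) * g (.inr 1) (.inr 0) + (-3 : ZMod 3) * g (.inr 1) (.inr 1)) * three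
  have z9 : g (.inr 0) (.inl 1) = 0 := by linear_combination 2 * h0 + h2 + h4 + h6 + 2 * h10 + 2 * h14 + h16 + 2 * h20 + ((3 : ZMod 3) * g (.inl 0) (.inl 0) + (5 : ZMod 3) * g (.inl 0) (.inl 1) + (1 : ZMod 3) * g (.inl 0) (.inr 0) + (3 : ZMod 3) * g (.inl 0) (.inr 1) + (-2 : ZMod 3) * g (.inl 1) (.inl 0) + (-5 : ZMod 3) * g (.inl 1) (.inl 1) + (-2 : ZMod 3) * g (.inl 1) (.inr 0) + (-2 : ZMod 3) * g (.inl 1) (.inr 1) + (2 : ZMod 3) * g (.inr 0) (.inl 0) + (7 : ZMod 3) * g (.inr 0) (.inl 1) + (2 : ZMod 3) * g (.inr 0) (.inr 0) + (2 : ZMod 3) * g (.inr 0) (.inr 1)) * three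
  have z10 : g (.inr 0) (.inr 0) = g (.inl 0) (.inl 0) := by linear_combination 2 * h0 + h4 + h10 + 2 * h14 + ((1 : ZMod 3) * g (.inl 0) (.inl 0) + (2 : ZMod 3) * g (.inl 0) (.inl 1) + (-1 : ZMod 3) * g (.inl 1) (.inl 0) + (-3 : ZMod 3) * g (.inl 1) (.inl 1) + (-1 : ZMod 3) * g (.inl 1) (.inr 0) + (3 : ZMod 3) * g (.inr 0) (.inl 1) + (2 : ZMod 3) * g (.inr 0) (.inr 0)) * three
  have z11 : g (.inr 0) (.inr 1) = 0 := by linear_combination h3 + h4 + h6 + h7 + h9 + h10 + h11 + h14 + 2 * h17 + 2 * h20 + ((3 : ZMod 3) * g (.inl 0) (.inl 0) + (5 : ZMod 3) * g (.inl 0) (.inl 1) + (1 : ZMod 3) * g (.inl 0) (.inr 0) + (3 : ZMod 3) * g (.inl 0) (.inr 1) + (-1 : ZMod 3) * g (.inl 1) (.inl 0) + (-3 : ZMod 3) * g (.inl 1) (.inl 1) + (-1 : ZMod 3) * g (.inl 1) (.inr 0) + (-1 : ZMod 3) * g (.inl 1) (.inr 1) + (2 : ZMod 3) * g (.inr 0) (.inl 0) + (5 : ZMod 3) * g (.inr 0) (.inl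 1) + (2 : ZMod 3) * g (.inr 0) (.inr 0) + (4 : ZMod 3) * g (.inr 0) (.inr 1) + (-1 : ZMod 3) * g (.inr 1) (.inl 0) + (-1 : ZMod 3) * g (.inr 1) (.inl 1) + (-1 : ZMod 3) * g (.inr 1) (.inr 0) + (-2 : ZMod 3) * g (.inr 1) (.inr 1)) * three
  have z12 : g (.inr 1) (.inl 0) = 0 := by linear_combination 2 * h0 + h2 + 2 * h3 + h4 + h6 + h7 + h9 + h10 + 2 * h16 + h20 + ((3 : ZMod 3) * g (.inl 0) (.inl 0) + (4 : ZMod 3) * g (.inl 0) (.inl 1) + (1 : ZMod 3) * g (.inl 0) (.inr 0) + (3 : ZMod 3) * g (.inl 0) (.inr 1) + (-2 : ZMod 3) * g (.inl 1) (.inl 0) + (-3 : ZMod 3) * g (.inl 1) (.inl 1) + (-1 : ZMod 3) * g (.inl 1) (.inr 0) + (-2 : ZMod 3) * g (.inl 1) (.inr 1) + (2 : ZMod 3) * g (.inr 0) (.inl 0) + (3 : ZMod 3) * g (.inr 0) (.inl 1) + (2 : ZMod 3) * g (.inr 0) (.inr 0) + (5 : ZMod 3) * g (.inr 0) (.inr 1) + (-1 : ZMod 3) * g (.inr 1) (.inr 0) + (-2 : ZMod 3) * g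 (.inr 1) (.inr 1)) * three
  have z13 : g (.inr 1) (.inl 1) = 0 := by linear_combination 2 * h0 + h2 + h4 + h6 + h8 + 2 * h9 + 2 * h10 + 2 * h14 + 2 * h16 + h17 + ((3 : ZMod 3) * g (.inl 0) (.inl 0) + (3 : ZMod 3) * g (.inl 0) (.inl 1) + (1 : ZMod 3) * g (.inl 0) (.inr 0) + (3 : ZMod 3) * g (.inl 0) (.inr 1) + (-2 : ZMod 3) * g (.inl 1) (.inl 0) + (-4 : ZMod 3) * g (.inl 1) (.inl 1) + (-2 : ZMod 3) * g (.inl 1) (.inr 0) + (-2 : ZMod 3) * g (.inl 1) (.inr 1) + (2 : ZMod 3) * g (.inr 0) (.inl 0) + (5 : ZMod 3) * g (.inr 0) (.inl 1) + (2 : ZMod 3) * g (.inr 0) (.inr 0) + (2 : ZMod 3) * g (.inr 0) (.inr 1) + (-1 : ZMod 3) * g (.inr 1) (.inl 0) + (-1 : ZMod 3) * g (.inr 1) (.inr 1)) * three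
  have z14 : g (.inr 1) (.inr 0) = 0 := by linear_combination h4 + h6 + h9 + h10 + h11 + h14 + 2 * h17 + 2 * h20 + ((3 : ZMod 3) * g (.inl 0) (.inl 0) + (5 : ZMod 3) * g (.inl 0) (.inl 1) + (1 : ZMod 3) * g (.inl 0) (.inr 0) + (3 : ZMod 3) * g (.inl 0) (.inr 1) + (-1 : ZMod 3) * g (.inl 1) (.inl 0) + (-3 : ZMod 3) * g (.inl 1) (.inl 1) + (-1 : ZMod 3) * g (.inl 1) (.inr 0) + (-1 : ZMod 3) * g (.inl 1) (.inr 1) + (2 : ZMod 3) * g (.inr 0) (.inl 0) + (5 : ZMod 3) * g (.inr 0) (.inl 1) + (1 : ZMod 3) * g (.inr 0) (.inr 0) + (2 : ZMod 3) * g (.inr 0) (.inr 1) + (-1 : ZMod 3) * g (.inr 1) (.inl 0) + (-1 : ZMod 3) * g (.inr 1) (.inl 1) + (-1 : ZMod 3) * g (.inr 1) (.inr 1)) * three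
  have z15 : g (.inr 1) (.inr 1) = g (.inl 0) (.inl 0) := by linear_combination 2 * h0 + h3 + h4 + 2 * h7 + h10 + 2 * h14 + ((1 : ZMod 3) * g (.inl 0) (.inl 0) + (2 : ZMod 3) * g (.inl 0) (.inl 1) + (-1 : ZMod 3) * g (.inl 1) (.inl 0) + (-3 : ZMod 3) * g (.inl 1) (.inl 1) + (-1 : ZMod 3) * g (.inl 1) (.inr 0) + (3 : ZMod 3) * g (.inr 0) (.inl 1) + (3 : ZMod 3) * g (.inr 0) (.inr 0) + (2 : ZMod 3) * g (.inr 0) (.inr 1) + (-1 : ZMod 3) * g (.inr 1) (.inr 0) + (-1 : ZMod 3) * g (.inr 1) (.inr 1)) * three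
  ext (i | i) (j | j) <;> fin_cases i <;> fin_cases j <;> simp [z1, z2, z3, z4, z5, z6, z7, z8, z9, z10, z11, z12, z13, z14, z15]

/-- All parameters. -/
def bools6 : List (Fin 6 → Bool) :=
  let t := [false, true]
  t.flatMap fun a => t.flatMap fun b => t.flatMap fun c => t.flatMap fun d => t.flatMap fun e =>
    t.map fun f => ![a, b, c, d, e, f]

theorem card_gens6 : Nat.card ↥(Subgroup.closure (Set.range gens6)) = 2 ^ 6 := by
  refine card_closure_range gens6 (isPGroup_closure_range gens6 (by decide +kernel) (by decide +kernel)) bools6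
    (by decide) (by decide +kernel) fun k hk => ?_
  have hle : Subgroup.closure (Set.range gens6) ≤ alternatingGroup (Fin 8) := by
    rw [Subgroup.closure_le]
    rintro _ ⟨i, rfl⟩
    exact Perm.mem_alternatingGroup.2 ((by decide +kernel : ∀ i, Perm.sign (gens6 i) = 1) i)
  have h := hk.trans (Subgroup.card_dvd_of_le hle)
  rw [nat_card_alternatingGroup, Nat.card_fin, show Nat.factorial 8 / 2 = 2 ^ 6 * 315 by decide] at h
  have h6 : 2 ^ k ∣ 2 ^ 6 := ((by norm_num : Nat.Coprime 2 315).pow_left k).dvd_of_dvd_mul_right h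
  exact (Nat.pow_dvd_pow_iff_le_right (by norm_num)).1 h6

theorem sylow_alt_eight (P : Sylow 2 ↥(alternatingGroup (Fin 8))) :
    Nonempty (↥(Subgroup.closure (Set.range gens6)) ≃* ↥(P : Subgroup ↥(alternatingGroup (Fin 8)))) := by
  refine nonempty_equiv_sylow (G := ↥(alternatingGroup (Fin 8))) (MonoidHom.id _) (fun x => ⟨x, rfl⟩) (fun g v => (g : Perm (Fin 8)) v)
    (fun _ _ _ => rfl) (fun _ => rfl) id Function.injective_id gens6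
    (fun i => ⟨⟨gens6 i, Perm.mem_alternatingGroup.2 ((by decide +kernel : ∀ i, Perm.sign (gens6 i) = 1) i)⟩, fun _ => rfl⟩) (fun x => ?_) ?_ P
  · exact ⟨fun h => Subtype.ext (Perm.ext h), fun h k => by rw [show x = 1 from h]; rfl⟩
  · rw [card_gens6, nat_card_alternatingGroup, Nat.card_fin, show Nat.factorial 8 / 2 = 2 ^ 6 * 315 by decide,
      Nat.factorization_mul (by norm_num) (by norm_num), Nat.prime_two.factorization_pow, Finsupp.add_apply,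
      Finsupp.single_eq_same, Nat.factorization_eq_zero_of_not_dvd (by norm_num)]

theorem center_symp_four :
    ∀ z : ↥(Matrix.symplecticGroup (Fin 2) (ZMod 3)), z ∈ Subgroup.center ↥(Matrix.symplecticGroup (Fin 2) (ZMod 3)) ↔
      (z : Matrix (Fin 2 ⊕ Fin 2) (Fin 2 ⊕ Fin 2) (ZMod 3)) = 1 ∨
        (z : Matrix (Fin 2 ⊕ Fin 2) (Fin 2 ⊕ Fin 2) (ZMod 3)) = -1 := by
  intro z
  let m : ↥(Matrix.symplecticGroup (Fin 2) (ZMod 3)) := ⟨-1, by rw [SymplecticGroup.mem_iff]; simp⟩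
  have hm : m ∈ Subgroup.center ↥(Matrix.symplecticGroup (Fin 2) (ZMod 3)) := Subgroup.mem_center_iff.2 fun y =>
    Subtype.ext (by show (y : Matrix (Fin 2 ⊕ Fin 2) (Fin 2 ⊕ Fin 2) (ZMod 3)) * -1 = -1 * y; simp)
  have hne : m ≠ 1 := fun h => absurd (congrArg Subtype.val h)
    (show (-1 : Matrix (Fin 2 ⊕ Fin 2) (Fin 2 ⊕ Fin 2) (ZMod 3)) ≠ 1 by decide +kernel)
  have hc := CfsgLib.Classical.Symp.card_center_symplecticGroup (F := ZMod 3) (m := 2) (by norm_num)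
  rw [ZMod.card, show Nat.gcd 2 (3 - 1) = 2 from rfl] at hc
  constructor
  · intro hz
    by_contra hcon
    push Not at hcon
    haveI : Finite ↥(Subgroup.center ↥(Matrix.symplecticGroup (Fin 2) (ZMod 3))) := inferInstance
    have h3 : Function.Injective (![⟨1, Subgroup.one_mem _⟩, ⟨m, hm⟩, ⟨z, hz⟩] :
        Fin 3 → ↥(Subgroup.center ↥(Matrix.symplecticGroup (Fin 2) (ZMod 3)))) := by
      have a1 : z ≠ 1 := fun h => hcon.1 (congrArg Subtype.val h)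
      have a2 : z ≠ m := fun h => hcon.2 (congrArg Subtype.val h)
      intro i j hij
      fin_cases i <;> fin_cases j <;> simp at hij <;> simp_all
    have := Nat.card_le_card_of_injective _ h3
    rw [Nat.card_fin, hc] at this
    omega
  · rintro (h | h)
    · rw [show z = 1 from Subtype.ext h]; exact Subgroup.one_mem _
    · rw [show z = m from Subtype.ext h]; exact hm

theorem sylow_psp_four (P : Sylow 2 (Cfsg.PSp 2 (ZMod 3))) :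
    Nonempty (↥(Subgroup.closure (Set.range gens6)) ≃* ↥(P : Subgroup (Cfsg.PSp 2 (ZMod 3)))) := by
  refine nonempty_equiv_sylow (QuotientGroup.mk' (Subgroup.center ↥(Matrix.symplecticGroup (Fin 2) (ZMod 3))))
    (QuotientGroup.mk'_surjective _)
    (fun g S => S.image ((g : Matrix (Fin 2 ⊕ Fin 2) (Fin 2 ⊕ Fin 2) (ZMod 3)) *ᵥ ·))
    (fun g h S => by rw [Finset.image_image]; congr 1; funext v; simp [Matrix.mulVec_mulVec])
    (fun S => by simp) plane plane_inj gens6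
    (fun i => ⟨⟨wit4 i, SymplecticGroup.mem_iff.2 (wit4_mem i)⟩, wit4_planes i⟩) (fun x => ?_) ?_ P
  · rw [QuotientGroup.mk'_apply, QuotientGroup.eq_one_iff, center_symp_four]
    constructor
    · intro h
      have hb : ∀ k c, OnPlane k ((x : Matrix (Fin 2 ⊕ Fin 2) (Fin 2 ⊕ Fin 2) (ZMod 3)) *ᵥ planeBasis k c) := fun k c => by
        have := Finset.mem_image_of_mem ((x : Matrix (Fin 2 ⊕ Fin 2) (Fin 2 ⊕ Fin 2) (ZMod 3)) *ᵥ ·) (planeBasis_mem k c)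
        rw [h k] at this
        exact (Finset.mem_filter.1 this).2
      have hs := scalar_of_fix _ hb
      obtain ⟨s, hs'⟩ : ∃ s, s = (x : Matrix (Fin 2 ⊕ Fin 2) (Fin 2 ⊕ Fin 2) (ZMod 3)) (.inl 0) (.inl 0) := ⟨_, rfl⟩
      rw [← hs'] at hs
      have hJ := SymplecticGroup.mem_iff.1 x.2
      rw [hs] at hJ ⊢
      clear hs hs'
      revert hJ
      revert s
      decide +kernel
    · rintro (h | h) k
      · rw [h]; simp
      · rw [h]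
        revert k
        decide +kernel
  · have hc := CfsgLib.Classical.Symp.card_center_symplecticGroup (F := ZMod 3) (m := 2) (by norm_num)
    have hG := CfsgLib.Classical.Symp.card_symplecticGroup (F := ZMod 3) (m := 2)
    rw [Subgroup.card_eq_card_quotient_mul_card_subgroup (Subgroup.center ↥(Matrix.symplecticGroup (Fin 2) (ZMod 3))),
      hc, ZMod.card, show Nat.gcd 2 (3 - 1) = 2 from rfl] at hG
    simp [Finset.prod_range_succ] at hG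
    have hG' : Nat.card (Cfsg.PSp 2 (ZMod 3)) = 2 ^ 6 * 405 := by
      show Nat.card (↥(Matrix.symplecticGroup (Fin 2) (ZMod 3)) ⧸ _) = _
      omega
    rw [card_gens6, hG', Nat.factorization_mul (by norm_num) (by norm_num), Nat.prime_two.factorization_pow,
      Finsupp.add_apply, Finsupp.single_eq_same, Nat.factorization_eq_zero_of_not_dvd (by norm_num)]

end CfsgLib.LocalEvenB.EightPoints
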