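import Mathlib
import Cfsg.Agent.Lib.Components.FStar
import Cfsg.Agent.Lib.Components.Quasisimple
import Cfsg.Agent.Lib.Recog.SimpleSixty

/-!
# Subgroups of symmetric groups with quasisimple `F*` containing small elements
-/

set_option autoImplicit false
set_option linter.all false

open scoped commutatorElement

namespace CfsgLib.LocalEvenB.SymOver

section Group

variable {G : Type*} [Group G]

/-- What is used about `F*(H)` when it is quasisimple. -/
structure QS (H E : Subgroup G) : Prop where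
  le : E ≤ H
  norm : ∀ h ∈ H, ∀ e ∈ E, h * e * h⁻¹ ∈ E
  cent : ∀ h ∈ H, (∀ e ∈ E, e * h = h * e) → h ∈ E
  perfect : ⁅E, E⁆ = E
  not_solvable : ¬ Group.IsSolvable ↥E
  simple : ∀ N ≤ E, (∀ e ∈ E, ∀ x ∈ N, e * x * e⁻¹ ∈ N) → N = E ∨ ∀ e ∈ E, ∀ x ∈ N, e * x = x * e

theorem qs_of_gFitting [Finite G] {H : Subgroup G} (hF : Cfsg.IsQuasisimple ↥(Cfsg.generalizedFittingSubgroup ↥H)) :
    QS H ((Cfsg.generalizedFittingSubgroup ↥H).map H.subtype) := by
  set F := Cfsg.generalizedFittingSubgroup ↥H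
  refine ⟨Subgroup.map_subtype_le _, ?_, ?_, ?_, ?_, ?_⟩
  · rintro h hh _ ⟨e, he, rfl⟩
    exact ⟨⟨h, hh⟩ * e * ⟨h, hh⟩⁻¹, (CfsgLib.Components.gFitting_normal (G := ↥H)).conj_mem e he ⟨h, hh⟩, rfl⟩
  · intro h hh hc
    exact ⟨⟨h, hh⟩, CfsgLib.Components.centralizer_gFitting_le
      (Subgroup.mem_centralizer_iff.2 fun e he => Subtype.ext (hc _ ⟨e, he, rfl⟩)), rfl⟩
  · rw [← Subgroup.map_commutator, CfsgLib.Components.IsQuasisimple.commutator_eq_self hF]
  · intro hs
    exact CfsgLib.Components.IsQuasisimple.not_isSolvable hF (Group.isSolvable_of_isSolvable_injective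
      (f := (Subgroup.equivMapOfInjective F H.subtype H.subtype_injective).toMonoidHom)
      (Subgroup.equivMapOfInjective F H.subtype H.subtype_injective).injective)
  · intro N hN hn
    let K : Subgroup ↥F := N.comap (H.subtype.comp F.subtype)
    have hK : K.Normal := ⟨fun x hx e => hn _ ⟨(e : ↥H), e.2, rfl⟩ _ hx⟩
    rcases CfsgLib.Components.IsQuasisimple.normal_le_center_or_eq_top hF hK with h | h
    · refine Or.inr fun e he x hx => ?_
      obtain ⟨e, he, rfl⟩ := he
      obtain ⟨x', hx', rfl⟩ := hN hx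
      exact congrArg (fun t : ↥F => ((t : ↥H) : G)) (Subgroup.mem_center_iff.1 (h (show (⟨x', hx'⟩ : ↥F) ∈ K from hx)) ⟨e, he⟩)
    · refine Or.inl (le_antisymm hN ?_)
      rintro _ ⟨x, hx, rfl⟩
      exact (h ▸ Subgroup.mem_top (⟨x, hx⟩ : ↥F) : (⟨x, hx⟩ : ↥F) ∈ K)

variable {H E : Subgroup G}

/-- A subgroup of `H` normalized by `E` contains `E` or is centralized by it. -/
theorem QS.dichotomy (hQ : QS H E) {X : Subgroup G} (hXH : X ≤ H) (hn : ∀ e ∈ E, ∀ x ∈ X, e * x * e⁻¹ ∈ X) :
    E ≤ X ∨ ∀ e ∈ E, ∀ x ∈ X, e * x = x * e := by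
  rcases hQ.simple (E ⊓ X) inf_le_left (fun e he x hx =>
      ⟨hQ.norm e (hQ.le he) x hx.1, hn e he x hx.2⟩) with h | h
  · exact Or.inl (h ▸ inf_le_right)
  · right
    have h1 : ⁅E, X⁆ ≤ E ⊓ X := Subgroup.commutator_le.2 fun e he x hx => by
      rw [commutatorElement_def]
      refine ⟨?_, X.mul_mem (hn e he x hx) (X.inv_mem hx)⟩
      rw [show e * x * e⁻¹ * x⁻¹ = e * (x * e⁻¹ * x⁻¹) by group]
      exact E.mul_mem he (hQ.norm x (hXH hx) _ (E.inv_mem he))
    have h2 : ⁅⁅E, X⁆, E⁆ = ⊥ := Subgroup.commutator_eq_bot_iff_le_centralizer.2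
      (h1.trans fun y hy => Subgroup.mem_centralizer_iff.2 fun e he => h e he y hy)
    have h3 : ⁅⁅X, E⁆, E⁆ = ⊥ := by rw [Subgroup.commutator_comm X E]; exact h2
    have h4 := Subgroup.commutator_commutator_eq_bot_of_rotate h2 h3
    rw [hQ.perfect] at h4
    exact fun e he x hx => (Subgroup.mem_centralizer_iff.1
      ((Subgroup.commutator_eq_bot_iff_le_centralizer.1 h4) he) x hx).symm

end Group

open Equiv

variable {α : Type*} [Fintype α] [DecidableEq α] {H E : Subgroup (Perm α)}

theorem isSolvable_perm_four : Group.IsSolvable (Perm (Fin 4)) := by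
  have hc : Nat.card (alternatingGroup (Fin 4)) = 12 := by
    rw [nat_card_alternatingGroup, Nat.card_fin]; rfl
  have : Group.IsSolvable (alternatingGroup (Fin 4)) :=
    CfsgLib.Recog.Sixty.isSolvable_of_dvd_sixty (by rw [hc]; norm_num) (by rw [hc]; norm_num)
  exact Group.isSolvable_of_ker_le_range (alternatingGroup (Fin 4)).subtype Perm.sign
    (by rw [Subgroup.range_subtype, alternatingGroup_eq_sign_ker])

/-- A perfect group preserving a set of at most four points fixes it pointwise. -/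
theorem fix_small {D : Subgroup (Perm α)} (hD : ⁅D, D⁆ = D) (A : Finset α) (hA : A.card ≤ 4)
    (h : ∀ d ∈ D, ∀ a ∈ A, d a ∈ A) : ∀ d ∈ D, ∀ a ∈ A, d a = a := by
  obtain ⟨ι⟩ : Nonempty ({x // x ∈ A} ↪ Fin 4) := Function.Embedding.nonempty_of_card_le (by simpa using hA)
  have hiff : ∀ d : D, ∀ a, ((d : Perm α) a ∈ A) ↔ a ∈ A := fun d a => by
    refine ⟨fun ha => ?_, h d d.2 a⟩
    simpa using h _ (D.inv_mem d.2) _ ha
  let r : D →* Perm {x // x ∈ A} := MonoidHom.mk' (fun d => (d : Perm α).subtypePerm (hiff d))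
    fun a b => by ext; rfl
  let f : D →* Perm (Fin 4) := (Perm.viaEmbeddingHom ι).comp r
  have hR : ⁅f.range, f.range⁆ = f.range := by
    have hD' : ⁅(⊤ : Subgroup D), (⊤ : Subgroup D)⁆ = ⊤ := by
      apply Subgroup.map_injective D.subtype_injective
      rw [Subgroup.map_commutator, ← MonoidHom.range_eq_map, Subgroup.range_subtype, hD]
    rw [MonoidHom.range_eq_map, ← Subgroup.map_commutator, hD']
  have hbot : f.range = ⊥ := by
    by_contra hne
    haveI := isSolvable_perm_four
    haveI : Group.IsPerfect f.range := Subgroup.isPerfect_iff.2 hR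
    haveI : Nontrivial f.range := f.range.nontrivial_iff_ne_bot.2 hne
    exact Group.IsPerfect.not_isSolvable f.range inferInstance
  intro d hd a ha
  have h1 : r ⟨d, hd⟩ = 1 := by
    apply Perm.viaEmbeddingHom_injective ι
    rw [map_one]
    exact Subgroup.mem_bot.1 (hbot ▸ ⟨⟨d, hd⟩, rfl⟩)
  exact congrArg Subtype.val (Perm.ext_iff.1 h1 ⟨a, ha⟩)

/-- A perfect group permuting two sets fixes each. -/
theorem fix_pair {D : Subgroup (Perm α)} (hD : ⁅D, D⁆ = D) (B C : Finset α)
    (h : ∀ d ∈ D, (B.image d = B ∧ C.image d = C) ∨ (B.image d = C ∧ C.image d = B)) :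
    ∀ d ∈ D, B.image d = B := by
  intro d hd
  have key : ∀ d ∈ ⁅D, D⁆, B.image d = B ∧ C.image d = C := by
    intro d hd
    induction hd using Subgroup.closure_induction with
    | mem x hx =>
      obtain ⟨a, ha, b, hb, rfl⟩ := hx
      have inv : ∀ (g : Perm α) (S T : Finset α), S.image g = T → T.image ⇑g.symm = S := by
        intro g S T hST
        show T.image ⇑g⁻¹ = S
        rw [← hST, Finset.image_image, ← Perm.coe_mul, inv_mul_cancel, Perm.coe_one, Finset.image_id]
      rw [commutatorElement_def]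
      simp only [Perm.coe_mul, ← Finset.image_image]
      rcases h a ha with ⟨a1, a2⟩ | ⟨a1, a2⟩ <;> rcases h b hb with ⟨b1, b2⟩ | ⟨b1, b2⟩ <;>
        simp [inv _ _ _ a1, inv _ _ _ a2, inv _ _ _ b1, inv _ _ _ b2, a1, a2, b1, b2]
    | one => simp
    | mul x y _ _ hx hy =>
      simp only [Perm.coe_mul, ← Finset.image_image, hx, hy, and_self]
    | inv x _ hx =>
      refine ⟨?_, ?_⟩
      · conv_lhs => rw [← hx.1]
        rw [Finset.image_image, ← Perm.coe_mul, inv_mul_cancel, Perm.coe_one, Finset.image_id]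
      · conv_lhs => rw [← hx.2]
        rw [Finset.image_image, ← Perm.coe_mul, inv_mul_cancel, Perm.coe_one, Finset.image_id]
  exact (key d (hD.symm ▸ hd)).1

/-- No nontrivial element of `H` moving at most four points is centralized by `E`. -/
theorem QS.not_centralized (hQ : QS H E) {v : Perm α} (hv : v ∈ H) (h4 : v.support.card ≤ 4) (hv1 : v ≠ 1) :
    ¬ ∀ e ∈ E, e * v = v * e := by
  intro hc
  have hmem : ∀ e ∈ E, ∀ a ∈ v.support, e a ∈ v.support := fun e he a ha => by
    rw [Perm.mem_support] at ha ⊢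
    rw [← Perm.mul_apply, ← hc e he, Perm.mul_apply]
    exact fun hh => ha (e.injective hh)
  exact hv1 (Perm.ext fun a => by
    by_contra hne
    exact hne (fix_small hQ.perfect v.support h4 hmem v (hQ.cent v hv hc) a (Perm.mem_support.2 hne)))

/-! ### Three-cycles -/

section ThreeCycle

variable (H)

/-- Two points are linked when a three-cycle of `H` moves one to the other. -/
def Link (a b : α) : Prop := ∃ g ∈ H, g.IsThreeCycle ∧ g a = b

/-- The points moved by three-cycles of `H`. -/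
noncomputable def cls (a : α) : Finset α := by
  classical exact insert a (Finset.univ.filter (Link H a))

end ThreeCycle

theorem threeCycle_of_apply {g : Perm α} (hg : g.IsThreeCycle) {a b : α} (hab : g a = b) (hne : a ≠ b) :
    ∃ z, a ≠ z ∧ b ≠ z ∧ g = swap a b * swap b z ∧ g b = z ∧ g z = a ∧ g.support = {a, b, z} := by
  have hpow : g * g * g = 1 := by
    rw [← pow_three', ← hg.orderOf]; exact pow_orderOf_eq_one g
  have hfa : g a ≠ a := hab ▸ hne.symm
  have h3 : g (g (g a)) = a := Perm.ext_iff.1 hpow a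
  have hbz : b ≠ g b := fun hh => hne (g.injective (hab.trans hh))
  have haz : a ≠ g b := by
    intro hh
    rw [hab, ← hh, hab] at h3
    exact hne h3.symm
  have hsub : ({a, b, g b} : Finset α) ⊆ g.support := by
    intro x hx
    simp only [Finset.mem_insert, Finset.mem_singleton] at hx
    rcases hx with rfl | rfl | rfl
    · exact Perm.mem_support.2 hfa
    · exact Perm.mem_support.2 hbz.symm
    · exact Perm.apply_mem_support.2 (Perm.mem_support.2 hbz.symm)
  have hsupp : g.support = {a, b, g b} := (Finset.eq_of_subset_of_card_le hsub (by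
    rw [hg.card_support, Finset.card_eq_three.2 ⟨a, b, g b, hne, haz, hbz, rfl⟩])).symm
  refine ⟨g b, haz, hbz, Perm.ext fun x => ?_, rfl, hab ▸ h3, hsupp⟩
  rw [Perm.mul_apply]
  by_cases hx : x ∈ g.support
  · rw [hsupp] at hx
    simp only [Finset.mem_insert, Finset.mem_singleton] at hx
    rcases hx with rfl | rfl | rfl
    · rw [swap_apply_of_ne_of_ne hne haz, swap_apply_left, hab]
    · rw [swap_apply_left, swap_apply_of_ne_of_ne haz.symm hbz.symm]
    · rw [swap_apply_right, swap_apply_right]; exact hab ▸ h3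
  · rw [Perm.notMem_support.1 hx]
    rw [hsupp] at hx
    simp only [Finset.mem_insert, Finset.mem_singleton, not_or] at hx
    rw [swap_apply_of_ne_of_ne hx.2.1 hx.2.2, swap_apply_of_ne_of_ne hx.1 hx.2.1]

theorem link_symm {a b : α} (h : Link H a b) : Link H b a := by
  obtain ⟨g, hg, h3, rfl⟩ := h
  exact ⟨g⁻¹, H.inv_mem hg, h3.inv, by simp⟩

theorem exists_cycle_of_link {a b : α} (h : Link H a b) (hne : a ≠ b) :
    ∃ z, a ≠ z ∧ b ≠ z ∧ swap a b * swap b z ∈ H := by
  obtain ⟨g, hg, h3, hab⟩ := h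
  obtain ⟨z, h1, h2, rfl, -⟩ := threeCycle_of_apply h3 hab hne
  exact ⟨z, h1, h2, hg⟩

theorem cycle_mem {a b c : α} (hab : a ≠ b) (hac : a ≠ c) (hbc : b ≠ c) (h1 : Link H a b) (h2 : Link H a c) :
    swap a b * swap b c ∈ H := by
  obtain ⟨z, haz, hbz, hs⟩ := exists_cycle_of_link h1 hab
  obtain ⟨w, haw, hcw, ht⟩ := exists_cycle_of_link h2 hac
  have e : ∀ x : α, x = a ∨ x = b ∨ x = c ∨ (x ≠ a ∧ x ≠ b ∧ x ≠ c) := fun x => by tauto
  by_cases hzc : z = c
  · exact hzc ▸ hs
  by_cases hwb : w = b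
  · subst hwb
    convert H.inv_mem ht using 1
    rw [mul_inv_rev, swap_inv, swap_inv]
    ext x
    rcases e x with rfl | rfl | rfl | ⟨h1, h2, h3⟩ <;>
      simp_all [swap_apply_def, eq_comm]
  by_cases hwz : w = z
  · subst hwz
    have : swap a b * swap b c = ((swap a c * swap c w) * (swap a b * swap b w) * (swap a c * swap c w)⁻¹)⁻¹ := by
      simp only [mul_inv_rev, swap_inv, inv_inv]
      ext x
      rcases em (x = w) with rfl | hxw <;> rcases e x with rfl | rfl | rfl | ⟨h1, h2, h3⟩ <;>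
        simp_all [swap_apply_def, eq_comm]
    rw [this]
    exact H.inv_mem (H.mul_mem (H.mul_mem ht hs) (H.inv_mem ht))
  have : swap a b * swap b c = (swap a b * swap b z) * (swap a c * swap c w) * (swap a b * swap b z)⁻¹ *
      (swap a c * swap c w)⁻¹ := by
    simp only [mul_inv_rev, swap_inv]
    ext x
    rcases em (x = w) with rfl | hxw <;> rcases em (x = z) with rfl | hxz <;>
      rcases e x with rfl | rfl | rfl | ⟨h1, h2, h3⟩ <;> simp_all [swap_apply_def, eq_comm]
  rw [this]
  exact H.mul_mem (H.mul_mem (H.mul_mem hs ht) (H.inv_mem hs)) (H.inv_mem ht)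

theorem link_trans {a b c : α} (hac : a ≠ c) (h1 : Link H a b) (h2 : Link H b c) : Link H a c := by
  by_cases hab : a = b
  · exact hab ▸ h2
  by_cases hbc : b = c
  · exact hbc ▸ h1
  refine ⟨_, cycle_mem (Ne.symm hab) hbc hac (link_symm h1) h2, ?_, ?_⟩
  · rw [swap_comm b a]
    exact Perm.isThreeCycle_swap_mul_swap_same hab hac hbc
  · rw [Perm.mul_apply, swap_apply_left, swap_apply_of_ne_of_ne (Ne.symm hbc) (Ne.symm hac)]

/-- The class of a point under three-cycles. -/
theorem mem_cls {a b : α} : b ∈ cls H a ↔ b = a ∨ Link H a b := by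
  classical simp [cls]

theorem cls_eq {a b : α} (h : b ∈ cls H a) : cls H b = cls H a := by
  have half : ∀ a b : α, b ∈ cls H a → cls H b ⊆ cls H a := by
    intro a b h x hx
    rw [mem_cls] at h hx ⊢
    rcases h with rfl | h
    · exact hx
    rcases hx with rfl | hx
    · exact Or.inr h
    by_cases hax : x = a
    · exact Or.inl hax
    · exact Or.inr (link_trans (Ne.symm hax) h hx)
  refine le_antisymm (half a b h) (half b a ?_)
  rw [mem_cls] at h ⊢
  rcases h with rfl | h
  · exact Or.inl rfl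
  · exact Or.inr (link_symm h)

theorem threeCycle_mem_of_subset {a : α} {g : Perm α} (hg : g.IsThreeCycle) (hs : g.support ⊆ cls H a) : g ∈ H := by
  obtain ⟨x, hx⟩ : g.support.Nonempty := Finset.card_pos.1 (by rw [hg.card_support]; norm_num)
  obtain ⟨z, hxz, hyz, hge, -, -, hsupp⟩ := threeCycle_of_apply hg rfl (Perm.mem_support.1 hx).symm
  have hl : ∀ y ∈ g.support, y ≠ x → Link H x y := fun y hy hne => by
    have := hs hy
    rw [← cls_eq (hs hx), mem_cls] at this
    exact this.resolve_left hne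
  rw [hge]
  exact cycle_mem (Perm.mem_support.1 hx).symm hxz hyz
    (hl _ (Perm.apply_mem_support.2 hx) (Perm.mem_support.1 hx)) (hl z (by rw [hsupp]; simp) hxz.symm)

theorem support_subset_cls {g : Perm α} (hg : g ∈ H) (h3 : g.IsThreeCycle) {a : α} (ha : a ∈ g.support) :
    g.support ⊆ cls H a := by
  obtain ⟨z, haz, hbz, hge, hbz', hza, hsupp⟩ := threeCycle_of_apply h3 rfl (Perm.mem_support.1 ha).symm
  intro x hx
  rw [hsupp] at hx
  simp only [Finset.mem_insert, Finset.mem_singleton] at hx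
  rw [mem_cls]
  rcases hx with rfl | rfl | rfl
  · exact Or.inl rfl
  · exact Or.inr ⟨g, hg, h3, rfl⟩
  · exact Or.inr (link_symm ⟨g, hg, h3, hza⟩)

theorem link_conj {a b : α} (h : Link H a b) {k : Perm α} (hk : k ∈ H) : Link H (k a) (k b) := by
  obtain ⟨g, hg, h3, rfl⟩ := h
  refine ⟨k * g * k⁻¹, H.mul_mem (H.mul_mem hk hg) (H.inv_mem hk), ?_, by simp⟩
  rw [Perm.IsThreeCycle, Perm.cycleType_conj]
  exact h3

theorem image_cls {a : α} {k : Perm α} (hk : k ∈ H) : (cls H a).image k = cls H (k a) := by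
  refine Finset.ext fun x => ?_
  simp only [Finset.mem_image, mem_cls]
  constructor
  · rintro ⟨y, rfl | hy, rfl⟩
    · exact Or.inl rfl
    · exact Or.inr (link_conj hy hk)
  · rintro (rfl | hx)
    · exact ⟨a, Or.inl rfl, rfl⟩
    · refine ⟨k⁻¹ x, Or.inr ?_, by simp⟩
      simpa using link_conj hx (H.inv_mem hk)

theorem mem_of_support_subset_cls {a : α} {g : Perm α} (hg : g ∈ alternatingGroup α) (hs : g.support ⊆ cls H a) :
    g ∈ H := by
  have h1 : (⟨g, hg⟩ : alternatingGroup α) ∈ (alternatingGroup.ofSubtype (cls H a)).range :=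
    (alternatingGroup.mem_range_ofSubtype_iff _ _).2 hs
  obtain ⟨x, hx⟩ := h1
  have h2 : alternatingGroup {y // y ∈ cls H a} ≤ H.comap (Perm.ofSubtype : Perm {y // y ∈ cls H a} →* Perm α) := by
    rw [← Perm.closure_three_cycles_eq_alternating, Subgroup.closure_le]
    intro t ht
    have ht' : (Perm.ofSubtype t : Perm α).IsThreeCycle := by
      rw [Perm.IsThreeCycle, Perm.cycleType_ofSubtype]; exact ht
    show (Perm.ofSubtype t : Perm α) ∈ H
    refine threeCycle_mem_of_subset (a := a) ht' fun y hy => ?_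
    by_contra hny
    exact Perm.mem_support.1 hy (Perm.ofSubtype_apply_of_not_mem t hny)
  have := h2 x.2
  rw [Subgroup.mem_comap, ← alternatingGroup.coe_ofSubtype, hx] at this
  exact this

/-- **Subgroups with quasisimple `F*` containing a three-cycle.** -/
theorem three_cycle_case (hQ : QS H E) {c : Perm α} (hc : c ∈ H) (h3 : c.IsThreeCycle) :
    ∃ D : Finset α, 5 ≤ D.card ∧ (∀ g, g ∈ E ↔ g ∈ alternatingGroup α ∧ g.support ⊆ D) ∧
      (∀ h ∈ H, ∀ x ∈ D, h x ∈ D) ∧ ∀ h ∈ H, (∀ x ∈ D, h x = x) → h = 1 := by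
  classical
  let T : Subgroup (Perm α) := Subgroup.closure {g | g ∈ H ∧ g.IsThreeCycle}
  have hTH : T ≤ H := (Subgroup.closure_le _).2 fun g hg => hg.1
  have hTn : ∀ h ∈ H, ∀ g ∈ T, h * g * h⁻¹ ∈ T := fun h hh g hg => by
    have : T ≤ T.comap (MulAut.conj h).toMonoidHom := (Subgroup.closure_le _).2 fun t ⟨ht, ht3⟩ =>
      Subgroup.subset_closure ⟨H.mul_mem (H.mul_mem hh ht) (H.inv_mem hh), by
        rw [Perm.IsThreeCycle]
        exact (Perm.cycleType_conj).trans ht3⟩
    exact this hg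
  have hc1 : c ≠ 1 := fun hh => by
    have := h3.card_support
    rw [hh, Perm.support_one, Finset.card_empty] at this
    exact absurd this (by norm_num)
  have hET : E ≤ T := (hQ.dichotomy hTH fun e he => hTn e (hQ.le he)).resolve_right fun hh =>
    hQ.not_centralized hc (by rw [h3.card_support]; norm_num) hc1 fun e he => hh e he c (Subgroup.subset_closure ⟨hc, h3⟩)
  have hfix : ∀ g ∈ T, ∀ a, g a ∈ cls H a := by
    intro g hg
    induction hg using Subgroup.closure_induction with
    | mem x hx =>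
      intro a
      by_cases hxa : x a = a
      · rw [hxa, mem_cls]; exact Or.inl rfl
      · rw [mem_cls]; exact Or.inr ⟨x, hx.1, hx.2, rfl⟩
    | one => intro a; rw [Perm.one_apply, mem_cls]; exact Or.inl rfl
    | mul x y _ _ hx hy => intro a; rw [Perm.mul_apply, ← cls_eq (hy a)]; exact hx _
    | inv x _ hx =>
      intro a
      have := hx (x⁻¹ a)
      rw [show x (x⁻¹ a) = a by simp] at this
      rw [cls_eq this, mem_cls]
      exact Or.inl rfl
  have hEfix : ∀ e ∈ E, ∀ a, ∀ x ∈ cls H a, e x ∈ cls H a := fun e he a x hx => cls_eq hx ▸ hfix e (hET he) x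
  obtain ⟨a, ha⟩ : c.support.Nonempty := Finset.card_pos.1 (by rw [h3.card_support]; norm_num)
  let D := cls H a
  let A : Subgroup (Perm α) :=
    { carrier := {g | g ∈ alternatingGroup α ∧ g.support ⊆ D}
      one_mem' := ⟨one_mem _, by simp⟩
      mul_mem' := fun {x y} hx hy => ⟨mul_mem hx.1 hy.1, (Perm.support_mul_le x y).trans (sup_le hx.2 hy.2)⟩
      inv_mem' := fun {x} hx => ⟨inv_mem hx.1, (Perm.support_inv x).symm ▸ hx.2⟩ }
  have hAH : A ≤ H := fun g hg => mem_of_support_subset_cls hg.1 hg.2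
  have hcA : c ∈ A := ⟨h3.mem_alternatingGroup, support_subset_cls hc h3 ha⟩
  have hEA : E ≤ A := by
    refine (hQ.dichotomy hAH fun e he x hx => ⟨?_, ?_⟩).resolve_right fun hh =>
      hQ.not_centralized hc (by rw [h3.card_support]; norm_num) hc1 fun e he => hh e he c hcA
    · exact (MonoidHom.normal_ker (Perm.sign : Perm α →* ℤˣ)).conj_mem x hx.1 e |> fun h => by
        simpa [alternatingGroup_eq_sign_ker] using h
    · rw [Perm.support_conj]
      intro y hy
      obtain ⟨z, hz, rfl⟩ := Finset.mem_map.1 hy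
      exact hEfix e he a z (hx.2 hz)
  have hmove : ∀ h ∈ H, h a ∈ D := by
    intro h hh
    by_contra hne
    have hdis : Disjoint D (cls H (h a)) := by
      rw [Finset.disjoint_left]
      intro x hx hx'
      exact hne (show h a ∈ cls H a by rw [← cls_eq hx, cls_eq hx', mem_cls]; exact Or.inl rfl)
    have hc' : h * c * h⁻¹ ∈ H := H.mul_mem (H.mul_mem hh hc) (H.inv_mem hh)
    have hsupp : (h * c * h⁻¹).support ⊆ cls H (h a) := by
      rw [Perm.support_conj, ← image_cls hh]
      intro y hy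
      obtain ⟨z, hz, rfl⟩ := Finset.mem_map.1 hy
      exact Finset.mem_image_of_mem _ (hcA.2 hz)
    refine hQ.not_centralized hc' (by rw [Perm.card_support_conj, h3.card_support]; norm_num)
      (fun hh1 => hc1 (conj_eq_one_iff.1 hh1)) fun e he => ?_
    exact (Perm.disjoint_iff_disjoint_support.2 (hdis.mono (hEA he).2 hsupp)).commute
  have hD : ∀ h ∈ H, ∀ x ∈ D, h x ∈ D := fun h hh x hx => by
    have h1 : h x ∈ cls H (h a) := image_cls hh ▸ Finset.mem_image_of_mem _ hx
    rw [cls_eq (hmove h hh)] at h1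
    exact h1
  have hfaith : ∀ h ∈ H, (∀ x ∈ D, h x = x) → h = 1 := fun h hh hx => by
    have hdis : ∀ e ∈ E, Perm.Disjoint e h := fun e he y => by
      by_cases hy : y ∈ D
      · exact Or.inr (hx y hy)
      · exact Or.inl (Perm.notMem_support.1 fun hh' => hy ((hEA he).2 hh'))
    have := hQ.cent h hh fun e he => (hdis e he).commute
    refine Perm.ext fun y => ?_
    by_cases hy : y ∈ D
    · exact hx y hy
    · exact Perm.notMem_support.1 fun hh' => hy ((hEA this).2 hh')
  have h5 : 5 ≤ D.card := by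
    by_contra hlt
    refine hQ.not_centralized hc (by rw [h3.card_support]; norm_num) hc1 fun e he => ?_
    have : e = 1 := hfaith e (hQ.le he) (fix_small hQ.perfect D (by omega) (fun d hd => hD d (hQ.le hd)) e he)
    rw [this, one_mul, mul_one]
  have hAn : ∀ h ∈ H, ∀ g ∈ A, h * g * h⁻¹ ∈ A := fun h hh g hg => by
    refine ⟨?_, ?_⟩
    · simpa [alternatingGroup_eq_sign_ker] using
        (MonoidHom.normal_ker (Perm.sign : Perm α →* ℤˣ)).conj_mem g (by simpa [alternatingGroup_eq_sign_ker] using hg.1) h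
    · rw [Perm.support_conj]
      intro y hy
      obtain ⟨z, hz, rfl⟩ := Finset.mem_map.1 hy
      exact hD h hh z (hg.2 hz)
  refine ⟨D, h5, ?_, hD, hfaith⟩
  -- `A` is simple, so it lies in `E`
  let f : alternatingGroup {y // y ∈ D} →* Perm α := (alternatingGroup α).subtype.comp (alternatingGroup.ofSubtype D)
  have hf : f.range = A := by
    ext g
    constructor
    · rintro ⟨x, rfl⟩
      exact ⟨(alternatingGroup.ofSubtype D x).2, (alternatingGroup.mem_range_ofSubtype_iff _ _).1 ⟨x, rfl⟩⟩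
    · intro hg
      obtain ⟨x, hx⟩ := (alternatingGroup.mem_range_ofSubtype_iff D ⟨g, hg.1⟩).2 hg.2
      exact ⟨x, congrArg Subtype.val hx⟩
  haveI : IsSimpleGroup (alternatingGroup {y // y ∈ D}) :=
    alternatingGroup.isSimpleGroup (by rw [Nat.card_eq_fintype_card, Fintype.card_coe]; exact h5)
  have hn : (E.comap f).Normal := ⟨fun x hx k => by
    show f (k * x * k⁻¹) ∈ E
    rw [map_mul, map_mul, map_inv]
    exact hQ.norm (f k) (hAH (hf ▸ ⟨k, rfl⟩)) _ hx⟩
  rcases hn.eq_bot_or_eq_top with h | h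
  · refine absurd ?_ hQ.not_solvable
    have hE : E = ⊥ := by
      rw [eq_bot_iff]
      intro e he
      obtain ⟨x, rfl⟩ := hf.symm ▸ hEA he
      rw [show x = 1 from Subgroup.mem_bot.1 (h ▸ he), map_one]
      exact one_mem _
    rw [hE]
    infer_instance
  · intro g
    refine ⟨fun hg => hEA hg, fun hg => ?_⟩
    obtain ⟨x, rfl⟩ := hf.symm ▸ (show g ∈ A from hg)
    exact (h ▸ Subgroup.mem_top x : x ∈ E.comap f)

end CfsgLib.LocalEvenB.SymOver

namespace CfsgLib.LocalEvenB.SymOver

open Equiv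

variable {α : Type*} [Fintype α] [DecidableEq α] {H E : Subgroup (Perm α)}

/-- The isomorphism type of `E`. -/
theorem nonempty_equiv_alt {D : Finset α} (hiff : ∀ g, g ∈ E ↔ g ∈ alternatingGroup α ∧ g.support ⊆ D) :
    Nonempty (↥E ≃* ↥(alternatingGroup (Fin D.card))) := by
  let f : alternatingGroup {y // y ∈ D} →* Perm α := (alternatingGroup α).subtype.comp (alternatingGroup.ofSubtype D)
  have hf : Function.Injective f :=
    (alternatingGroup α).subtype_injective.comp alternatingGroup.ofSubtype_injective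
  have hr : f.range = E := by
    ext g
    rw [hiff]
    constructor
    · rintro ⟨x, rfl⟩
      exact ⟨(alternatingGroup.ofSubtype D x).2, (alternatingGroup.mem_range_ofSubtype_iff _ _).1 ⟨x, rfl⟩⟩
    · intro hg
      obtain ⟨x, hx⟩ := (alternatingGroup.mem_range_ofSubtype_iff D ⟨g, hg.1⟩).2 hg.2
      exact ⟨x, congrArg Subtype.val hx⟩
  exact ⟨((MonoidHom.ofInjective hf).trans (MulEquiv.subgroupCongr hr)).symm.trans (Equiv.altCongrHom D.equivFin)⟩

/-- A subgroup of `H` is bounded by the permutations of an invariant faithful set. -/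
theorem card_dvd_factorial {D : Finset α} {P : Subgroup (Perm α)}
    (hD : ∀ h ∈ P, ∀ x ∈ D, h x ∈ D) (hfaith : ∀ h ∈ P, (∀ x ∈ D, h x = x) → h = 1) :
    Nat.card P ∣ Nat.factorial D.card := by
  have hiff : ∀ d : P, ∀ a, ((d : Perm α) a ∈ D) ↔ a ∈ D := fun d a => by
    refine ⟨fun ha => ?_, hD d d.2 a⟩
    simpa using hD _ (P.inv_mem d.2) _ ha
  let r : P →* Perm {x // x ∈ D} := MonoidHom.mk' (fun d => (d : Perm α).subtypePerm (hiff d))
    fun a b => by ext; rfl
  have hr : Function.Injective r := (injective_iff_map_eq_one r).2 fun d hd => Subtype.ext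
    (hfaith d d.2 fun x hx => congrArg Subtype.val (Perm.ext_iff.1 hd ⟨x, hx⟩))
  have h := Subgroup.card_dvd_of_injective r hr
  rwa [Nat.card_perm, Nat.card_eq_fintype_card (α := {x // x ∈ D}), Fintype.card_coe] at h

/-- Sylow's theorem, as used here: `H` contains a conjugate of every `p`-subgroup of an overgroup of a Sylow subgroup. -/
theorem exists_conj_le {G : Type*} [Group G] [Finite G] {p : ℕ} [Fact p.Prime] {H : Subgroup G} (P : Sylow p G)
    (hP : (P : Subgroup G) ≤ H) (Q : Subgroup G) (hQ : IsPGroup p Q) : ∃ g : G, ∀ q ∈ Q, g * q * g⁻¹ ∈ H := by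
  obtain ⟨R, hR⟩ := hQ.exists_le_sylow
  obtain ⟨g, hg⟩ := MulAction.exists_smul_eq G R P
  refine ⟨g, fun q hq => hP ?_⟩
  rw [← hg, Sylow.coe_subgroup_smul]
  exact ⟨q, hR hq, rfl⟩

end CfsgLib.LocalEvenB.SymOver
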