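import Cfsg.Agent.Lib.LocalEvenB.SymOvergroups

/-!
# Subgroups of symmetric groups with quasisimple `F*` containing four-groups moving four points
-/

set_option autoImplicit false
set_option linter.all false
set_option maxRecDepth 4000

open scoped commutatorElement

namespace CfsgLib.LocalEvenB.SymOver

open Equiv

variable {α : Type*} [Fintype α] [DecidableEq α] {H E : Subgroup (Perm α)}

/-- Transport along an embedding of points. -/
noncomputable def ext {k : ℕ} (f : Fin k ↪ α) : Perm (Fin k) →* Perm α := Perm.viaEmbeddingHom f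

theorem ext_apply {k : ℕ} (f : Fin k ↪ α) (σ : Perm (Fin k)) (i : Fin k) : ext f σ (f i) = f (σ i) :=
  Perm.viaEmbedding_apply _ _ _

theorem ext_apply_of {k : ℕ} (f : Fin k ↪ α) (σ : Perm (Fin k)) {x : α} (hx : x ∉ Finset.univ.map f) :
    ext f σ x = x :=
  Perm.viaEmbedding_apply_of_notMem _ _ _ (by simpa using hx)

theorem ext_swap {k : ℕ} (f : Fin k ↪ α) (i j : Fin k) : ext f (swap i j) = swap (f i) (f j) := by
  refine Perm.ext fun x => ?_
  by_cases hx : x ∈ Finset.univ.map f
  · obtain ⟨l, -, rfl⟩ := Finset.mem_map.1 hx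
    rw [ext_apply, f.injective.map_swap]
  · rw [ext_apply_of f _ hx, swap_apply_of_ne_of_ne] <;>
      exact fun h => hx (h ▸ Finset.mem_map_of_mem f (Finset.mem_univ _))

theorem sign_ext {k : ℕ} (f : Fin k ↪ α) (σ : Perm (Fin k)) : Perm.sign (ext f σ) = Perm.sign σ := by
  induction σ using Perm.swap_induction_on with
  | one => simp
  | swap_mul g x y hxy hg =>
    rw [map_mul, map_mul, map_mul, ext_swap, Perm.sign_swap hxy, Perm.sign_swap (fun h => hxy (f.injective h)), hg]

theorem ext_mem_alt {k : ℕ} (f : Fin k ↪ α) {σ : Perm (Fin k)} (h : Perm.sign σ = 1) : ext f σ ∈ alternatingGroup α := by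
  rw [Perm.mem_alternatingGroup, sign_ext, h]

theorem support_ext {k : ℕ} (f : Fin k ↪ α) (σ : Perm (Fin k)) : (ext f σ).support = σ.support.map f := by
  ext x
  by_cases hx : x ∈ Finset.univ.map f
  · obtain ⟨l, -, rfl⟩ := Finset.mem_map.1 hx
    rw [Perm.mem_support, ext_apply, Finset.mem_map', Perm.mem_support, f.injective.ne_iff]
  · rw [Perm.mem_support, ext_apply_of f _ hx]
    refine ⟨fun h => absurd rfl h, fun h => ?_⟩
    obtain ⟨l, -, rfl⟩ := Finset.mem_map.1 h
    exact absurd (Finset.mem_map_of_mem f (Finset.mem_univ _)) hx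

theorem exists_ext {k : ℕ} (f : Fin k ↪ α) {g : Perm α} (hg : g.support ⊆ Finset.univ.map f) :
    ∃ σ, ext f σ = g := by
  have h : ∀ i, ∃ j, f j = g (f i) := fun i => by
    by_cases hi : f i ∈ g.support
    · obtain ⟨j, -, hj⟩ := Finset.mem_map.1 (hg (Perm.apply_mem_support.2 hi))
      exact ⟨j, hj⟩
    · exact ⟨i, (Perm.notMem_support.1 hi).symm⟩
  choose s hs using h
  have hinj : Function.Injective s := fun i j hij => f.injective (g.injective (by rw [← hs i, ← hs j, hij]))
  refine ⟨Equiv.ofBijective s (Finite.injective_iff_bijective.1 hinj), Perm.ext fun x => ?_⟩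
  by_cases hx : x ∈ Finset.univ.map f
  · obtain ⟨l, -, rfl⟩ := Finset.mem_map.1 hx
    rw [ext_apply]
    exact hs l
  · rw [ext_apply_of f _ hx]
    exact (Perm.notMem_support.1 fun h' => hx (hg h')).symm

/-- The trace of a set on an embedded set of points. -/
def pull {k : ℕ} (f : Fin k ↪ α) (C : Finset α) : Finset (Fin k) := Finset.univ.filter fun i => f i ∈ C

theorem mem_pull {k : ℕ} (f : Fin k ↪ α) (C : Finset α) (i : Fin k) : i ∈ pull f C ↔ f i ∈ C := by simp [pull]

theorem card_inter_map {k : ℕ} (f : Fin k ↪ α) (C : Finset α) (S : Finset (Fin k)) :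
    (C ∩ S.map f).card = (pull f C ∩ S).card := by
  have : (pull f C ∩ S).map f = C ∩ S.map f := by
    ext x
    simp only [Finset.mem_map, Finset.mem_inter, mem_pull]
    constructor
    · rintro ⟨i, ⟨h1, h2⟩, rfl⟩
      exact ⟨h1, i, h2, rfl⟩
    · rintro ⟨h1, i, h2, rfl⟩
      exact ⟨i, ⟨h1, h2⟩, rfl⟩
  rw [← this, Finset.card_map]

theorem card_pull {k : ℕ} (f : Fin k ↪ α) (C : Finset α) : (pull f C).card = (C ∩ Finset.univ.map f).card := by
  rw [card_inter_map, Finset.inter_univ]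

theorem pull_image {k : ℕ} (f : Fin k ↪ α) (σ : Perm (Fin k)) (C : Finset α) :
    pull f (C.image (ext f σ)) = (pull f C).image σ := by
  ext i
  simp only [mem_pull, Finset.mem_image]
  constructor
  · rintro ⟨x, hx, hxi⟩
    obtain ⟨j, hj⟩ : ∃ j, x = f j := ⟨σ⁻¹ i, (ext f σ).injective (by rw [hxi, ext_apply]; simp)⟩
    subst hj
    rw [ext_apply] at hxi
    exact ⟨j, hx, f.injective hxi⟩
  · rintro ⟨j, hj, rfl⟩
    exact ⟨f j, hj, ext_apply f σ j⟩

theorem image_ext_eq {k : ℕ} (f : Fin k ↪ α) (σ : Perm (Fin k)) {C : Finset α}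
    (h : (pull f C).image σ = pull f C) : C.image (ext f σ) = C := by
  refine Finset.eq_of_subset_of_card_le ?_ (by rw [Finset.card_image_of_injective _ (ext f σ).injective])
  intro y hy
  obtain ⟨x, hx, rfl⟩ := Finset.mem_image.1 hy
  by_cases hxm : x ∈ Finset.univ.map f
  · obtain ⟨l, -, rfl⟩ := Finset.mem_map.1 hxm
    rw [ext_apply, ← mem_pull f C, ← h]
    exact Finset.mem_image_of_mem _ ((mem_pull f C l).2 hx)
  · rwa [ext_apply_of f _ hxm]

/-- `B` carries a four-group of `H`. -/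
def Blk (H : Subgroup (Perm α)) (B : Finset α) : Prop :=
  B.card = 4 ∧ ∀ g ∈ alternatingGroup α, g * g = 1 → g.support ⊆ B → g ∈ H

theorem Blk.mem_ext {B : Finset α} (hB : Blk H B) {k : ℕ} (f : Fin k ↪ α) (σ : Perm (Fin k))
    (h1 : Perm.sign σ = 1) (h2 : σ * σ = 1) (h3 : σ.support.map f ⊆ B) : ext f σ ∈ H :=
  hB.2 _ (ext_mem_alt f h1) (by rw [← map_mul, h2, map_one]) (by rwa [support_ext])

theorem Blk.image {B : Finset α} (hB : Blk H B) {h : Perm α} (hh : h ∈ H) : Blk H (B.image h) := by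
  refine ⟨by rw [Finset.card_image_of_injective _ h.injective, hB.1], fun g hg hg2 hs => ?_⟩
  have : h⁻¹ * g * h ∈ H := by
    refine hB.2 _ ?_ ?_ ?_
    · rw [Perm.mem_alternatingGroup] at hg ⊢
      simp [hg]
    · calc h⁻¹ * g * h * (h⁻¹ * g * h) = h⁻¹ * (g * g) * h := by group
        _ = 1 := by rw [hg2]; group
    · intro x hx
      have hx' : h x ∈ g.support := by
        rw [Perm.mem_support] at hx ⊢
        exact fun he => hx (by simp [Perm.mul_apply, he])
      obtain ⟨y, hy, hyx⟩ := Finset.mem_image.1 (hs hx')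
      exact h.injective hyx ▸ hy
  simpa [mul_assoc] using H.mul_mem (H.mul_mem hh this) (H.inv_mem hh)

theorem threeCycle_ext {k : ℕ} (f : Fin k ↪ α) {a b c : Fin k} (hab : a ≠ b) (hac : a ≠ c) (hbc : b ≠ c) :
    (ext f (swap a b * swap b c)).IsThreeCycle := by
  rw [map_mul, ext_swap, ext_swap, swap_comm (f a) (f b)]
  exact Perm.isThreeCycle_swap_mul_swap_same (fun h => hab (f.injective h).symm)
    (fun h => hbc (f.injective h)) (fun h => hac (f.injective h))

theorem Blk.even_inter (no3 : ∀ g ∈ H, ¬ g.IsThreeCycle) {A B : Finset α} (hA : Blk H A) (hB : Blk H B) :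
    Even (A ∩ B).card := by
  have h4 : (A ∩ B).card ≤ 4 := hA.1 ▸ Finset.card_le_card Finset.inter_subset_left
  have hd1 := Finset.card_sdiff_add_card_inter A B
  have hd2 := Finset.card_sdiff_add_card_inter B A
  rw [Finset.inter_comm B A] at hd2
  rw [hA.1] at hd1
  rw [hB.1] at hd2
  obtain ⟨k, hk, hk4⟩ : ∃ k, (A ∩ B).card = k ∧ k ≤ 4 := ⟨_, rfl, h4⟩
  rw [hk] at hd1 hd2 ⊢
  interval_cases k
  · decide
  · exfalso
    obtain ⟨a, ha⟩ := Finset.card_eq_one.1 hk
    obtain ⟨b, c, d, hbc, hbd, hcd, hA'⟩ := Finset.card_eq_three.1 (show (A \ B).card = 3 by omega)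
    obtain ⟨p, q, r, hpq, hpr, hqr, hB'⟩ := Finset.card_eq_three.1 (show (B \ A).card = 3 by omega)
    have ma : ∀ x ∈ ({a} : Finset α), x ∈ A ∧ x ∈ B := fun x hx => Finset.mem_inter.1 (ha.symm ▸ hx)
    have mA : ∀ x ∈ ({b, c, d} : Finset α), x ∈ A ∧ x ∉ B := fun x hx => Finset.mem_sdiff.1 (hA'.symm ▸ hx)
    have mB : ∀ x ∈ ({p, q, r} : Finset α), x ∈ B ∧ x ∉ A := fun x hx => Finset.mem_sdiff.1 (hB'.symm ▸ hx)
    simp only [Finset.mem_singleton, Finset.mem_insert, forall_eq_or_imp, forall_eq] at ma mA mB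
    obtain ⟨⟨b1, b2⟩, ⟨c1, c2⟩, ⟨d1, d2⟩⟩ := mA
    obtain ⟨⟨p1, p2⟩, ⟨q1, q2⟩, ⟨r1, r2⟩⟩ := mB
    obtain ⟨a1, a2⟩ := ma
    obtain ⟨f, hf⟩ : ∃ f : Fin 7 ↪ α, ∀ i, f i = ![a, b, c, d, p, q, r] i := ⟨⟨![a, b, c, d, p, q, r], by
      intro i j hij
      fin_cases i <;> fin_cases j <;> simp at hij <;> simp_all⟩, fun _ => rfl⟩
    have hs : ext f (swap 0 1 * swap 2 3) ∈ H := hA.mem_ext f _ (by decide) (by decide) (by
      rw [show (swap 0 1 * swap 2 3 : Perm (Fin 7)).support = {0, 1, 2, 3} by decide]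
      simp [Finset.subset_iff, hf, a1, b1, c1, d1])
    have ht : ext f (swap 0 4 * swap 5 6) ∈ H := hB.mem_ext f _ (by decide) (by decide) (by
      rw [show (swap 0 4 * swap 5 6 : Perm (Fin 7)).support = {0, 4, 5, 6} by decide]
      simp [Finset.subset_iff, hf, a2, p1, q1, r1])
    refine no3 (ext f (swap 0 1 * swap 1 4)) ?_ (threeCycle_ext f (by decide) (by decide) (by decide))
    rw [show (swap (0 : Fin 7) 1 * swap 1 4) =
      swap 0 1 * swap 2 3 * (swap 0 4 * swap 5 6) * (swap 0 1 * swap 2 3 * (swap 0 4 * swap 5 6)) by decide]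
    simp only [map_mul] at hs ht ⊢
    exact H.mul_mem (H.mul_mem hs ht) (H.mul_mem hs ht)
  · decide
  · exfalso
    obtain ⟨a, b, c, hab, hac, hbc, hI⟩ := Finset.card_eq_three.1 hk
    obtain ⟨d, hd⟩ := Finset.card_eq_one.1 (show (A \ B).card = 1 by omega)
    obtain ⟨e, he⟩ := Finset.card_eq_one.1 (show (B \ A).card = 1 by omega)
    have ma : ∀ x ∈ ({a, b, c} : Finset α), x ∈ A ∧ x ∈ B := fun x hx => Finset.mem_inter.1 (hI.symm ▸ hx)
    have mA : ∀ x ∈ ({d} : Finset α), x ∈ A ∧ x ∉ B := fun x hx => Finset.mem_sdiff.1 (hd.symm ▸ hx)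
    have mB : ∀ x ∈ ({e} : Finset α), x ∈ B ∧ x ∉ A := fun x hx => Finset.mem_sdiff.1 (he.symm ▸ hx)
    simp only [Finset.mem_singleton, Finset.mem_insert, forall_eq_or_imp, forall_eq] at ma mA mB
    obtain ⟨⟨a1, a2⟩, ⟨b1, b2⟩, ⟨c1, c2⟩⟩ := ma
    obtain ⟨d1, d2⟩ := mA
    obtain ⟨e1, e2⟩ := mB
    obtain ⟨f, hf⟩ : ∃ f : Fin 5 ↪ α, ∀ i, f i = ![a, b, c, d, e] i := ⟨⟨![a, b, c, d, e], by
      intro i j hij
      fin_cases i <;> fin_cases j <;> simp at hij <;> simp_all⟩, fun _ => rfl⟩
    have hs : ext f (swap 0 1 * swap 2 3) ∈ H := hA.mem_ext f _ (by decide) (by decide) (by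
      rw [show (swap 0 1 * swap 2 3 : Perm (Fin 5)).support = {0, 1, 2, 3} by decide]
      simp [Finset.subset_iff, hf, a1, b1, c1, d1])
    have ht : ext f (swap 0 1 * swap 2 4) ∈ H := hB.mem_ext f _ (by decide) (by decide) (by
      rw [show (swap 0 1 * swap 2 4 : Perm (Fin 5)).support = {0, 1, 2, 4} by decide]
      simp [Finset.subset_iff, hf, a2, b2, c2, e1])
    refine no3 (ext f (swap 2 4 * swap 4 3)) ?_ (threeCycle_ext f (by decide) (by decide) (by decide))
    rw [show (swap (2 : Fin 5) 4 * swap 4 3) = swap 0 1 * swap 2 3 * (swap 0 1 * swap 2 4) by decide]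
    simp only [map_mul] at hs ht ⊢
    exact H.mul_mem hs ht
  · decide

theorem Blk.not_fixed (hQ : QS H E) {A : Finset α} (hA : Blk H A) : ¬ ∀ e ∈ E, ∀ x ∈ A, e x = x := by
  intro h
  obtain ⟨f⟩ : Nonempty (Fin 4 ↪ {x // x ∈ A}) := Function.Embedding.nonempty_of_card_le (by simp [hA.1])
  let g : Fin 4 ↪ α := f.trans (Function.Embedding.subtype _)
  have hsub : (swap 0 1 * swap 2 3 : Perm (Fin 4)).support.map g ⊆ A := fun x hx => by
    obtain ⟨i, -, rfl⟩ := Finset.mem_map.1 hx
    exact (f i).2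
  refine hQ.not_centralized (hA.mem_ext g _ (by decide) (by decide) hsub) ?_ (fun h1 => ?_) fun e he => ?_
  · rw [support_ext]
    exact (Finset.card_le_card hsub).trans hA.1.le
  · have := congrArg Perm.support h1
    rw [support_ext, Perm.support_one, Finset.map_eq_empty] at this
    exact absurd this (by decide)
  · refine (Perm.disjoint_iff_disjoint_support.2 ?_).commute
    rw [Finset.disjoint_left]
    intro x hx hx'
    rw [support_ext] at hx'
    exact Perm.mem_support.1 hx (h e he x (hsub hx'))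

theorem exists_two_partitions (hQ : QS H E) (no3 : ∀ g ∈ H, ¬ g.IsThreeCycle) {A : Finset α} (hA : Blk H A) :
    ∃ B B', Blk H B ∧ Blk H B' ∧ (A ∩ B).card = 2 ∧ (A ∩ B').card = 2 ∧ (A ∩ B ∩ B').card = 1 := by
  classical
  by_contra hne
  push_neg at hne
  obtain ⟨p, hpA, hp2, hp⟩ : ∃ p, p ⊆ A ∧ p.card = 2 ∧
      ∀ C, Blk H C → (A ∩ C).card = 2 → A ∩ C = p ∨ A ∩ C = A \ p := by
    by_cases hB : ∃ B, Blk H B ∧ (A ∩ B).card = 2
    · obtain ⟨B, hB, hB2⟩ := hB
      refine ⟨A ∩ B, Finset.inter_subset_left, hB2, fun C hC hC2 => ?_⟩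
      have h1 := hne B C hB hC hB2 hC2
      have h2 : (A ∩ B ∩ C).card ≤ 2 := hB2 ▸ Finset.card_le_card Finset.inter_subset_left
      rcases (show (A ∩ B ∩ C).card = 0 ∨ (A ∩ B ∩ C).card = 2 by omega) with h | h
      · right
        refine Finset.eq_of_subset_of_card_le (fun x hx => ?_) ?_
        · rw [Finset.mem_sdiff]
          exact ⟨(Finset.mem_inter.1 hx).1, fun hxB => Finset.notMem_empty x (Finset.card_eq_zero.1 h ▸
            Finset.mem_inter.2 ⟨hxB, (Finset.mem_inter.1 hx).2⟩)⟩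
        · rw [Finset.card_sdiff_of_subset Finset.inter_subset_left, hA.1, hB2, hC2]
      · left
        have e1 : A ∩ B ∩ C = A ∩ B := Finset.eq_of_subset_of_card_le Finset.inter_subset_left (by rw [h, hB2])
        refine (Finset.eq_of_subset_of_card_le (fun x hx => ?_) (by rw [hC2, hB2])).symm
        rw [← e1] at hx
        simp only [Finset.mem_inter] at hx ⊢
        exact ⟨hx.1.1, hx.2⟩
    · obtain ⟨p, hpA, hp2⟩ := Finset.exists_subset_card_eq (s := A) (n := 2) (by rw [hA.1]; norm_num)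
      exact ⟨p, hpA, hp2, fun C hC hC2 => absurd ⟨C, hC, hC2⟩ hB⟩
  obtain ⟨a, b, hab, hp'⟩ := Finset.card_eq_two.1 hp2
  obtain ⟨c, d, hcd, hq'⟩ := Finset.card_eq_two.1
    (show (A \ p).card = 2 by rw [Finset.card_sdiff_of_subset hpA, hA.1, hp2])
  have m1 : ∀ x ∈ ({a, b} : Finset α), x ∈ A ∧ x ∈ p := fun x hx => ⟨hpA (hp'.symm ▸ hx), hp'.symm ▸ hx⟩
  have m2 : ∀ x ∈ ({c, d} : Finset α), x ∈ A ∧ x ∉ p := fun x hx => Finset.mem_sdiff.1 (hq'.symm ▸ hx)
  simp only [Finset.mem_singleton, Finset.mem_insert, forall_eq_or_imp, forall_eq] at m1 m2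
  obtain ⟨⟨a1, a2⟩, b1, b2⟩ := m1
  obtain ⟨⟨c1, c2⟩, d1, d2⟩ := m2
  obtain ⟨f, hf⟩ : ∃ f : Fin 4 ↪ α, ∀ i, f i = ![a, b, c, d] i := ⟨⟨![a, b, c, d], by
    intro i j hij
    fin_cases i <;> fin_cases j <;> simp at hij <;> simp_all⟩, fun _ => rfl⟩
  have hsub : Finset.univ.map f ⊆ A := fun x hx => by
    obtain ⟨i, -, rfl⟩ := Finset.mem_map.1 hx
    rw [hf]
    fin_cases i <;> assumption
  have hfA : Finset.univ.map f = A := Finset.eq_of_subset_of_card_le hsub (by simp [hA.1])
  let K : Subgroup (Perm α) :=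
    { carrier := {g | g ∈ H ∧ ∀ C, Blk H C → C.image g = C}
      one_mem' := ⟨H.one_mem, fun C _ => by simp⟩
      mul_mem' := fun {x y} hx hy => ⟨H.mul_mem hx.1 hy.1, fun C hC => by
        rw [Perm.coe_mul, ← Finset.image_image, hy.2 C hC, hx.2 C hC]⟩
      inv_mem' := fun {x} hx => ⟨H.inv_mem hx.1, fun C hC => by
        conv_lhs => rw [← hx.2 C hC]
        rw [Finset.image_image, ← Perm.coe_mul, inv_mul_cancel, Perm.coe_one, Finset.image_id]⟩ }
  let v : Perm (Fin 4) := swap 0 1 * swap 2 3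
  have hv : ext f v ∈ K := by
    refine ⟨hA.mem_ext f v (by decide) (by decide) ((Finset.map_subset_map.2 (Finset.subset_univ _)).trans hsub),
      fun C hC => image_ext_eq f v ?_⟩
    have hcard : (pull f C).card = (A ∩ C).card := by rw [card_pull, hfA, Finset.inter_comm]
    have hev := hA.even_inter no3 hC
    rw [← hcard] at hev
    have h2 : (pull f C).card = 2 → pull f C = {0, 1} ∨ pull f C = {2, 3} := by
      intro h2
      have hh : ∀ i, i ∈ pull f C ↔ f i ∈ A ∩ C := fun i => by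
        rw [mem_pull, Finset.mem_inter, and_iff_right (hsub (Finset.mem_map_of_mem f (Finset.mem_univ i)))]
      rcases hp C hC (hcard ▸ h2) with h | h
      · left
        ext i
        rw [hh, h]
        fin_cases i <;> simp [hf, a2, b2, c2, d2]
      · right
        ext i
        rw [hh, h, Finset.mem_sdiff]
        fin_cases i <;> simp [hf, a1, b1, c1, d1, a2, b2, c2, d2]
    generalize pull f C = X at hev h2 ⊢
    decide +revert
  have hKH : K ≤ H := fun g hg => hg.1
  rcases hQ.dichotomy hKH (fun e he x hx => ⟨H.mul_mem (H.mul_mem (hQ.le he) hx.1) (H.inv_mem (hQ.le he)),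
      fun C hC => by
        have h1 := hx.2 _ (hC.image (H.inv_mem (hQ.le he)))
        rw [Perm.coe_mul, Perm.coe_mul, ← Finset.image_image, ← Finset.image_image, h1, Finset.image_image,
          ← Perm.coe_mul, mul_inv_cancel, Perm.coe_one, Finset.image_id]⟩) with h | h
  · exact hA.not_fixed hQ (fix_small hQ.perfect A hA.1.le
      fun e he x hx => (h he).2 A hA ▸ Finset.mem_image_of_mem _ hx)
  · refine hQ.not_centralized (hKH hv) ?_ (fun h1 => ?_) (fun e he => h e he _ hv)
    · rw [support_ext, Finset.card_map, show v.support.card = 4 by decide]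
    · have := congrArg Perm.support h1
      rw [support_ext, Perm.support_one, Finset.map_eq_empty] at this
      exact absurd this (by decide)

theorem exists_seven (hQ : QS H E) (no3 : ∀ g ∈ H, ¬ g.IsThreeCycle) {A : Finset α} (hA : Blk H A) :
    ∃ (B B' : Finset α) (f : Fin 7 ↪ α), Blk H B ∧ Blk H B' ∧ A = ({0, 1, 2, 3} : Finset (Fin 7)).map f ∧
      B = ({0, 1, 4, 5} : Finset (Fin 7)).map f ∧ B' = ({0, 2, 4, 6} : Finset (Fin 7)).map f := by
  obtain ⟨B, B', hB, hB', h2, h2', h1⟩ := exists_two_partitions hQ no3 hA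
  have hBB := hB.even_inter no3 hB'
  -- cardinalities of the seven regions
  have e1 := Finset.card_sdiff_add_card_inter (A ∩ B) B'
  have e2 := Finset.card_sdiff_add_card_inter (A ∩ B') B
  have e3 := Finset.card_sdiff_add_card_inter (B ∩ B') A
  have e4 := Finset.card_sdiff_add_card_inter A (B ∪ B')
  have e5 := Finset.card_sdiff_add_card_inter B (A ∪ B')
  have e6 := Finset.card_sdiff_add_card_inter B' (A ∪ B)
  have i1 : (A ∩ B' ∩ B).card = 1 := by rwa [Finset.inter_right_comm]
  have i2 : (B ∩ B' ∩ A).card = 1 := by rwa [Finset.inter_comm (B ∩ B') A, ← Finset.inter_assoc]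
  have u1 : (A ∩ (B ∪ B')).card = 3 := by
    have := Finset.card_union_add_card_inter (A ∩ B) (A ∩ B')
    rw [← Finset.inter_union_distrib_left, ← Finset.inter_inter_distrib_left, ← Finset.inter_assoc, h1, h2, h2'] at this
    omega
  have hBB2 : (B ∩ B').card = 2 := by
    have hle : (B ∩ B').card ≤ 4 := hB.1 ▸ Finset.card_le_card Finset.inter_subset_left
    have hge : 1 ≤ (B ∩ B').card := i2 ▸ Finset.card_le_card Finset.inter_subset_left
    have hne : (B ∩ B').card ≠ 4 := fun h => by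
      have : B = B' := by
        have a := Finset.eq_of_subset_of_card_le (Finset.inter_subset_left (s₁ := B) (s₂ := B')) (by rw [h, hB.1])
        have b := Finset.eq_of_subset_of_card_le (Finset.inter_subset_right (s₁ := B) (s₂ := B')) (by rw [h, hB'.1])
        exact a.symm.trans b
      subst this
      rw [Finset.inter_assoc, Finset.inter_self] at h1
      omega
    obtain ⟨r, hr⟩ := hBB
    omega
  have u2 : (B ∩ (A ∪ B')).card = 3 := by
    have := Finset.card_union_add_card_inter (B ∩ A) (B ∩ B')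
    rw [← Finset.inter_union_distrib_left, ← Finset.inter_inter_distrib_left, ← Finset.inter_assoc,
      show B ∩ A ∩ B' = A ∩ B ∩ B' by rw [Finset.inter_comm B A], h1, hBB2,
      Finset.inter_comm B A, h2] at this
    omega
  have u3 : (B' ∩ (A ∪ B)).card = 3 := by
    have := Finset.card_union_add_card_inter (B' ∩ A) (B' ∩ B)
    rw [← Finset.inter_union_distrib_left, ← Finset.inter_inter_distrib_left, ← Finset.inter_assoc,
      show B' ∩ A ∩ B = A ∩ B ∩ B' by rw [Finset.inter_comm B' A, Finset.inter_right_comm],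
      h1, Finset.inter_comm B' A, h2', Finset.inter_comm B' B, hBB2] at this
    omega
  rw [hA.1, u1] at e4
  rw [hB.1, u2] at e5
  rw [hB'.1, u3] at e6
  rw [h1, h2] at e1
  rw [i1, h2'] at e2
  rw [i2, hBB2] at e3
  obtain ⟨a0, r0⟩ := Finset.card_eq_one.1 h1
  obtain ⟨a1, r1⟩ := Finset.card_eq_one.1 (show ((A ∩ B) \ B').card = 1 by omega)
  obtain ⟨a2, r2⟩ := Finset.card_eq_one.1 (show ((A ∩ B') \ B).card = 1 by omega)
  obtain ⟨a3, r3⟩ := Finset.card_eq_one.1 (show (A \ (B ∪ B')).card = 1 by omega)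
  obtain ⟨a4, r4⟩ := Finset.card_eq_one.1 (show ((B ∩ B') \ A).card = 1 by omega)
  obtain ⟨a5, r5⟩ := Finset.card_eq_one.1 (show (B \ (A ∪ B')).card = 1 by omega)
  obtain ⟨a6, r6⟩ := Finset.card_eq_one.1 (show (B' \ (A ∪ B)).card = 1 by omega)
  have m0 := r0.symm ▸ Finset.mem_singleton_self a0
  have m1 := r1.symm ▸ Finset.mem_singleton_self a1
  have m2 := r2.symm ▸ Finset.mem_singleton_self a2
  have m3 := r3.symm ▸ Finset.mem_singleton_self a3
  have m4 := r4.symm ▸ Finset.mem_singleton_self a4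
  have m5 := r5.symm ▸ Finset.mem_singleton_self a5
  have m6 := r6.symm ▸ Finset.mem_singleton_self a6
  simp only [Finset.mem_inter, Finset.mem_union, Finset.mem_sdiff, not_or] at m0 m1 m2 m3 m4 m5 m6
  let sig : α → Bool × Bool × Bool := fun x => (decide (x ∈ A), decide (x ∈ B), decide (x ∈ B'))
  let f : Fin 7 ↪ α := ⟨![a0, a1, a2, a3, a4, a5, a6], Function.Injective.of_comp (f := sig) (by
    have : sig ∘ ![a0, a1, a2, a3, a4, a5, a6] = ![(true, true, true), (true, true, false), (true, false, true),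
        (true, false, false), (false, true, true), (false, true, false), (false, false, true)] := by
      funext i
      fin_cases i <;> simp [sig, m0, m1, m2, m3, m4, m5, m6]
    rw [this]
    decide)⟩
  refine ⟨B, B', f, hB, hB', ?_, ?_, ?_⟩ <;> symm <;> refine Finset.eq_of_subset_of_card_le ?_ ?_
  · simp [Finset.subset_iff, f, Function.Embedding.coeFn_mk, m0, m1, m2, m3]
  · rw [Finset.card_map, hA.1]; decide
  · simp [Finset.subset_iff, f, Function.Embedding.coeFn_mk, m0, m1, m4, m5]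
  · rw [Finset.card_map, hB.1]; decide
  · simp [Finset.subset_iff, f, Function.Embedding.coeFn_mk, m0, m2, m4, m6]
  · rw [Finset.card_map, hB'.1]; decide

theorem trace_seven : ∀ X : Finset (Fin 7), Even (X ∩ {0, 1, 2, 3}).card → Even (X ∩ {0, 1, 4, 5}).card →
    Even (X ∩ {0, 2, 4, 6}).card → X.card ≤ 4 →
    X.card = 0 ∨ X.card = 4 ∨ X.card = 3 ∧ X ∈ ([{4, 5, 6}, {2, 3, 6}, {1, 3, 5}, {1, 2, 4}, {0, 3, 4}, {0, 2, 5}, {0, 1, 6}] : List (Finset (Fin 7))) := by
  decide +kernel

theorem trace_line : ∀ X ∈ ([{4, 5, 6}, {2, 3, 6}, {1, 3, 5}, {1, 2, 4}, {0, 3, 4}, {0, 2, 5}, {0, 1, 6}] : List (Finset (Fin 7))),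
    ∀ Y ∈ ([{4, 5, 6}, {2, 3, 6}, {1, 3, 5}, {1, 2, 4}, {0, 3, 4}, {0, 2, 5}, {0, 1, 6}] : List (Finset (Fin 7))),
    ¬ Even (X ∩ Y).card := by
  decide +kernel

theorem exists_closed (hQ : QS H E) (no3 : ∀ g ∈ H, ¬ g.IsThreeCycle) {A : Finset α} (hA : Blk H A) :
    ∃ (B B' : Finset α) (f : Fin 7 ↪ α) (Ω : Finset α), Blk H B ∧ Blk H B' ∧
      A = ({0, 1, 2, 3} : Finset (Fin 7)).map f ∧ B = ({0, 1, 4, 5} : Finset (Fin 7)).map f ∧
      B' = ({0, 2, 4, 6} : Finset (Fin 7)).map f ∧
      Finset.univ.map f ⊆ Ω ∧ Ω.card ≤ 8 ∧ ∀ C, Blk H C → C ⊆ Ω ∨ Disjoint C Ω := by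
  classical
  obtain ⟨B, B', f, hB, hB', eA, eB, eB'⟩ := exists_seven hQ no3 hA
  have hall : ∀ C, Blk H C → (pull f C).card = 0 ∨ (pull f C).card = 4 ∨ (pull f C).card = 3 ∧ pull f C ∈
      ([{4, 5, 6}, {2, 3, 6}, {1, 3, 5}, {1, 2, 4}, {0, 3, 4}, {0, 2, 5}, {0, 1, 6}] : List (Finset (Fin 7))) := by
    intro C hC
    refine trace_seven _ ?_ ?_ ?_ ?_
    · rw [← card_inter_map, ← eA]; exact hC.even_inter no3 hA
    · rw [← card_inter_map, ← eB]; exact hC.even_inter no3 hB
    · rw [← card_inter_map, ← eB']; exact hC.even_inter no3 hB'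
    · rw [card_pull]; exact hC.1 ▸ Finset.card_le_card Finset.inter_subset_left
  have h0 : ∀ C, Blk H C → (pull f C).card = 0 → Disjoint C (Finset.univ.map f) := fun C _ h => by
    rw [card_pull, Finset.card_eq_zero] at h
    exact Finset.disjoint_iff_inter_eq_empty.2 h
  have h4 : ∀ C, Blk H C → (pull f C).card = 4 → C ⊆ Finset.univ.map f := fun C hC h => by
    rw [card_pull] at h
    exact Finset.inter_eq_left.1 (Finset.eq_of_subset_of_card_le Finset.inter_subset_left (by rw [h, hC.1]))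
  by_cases hex : ∃ C, Blk H C ∧ (pull f C).card = 3
  · obtain ⟨D, hD, hD3⟩ := hex
    have hDl := ((hall D hD).resolve_left (by omega)).resolve_left (by omega)
    have h1 : (D \ Finset.univ.map f).card = 1 := by
      have := Finset.card_sdiff_add_card_inter D (Finset.univ.map f)
      rw [hD.1, ← card_pull, hD3] at this
      omega
    obtain ⟨x, hx⟩ := Finset.card_eq_one.1 h1
    have hxD : x ∈ D ∧ x ∉ Finset.univ.map f := Finset.mem_sdiff.1 (hx.symm ▸ Finset.mem_singleton_self x)
    have hsplit : ∀ C : Finset α, (C ∩ D).card = (pull f C ∩ pull f D).card + if x ∈ C then 1 else 0 := by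
      intro C
      have e := Finset.card_sdiff_add_card_inter (C ∩ D) (Finset.univ.map f)
      have e1 : ((C ∩ D) ∩ Finset.univ.map f).card = (pull f C ∩ pull f D).card := by
        rw [card_inter_map, Finset.inter_univ]
        congr 1
        ext i
        simp [mem_pull]
      have e2 : (C ∩ D) \ Finset.univ.map f = C ∩ {x} := by rw [← hx, Finset.inter_sdiff_assoc]
      rw [e1, e2] at e
      by_cases hxC : x ∈ C
      · rw [if_pos hxC]
        rw [Finset.inter_eq_right.2 (by simpa using hxC)] at e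
        simp at e
        omega
      · rw [if_neg hxC]
        rw [show C ∩ {x} = ∅ from Finset.eq_empty_iff_forall_notMem.2 fun y hy => by
          simp only [Finset.mem_inter, Finset.mem_singleton] at hy
          exact hxC (hy.2 ▸ hy.1)] at e
        simp at e
        omega
    refine ⟨B, B', f, insert x (Finset.univ.map f), hB, hB', eA, eB, eB', Finset.subset_insert _ _, ?_, ?_⟩
    · exact (Finset.card_insert_le _ _).trans (by simp)
    intro C hC
    have hev := hC.even_inter no3 hD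
    rw [hsplit] at hev
    rcases hall C hC with h | h | ⟨h, hl⟩
    · by_cases hxC : x ∈ C
      · rw [if_pos hxC, Finset.card_eq_zero.1 h] at hev
        simp at hev
      · right
        rw [Finset.disjoint_insert_right]
        exact ⟨hxC, h0 C hC h⟩
    · exact Or.inl ((h4 C hC h).trans (Finset.subset_insert _ _))
    · by_cases hxC : x ∈ C
      · left
        have e := Finset.card_sdiff_add_card_inter C (Finset.univ.map f)
        rw [hC.1, ← card_pull, h] at e
        obtain ⟨y, hy⟩ := Finset.card_eq_one.1 (show (C \ Finset.univ.map f).card = 1 by omega)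
        have hxy : x = y := Finset.mem_singleton.1 (hy ▸ Finset.mem_sdiff.2 ⟨hxC, hxD.2⟩)
        intro z hz
        rw [Finset.mem_insert]
        by_cases hzm : z ∈ Finset.univ.map f
        · exact Or.inr hzm
        · exact Or.inl (hxy ▸ Finset.mem_singleton.1 (hy ▸ Finset.mem_sdiff.2 ⟨hz, hzm⟩))
      · rw [if_neg hxC, Nat.add_zero] at hev
        exact absurd hev (trace_line _ hl _ hDl.2)
  · refine ⟨B, B', f, Finset.univ.map f, hB, hB', eA, eB, eB', subset_rfl, by simp, fun C hC => ?_⟩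
    rcases hall C hC with h | h | ⟨h, hl⟩
    · exact Or.inr (h0 C hC h)
    · exact Or.inl (h4 C hC h)
    · exact absurd ⟨C, hC, h⟩ hex

/-- The first translation. -/
def u₁ : Perm (Fin 8) := swap 0 1 * swap 2 3 * (swap 4 5 * swap 6 7)

/-- The second translation. -/
def u₂ : Perm (Fin 8) := swap 0 2 * swap 1 3 * (swap 4 6 * swap 5 7)

theorem trace_eight : ∀ Y : Finset (Fin 8), Even (Y ∩ {0, 1, 2, 3}).card → Even (Y ∩ {0, 1, 4, 5}).card →
    Even (Y ∩ {0, 2, 4, 6}).card → Even (Y ∩ {4, 5, 6, 7}).card → Y.card = 4 →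
    (Y.image ⇑u₁ = Y ∨
      Y.image ⇑u₁ = Yᶜ) ∧
    (Y.image ⇑u₂ = Y ∨
      Y.image ⇑u₂ = Yᶜ) := by
  decide +kernel

theorem orbit_eight : ∀ j : Fin 8,
    ({j, u₁ j, u₂ j,
      u₁ (u₂ j)}
        : Finset (Fin 8)) = {0, 1, 2, 3} ∨
    ({j, u₁ j, u₂ j,
      u₁ (u₂ j)}
        : Finset (Fin 8)) = {4, 5, 6, 7} := by
  decide +kernel

/-- **Two disjoint four-groups force a three-cycle.** -/
theorem exists_three_cycle (hQ : QS H E) {A A' : Finset α} (hA : Blk H A) (hA' : Blk H A') (hAA : Disjoint A A') :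
    ∃ g ∈ H, g.IsThreeCycle := by
  classical
  by_contra hne
  push_neg at hne
  obtain ⟨B, B', f, Ω, hB, hB', eA, eB, eB', hfΩ, hΩ8, hcl⟩ := exists_closed hQ hne hA
  have hAΩ : A ⊆ Ω := eA ▸ (Finset.map_subset_map.2 (Finset.subset_univ _)).trans hfΩ
  -- everything happens inside `Ω`
  let S : Set (Perm α) := {g | ∃ C, Blk H C ∧ g ∈ alternatingGroup α ∧ g * g = 1 ∧ g.support ⊆ C}
  let SΩ : Set (Perm α) := {g | ∃ C, Blk H C ∧ C ⊆ Ω ∧ g ∈ alternatingGroup α ∧ g * g = 1 ∧ g.support ⊆ C}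
  have hSH : Subgroup.closure S ≤ H := (Subgroup.closure_le _).2 fun g ⟨C, hC, h1, h2, h3⟩ => hC.2 g h1 h2 h3
  have hconj : ∀ (g k : Perm α) (C : Finset α), g ∈ alternatingGroup α ∧ g * g = 1 ∧ g.support ⊆ C →
      k * g * k⁻¹ ∈ alternatingGroup α ∧ k * g * k⁻¹ * (k * g * k⁻¹) = 1 ∧ (k * g * k⁻¹).support ⊆ C.image k := by
    rintro g k C ⟨h1, h2, h3⟩
    refine ⟨?_, ?_, ?_⟩
    · rw [Perm.mem_alternatingGroup] at h1 ⊢
      simp [h1]
    · calc k * g * k⁻¹ * (k * g * k⁻¹) = k * (g * g) * k⁻¹ := by group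
        _ = 1 := by rw [h2]; group
    · rw [Perm.support_conj]
      intro y hy
      obtain ⟨z, hz, rfl⟩ := Finset.mem_map.1 hy
      exact Finset.mem_image_of_mem _ (h3 hz)
  have hEfour : ∀ C, Blk H C → ∀ X : Set (Perm α), (∀ g ∈ alternatingGroup α, g * g = 1 → g.support ⊆ C → g ∈ X) →
      (∀ e ∈ E, ∀ x ∈ X, e * x = x * e) → False := by
    intro C hC X hX hc
    obtain ⟨ι⟩ : Nonempty (Fin 4 ↪ {x // x ∈ C}) := Function.Embedding.nonempty_of_card_le (by simp [hC.1])
    let g : Fin 4 ↪ α := ι.trans (Function.Embedding.subtype _)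
    let v : Perm (Fin 4) := swap 0 1 * swap 2 3
    have hsub : v.support.map g ⊆ C := fun x hx => by
      obtain ⟨i, -, rfl⟩ := Finset.mem_map.1 hx
      exact (ι i).2
    refine hQ.not_centralized (hC.mem_ext g v (by decide) (by decide) hsub) ?_ (fun h1 => ?_) fun e he => hc e he _
      (hX _ (ext_mem_alt g (by decide)) (by rw [← map_mul, show v * v = 1 by decide, map_one]) (by rwa [support_ext]))
    · rw [support_ext, Finset.card_map, show v.support.card = 4 by decide]
    · have := congrArg Perm.support h1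
      rw [support_ext, Perm.support_one, Finset.map_eq_empty] at this
      exact absurd this (by decide)
  have hET : E ≤ Subgroup.closure S := by
    refine (hQ.dichotomy hSH fun e he x hx => ?_).resolve_right fun hh =>
      hEfour A hA S (fun g h1 h2 h3 => ⟨A, hA, h1, h2, h3⟩) fun e he x hx => hh e he x (Subgroup.subset_closure hx)
    refine ((Subgroup.closure_le (K := (Subgroup.closure S).comap (MulAut.conj e).toMonoidHom)).2 ?_) hx
    intro g hg
    obtain ⟨C, hC, h⟩ := hg
    exact Subgroup.subset_closure (show e * g * e⁻¹ ∈ S from ⟨C.image e, hC.image (hQ.le he), hconj g e C h⟩)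
  have hTΩ : ∀ g ∈ Subgroup.closure S, Ω.image g = Ω := by
    intro g hg
    induction hg using Subgroup.closure_induction with
    | mem x hx =>
      obtain ⟨C, hC, -, -, hxC⟩ := hx
      refine Finset.eq_of_subset_of_card_le (fun y hy => ?_) (by rw [Finset.card_image_of_injective _ x.injective])
      obtain ⟨z, hz, rfl⟩ := Finset.mem_image.1 hy
      by_cases hxz : z ∈ x.support
      · rcases hcl C hC with h | h
        · exact h (hxC (Perm.apply_mem_support.2 hxz))
        · exact absurd hz (Finset.disjoint_left.1 h (hxC hxz))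
      · rwa [Perm.notMem_support.1 hxz]
    | one => simp
    | mul x y _ _ hx hy => rw [Perm.coe_mul, ← Finset.image_image, hy, hx]
    | inv x _ hx =>
      conv_lhs => rw [← hx]
      rw [Finset.image_image, ← Perm.coe_mul, inv_mul_cancel, Perm.coe_one, Finset.image_id]
  have hEΩ : ∀ e ∈ E, ∀ y, y ∉ Ω → e y = y := by
    have hle : Subgroup.closure SΩ ≤ H := (Subgroup.closure_le _).2 fun g ⟨C, hC, _, h1, h2, h3⟩ => hC.2 g h1 h2 h3
    have hE : E ≤ Subgroup.closure SΩ := by
      refine (hQ.dichotomy hle fun e he x hx => ?_).resolve_right fun hh =>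
        hEfour A hA SΩ (fun g h1 h2 h3 => ⟨A, hA, hAΩ, h1, h2, h3⟩) fun e he x hx => hh e he x (Subgroup.subset_closure hx)
      refine ((Subgroup.closure_le (K := (Subgroup.closure SΩ).comap (MulAut.conj e).toMonoidHom)).2 ?_) hx
      intro g hg
      obtain ⟨C, hC, hCΩ, h⟩ := hg
      exact Subgroup.subset_closure (show e * g * e⁻¹ ∈ SΩ from ⟨C.image e, hC.image (hQ.le he),
        (Finset.image_subset_image hCΩ).trans (hTΩ e (hET he)).le, hconj g e C h⟩)
    suffices key : ∀ k ∈ Subgroup.closure SΩ, ∀ y, y ∉ Ω → k y = y from fun e he => key e (hE he)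
    intro k hk
    induction hk using Subgroup.closure_induction with
    | mem x hx =>
      obtain ⟨C, -, hCΩ, -, -, hxC⟩ := hx
      exact fun y hy => Perm.notMem_support.1 fun h => hy (hCΩ (hxC h))
    | one => simp
    | mul x y _ _ hx hy => intro z hz; rw [Perm.mul_apply, hy z hz, hx z hz]
    | inv x _ hx => intro z hz; exact x.injective (by simp [hx z hz])
  have hin : ∀ C, Blk H C → C ⊆ Ω := fun C hC => (hcl C hC).resolve_right fun hd =>
    hC.not_fixed hQ fun e he x hx => hEΩ e he x (Finset.disjoint_left.1 hd hx)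
  have hunion : A ∪ A' = Ω := Finset.eq_of_subset_of_card_le (Finset.union_subset hAΩ (hin A' hA'))
    (by rw [Finset.card_union_of_disjoint hAA, hA.1, hA'.1]; exact hΩ8)
  have hΩc : Ω.card = 8 := by rw [← hunion, Finset.card_union_of_disjoint hAA, hA.1, hA'.1]
  -- eight points
  obtain ⟨x, hx⟩ := Finset.card_eq_one.1 (show (Ω \ Finset.univ.map f).card = 1 by
    rw [Finset.card_sdiff_of_subset hfΩ, hΩc, Finset.card_map, Finset.card_univ, Fintype.card_fin])
  have hxm : x ∈ Ω ∧ x ∉ Finset.univ.map f := Finset.mem_sdiff.1 (hx.symm ▸ Finset.mem_singleton_self x)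
  let g : Fin 8 ↪ α := ⟨Fin.snoc (α := fun _ => α) f x, Fin.snoc_injective_iff.2 ⟨f.injective, fun ⟨i, hi⟩ =>
    hxm.2 (hi ▸ Finset.mem_map_of_mem f (Finset.mem_univ i))⟩⟩
  have hg : ∀ i : Fin 7, g i.castSucc = f i := fun i => Fin.snoc_castSucc (α := fun _ => α) x f i
  have hgm : ∀ T : Finset (Fin 7), T.map f = (T.map Fin.castSuccEmb).map g := fun T => by
    rw [Finset.map_map]
    congr 1
    exact Function.Embedding.ext fun i => (hg i).symm
  have gA : A = ({0, 1, 2, 3} : Finset (Fin 8)).map g := by rw [eA, hgm]; congr 1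
  have gB : B = ({0, 1, 4, 5} : Finset (Fin 8)).map g := by rw [eB, hgm]; congr 1
  have gB' : B' = ({0, 2, 4, 6} : Finset (Fin 8)).map g := by rw [eB', hgm]; congr 1
  have gΩ : Finset.univ.map g = Ω := Finset.eq_of_subset_of_card_le (fun y hy => by
    obtain ⟨i, -, rfl⟩ := Finset.mem_map.1 hy
    induction i using Fin.lastCases with
    | last => rw [show g (Fin.last 7) = x from Fin.snoc_last (α := fun _ => α) x f]; exact hxm.1
    | cast i => rw [hg]; exact hfΩ (Finset.mem_map_of_mem f (Finset.mem_univ i))) (by simp [hΩc])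
  have gA' : A' = ({4, 5, 6, 7} : Finset (Fin 8)).map g := by
    have h1 : A' = Ω \ A := by rw [← hunion, Finset.union_sdiff_left, Finset.sdiff_eq_self_of_disjoint hAA.symm]
    rw [h1, ← gΩ, gA, ← Finset.map_sdiff]
    congr 1
  have hH1 : ext g u₁ ∈ H := by
    rw [u₁, map_mul]
    refine H.mul_mem (hA.mem_ext g _ (by decide) (by decide) ?_) (hA'.mem_ext g _ (by decide) (by decide) ?_)
    · rw [gA, Finset.map_subset_map]; decide
    · rw [gA', Finset.map_subset_map]; decide
  have hH2 : ext g u₂ ∈ H := by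
    rw [u₂, map_mul]
    refine H.mul_mem (hA.mem_ext g _ (by decide) (by decide) ?_) (hA'.mem_ext g _ (by decide) (by decide) ?_)
    · rw [gA, Finset.map_subset_map]; decide
    · rw [gA', Finset.map_subset_map]; decide
  have hEset : ∀ h ∈ H, Ω.image h = Ω := fun h hh => by
    refine Finset.eq_of_subset_of_card_le ?_ (by rw [Finset.card_image_of_injective _ h.injective])
    rw [← hunion, Finset.image_union]
    exact Finset.union_subset ((hin _ (hA.image hh)).trans hunion.ge) ((hin _ (hA'.image hh)).trans hunion.ge)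
  let N : Subgroup (Perm α) :=
    { carrier := {k | k ∈ H ∧ ∀ C, Blk H C → C.image k = C ∨ C.image k = Ω \ C}
      one_mem' := ⟨H.one_mem, fun C _ => Or.inl (by simp)⟩
      mul_mem' := fun {k l} hk hl => ⟨H.mul_mem hk.1 hl.1, fun C hC => by
        rw [Perm.coe_mul, ← Finset.image_image]
        rcases hl.2 C hC with h | h <;> rw [h]
        · exact hk.2 C hC
        · rw [Finset.image_sdiff _ _ k.injective, hEset k hk.1]
          rcases hk.2 C hC with h' | h' <;> rw [h']
          · exact Or.inr rfl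
          · exact Or.inl (sdiff_sdiff_eq_self (hin C hC))⟩
      inv_mem' := fun {k} hk => ⟨H.inv_mem hk.1, fun C hC => by
        have hkk : ∀ X : Finset α, (X.image k).image ⇑k⁻¹ = X := fun X => by
          rw [Finset.image_image, ← Perm.coe_mul, inv_mul_cancel, Perm.coe_one, Finset.image_id]
        rcases hk.2 C hC with h | h
        · exact Or.inl (by conv_lhs => rw [← h]; rw [hkk])
        · right
          have : (Ω \ C).image k = C := by
            rw [Finset.image_sdiff _ _ k.injective, hEset k hk.1, h, sdiff_sdiff_eq_self (hin C hC)]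
          conv_lhs => rw [← this]
          rw [hkk]⟩ }
  have hu : ∀ u : Perm (Fin 8), ext g u ∈ H → (∀ C, Blk H C → (pull g C).image u = pull g C ∨
      (pull g C).image u = (pull g C)ᶜ) → ext g u ∈ N := fun u huH hu => ⟨huH, fun C hC => by
    rcases hu C hC with h | h
    · exact Or.inl (image_ext_eq g u h)
    · right
      have hsub : C.image (ext g u) ⊆ Ω :=
        (Finset.image_subset_image (hin C hC)).trans (hEset _ huH).le
      ext y
      rw [Finset.mem_sdiff]
      refine ⟨fun hy => ⟨hsub hy, ?_⟩, fun hy => ?_⟩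
      · obtain ⟨i, -, rfl⟩ := Finset.mem_map.1 (gΩ.symm ▸ hsub hy)
        rw [← mem_pull g, pull_image, h, Finset.mem_compl, mem_pull] at hy
        exact hy
      · obtain ⟨i, -, rfl⟩ := Finset.mem_map.1 (gΩ.symm ▸ hy.1)
        rw [← mem_pull g, pull_image, h, Finset.mem_compl, mem_pull]
        exact hy.2⟩
  have htr : ∀ C, Blk H C → _ := fun C hC => trace_eight (pull g C)
    (by rw [← card_inter_map, ← gA]; exact hC.even_inter hne hA)
    (by rw [← card_inter_map, ← gB]; exact hC.even_inter hne hB)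
    (by rw [← card_inter_map, ← gB']; exact hC.even_inter hne hB')
    (by rw [← card_inter_map, ← gA']; exact hC.even_inter hne hA')
    (by rw [card_pull, gΩ, Finset.inter_eq_left.2 (hin C hC)]; exact hC.1)
  have hN1 : ext g u₁ ∈ N := hu u₁ hH1 fun C hC => (htr C hC).1
  have hN2 : ext g u₂ ∈ N := hu u₂ hH2 fun C hC => (htr C hC).2
  have hAA' : Ω \ A = A' := by rw [← hunion, Finset.union_sdiff_left, Finset.sdiff_eq_self_of_disjoint hAA.symm]
  have htoggle : ∀ e ∈ E, A.image e = A ∨ A.image e = A' := by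
    rcases hQ.dichotomy (fun k hk => hk.1 : N ≤ H) (fun e he k hk => ⟨H.mul_mem (H.mul_mem (hQ.le he) hk.1)
        (H.inv_mem (hQ.le he)), fun C hC => by
      have hC' := hC.image (H.inv_mem (hQ.le he))
      have hee : (C.image ⇑e⁻¹).image ⇑e = C := by
        rw [Finset.image_image, ← Perm.coe_mul, mul_inv_cancel, Perm.coe_one, Finset.image_id]
      rw [Perm.coe_mul, Perm.coe_mul, ← Finset.image_image, ← Finset.image_image]
      rcases hk.2 _ hC' with h | h <;> rw [h]
      · exact Or.inl hee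
      · right
        rw [Finset.image_sdiff _ _ e.injective, hee, hEset e (hQ.le he)]⟩) with h | h
    · exact fun e he => hAA' ▸ (h he).2 A hA
    · intro e he
      have c1 : ∀ y, e (ext g u₁ y) = ext g u₁ (e y) := fun y => by rw [← Perm.mul_apply, h e he _ hN1, Perm.mul_apply]
      have c2 : ∀ y, e (ext g u₂ y) = ext g u₂ (e y) := fun y => by rw [← Perm.mul_apply, h e he _ hN2, Perm.mul_apply]
      obtain ⟨j, -, hj⟩ := Finset.mem_map.1 (gΩ.symm ▸ (hEset e (hQ.le he) ▸ Finset.mem_image_of_mem _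
        (hAΩ (gA.symm ▸ Finset.mem_map_of_mem g (by decide : (0 : Fin 8) ∈ _)))) : e (g 0) ∈ Finset.univ.map g)
      have hset : A.image e = ({j, u₁ j, u₂ j, u₁ (u₂ j)} : Finset (Fin 8)).map g := by
        have e1 : g 1 = ext g u₁ (g 0) := by rw [ext_apply]; rfl
        have e2 : g 2 = ext g u₂ (g 0) := by rw [ext_apply]; rfl
        have e3 : g 3 = ext g u₁ (g 2) := by rw [ext_apply]; rfl
        rw [gA]
        simp only [Finset.map_insert, Finset.map_singleton, Finset.image_insert, Finset.image_singleton]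
        rw [e1, e3, e2, c1, c1, c2, ← hj, ext_apply, ext_apply, ext_apply]
      rcases orbit_eight j with ho | ho <;> rw [hset, ho]
      · exact Or.inl gA.symm
      · exact Or.inr gA'.symm
  refine hA.not_fixed hQ (fix_small hQ.perfect A hA.1.le ?_)
  have := fix_pair hQ.perfect A A' fun e he => by
    rcases htoggle e he with h | h
    · exact Or.inl ⟨h, by rw [← hAA', Finset.image_sdiff _ _ e.injective, hEset e (hQ.le he), h]⟩
    · exact Or.inr ⟨h, by rw [← hAA', Finset.image_sdiff _ _ e.injective, hEset e (hQ.le he), h, ← hAA',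
        sdiff_sdiff_eq_self hAΩ]⟩
  exact fun e he y hy => this e he ▸ Finset.mem_image_of_mem _ hy

end CfsgLib.LocalEvenB.SymOver
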