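import Mathlib

/-!
# Finite groups in which every nontrivial element fixes exactly two points
-/

set_option autoImplicit false
set_option linter.all false

namespace CfsgLib.LocalEvenB

open MulAction

variable {H Ω : Type*} [Group H] [Finite H] [MulAction H Ω]

theorem three_orbit_large {N a b c sa sb sc : ℕ} (hsum : a + b + c = N + 2) (ha : a * sa = N)
    (hb : b * sb = N) (hc : c * sc = N) (h2b : 2 ≤ sb) (h2c : 2 ≤ sc) :
    (6 ≤ sa → a = 2 ∧ sb = 2 ∧ sc = 2) ∧
    (4 ∣ sa → 2 ≤ sa → a ≤ 6 ∧ ¬ 4 ∣ sb ∧ ¬ 4 ∣ sc) := by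
  have hb2 := Nat.mul_le_mul_left b h2b
  have hc2 := Nat.mul_le_mul_left c h2c
  constructor
  · intro h6
    have ha6 := Nat.mul_le_mul_left a h6
    rcases Nat.lt_or_ge sb 3 with hb3 | hb3
    · obtain rfl : sb = 2 := by omega
      rcases Nat.lt_or_ge sc 3 with hc3 | hc3
      · obtain rfl : sc = 2 := by omega
        exact ⟨by omega, rfl, rfl⟩
      · have := Nat.mul_le_mul_left c hc3
        omega
    · have := Nat.mul_le_mul_left b hb3
      rcases Nat.lt_or_ge sc 3 with hc3 | hc3
      · obtain rfl : sc = 2 := by omega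
        omega
      · have := Nat.mul_le_mul_left c hc3
        omega
  · intro h4 h2a
    have ha4 : a * 4 ≤ N := ha ▸ Nat.mul_le_mul_left a (Nat.le_of_dvd (by omega) h4)
    have key : ∀ {b c sb sc : ℕ}, a + b + c = N + 2 → b * sb = N → c * sc = N → 2 ≤ sc →
        4 ≤ sb → False := by
      intro b c sb sc hsum hb hc h2c hb4
      have := Nat.mul_le_mul_left c h2c
      have := Nat.mul_le_mul_left b hb4
      omega
    refine ⟨?_, fun h => key hsum hb hc h2c (Nat.le_of_dvd (by omega) h),
      fun h => key (b := c) (c := b) (by omega) hc hb h2b (Nat.le_of_dvd (by omega) h)⟩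
    rcases Nat.lt_or_ge sb 3 with hb3 | hb3
    · obtain rfl : sb = 2 := by omega
      rcases Nat.lt_or_ge sc 3 with hc3 | hc3
      · obtain rfl : sc = 2 := by omega
        omega
      · rcases Nat.lt_or_ge sc 4 with hc4 | hc4
        · obtain rfl : sc = 3 := by omega
          by_cases hsa : sa = 4
          · subst hsa; omega
          · have h8 : 8 ≤ sa := by omega
            have := Nat.mul_le_mul_left a h8
            omega
        · have := Nat.mul_le_mul_left c hc4
          omega
    · have := Nat.mul_le_mul_left b hb3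
      rcases Nat.lt_or_ge sc 3 with hc3 | hc3
      · obtain rfl : sc = 2 := by omega
        rcases Nat.lt_or_ge sb 4 with hb4 | hb4
        · obtain rfl : sb = 3 := by omega
          by_cases hsa : sa = 4
          · subst hsa; omega
          · have h8 : 8 ≤ sa := by omega
            have := Nat.mul_le_mul_left a h8
            omega
        · have := Nat.mul_le_mul_left b hb4
          omega
      · have := Nat.mul_le_mul_left c hc3
        omega

/-- Few points can have a large stabiliser. -/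
theorem two_point_count (hfix : ∀ g : H, g ≠ 1 → ∃ x y : Ω, x ≠ y ∧ ∀ ω, g • ω = ω ↔ ω = x ∨ ω = y)
    (S : Finset Ω) :
    ((∀ ω ∈ S, 6 ≤ Nat.card (stabilizer H ω)) → S.card ≤ 2) ∧
    ((∀ ω ∈ S, 4 ∣ Nat.card (stabilizer H ω)) → S.card ≤ 6) := by
  classical
  haveI := Fintype.ofFinite H
  let F : SubMulAction H Ω :=
    { carrier := {ω | stabilizer H ω ≠ ⊥}
      smul_mem' := fun h ω (hω : stabilizer H ω ≠ ⊥) => by
        show stabilizer H (h • ω) ≠ ⊥
        rw [stabilizer_smul_eq_stabilizer_map_conj]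
        intro h0
        exact hω ((Subgroup.map_eq_bot_iff_of_injective _ (MulEquiv.injective _)).1 h0) }
  have hF : ∀ ω, ω ∈ F ↔ ∃ g : H, g ≠ 1 ∧ g • ω = ω := fun ω => by
    show stabilizer H ω ≠ ⊥ ↔ _
    rw [Subgroup.ne_bot_iff_exists_ne_one]
    exact ⟨fun ⟨g, hg⟩ => ⟨g, fun h => hg (Subtype.ext h), g.2⟩,
      fun ⟨g, h1, h2⟩ => ⟨⟨g, h2⟩, fun h => h1 (congrArg Subtype.val h)⟩⟩
  have hFfin : (F : Set Ω).Finite := by
    refine (Set.finite_iUnion fun g : {g : H // g ≠ 1} =>
      (?_ : {ω : Ω | g.1 • ω = ω}.Finite)).subset fun ω hω => ?_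
    · obtain ⟨x, y, -, hxy⟩ := hfix g.1 g.2
      exact (Set.toFinite {x, y}).subset fun ω hω => (hxy ω).1 hω
    · obtain ⟨g, h1, h2⟩ := (hF ω).1 hω
      exact Set.mem_iUnion.2 ⟨⟨g, h1⟩, h2⟩
  haveI : Fintype F := hFfin.fintype
  have hstab : ∀ w : F, stabilizer H w = stabilizer H (w : Ω) := fun w => by
    ext g; simp only [mem_stabilizer_iff, Subtype.ext_iff, SubMulAction.val_smul]
  have htwo : ∀ g : H, g ≠ 1 → Fintype.card (fixedBy F g) = 2 := by
    intro g hg
    obtain ⟨x, y, hne, hxy⟩ := hfix g hg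
    have hx : x ∈ F := (hF x).2 ⟨g, hg, (hxy x).2 (Or.inl rfl)⟩
    have hy : y ∈ F := (hF y).2 ⟨g, hg, (hxy y).2 (Or.inr rfl)⟩
    rw [Fintype.card_eq_nat_card, Nat.card_coe_set_eq]
    refine Set.ncard_eq_two.2 ⟨⟨x, hx⟩, ⟨y, hy⟩, fun e => hne (congrArg Subtype.val e), ?_⟩
    ext w
    simp only [mem_fixedBy, Set.mem_insert_iff, Set.mem_singleton_iff, Subtype.ext_iff,
      SubMulAction.val_smul]
    exact hxy w
  obtain ⟨N, hN⟩ : ∃ N, N = Fintype.card H := ⟨_, rfl⟩
  obtain ⟨k, hk⟩ : ∃ k, k = Fintype.card (orbitRel.Quotient H F) := ⟨_, rfl⟩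
  have hburn : Fintype.card F + 2 * (N - 1) = k * N := by
    rw [hk, hN, ← sum_card_fixedBy_eq_card_orbits_mul_card_group H F,
      ← Finset.add_sum_erase _ _ (Finset.mem_univ (1 : H))]
    congr 1
    · exact (Fintype.card_congr (Equiv.subtypeUnivEquiv fun w => one_smul H w)).symm
    · rw [Finset.sum_congr rfl fun g hg => htwo g (Finset.ne_of_mem_erase hg), Finset.sum_const,
        Finset.card_erase_of_mem (Finset.mem_univ _), Finset.card_univ, smul_eq_mul, mul_comm]
  obtain ⟨a, hadef⟩ : ∃ a : orbitRel.Quotient H F → ℕ, ∀ o, a o = Nat.card o.orbit := ⟨_, fun _ => rfl⟩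
  obtain ⟨s, hsdef⟩ : ∃ s : orbitRel.Quotient H F → ℕ, ∀ o, s o = Nat.card (stabilizer H o.out) :=
    ⟨_, fun _ => rfl⟩
  have horb : ∀ o : orbitRel.Quotient H F, o.orbit = orbit H o.out := fun o =>
    orbitRel.Quotient.orbit_eq_orbit_out o Quotient.out_eq'
  have has : ∀ o, a o * s o = N := fun o => by
    rw [hadef, hsdef, horb, hN, ← Nat.card_eq_fintype_card,
      ← Nat.card_prod, ← Nat.card_congr (orbitProdStabilizerEquivGroup H o.out)]
  have hconst : ∀ w : F, s (Quotient.mk (orbitRel H F) w) = Nat.card (stabilizer H (w : Ω)) := by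
    intro w
    rw [hsdef, ← hstab]
    have hrel : (orbitRel H F).r (Quotient.mk (orbitRel H F) w).out w :=
      Quotient.exact (Quotient.out_eq _)
    obtain ⟨g, hg⟩ := orbitRel_apply.1 hrel
    rw [← hg]
    exact Nat.card_congr (stabilizerEquivStabilizerOfOrbitRel (orbitRel_apply.2 ⟨g, rfl⟩)).toEquiv
  have h2 : ∀ o, 2 ≤ s o := fun o => by
    rw [hsdef, hstab]
    by_contra h
    have h1 : (o.out : Ω) ∈ F := o.out.2
    exact h1 (Subgroup.card_eq_one.1 (by
      have := Nat.card_pos (α := stabilizer H (o.out : Ω)); omega))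
  have hFsum : Fintype.card F = ∑ o, a o := by
    rw [← Nat.card_eq_fintype_card, Nat.card_congr (selfEquivSigmaOrbits' H F), Nat.card_sigma]
    exact Finset.sum_congr rfl fun o _ => (hadef o).symm
  have hNpos : 0 < N := hN ▸ Fintype.card_pos
  -- the estimate
  have hmain : ∀ P : ℕ → Prop, ∀ bound : ℕ, 2 ≤ bound →
      (∀ {a b c sa sb sc : ℕ}, a + b + c = N + 2 → a * sa = N → b * sb = N → c * sc = N →
        2 ≤ sa → 2 ≤ sb → 2 ≤ sc → P sa → a ≤ bound ∧ ¬ P sb ∧ ¬ P sc) →
      (∀ ω ∈ S, 2 ≤ Nat.card (stabilizer H ω) ∧ P (Nat.card (stabilizer H ω))) → S.card ≤ bound := by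
    intro P bound hb harith hS
    by_cases hSe : S = ∅
    · simp [hSe]
    obtain ⟨ω0, hω0⟩ := Finset.nonempty_iff_ne_empty.2 hSe
    have hmem : ∀ ω ∈ S, ω ∈ F := fun ω hω h0 => by
      have := (hS ω hω).1
      rw [h0, Subgroup.card_bot] at this
      omega
    have hsub : S.card ≤ (Finset.univ.filter fun w : F => P (s (Quotient.mk (orbitRel H F) w))).card := by
      refine Finset.card_le_card_of_injOn (fun ω => if h : ω ∈ F then ⟨ω, h⟩ else ⟨ω0, hmem ω0 hω0⟩)
        (fun ω hω => ?_) (fun x hx y hy e => ?_)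
      · simp only [dif_pos (hmem ω hω), Finset.coe_filter, Finset.mem_univ, true_and, Set.mem_setOf_eq]
        rw [hconst]
        exact (hS ω hω).2
      · simp only [dif_pos (hmem x hx), dif_pos (hmem y hy)] at e
        exact congrArg Subtype.val e
    refine hsub.trans ?_
    have hkle : k ≤ 3 := by
      by_contra h4
      have h1 : ∑ o, 2 * a o ≤ ∑ _o : orbitRel.Quotient H F, N :=
        Finset.sum_le_sum fun o _ => by rw [← has o, mul_comm 2]; exact Nat.mul_le_mul_left _ (h2 o)
      rw [← Finset.mul_sum, ← hFsum, Finset.sum_const, Finset.card_univ, ← hk, smul_eq_mul] at h1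
      have h5 : 4 * N ≤ k * N := Nat.mul_le_mul_right N (by omega)
      omega
    have hFpos : 0 < Fintype.card F := Fintype.card_pos_iff.2 ⟨⟨ω0, hmem ω0 hω0⟩⟩
    have hN2 : 2 ≤ N := by
      have := Subgroup.card_le_card_group (stabilizer H ω0)
      rw [hN, ← Nat.card_eq_fintype_card]
      exact (hS ω0 hω0).1.trans this
    interval_cases k
    · exfalso; simp only [Nat.zero_mul, Nat.one_mul] at hburn; omega
    · exfalso; simp only [Nat.zero_mul, Nat.one_mul] at hburn; omega
    · refine le_trans (Finset.card_le_univ _) ?_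
      omega
    · obtain ⟨e⟩ : Nonempty (Fin 3 ≃ orbitRel.Quotient H F) := ⟨(Fintype.equivFinOfCardEq hk.symm).symm⟩
      have hsum : a (e 0) + a (e 1) + a (e 2) = N + 2 := by
        rw [← e.sum_comp, Fin.sum_univ_three] at hFsum
        omega
      have hcard : (Finset.univ.filter fun w : F => P (s (Quotient.mk (orbitRel H F) w))).card =
          ∑ i : Fin 3, if P (s (e i)) then a (e i) else 0 := by
        rw [Finset.card_eq_sum_card_fiberwise (f := fun w : F => e.symm (Quotient.mk (orbitRel H F) w))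
          (t := Finset.univ) (fun _ _ => Finset.mem_univ _)]
        refine Finset.sum_congr rfl fun i _ => ?_
        split_ifs with hi
        · rw [hadef, Nat.card_coe_set_eq, ← Set.ncard_coe_finset]
          congr 1
          ext w
          simp only [Finset.coe_filter, Finset.mem_filter, Finset.mem_univ, true_and, Set.mem_setOf_eq,
            orbitRel.Quotient.mem_orbit]
          constructor
          · rintro ⟨-, h⟩
            exact (e.symm_apply_eq.1 h)
          · intro h
            refine ⟨?_, e.symm_apply_eq.2 h⟩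
            have h' : Quotient.mk (orbitRel H F) w = e i := h
            rwa [h']
        · rw [Finset.card_eq_zero, Finset.filter_eq_empty_iff]
          intro w hw h
          simp only [Finset.mem_filter, Finset.mem_univ, true_and] at hw
          rw [e.symm_apply_eq.1 h] at hw
          exact hi hw
      rw [hcard, Fin.sum_univ_three]
      by_cases h0 : P (s (e 0))
      · obtain ⟨h1, h3, h4⟩ := harith hsum (has _) (has _) (has _) (h2 _) (h2 _) (h2 _) h0
        simp [h0, h3, h4, h1]
      by_cases h1 : P (s (e 1))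
      · obtain ⟨h5, h3, h4⟩ := harith (b := a (e 0)) (c := a (e 2)) (by omega) (has (e 1)) (has _) (has _) (h2 _) (h2 _) (h2 _) h1
        simp [h1, h3, h4, h5]
      by_cases h3 : P (s (e 2))
      · obtain ⟨h5, -, -⟩ := harith (b := a (e 0)) (c := a (e 1)) (by omega) (has (e 2)) (has _) (has _) (h2 _) (h2 _) (h2 _) h3
        simp [h1, h0, h3, h5]
      simp [h0, h1, h3]
  refine ⟨fun hS => hmain (fun s => 6 ≤ s) 2 le_rfl ?_ fun ω hω => ⟨by linarith [hS ω hω], hS ω hω⟩,
    fun hS => hmain (fun s => 4 ∣ s) 6 (by norm_num) ?_ fun ω hω =>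
      ⟨(by norm_num : 2 ≤ 4).trans (Nat.le_of_dvd Nat.card_pos (hS ω hω)), hS ω hω⟩⟩
  · intro a b c sa sb sc hsum ha hb hc _ hb2 hc2 h6
    obtain ⟨h1, h3, h4⟩ := (three_orbit_large hsum ha hb hc hb2 hc2).1 h6
    exact ⟨h1.le, by omega, by omega⟩
  · intro a b c sa sb sc hsum ha hb hc ha2 hb2 hc2 h4
    exact (three_orbit_large hsum ha hb hc hb2 hc2).2 h4 ha2

end CfsgLib.LocalEvenB
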