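import Cfsg.Agent.Lib.Char.Frobenius
import Cfsg.Agent.Lib.Core.Cores
import Cfsg.Agent.Lib.Transfer.Conj
import Mathlib.GroupTheory.SchurZassenhaus

/-!
An isolated `p`-element centralizing every `p'`-subgroup it normalizes is central.
-/

set_option autoImplicit false

open scoped Pointwise

namespace CfsgLib.LocalEvenB

universe u

variable {p : ℕ} [Fact p.Prime]

theorem central_of_isolated_signalizer : ∀ (n : ℕ) {G : Type u} [Group G] [Finite G], Nat.card G ≤ n →
    ∀ x : G, (∃ k, orderOf x = p ^ k) →
    (∀ R : Subgroup G, IsPGroup p R → x ∈ R → ∀ g : G, g * x * g⁻¹ ∈ R → g * x * g⁻¹ = x) →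
    (∀ H : Subgroup G, (Nat.card H).Coprime p → (∀ h ∈ H, x * h * x⁻¹ ∈ H) → ∀ h ∈ H, x * h = h * x) →
    x ∈ Subgroup.center G := by
  intro n
  induction n using Nat.strong_induction_on with
  | _ n ih =>
    intro G _ _ hn x hx hU hb
    classical
    have hpr : p.Prime := Fact.out
    obtain ⟨k, hk⟩ := hx
    have hxp : IsPGroup p (Subgroup.zpowers x) := IsPGroup.of_card (n := k) (by rw [Nat.card_zpowers, hk])
    by_contra hnc
    -- `x` lies in no normal `p`-subgroup
    have hnp : ∀ M : Subgroup G, M.Normal → IsPGroup p M → x ∉ M := by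
      intro M hM hMp hxM
      refine hnc (Subgroup.mem_center_iff.2 fun g => ?_)
      exact mul_inv_eq_iff_eq_mul.1 (hU M hMp hxM g (hM.conj_mem x hxM g))
    -- proper subgroups
    have hsub : ∀ H : Subgroup G, H ≠ ⊤ → x ∈ H → ∀ h ∈ H, h * x = x * h := by
      intro H hH hxH h hh
      have hlt : Nat.card H < n :=
        lt_of_lt_of_le (lt_of_le_of_ne H.card_le_card_group fun e => hH (Subgroup.eq_top_of_card_eq H e)) hn
      have hc : (⟨x, hxH⟩ : H) ∈ Subgroup.center H := by
        refine ih _ hlt le_rfl _ ⟨k, by rw [Subgroup.orderOf_mk]; exact hk⟩ ?_ ?_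
        · intro R hR hxR g hg
          exact Subtype.ext (hU (R.map H.subtype) (hR.map _) ⟨_, hxR, rfl⟩ g ⟨_, hg, rfl⟩)
        · intro K hK hKn a ha
          refine Subtype.ext (hb (K.map H.subtype) ?_ ?_ a ⟨a, ha, rfl⟩)
          · rwa [← Nat.card_congr (K.equivMapOfInjective _ H.subtype_injective).toEquiv]
          · rintro _ ⟨y, hy, rfl⟩
            exact ⟨_, hKn y hy, rfl⟩
      exact congrArg Subtype.val (Subgroup.mem_center_iff.1 hc ⟨h, hh⟩)
    -- quotients
    have hquot : ∀ M : Subgroup G, M.Normal → M ≠ ⊥ →
        ((Nat.card M).Coprime p ∨ (M ≤ Subgroup.center G ∧ IsPGroup p M)) → False := by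
      intro M hM hM1 hMcase
      haveI := hM
      let π := QuotientGroup.mk' M
      have hlt : Nat.card (G ⧸ M) < n := by
        refine lt_of_lt_of_le ?_ hn
        have h1 := M.card_mul_index
        rw [Subgroup.index_eq_card] at h1
        have h2 : 1 < Nat.card M := by
          rcases Nat.lt_or_ge 1 (Nat.card M) with h | h
          · exact h
          · exact absurd (Subgroup.card_eq_one.1 (le_antisymm h Nat.card_pos)) hM1
        rw [← h1]
        exact lt_mul_left Nat.card_pos h2
      have hzc : π x ∈ Subgroup.center (G ⧸ M) := by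
        refine ih _ hlt le_rfl _ ?_ ?_ ?_
        · obtain ⟨i, -, hi⟩ := (Nat.dvd_prime_pow hpr).1 (hk ▸ orderOf_map_dvd π x)
          exact ⟨i, hi⟩
        · intro R hR hxR gb hg
          obtain ⟨g, rfl⟩ := QuotientGroup.mk'_surjective M gb
          set W := R.comap π
          have hxW : x ∈ W := hxR
          have hgW : g * x * g⁻¹ ∈ W := by
            show π (g * x * g⁻¹) ∈ R
            rw [map_mul, map_mul, map_inv]
            exact hg
          obtain ⟨T, hxT, -, hTp, hTi⟩ := CfsgLib.Transfer.exists_sylow_of_le (Subgroup.zpowers_le.2 hxW) hxp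
          have hconjp : IsPGroup p (Subgroup.zpowers (g * x * g⁻¹)) :=
            IsPGroup.of_card (n := k) (by
              rw [Nat.card_zpowers, show g * x * g⁻¹ = MulAut.conj g x by simp, MulEquiv.orderOf_eq, hk])
          obtain ⟨w, hw, hw'⟩ := CfsgLib.Transfer.exists_conj_le hTp hTi (Subgroup.zpowers_le.2 hgW) hconjp
          have h3 : w⁻¹ * (g * x * g⁻¹) * w = x := by
            have h4 : w⁻¹ * (g * x * g⁻¹) * w ∈ T := hw' _ (Subgroup.mem_zpowers _)
            have h5 := hU T hTp (hxT (Subgroup.mem_zpowers x)) (w⁻¹ * g)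
              (by simpa [mul_assoc] using h4)
            simpa [mul_assoc] using h5
          have h6 : g * x * g⁻¹ = w * x * w⁻¹ := by
            calc g * x * g⁻¹ = w * (w⁻¹ * (g * x * g⁻¹) * w) * w⁻¹ := by group
              _ = w * x * w⁻¹ := by rw [h3]
          -- `π w` and `π x` lie in the `p`-group `R`
          obtain ⟨m, hm, t, ht, rfl⟩ : ∃ m ∈ M, ∃ t ∈ T, w = m * t := by
            have hle : W ≤ M ⊔ T := by
              refine Subgroup.relIndex_eq_one.1 ?_
              have hMW : M ≤ W := fun y hy => by
                show π y ∈ R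
                rw [show π y = 1 from (QuotientGroup.eq_one_iff y).2 hy]; exact one_mem _
              have d1 : (M ⊔ T).relIndex W ∣ T.relIndex W := Subgroup.relIndex_dvd_of_le_left W le_sup_right
              have d2 : (M ⊔ T).relIndex W ∣ Nat.card R := by
                refine (Subgroup.relIndex_dvd_of_le_left W (le_sup_left : M ≤ M ⊔ T)).trans (dvd_of_eq ?_)
                have h := Subgroup.relIndex_ker (K := W) π
                rw [QuotientGroup.ker_mk', Subgroup.map_comap_eq_self_of_surjective (QuotientGroup.mk'_surjective M)] at h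
                exact h
              obtain ⟨j, hj⟩ := IsPGroup.iff_card.mp hR
              rw [hj] at d2
              obtain ⟨i, -, hi⟩ := (Nat.dvd_prime_pow hpr).1 d2
              rcases Nat.eq_zero_or_pos i with hi0 | hi0
              · rw [hi, hi0, pow_zero]
              · exact absurd ((dvd_pow_self p hi0.ne').trans (hi ▸ d1)) hTi
            have h7 : w ∈ ((M ⊔ T : Subgroup G) : Set G) := hle hw
            rw [Subgroup.normal_mul] at h7
            obtain ⟨m, hm, t, ht, e⟩ := Set.mem_mul.1 h7
            exact ⟨m, hm, t, ht, e.symm⟩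
          have htx : t * x * t⁻¹ = x :=
            hU T hTp (hxT (Subgroup.mem_zpowers x)) t
              (T.mul_mem (T.mul_mem ht (hxT (Subgroup.mem_zpowers x))) (T.inv_mem ht))
          show π g * π x * (π g)⁻¹ = π x
          rw [← map_inv, ← map_mul, ← map_mul, h6,
            show m * t * x * (m * t)⁻¹ = m * (t * x * t⁻¹) * m⁻¹ by group, htx, map_mul, map_mul, map_inv,
            show π m = 1 from (QuotientGroup.eq_one_iff m).2 hm]
          group
        · intro K hK hKn a ha
          obtain ⟨a, rfl⟩ := QuotientGroup.mk'_surjective M a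
          set W := K.comap π
          have hWn : ∀ h ∈ W, x * h * x⁻¹ ∈ W := fun h hh => by
            show π (x * h * x⁻¹) ∈ K
            simpa using hKn _ hh
          have hcardW : Nat.card W = Nat.card M * Nat.card K := by
            rw [CfsgLib.Core.card_comap_mk']
          rcases hMcase with hMc | ⟨hMz, hMp⟩
          · rw [← map_mul, ← map_mul, hb W (by rw [hcardW]; exact hMc.mul_left hK) hWn a ha]
          · -- split off the central `p`-part
            obtain ⟨i, hi⟩ := IsPGroup.iff_card.mp hMp
            set L := (Cfsg.pPrimeCore p W).map W.subtype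
            have hLn : ∀ h ∈ L, x * h * x⁻¹ ∈ L := by
              rintro _ ⟨y, hy, rfl⟩
              let e : W ≃* W :=
                { toFun := fun y => ⟨x * y * x⁻¹, hWn y y.2⟩
                  invFun := fun y => ⟨x⁻¹ * y * x, by
                    have hpow : ∀ j : ℕ, ∀ h ∈ W, x ^ j * h * (x ^ j)⁻¹ ∈ W := by
                      intro j
                      induction j with
                      | zero => intro h hh; simpa using hh
                      | succ j ihj =>
                        intro h hh
                        have := hWn _ (ihj h hh)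
                        simpa [pow_succ', mul_assoc] using this
                    have h1 := hpow (orderOf x - 1) y y.2
                    have h2 : x ^ (orderOf x - 1) = x⁻¹ := by
                      refine eq_inv_of_mul_eq_one_left ?_
                      rw [← pow_succ, Nat.sub_add_cancel (orderOf_pos x), pow_orderOf_eq_one]
                    rwa [h2, inv_inv] at h1⟩
                  left_inv := fun y => by apply Subtype.ext; simp [mul_assoc]
                  right_inv := fun y => by apply Subtype.ext; simp [mul_assoc]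
                  map_mul' := fun y z => by apply Subtype.ext; simp [mul_assoc] }
              have h2 : e y ∈ Cfsg.pPrimeCore p W := by
                rw [← CfsgLib.Core.map_equiv_pPrimeCore e]
                exact Subgroup.mem_map_of_mem _ hy
              exact ⟨e y, h2, rfl⟩
            -- Schur–Zassenhaus inside `W`
            set M' := M.subgroupOf W
            have hMW : M ≤ W := fun y hy => by
              show π y ∈ K
              rw [show π y = 1 from (QuotientGroup.eq_one_iff y).2 hy]; exact one_mem _
            haveI : M'.Normal := hM.subgroupOf W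
            have hM'card : Nat.card M' = p ^ i := by
              rw [Nat.card_congr (Subgroup.subgroupOfEquivOfLe hMW).toEquiv, hi]
            have hidx : M'.index = Nat.card K := by
              have := M'.card_mul_index
              rw [hM'card, hcardW, hi] at this
              exact Nat.eq_of_mul_eq_mul_left (pow_pos hpr.pos i) this
            obtain ⟨C, hC⟩ := Subgroup.exists_right_complement'_of_coprime (N := M')
              (by rw [hM'card, hidx]; exact hK.symm.pow_left i)
            have hMc' : ∀ m ∈ M', ∀ y : W, m * y = y * m := fun m hm y =>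
              Subtype.ext ((Subgroup.mem_center_iff.1 (hMz hm) y).symm)
            have hCn : C.Normal := by
              refine ⟨fun c hc y => ?_⟩
              obtain ⟨⟨⟨m, hm⟩, ⟨c', hc'⟩⟩, he⟩ := (hC.existsUnique y).exists
              rw [← he, mul_inv_rev,
                show m * c' * c * (c'⁻¹ * m⁻¹) = m * (c' * c * c'⁻¹) * m⁻¹ by group, hMc' m hm,
                mul_inv_cancel_right]
              exact C.mul_mem (C.mul_mem hc' hc) (C.inv_mem hc')
            have hCle : C ≤ Cfsg.pPrimeCore p W := by
              refine CfsgLib.Core.le_pPrimeCore ?_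
              have h1 : M'.index = Nat.card C := hC.symm.index_eq_card
              rw [← h1, hidx]; exact hK
            obtain ⟨⟨⟨m, hm⟩, ⟨c, hc⟩⟩, he⟩ := (hC.existsUnique (⟨a, ha⟩ : W)).exists
            have he' : (m : G) * (c : G) = a := congrArg Subtype.val he
            have hm1 : π (m : G) = 1 := (QuotientGroup.eq_one_iff _).2 hm
            have hxc : x * (c : G) = (c : G) * x := by
              refine hb L ?_ hLn c ⟨c, hCle hc, rfl⟩
              exact (CfsgLib.Core.coprime_card_pPrimeCore p W).coprime_dvd_left ((Cfsg.pPrimeCore p W).card_map_dvd _)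
            rw [← he', map_mul, hm1, one_mul, ← map_mul, ← map_mul, hxc]
      -- the preimage `⟨x⟩M` is normal
      rcases hMcase with hMc | ⟨hMz, hMp⟩
      · have hxM : ∀ m ∈ M, x * m = m * x := hb M hMc fun m hm => hM.conj_mem m hm x
        refine hnc (Subgroup.mem_center_iff.2 fun g => mul_inv_eq_iff_eq_mul.1 ?_)
        have h1 : x⁻¹ * (g * x * g⁻¹) ∈ M := by
          rw [← QuotientGroup.eq]
          have := Subgroup.mem_center_iff.1 hzc (π g)
          show π x = π (g * x * g⁻¹)
          rw [map_mul, map_mul, this, map_inv, mul_inv_cancel_right]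
        set c := x⁻¹ * (g * x * g⁻¹) with hc
        have hcx : x * c = c * x := hxM c h1
        have hgx : g * x * g⁻¹ = x * c := by rw [hc, mul_inv_cancel_left]
        have hc1 : c = 1 := by
          have h2 : (x * c) ^ (p ^ k) = 1 := by
            rw [← hgx, conj_pow, ← hk, pow_orderOf_eq_one, mul_one, mul_inv_cancel]
          rw [(show Commute x c from hcx).mul_pow, ← hk, pow_orderOf_eq_one, one_mul, hk] at h2
          refine orderOf_eq_one_iff.1 (Nat.eq_one_of_dvd_coprimes
            ((hMc.coprime_dvd_left (Subgroup.orderOf_dvd_natCard M h1)).pow_right k) dvd_rfl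
            (orderOf_dvd_of_pow_eq_one h2))
        rw [hgx, hc1, mul_one]
      · refine hnp ((Subgroup.zpowers (π x)).comap π) ?_ ?_ (Subgroup.mem_comap.2 (Subgroup.mem_zpowers _))
        · refine Subgroup.Normal.comap ⟨fun y hy g => ?_⟩ π
          obtain ⟨j, rfl⟩ := Subgroup.mem_zpowers_iff.1 hy
          rw [(show Commute g (π x) from Subgroup.mem_center_iff.1 hzc g).zpow_right j |>.eq, mul_inv_cancel_right]
          exact Subgroup.mem_zpowers_iff.2 ⟨j, rfl⟩
        · refine IsPGroup.comap_of_ker_isPGroup ?_ π (by rw [QuotientGroup.ker_mk']; exact hMp)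
          refine IsPGroup.of_card (n := ?_) ?_
          · exact ((Nat.dvd_prime_pow hpr).1 (hk ▸ orderOf_map_dvd π x)).choose
          · rw [Nat.card_zpowers]
            exact ((Nat.dvd_prime_pow hpr).1 (hk ▸ orderOf_map_dvd π x)).choose_spec.2
    -- trivial centre and no normal `p'`-subgroup
    have hO : Cfsg.pPrimeCore p G = ⊥ := by
      by_contra h
      exact hquot _ inferInstance h (Or.inl (CfsgLib.Core.coprime_card_pPrimeCore p G))
    have hZ : Subgroup.center G = ⊥ := by
      by_contra h
      obtain ⟨q, hq, hqd⟩ := Nat.exists_prime_and_dvd (fun h1 => h (Subgroup.card_eq_one.1 h1))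
      haveI := Fact.mk hq
      obtain ⟨⟨z, hz⟩, hzo⟩ := exists_prime_orderOf_dvd_card' q hqd
      rw [Subgroup.orderOf_mk] at hzo
      have hzle : Subgroup.zpowers z ≤ Subgroup.center G := Subgroup.zpowers_le.2 hz
      have hn' : (Subgroup.zpowers z).Normal := ⟨fun y hy g => by
        rw [Subgroup.mem_center_iff.1 (hzle hy) g, mul_inv_cancel_right]; exact hy⟩
      have hne : Subgroup.zpowers z ≠ ⊥ := by
        rw [Ne, Subgroup.zpowers_eq_bot]
        intro hz1; rw [hz1, orderOf_one] at hzo; exact hq.one_lt.ne hzo
      refine hquot _ hn' hne ?_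
      by_cases hqp : q = p
      · subst hqp
        exact Or.inr ⟨hzle, IsPGroup.of_card (n := 1) (by rw [Nat.card_zpowers, hzo, pow_one])⟩
      · exact Or.inl (by rw [Nat.card_zpowers, hzo]; exact (Nat.coprime_primes hq hpr).2 hqp)
    -- the centralizer is a Frobenius complement
    set C := Subgroup.centralizer ({x} : Set G) with hC
    have hCtop : C ≠ ⊤ := fun h => hnc (Subgroup.mem_center_iff.2 fun g =>
      Subgroup.mem_centralizer_singleton_iff.1 (show g ∈ C from h ▸ Subgroup.mem_top g))
    have hCx : x ∈ C := Subgroup.mem_centralizer_singleton_iff.2 rfl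
    have hx1 : x ≠ 1 := fun h => hnc (h ▸ one_mem _)
    have hFrob : Cfsg.IsFrobeniusComplement C := by
      refine ⟨fun h => hx1 (Subgroup.mem_bot.1 (h ▸ hCx)), hCtop, fun g hg => ?_⟩
      rw [Subgroup.eq_bot_iff_forall]
      rintro r ⟨hr1, hr2⟩
      by_contra hr
      set R := Subgroup.centralizer ({r} : Set G)
      have hRtop : R ≠ ⊤ := fun h => hr (Subgroup.mem_bot.1 (hZ ▸ Subgroup.mem_center_iff.2 fun a =>
        Subgroup.mem_centralizer_singleton_iff.1 (show a ∈ R from h ▸ Subgroup.mem_top a)))
      have hxR : x ∈ R := Subgroup.mem_centralizer_singleton_iff.2 (Subgroup.mem_centralizer_singleton_iff.1 hr1).symm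
      replace hr2 : r ∈ MulAut.conj g • C := hr2
      rw [CfsgLib.Frobenius.mem_conj_smul, hC, Subgroup.mem_centralizer_singleton_iff] at hr2
      have hgR : g * x * g⁻¹ ∈ R := by
        refine Subgroup.mem_centralizer_singleton_iff.2 ?_
        calc g * x * g⁻¹ * r = g * (x * (g⁻¹ * r * g)) * g⁻¹ := by group
          _ = g * ((g⁻¹ * r * g) * x) * g⁻¹ := by rw [hr2]
          _ = r * (g * x * g⁻¹) := by group
      have hcom : (g * x * g⁻¹) * x = x * (g * x * g⁻¹) := hsub R hRtop hxR _ hgR
      have hP : IsPGroup p ↥(Subgroup.zpowers x ⊔ Subgroup.zpowers (g * x * g⁻¹)) := by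
        refine IsPGroup.to_sup_of_normal_left' hxp (IsPGroup.of_card (n := k) ?_) ?_
        · rw [Nat.card_zpowers, show g * x * g⁻¹ = MulAut.conj g x by simp, MulEquiv.orderOf_eq, hk]
        · refine Subgroup.zpowers_le.2 (Subgroup.centralizer_le_normalizer _ (Subgroup.mem_centralizer_iff.2 ?_))
          intro y hy
          obtain ⟨j, rfl⟩ := Subgroup.mem_zpowers_iff.1 hy
          exact (show Commute x (g * x * g⁻¹) from hcom.symm).zpow_left j
      have h := hU _ hP (Subgroup.mem_sup_left (Subgroup.mem_zpowers x)) g (Subgroup.mem_sup_right (Subgroup.mem_zpowers _))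
      exact hg (Subgroup.mem_centralizer_singleton_iff.2 (mul_inv_eq_iff_eq_mul.1 h))
    haveI := Fintype.ofFinite G
    obtain ⟨K, -, hKn, hKc⟩ := CfsgLib.Frobenius.exists_normal_complement hFrob
    obtain ⟨P, hP⟩ := hxp.exists_le_sylow
    have hPC : (P : Subgroup G) ≤ C := fun y hy => Subgroup.mem_centralizer_singleton_iff.2
      (mul_inv_eq_iff_eq_mul.1 (hU P P.2 (hP (Subgroup.mem_zpowers x)) y
        ((P : Subgroup G).mul_mem ((P : Subgroup G).mul_mem hy (hP (Subgroup.mem_zpowers x))) ((P : Subgroup G).inv_mem hy))))
    have hKle : K ≤ Cfsg.pPrimeCore p G := by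
      haveI := hKn
      refine CfsgLib.Core.le_pPrimeCore ?_
      rw [← hKc.index_eq_card]
      exact (hpr.coprime_iff_not_dvd.2 fun hd => P.not_dvd_index (hd.trans (Subgroup.index_dvd_of_le hPC))).symm
    rw [hO, le_bot_iff] at hKle
    subst hKle
    exact hCtop (Subgroup.isComplement'_bot_left.1 hKc)

end CfsgLib.LocalEvenB
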