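import Cfsg.Agent.Lib.LocalEvenB.Isolated
import Cfsg.Agent.Lib.Core.MinNormal
import Cfsg.Agent.Lib.Core.Coprime
import Cfsg.Agent.Lib.HallGen.Counting
import Cfsg.Prelude.Def_IsolatedElements

/-!
# A minimal counterexample to the `Z*`-statement for the prime `p`
-/

set_option autoImplicit false
set_option linter.all false

namespace CfsgLib.LocalEvenB

open Subgroup Cfsg
open scoped commutatorElement

variable {G : Type*} [Group G] [Finite G] {p : ℕ} [Fact p.Prime]

theorem isPGroup_zpowers_of_orderOf {x : G} (hx : orderOf x = p) : IsPGroup p ↥(zpowers x) :=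
  IsPGroup.of_card (n := 1) (by rw [Nat.card_zpowers, hx, pow_one])

/-- The standing hypotheses of a minimal counterexample. -/
structure ZStarMinimal (p : ℕ) (x : G) : Prop where
  order : orderOf x = p
  iso : IsIsolated x
  nz : ¬ InZStar p x
  hmin : ∀ (H : Subgroup G) (hxH : x ∈ H), H ≠ ⊤ → InZStar p (⟨x, hxH⟩ : ↥H)
  hquot : ∀ (N : Subgroup G) [N.Normal], N ≠ ⊥ → InZStar p (QuotientGroup.mk x : G ⧸ N)

namespace ZStarMinimal

variable {x : G}

theorem exists_sylow (h : ZStarMinimal p x) : ∃ P : Sylow p G, x ∈ (P : Subgroup G) := by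
  obtain ⟨P, hP⟩ := (isPGroup_zpowers_of_orderOf h.order).exists_le_sylow
  exact ⟨P, hP (mem_zpowers x)⟩

theorem pPrimeCore_eq_bot (h : ZStarMinimal p x) : pPrimeCore p G = ⊥ := by
  by_contra hne
  apply h.nz
  intro g
  have h1 := h.hquot (pPrimeCore p G) hne (QuotientGroup.mk g)
  rw [CfsgLib.Core.pPrimeCore_quotient_pPrimeCore, mem_bot] at h1
  exact (QuotientGroup.eq_one_iff _).1 h1

theorem not_central (h : ZStarMinimal p x) : ¬ ∀ g : G, g * x * g⁻¹ = x := fun hc =>
  h.nz fun g => by rw [hc g, mul_inv_cancel]; exact one_mem _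

/-- A normal subgroup containing `x` with trivial `p'`-core is everything. -/
theorem eq_top_of_normal (h : ZStarMinimal p x) {C : Subgroup G} (hC : C.Normal) (hxC : x ∈ C) : C = ⊤ := by
  by_contra hne
  haveI := hC
  refine h.not_central fun g => ?_
  have hcore : pPrimeCore p ↥C = ⊥ := by
    have h0 := CfsgLib.Core.map_subtype_pPrimeCore_le (p := p) C
    rwa [h.pPrimeCore_eq_bot, le_bot_iff, map_eq_bot_iff_of_injective _ C.subtype_injective] at h0
  have hcen : ∀ c ∈ C, c * x * c⁻¹ = x := by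
    intro c hc
    have h1 := h.hmin C hxC hne ⟨c, hc⟩
    rw [hcore, mem_bot] at h1
    exact mul_inv_eq_one.1 (congrArg Subtype.val h1)
  refine h.iso g ?_
  exact (mul_inv_eq_iff_eq_mul.1 (hcen _ (hC.conj_mem x hxC g))).symm

/-- A Sylow subgroup of a normal subgroup is centralized by `x`. -/
theorem commute_inf_sylow (h : ZStarMinimal p x) {P : Sylow p G} (hxP : x ∈ (P : Subgroup G))
    (N : Subgroup G) : ∀ z ∈ (P : Subgroup G) ⊓ N, Commute x z := fun z hz =>
  isolated_commute_sylow h.iso P hxP hz.1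

theorem pCore_eq_bot (h : ZStarMinimal p x) : pCore p G = ⊥ := by
  by_contra hne
  obtain ⟨N, hN⟩ : ∃ N, N = pCore p G := ⟨_, rfl⟩
  haveI : N.Normal := hN ▸ CfsgLib.Core.normal_pCore p G
  have hNp : IsPGroup p N := hN ▸ CfsgLib.Core.isPGroup_pCore p G
  obtain ⟨P, hxP⟩ := h.exists_sylow
  have hNP : N ≤ (P : Subgroup G) := hN ▸ CfsgLib.Core.pCore_le_sylow P
  have hxC : x ∈ centralizer (N : Set G) := mem_centralizer_iff.2 fun z hz =>
    (isolated_commute_sylow h.iso P hxP (hNP hz)).eq.symm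
  have hcent := h.eq_top_of_normal inferInstance hxC
  refine h.not_central fun g => ?_
  -- the preimage of the core of the quotient is central-by-coprime
  obtain ⟨M, hM⟩ : ∃ M, M = (pPrimeCore p (G ⧸ N)).comap (QuotientGroup.mk' N) := ⟨_, rfl⟩
  haveI : (pPrimeCore p (G ⧸ N)).Normal := CfsgLib.Core.normal_pPrimeCore p _
  haveI : M.Normal := hM ▸ inferInstance
  have hgM : g * x * g⁻¹ * x⁻¹ ∈ M := by
    rw [hM]
    exact h.hquot N (hN ▸ hne) (QuotientGroup.mk g)
  have hNM : N ≤ M := hM ▸ le_of_eq_of_le (QuotientGroup.ker_mk' N).symm (ker_le_comap _ _)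
  have hrel : (N.relIndex M).Coprime p := by
    have h0 := relIndex_ker (QuotientGroup.mk' N) (K := M)
    rw [QuotientGroup.ker_mk', hM, map_comap_eq_self_of_surjective (QuotientGroup.mk'_surjective _)] at h0
    rw [hM, h0]
    exact CfsgLib.Core.coprime_card_pPrimeCore p _
  have hMN : M ≤ N := by
    have hcop : (Nat.card (N.subgroupOf M)).Coprime (N.subgroupOf M).index := by
      obtain ⟨k, hk⟩ := IsPGroup.iff_card.1 hNp
      rw [Nat.card_congr (subgroupOfEquivOfLe hNM).toEquiv, hk]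
      exact (Nat.Coprime.symm hrel).pow_left k
    obtain ⟨K, hK⟩ := exists_right_complement'_of_coprime hcop
    have hKn : K.Normal := by
      rw [← normalizer_eq_top_iff, eq_top_iff, ← hK.sup_eq_top]
      refine sup_le (le_trans ?_ (centralizer_le_normalizer _)) le_normalizer
      intro z hz
      rw [mem_centralizer_iff]
      intro k _
      refine Subtype.ext ?_
      exact (mem_centralizer_iff.1 (hcent.ge (mem_top (k : G))) _ hz).symm
    have hKc : (Nat.card K).Coprime p := by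
      rw [← hK.symm.index_eq_card]
      exact hrel
    haveI := hKn
    have hKbot : K.map M.subtype = ⊥ := by
      refine le_bot_iff.1 (h.pPrimeCore_eq_bot ▸ ?_)
      exact (map_mono (CfsgLib.Core.le_pPrimeCore hKc)).trans (CfsgLib.Core.map_subtype_pPrimeCore_le M)
    have h3 := hK.sup_eq_top
    rw [(map_eq_bot_iff_of_injective _ M.subtype_injective).1 hKbot, sup_bot_eq, subgroupOf_eq_top] at h3
    exact h3
  refine h.iso g ?_
  have hz : Commute x (g * x * g⁻¹ * x⁻¹) := (mem_centralizer_iff.1 hxC _ (hMN hgM)).symm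
  have h2 := hz.mul_right (Commute.refl x)
  rwa [inv_mul_cancel_right] at h2

/-- The structure of a minimal counterexample. -/
theorem structure_theorem (h : ZStarMinimal p x) :
    IsSimpleGroup ↥(_root_.commutator G) ∧ ¬ IsMulCommutative ↥(_root_.commutator G) ∧
      _root_.commutator G ⊔ zpowers x = ⊤ := by
  have hp : p.Prime := Fact.out
  haveI : Nontrivial G := ⟨⟨x, 1, fun h0 => by
    have := h.order; rw [h0, orderOf_one] at this; exact hp.one_lt.ne this⟩⟩
  obtain ⟨N, hNn, hNb, -, hNmin⟩ := CfsgLib.Core.exists_minimal_normal_le' (⊤ : Subgroup G) top_ne_bot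
  haveI := hNn
  have hnab : ¬ IsMulCommutative N := by
    intro hc
    obtain ⟨s, hs, hNs⟩ := CfsgLib.Core.exists_prime_pow_eq_one_of_minimal_normal N hc hNb hNmin
    haveI := Fact.mk hs
    have hNp : IsPGroup s N := fun v => ⟨1, Subtype.ext (by simp [hNs v v.2])⟩
    rcases eq_or_ne s p with rfl | hne
    · exact hNb (le_bot_iff.1 (h.pCore_eq_bot ▸ CfsgLib.Core.le_pCore hNp))
    · obtain ⟨k, hk⟩ := IsPGroup.iff_card.1 hNp
      exact hNb (le_bot_iff.1 (h.pPrimeCore_eq_bot ▸ CfsgLib.Core.le_pPrimeCore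
        (hk ▸ ((Nat.coprime_primes hs hp).2 hne).pow_left k)))
  -- `x` does not centralize `N`
  have hxC : x ∉ centralizer (N : Set G) := fun hx0 => hnab
    (le_centralizer_iff_isMulCommutative.1
      ((h.eq_top_of_normal inferInstance hx0).ge.trans' le_top))
  have hsup : N ⊔ zpowers x = ⊤ := by
    by_contra hne
    apply hxC
    rw [mem_centralizer_iff]
    intro v hv
    have h1 := h.hmin (N ⊔ zpowers x) (mem_sup_right (mem_zpowers x)) hne ⟨v, mem_sup_left hv⟩
    obtain ⟨K, hK⟩ : ∃ K, K = (pPrimeCore p ↥(N ⊔ zpowers x)).map (N ⊔ zpowers x).subtype := ⟨_, rfl⟩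
    have hm : v * x * v⁻¹ * x⁻¹ ∈ K := hK ▸ ⟨_, h1, rfl⟩
    have hKN : K ⊓ N = ⊥ := by
      refine le_bot_iff.1 (h.pPrimeCore_eq_bot ▸ ?_)
      have hKc : (Nat.card ↥(K ⊓ N)).Coprime p := by
        refine Nat.Coprime.coprime_dvd_left (card_dvd_of_le inf_le_left) ?_
        rw [hK, Subgroup.card_map_of_injective (N ⊔ zpowers x).subtype_injective]
        exact CfsgLib.Core.coprime_card_pPrimeCore p _
      have hn : ((K ⊓ N).subgroupOf N).Normal := by
        refine (normal_subgroupOf_iff_le_normalizer inf_le_right).2 ?_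
        refine le_trans (le_inf ?_ le_normalizer) inf_normalizer_le_normalizer_inf
        haveI : (pPrimeCore p ↥(N ⊔ zpowers x)).Normal := CfsgLib.Core.normal_pPrimeCore p _
        rw [hK, le_normalizer_iff]
        rintro g hg _ ⟨k, hk, rfl⟩
        exact ⟨⟨g, mem_sup_left hg⟩ * k * ⟨g, mem_sup_left hg⟩⁻¹, Normal.conj_mem inferInstance k hk _, rfl⟩
      haveI := hn
      have h2 := CfsgLib.Core.le_pPrimeCore (N := (K ⊓ N).subgroupOf N)
        (by rw [Nat.card_congr (subgroupOfEquivOfLe inf_le_right).toEquiv]; exact hKc)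
      have h3 := (map_mono (f := N.subtype) h2).trans (CfsgLib.Core.map_subtype_pPrimeCore_le N)
      rwa [subgroupOf_map_subtype, inf_eq_left.2 inf_le_right] at h3
    have hmem : v * x * v⁻¹ * x⁻¹ ∈ K ⊓ N := ⟨hm, by
      rw [mul_assoc, mul_assoc, ← mul_assoc x]
      exact N.mul_mem hv (hNn.conj_mem _ (N.inv_mem hv) x)⟩
    rw [hKN, mem_bot, mul_inv_eq_one, mul_inv_eq_iff_eq_mul] at hmem
    exact hmem
  have hNN : ⁅N, N⁆ = N := (hNmin ⁅N, N⁆ inferInstance (commutator_le_self N)).resolve_left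
    (fun h0 => hnab (CfsgLib.Core.isMulCommutative_iff_commutator_eq_bot.2 h0))
  have hder : _root_.commutator G = N := by
    refine le_antisymm ?_ ?_
    · rw [_root_.commutator_def, Subgroup.commutator_le]
      intro a _ b _
      rw [← QuotientGroup.eq_one_iff]
      show QuotientGroup.mk' N ⁅a, b⁆ = 1
      rw [map_commutatorElement, commutatorElement_eq_one_iff_mul_comm]
      have hgen : ∀ g : G, QuotientGroup.mk' N g ∈ zpowers (QuotientGroup.mk' N x) := by
        intro g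
        have hg : g ∈ N ⊔ zpowers x := hsup.ge (mem_top g)
        obtain ⟨n, hn, z, hz, rfl⟩ := mem_sup_of_normal_left.1 hg
        obtain ⟨k, rfl⟩ := mem_zpowers_iff.1 hz
        rw [map_mul, show QuotientGroup.mk' N n = 1 from (QuotientGroup.eq_one_iff n).2 hn, one_mul, map_zpow]
        exact zpow_mem_zpowers _ k
      obtain ⟨i, hi⟩ := mem_zpowers_iff.1 (hgen a)
      obtain ⟨j, hj⟩ := mem_zpowers_iff.1 (hgen b)
      rw [← hi, ← hj]
      exact zpow_mul_comm _ i j
    · rw [← hNN, _root_.commutator_def]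
      exact commutator_mono le_top le_top
  rw [hder]
  haveI : Nontrivial N := (nontrivial_iff_ne_bot _).2 hNb
  obtain ⟨T, hTn, hTb, -, hTmin⟩ := CfsgLib.Core.exists_minimal_normal_le' (⊤ : Subgroup ↥N) top_ne_bot
  haveI := hTn
  obtain ⟨T₀, hT₀⟩ : ∃ T₀, T₀ = T.map N.subtype := ⟨_, rfl⟩
  have hT₀N : T₀ ≤ N := hT₀ ▸ map_subtype_le _
  have hNT₀ : N ≤ normalizer (T₀ : Set G) := by
    rw [hT₀, le_normalizer_iff]
    rintro g hg _ ⟨t, ht, rfl⟩
    exact ⟨⟨g, hg⟩ * t * ⟨g, hg⟩⁻¹, hTn.conj_mem t ht _, rfl⟩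
  obtain ⟨T₁, hT₁⟩ : ∃ T₁, T₁ = T₀.map (MulAut.conj x).toMonoidHom := ⟨_, rfl⟩
  -- a nontrivial element of `T₀` centralized by `x`
  obtain ⟨P, hxP⟩ := h.exists_sylow
  obtain ⟨z, hzP, hzT, hz1⟩ : ∃ z, z ∈ (P : Subgroup G) ∧ z ∈ T₀ ∧ z ≠ 1 := by
    by_contra h0
    push Not at h0
    have hnd : ¬ p ∣ (P : Subgroup G).relIndex N := fun hd =>
      P.not_dvd_index (hd.trans (CfsgLib.HallGen.relIndex_dvd_index_right _ _))
    let P' : Sylow p ↥N := (P.2.comap_subtype (K := N)).toSylow hnd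
    have hpN : p ∣ Nat.card N := by
      by_contra hd
      exact hNb (le_bot_iff.1 (h.pPrimeCore_eq_bot ▸ CfsgLib.Core.le_pPrimeCore
        (((Nat.Prime.coprime_iff_not_dvd hp).2 hd).symm)))
    have hpT : p ∣ Nat.card T := by
      by_contra hd
      have hle := CfsgLib.Core.le_pPrimeCore (((Nat.Prime.coprime_iff_not_dvd hp).2 hd).symm) (N := T)
      have hcore := CfsgLib.Core.map_subtype_pPrimeCore_le (p := p) N
      rw [h.pPrimeCore_eq_bot, le_bot_iff, map_eq_bot_iff_of_injective _ N.subtype_injective] at hcore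
      exact hTb (le_bot_iff.1 (hcore ▸ hle))
    have hndT : ¬ p ∣ (P' : Subgroup ↥N).relIndex T := fun hd =>
      P'.not_dvd_index (hd.trans (CfsgLib.HallGen.relIndex_dvd_index_right _ _))
    apply hndT
    have hinf : (P' : Subgroup ↥N) ⊓ T = ⊥ := by
      rw [eq_bot_iff]
      rintro t ⟨ht1, ht2⟩
      rw [mem_bot]
      exact Subtype.ext (h0 t ht1 (hT₀ ▸ mem_map_of_mem _ ht2))
    rw [← inf_relIndex_right, hinf, relIndex_bot_left]
    exact hpT
  have hfix : x * z * x⁻¹ = z := mul_inv_eq_iff_eq_mul.2 (isolated_commute_sylow h.iso P hxP hzP).eq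
  have hzT₁ : z ∈ T₁ := hT₁ ▸ ⟨z, hzT, hfix⟩
  have hT₁N : T₁ ≤ N := by
    rw [hT₁]
    rintro _ ⟨t, ht, rfl⟩
    exact hNn.conj_mem t (hT₀N ht) x
  have heq : T₁ = T₀ := by
    have hn1 : (T₁.subgroupOf N).Normal := by
      refine (normal_subgroupOf_iff_le_normalizer hT₁N).2 ?_
      intro g hg
      have hg' : x⁻¹ * g * x ∈ normalizer (T₀ : Set G) :=
        hNT₀ (by simpa using hNn.conj_mem g hg x⁻¹)
      have h1 := le_normalizer_map (H := T₀) (MulAut.conj x).toMonoidHom (mem_map_of_mem _ hg')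
      rw [← hT₁] at h1
      simpa [mul_assoc] using h1
    haveI := hn1
    rcases hTmin (T ⊓ T₁.subgroupOf N) inferInstance inf_le_left with h0 | h0
    · exfalso
      refine hz1 ?_
      have hmem : (⟨z, hT₀N hzT⟩ : ↥N) ∈ T ⊓ T₁.subgroupOf N := by
        refine ⟨?_, hzT₁⟩
        rw [hT₀] at hzT
        obtain ⟨t, ht, hte⟩ := hzT
        exact (show t = ⟨z, _⟩ from Subtype.ext hte) ▸ ht
      rw [h0, mem_bot] at hmem
      exact congrArg Subtype.val hmem
    · refine (eq_of_le_of_card_ge ?_ (by rw [hT₁, Subgroup.card_map_of_injective (MulAut.conj x).injective])).symm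
      rw [hT₀]
      rintro _ ⟨t, ht, rfl⟩
      exact (inf_eq_left.1 h0) ht
  have hT₀n : T₀.Normal := by
    rw [← normalizer_eq_top_iff, eq_top_iff, ← hsup]
    refine sup_le hNT₀ (zpowers_le.2 ?_)
    rw [mem_normalizer_iff_map_conj_eq]
    exact hT₁ ▸ heq
  have hTtop : T = ⊤ := by
    rcases hNmin T₀ hT₀n hT₀N with h0 | h0
    · exact absurd ((map_eq_bot_iff_of_injective _ N.subtype_injective).1 (hT₀ ▸ h0)) hTb
    · refine map_injective N.subtype_injective ?_
      rw [← hT₀, h0, ← MonoidHom.range_eq_map, range_subtype]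
  refine ⟨⟨fun K hK => ?_⟩, hnab, hsup⟩
  rcases hTmin K hK (hTtop ▸ le_top) with h0 | h0
  · exact Or.inl h0
  · exact Or.inr (h0.trans hTtop)

/-- Invariant Sylow subgroups. -/
theorem exists_conj_invariant_sylow (h : ZStarMinimal p x) (q : ℕ) [Fact q.Prime] (S₁ S₂ : Sylow q G)
    (h1 : x ∈ normalizer ((S₁ : Subgroup G) : Set G)) (h2 : x ∈ normalizer ((S₂ : Subgroup G) : Set G)) :
    ∃ c ∈ centralizer ({x} : Set G), (S₁ : Subgroup G).map (MulAut.conj c).toMonoidHom = (S₂ : Subgroup G) := by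
  obtain ⟨g, hg⟩ := MulAction.exists_smul_eq G S₁ S₂
  have hgS : (S₁ : Subgroup G).map (MulAut.conj g).toMonoidHom = (S₂ : Subgroup G) := by
    rw [← hg]; rfl
  have hgx : g * x * g⁻¹ ∈ normalizer ((S₂ : Subgroup G) : Set G) := by
    rw [← hgS]
    exact le_normalizer_map (MulAut.conj g).toMonoidHom ⟨x, h1, rfl⟩
  obtain ⟨k, hk, hkg⟩ := isolated_fuse ⟨1, by rw [pow_one]; exact h.order⟩ h.iso _ h2 hgx (p := p)
  refine ⟨k * g, mem_centralizer_singleton_iff.2 hkg.eq, ?_⟩
  have e : (MulAut.conj (k * g)).toMonoidHom = (MulAut.conj k).toMonoidHom.comp (MulAut.conj g).toMonoidHom := by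
    ext y; simp [mul_assoc]
  rw [e, ← map_map, hgS]
  exact mem_normalizer_iff_map_conj_eq.1 hk

/-- Maximal invariant `q`-subgroups are trivial or Sylow. -/
theorem invariant_max (h : ZStarMinimal p x) (q : ℕ) [Fact q.Prime] (Q : Subgroup G) (hQ : IsPGroup q ↥Q)
    (hxQ : x ∈ normalizer (Q : Set G))
    (hmax : ∀ R : Subgroup G, IsPGroup q ↥R → x ∈ normalizer (R : Set G) → Q ≤ R → R = Q) :
    Q = ⊥ ∨ ∃ S : Sylow q G, (S : Subgroup G) = Q := by
  by_cases hQb : Q = ⊥
  · exact Or.inl hQb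
  right
  rcases eq_or_ne q p with rfl | hqp
  · have hR : IsPGroup q ↥(zpowers x ⊔ Q) :=
      IsPGroup.to_sup_of_normal_right' (isPGroup_zpowers_of_orderOf h.order) hQ (zpowers_le.2 hxQ)
    obtain ⟨S, hS⟩ := hR.exists_le_sylow
    exact ⟨S, hmax S S.2 (le_normalizer (hS (mem_sup_left (mem_zpowers x)))) (le_sup_right.trans hS)⟩
  obtain ⟨H, hH⟩ : ∃ H, H = normalizer (Q : Set G) := ⟨_, rfl⟩
  have hHtop : H ≠ ⊤ := by
    intro ht
    haveI : Q.Normal := normalizer_eq_top_iff.1 (hH ▸ ht)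
    obtain ⟨k, hk⟩ := IsPGroup.iff_card.1 hQ
    exact hQb (le_bot_iff.1 (h.pPrimeCore_eq_bot ▸ CfsgLib.Core.le_pPrimeCore
      (hk ▸ ((Nat.coprime_primes (Fact.out : q.Prime) (Fact.out : p.Prime)).2 hqp).pow_left k)))
  have hQH : Q ≤ H := hH ▸ le_normalizer
  have hz := h.hmin H (hH ▸ hxQ) hHtop
  obtain ⟨x', hx'⟩ : ∃ x' : ↥H, x' = ⟨x, hH ▸ hxQ⟩ := ⟨_, rfl⟩
  rw [← hx'] at hz
  obtain ⟨K, hK⟩ : ∃ K, K = pPrimeCore p ↥H := ⟨_, rfl⟩
  haveI : K.Normal := hK ▸ CfsgLib.Core.normal_pPrimeCore p _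
  obtain ⟨R⟩ : Nonempty (Sylow q ↥H) := inferInstance
  obtain ⟨U, hU⟩ : ∃ U, U = (R : Subgroup ↥H) ⊔ K := ⟨_, rfl⟩
  have hxU : x' ∈ normalizer (U : Set ↥H) := by
    rw [mem_normalizer_iff_map_conj_eq]
    refine eq_of_le_of_card_ge ?_ (Subgroup.card_map_of_injective (MulAut.conj x').injective).ge
    rintro _ ⟨y, hy, rfl⟩
    show x' * y * x'⁻¹ ∈ U
    have e : x' * y * x'⁻¹ = (y * x' * y⁻¹ * x'⁻¹)⁻¹ * y := by group
    rw [e, hU]
    exact (R.1 ⊔ K).mul_mem ((R.1 ⊔ K).inv_mem (mem_sup_right (hK ▸ hz y))) (hU ▸ hy)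
  -- `x` fixes a Sylow subgroup of `U`
  have hidx : ¬ p ∣ ((R : Subgroup ↥H).subgroupOf U).index := by
    intro hd
    have h2 : p ∣ Nat.card K := by
      have e1 := CfsgLib.Core.card_sup_mul_card_inf (R : Subgroup ↥H) K
        (by rw [normalizer_eq_top]; exact le_top)
      have e2 := ((R : Subgroup ↥H).subgroupOf U).card_mul_index
      rw [Nat.card_congr (subgroupOfEquivOfLe (hU ▸ le_sup_left)).toEquiv] at e2
      rw [← hU, ← e2, mul_assoc] at e1
      exact hd.trans ⟨_, (Nat.eq_of_mul_eq_mul_left Nat.card_pos e1).symm⟩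
    exact (Fact.out : p.Prime).not_dvd_one
      ((hK ▸ CfsgLib.Core.coprime_card_pPrimeCore p ↥H : (Nat.card K).Coprime p) ▸ Nat.dvd_gcd h2 dvd_rfl)
  have hRU : ¬ q ∣ (R : Subgroup ↥H).relIndex U := fun hd =>
    R.not_dvd_index (hd.trans (relIndex_dvd_index_of_le (hU ▸ le_sup_left)))
  let R' : Sylow q ↥U := (R.2.comap_subtype (K := U)).toSylow hRU
  let φ : ↥(zpowers x') →* MulAut ↥U :=
    U.normalizerMonoidHom.comp (Subgroup.inclusion (zpowers_le.2 hxU))
  letI : MulDistribMulAction ↥(zpowers x') ↥U := MulDistribMulAction.compHom _ φ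
  have hcardS : ¬ p ∣ Nat.card (Sylow q ↥U) := fun hd => hidx (hd.trans R'.card_dvd_index)
  have hzp : IsPGroup p ↥(zpowers x') :=
    IsPGroup.of_card (n := 1) (by rw [Nat.card_zpowers, hx', Subgroup.orderOf_mk, h.order, pow_one])
  obtain ⟨R₁, hR₁⟩ := hzp.nonempty_fixed_point_of_prime_not_dvd_card (Sylow q ↥U) hcardS
  obtain ⟨T, hT⟩ : ∃ T, T = ((R₁ : Subgroup ↥U).map U.subtype).map H.subtype := ⟨_, rfl⟩
  have hxT : x ∈ normalizer (T : Set G) := by
    have hfix := congrArg (fun S : Sylow q ↥U => (S : Subgroup ↥U)) (hR₁ ⟨x', mem_zpowers x'⟩)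
    rw [mem_normalizer_iff_map_conj_eq, hT]
    refine eq_of_le_of_card_ge ?_ (Subgroup.card_map_of_injective (MulAut.conj x).injective).ge
    rintro _ ⟨_, ⟨_, ⟨u, hu, rfl⟩, rfl⟩, rfl⟩
    refine ⟨_, ⟨_, hfix.le (Subgroup.smul_mem_pointwise_smul u (⟨x', mem_zpowers x'⟩ : ↥(zpowers x')) _ hu), rfl⟩, ?_⟩
    subst hx'
    rfl
  have hTp : IsPGroup q T := hT ▸ (R₁.2.map _).map _
  have hTcard : Nat.card T = Nat.card ↥(R : Subgroup ↥H) := by
    rw [hT, Subgroup.card_map_of_injective H.subtype_injective,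
      Subgroup.card_map_of_injective U.subtype_injective, R₁.card_eq_multiplicity, ← R'.card_eq_multiplicity]
    exact Nat.card_congr (subgroupOfEquivOfLe (hU ▸ le_sup_left)).toEquiv
  have hQT : Q ≤ T := by
    have hTle : ((R₁ : Subgroup ↥U).map U.subtype) ≤ ⊤ := le_top
    have hs : ((R₁ : Subgroup ↥U).map U.subtype).map H.subtype ≤ H := map_subtype_le _
    let T' : Sylow q ↥H := (R₁.2.map U.subtype).toSylow (by
      have h1 := Subgroup.card_map_of_injective (f := U.subtype) (K := (R₁ : Subgroup ↥U)) U.subtype_injective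
      have h2 := ((R₁ : Subgroup ↥U).map U.subtype).card_mul_index
      have h3 := (R : Subgroup ↥H).card_mul_index
      rw [h1, R₁.card_eq_multiplicity, ← R'.card_eq_multiplicity,
        show Nat.card ↥(R' : Subgroup ↥U) = Nat.card ↥(R : Subgroup ↥H) from
          Nat.card_congr (subgroupOfEquivOfLe (hU ▸ le_sup_left)).toEquiv, ← h3] at h2
      rw [Nat.eq_of_mul_eq_mul_left Nat.card_pos h2]
      exact R.not_dvd_index)
    haveI : (Q.subgroupOf H).Normal := by subst hH; exact normal_in_normalizer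
    have hQs : IsPGroup q ↥(Q.subgroupOf H) := hQ.comap_subtype
    have h4 : Q.subgroupOf H ≤ (T' : Subgroup ↥H) := hQs.le_sylow_of_normal T'
    have h5 := map_mono (f := H.subtype) h4
    rw [subgroupOf_map_subtype, inf_eq_left.2 hQH] at h5
    exact h5.trans hT.ge
  have hTQ := hmax T hTp hxT hQT
  obtain ⟨S, hS⟩ := hQ.exists_le_sylow
  refine ⟨S, le_antisymm ?_ hS⟩
  by_contra hne
  have hlt : Q < (S : Subgroup G) := lt_of_le_of_ne hS fun e => hne e.ge
  have h6 := CfsgLib.Transfer.lt_inf_normalizer S.2 hlt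
  have h7 := CfsgLib.Transfer.card_lt_of_lt h6
  rw [← hH] at h7
  have h8 : Nat.card ↥((S : Subgroup G) ⊓ H) ≤ Nat.card ↥(R : Subgroup ↥H) := by
    obtain ⟨S', hS'⟩ := ((S.2.to_le (inf_le_left : (S : Subgroup G) ⊓ H ≤ _)).comap_subtype (K := H)).exists_le_sylow
    refine le_trans ?_ (S'.card_eq_multiplicity.trans R.card_eq_multiplicity.symm).le
    refine le_trans ?_ (Subgroup.card_le_of_le hS')
    exact (Nat.card_congr (subgroupOfEquivOfLe inf_le_right).toEquiv).ge
  rw [← hTcard, hTQ] at h8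
  omega

end ZStarMinimal

end CfsgLib.LocalEvenB
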